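import Mathlib

set_option autoImplicit false
universe u

namespace Groth.Agent.H75.Canon

open CategoryTheory Abelian

variable {R : Type u} [CommRing R]

/-- short exact sequences from linear maps -/
theorem shortExact_of {A B C : Type u} [AddCommGroup A] [Module R A] [AddCommGroup B] [Module R B]
    [AddCommGroup C] [Module R C] (f : A →ₗ[R] B) (g : B →ₗ[R] C) (hf : Function.Injective f)
    (hg : Function.Surjective g) (hfg : Function.Exact f g) :
    (ShortComplex.mk (ModuleCat.ofHom f) (ModuleCat.ofHom g) (by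
      ext x
      exact hfg.apply_apply_eq_zero x)).ShortExact :=
  ModuleCat.shortComplex_shortExact _ hfg hf hg

theorem ext_eq_zero_of_iso {X X' Y : ModuleCat.{u} R} (a : X ≅ X') (n : ℕ)
    (h : ∀ x : Ext X' Y n, x = 0) : ∀ x : Ext X Y n, x = 0 := by
  intro z
  have h1 : (Ext.mk₀ a.inv).comp z (zero_add n) = 0 := h _
  have h2 := congrArg (fun t => (Ext.mk₀ a.hom).comp t (zero_add n)) h1
  simpa using h2

theorem ext_eq_zero_of_subsingleton {T W : Type u} [AddCommGroup T] [Module R T] [AddCommGroup W]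
    [Module R W] [Subsingleton T] (n : ℕ) (x : Ext (ModuleCat.of R T) (ModuleCat.of R W) n) :
    x = 0 := by
  have hz : Limits.IsZero (ModuleCat.of R T) := ModuleCat.isZero_of_subsingleton _
  rw [← Ext.mk₀_id_comp x, hz.eq_of_src (𝟙 _) 0, Ext.mk₀_zero, Ext.zero_comp]

section Vanish

variable {W : Type u} [AddCommGroup W] [Module R W]

/-- `Ext¹(N, W) = 0` for a submodule `N` of a projective module when `injdim W < 2` -/
theorem ext_one_eq_zero_of_injective_to_projective [HasInjectiveDimensionLT (ModuleCat.of R W) 2]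
    {N F : Type u} [AddCommGroup N] [Module R N] [AddCommGroup F] [Module R F]
    [Module.Projective R F] (ι : N →ₗ[R] F) (hι : Function.Injective ι)
    (x : Ext (ModuleCat.of R N) (ModuleCat.of R W) 1) : x = 0 := by
  have hS := shortExact_of ι (LinearMap.range ι).mkQ hι (Submodule.mkQ_surjective _)
    (LinearMap.exact_map_mkQ_range ι)
  have h2 : hS.extClass.comp x (show 1 + 1 = 2 from rfl) = 0 :=
    Ext.eq_zero_of_hasInjectiveDimensionLT _ 2 le_rfl
  obtain ⟨x₂, hx₂⟩ := Ext.contravariant_sequence_exact₁ hS _ x rfl h2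
  have hproj : Projective (ModuleCat.of R F) :=
    (IsProjective.iff_projective (R := R) (P := F)).mp inferInstance
  have : x₂ = 0 := Ext.eq_zero_of_projective x₂
  rw [← hx₂, this, Ext.comp_zero]

/-- dévissage -/
theorem ext_one_eq_zero_of_isFiniteLength
    (hsimple : ∀ (T : Type u) [AddCommGroup T] [Module R T], IsSimpleModule R T →
      ∀ x : Ext (ModuleCat.of R T) (ModuleCat.of R W) 1, x = 0)
    {T : Type u} [AddCommGroup T] [Module R T] (hT : IsFiniteLength R T) :
    ∀ x : Ext (ModuleCat.of R T) (ModuleCat.of R W) 1, x = 0 := by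
  induction hT with
  | of_subsingleton => intro x; exact ext_eq_zero_of_subsingleton 1 x
  | @of_simple_quotient M _ _ N hs _ ih =>
    intro x
    have hS := shortExact_of N.subtype N.mkQ (Submodule.subtype_injective _)
      (Submodule.mkQ_surjective _) (LinearMap.exact_subtype_mkQ N)
    have h1 : (Ext.mk₀ (ModuleCat.ofHom N.subtype)).comp x (zero_add 1) = 0 := ih _
    obtain ⟨x₁, hx₁⟩ := Ext.contravariant_sequence_exact₂ hS _ x h1
    have : x₁ = 0 := hsimple _ hs x₁
    rw [← hx₁, this, Ext.comp_zero]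

/-- every element of `Ext⁰` is a morphism -/
theorem exists_mk₀ {X Y : ModuleCat.{u} R} (x : Ext X Y 0) : ∃ f : X ⟶ Y, x = Ext.mk₀ f :=
  ⟨Ext.homEquiv₀ x, by rw [← Ext.homEquiv₀_symm_apply, Equiv.symm_apply_apply]⟩

/-- nonvanishing of `Ext¹(R/m, W)` -/
theorem exists_ext_one_ne_zero [IsLocalRing R] [IsNoetherianRing R] [Ring.KrullDimLE 1 R]
    [Module.Finite R W] [Nontrivial W] (a : R) (ham : a ∈ IsLocalRing.maximalIdeal R)
    (haR : a ∈ nonZeroDivisors R) :
    ∃ x : Ext (ModuleCat.of R (R ⧸ IsLocalRing.maximalIdeal R)) (ModuleCat.of R W) 1, x ≠ 0 := by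
  by_contra hcon
  push Not at hcon
  have hsimple : ∀ (T : Type u) [AddCommGroup T] [Module R T], IsSimpleModule R T →
      ∀ x : Ext (ModuleCat.of R T) (ModuleCat.of R W) 1, x = 0 := by
    intro T _ _ hT
    obtain ⟨I, hI, ⟨e⟩⟩ := isSimpleModule_iff_quot_maximal.mp hT
    have hIm : I = IsLocalRing.maximalIdeal R := IsLocalRing.eq_maximalIdeal hI
    subst hIm
    exact ext_eq_zero_of_iso e.toModuleIso 1 hcon
  have hfl : IsFiniteLength R (R ⧸ Ideal.span {a}) := isFiniteLength_quotient_span_singleton R haR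
  have hvan := ext_one_eq_zero_of_isFiniteLength (W := W) hsimple hfl
  -- the sequence 0 → R → R → R/a → 0
  let μ : R →ₗ[R] R := LinearMap.mulLeft R a
  have hμinj : Function.Injective μ := by
    intro x y hxy
    exact (mul_cancel_left_mem_nonZeroDivisors haR).mp hxy
  have hS := shortExact_of μ (Submodule.mkQ (Ideal.span {a})) hμinj (Submodule.mkQ_surjective _) (by
    intro y
    rw [Submodule.mkQ_apply, Submodule.Quotient.mk_eq_zero, Ideal.mem_span_singleton']
    constructor
    · rintro ⟨z, rfl⟩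
      exact ⟨z, mul_comm a z⟩
    · rintro ⟨z, rfl⟩
      exact ⟨z, mul_comm z a⟩)
  -- every element of W is divisible by a
  have hdiv : ∀ w : W, ∃ w' : W, a • w' = w := by
    intro w
    let φ : R →ₗ[R] W := LinearMap.toSpanSingleton R W w
    have h1 : hS.extClass.comp (Ext.mk₀ (ModuleCat.ofHom φ)) (show 1 + 0 = 1 from rfl) = 0 := hvan _
    obtain ⟨x₂, hx₂⟩ := Ext.contravariant_sequence_exact₁ hS _ _ rfl h1
    obtain ⟨ψ, rfl⟩ := exists_mk₀ x₂
    rw [Ext.mk₀_comp_mk₀] at hx₂
    have h3 := (Ext.mk₀_bijective _ _).1 hx₂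
    have h4 := congrArg (fun f => f.hom (1 : R)) h3
    refine ⟨ψ.hom (1 : R), ?_⟩
    simp only [ModuleCat.hom_comp, ModuleCat.hom_ofHom, LinearMap.coe_comp, Function.comp_apply] at h4
    have h5 : μ (1 : R) = a • (1 : R) := by simp [μ]
    rw [h5, map_smul] at h4
    rw [h4]
    simp [φ]
  -- Nakayama
  have htop : (⊤ : Submodule R W) ≤ (IsLocalRing.maximalIdeal R) • (⊤ : Submodule R W) := by
    intro w _
    obtain ⟨w', rfl⟩ := hdiv w
    exact Submodule.smul_mem_smul ham Submodule.mem_top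
  have hbot : (⊤ : Submodule R W) = ⊥ :=
    Submodule.eq_bot_of_le_smul_of_le_jacobson_bot _ _ Module.Finite.fg_top htop
      (IsLocalRing.maximalIdeal_le_jacobson _)
  have : Subsingleton W := by
    rw [← Submodule.subsingleton_iff R, ← subsingleton_iff_bot_eq_top]
    exact hbot.symm
  exact not_subsingleton W this


/-- strictness: across a simple quotient some map to `W` does not extend -/
theorem exists_hom_not_extending [IsLocalRing R] [IsNoetherianRing R] [Ring.KrullDimLE 1 R]
    [Module.Finite R W] [Nontrivial W] [HasInjectiveDimensionLT (ModuleCat.of R W) 2]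
    (a : R) (ham : a ∈ IsLocalRing.maximalIdeal R) (haR : a ∈ nonZeroDivisors R)
    {I₂ I₁ F : Type u} [AddCommGroup I₂] [Module R I₂] [AddCommGroup I₁] [Module R I₁]
    [AddCommGroup F] [Module R F] [Module.Projective R F]
    (ι : I₂ →ₗ[R] I₁) (hι : Function.Injective ι) (j : I₁ →ₗ[R] F) (hj : Function.Injective j)
    (hsimple : IsSimpleModule R (I₁ ⧸ LinearMap.range ι)) :
    ∃ φ : I₂ →ₗ[R] W, ¬ ∃ ψ : I₁ →ₗ[R] W, ψ ∘ₗ ι = φ := by
  have hS := shortExact_of ι (LinearMap.range ι).mkQ hι (Submodule.mkQ_surjective _)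
    (LinearMap.exact_map_mkQ_range ι)
  obtain ⟨y₀, hy₀⟩ := exists_ext_one_ne_zero (W := W) a ham haR
  obtain ⟨I, hI, ⟨e⟩⟩ := isSimpleModule_iff_quot_maximal.mp hsimple
  have hIm : I = IsLocalRing.maximalIdeal R := IsLocalRing.eq_maximalIdeal hI
  subst hIm
  -- a nonzero class on the simple quotient
  obtain ⟨y, hy⟩ : ∃ y : Ext (ModuleCat.of R (I₁ ⧸ LinearMap.range ι)) (ModuleCat.of R W) 1,
      y ≠ 0 := by
    by_contra hcon
    push Not at hcon
    exact hy₀ (ext_eq_zero_of_iso e.symm.toModuleIso 1 hcon y₀)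
  have h1 : (Ext.mk₀ (ModuleCat.ofHom (LinearMap.range ι).mkQ)).comp y (zero_add 1) = 0 :=
    ext_one_eq_zero_of_injective_to_projective j hj _
  obtain ⟨x₁, hx₁⟩ := Ext.contravariant_sequence_exact₃ hS _ y h1 (show 1 + 0 = 1 from rfl)
  obtain ⟨φ, rfl⟩ := exists_mk₀ x₁
  refine ⟨φ.hom, ?_⟩
  rintro ⟨ψ, hψ⟩
  apply hy
  rw [← hx₁]
  have h2 : φ = ModuleCat.ofHom ι ≫ ModuleCat.ofHom ψ := by
    ext x
    simp [← hψ]
  rw [h2, ← Ext.mk₀_comp_mk₀]
  exact hS.extClass_comp_assoc _

end Vanish


section Interval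

variable {R : Type*} [CommRing R] {M : Type*} [AddCommGroup M] [Module R M]

/-- relative length of `J ≤ I` -/
noncomputable def relLength (J I : Submodule R M) : ℕ∞ :=
  Module.length R (↥I ⧸ J.comap I.subtype)

/-- submodules of `I/J` correspond to submodules between `J` and `I` -/
noncomputable def quotIccIso (J I : Submodule R M) (h : J ≤ I) :
    Submodule R (↥I ⧸ J.comap I.subtype) ≃o Set.Icc J I where
  toFun N' := ⟨(N'.comap (J.comap I.subtype).mkQ).map I.subtype, by
    constructor
    · intro x hx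
      refine ⟨⟨x, h hx⟩, ?_, rfl⟩
      rw [SetLike.mem_coe, Submodule.mem_comap, Submodule.mkQ_apply,
        (Submodule.Quotient.mk_eq_zero _).mpr
          (show (⟨x, h hx⟩ : ↥I) ∈ J.comap I.subtype from hx)]
      exact N'.zero_mem
    · exact Submodule.map_subtype_le I _⟩
  invFun P := ((P : Submodule R M).comap I.subtype).map (J.comap I.subtype).mkQ
  left_inv N' := by
    simp only
    rw [Submodule.comap_map_eq_of_injective (Submodule.subtype_injective I),
      Submodule.map_comap_eq_of_surjective (Submodule.mkQ_surjective _)]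
  right_inv P := by
    apply Subtype.ext
    simp only
    rw [Submodule.comap_map_mkQ, sup_of_le_right (Submodule.comap_mono P.2.1),
      Submodule.map_comap_subtype, inf_of_le_right P.2.2]
  map_rel_iff' := by
    intro N₁ N₂
    show Submodule.map I.subtype _ ≤ Submodule.map I.subtype _ ↔ _
    rw [Submodule.map_le_map_iff_of_injective (Submodule.subtype_injective I),
      Submodule.comap_le_comap_iff_of_surjective (Submodule.mkQ_surjective _)]

theorem coe_relLength (J I : Submodule R M) (h : J ≤ I) :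
    (relLength J I : WithBot ℕ∞) = Order.krullDim (Set.Icc J I) := by
  rw [relLength, Module.coe_length, Order.krullDim_eq_of_orderIso (quotIccIso J I h)]

theorem relLength_add (J L I : Submodule R M) (h1 : J ≤ L) (h2 : L ≤ I) :
    relLength J I = relLength J L + relLength L I := by
  unfold relLength
  -- 0 → L/J → I/J → I/L → 0
  let f : (↥L ⧸ J.comap L.subtype) →ₗ[R] (↥I ⧸ J.comap I.subtype) :=
    Submodule.mapQ _ _ (Submodule.inclusion h2) (by
      intro x hx
      exact hx)
  let g : (↥I ⧸ J.comap I.subtype) →ₗ[R] (↥I ⧸ L.comap I.subtype) :=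
    Submodule.mapQ _ _ LinearMap.id (by
      intro x hx
      exact h1 hx)
  have hf : ∀ x : ↥L, f (Submodule.Quotient.mk x) =
      Submodule.Quotient.mk (Submodule.inclusion h2 x) := fun x => rfl
  have hg : ∀ x : ↥I, g (Submodule.Quotient.mk x) = Submodule.Quotient.mk x := fun x => rfl
  refine Module.length_eq_add_of_exact f g ?_ ?_ ?_
  · rw [← LinearMap.ker_eq_bot, LinearMap.ker_eq_bot']
    intro x hx
    induction x using Submodule.Quotient.induction_on with
    | H x =>
      rw [hf, Submodule.Quotient.mk_eq_zero] at hx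
      rw [Submodule.Quotient.mk_eq_zero]
      exact hx
  · intro y
    induction y using Submodule.Quotient.induction_on with
    | H y => exact ⟨Submodule.Quotient.mk y, hg y⟩
  · intro y
    induction y using Submodule.Quotient.induction_on with
    | H y =>
      rw [hg, Submodule.Quotient.mk_eq_zero]
      constructor
      · intro hy
        exact ⟨Submodule.Quotient.mk ⟨y, hy⟩, by rw [hf]; rfl⟩
      · rintro ⟨x, hx⟩
        induction x using Submodule.Quotient.induction_on with
        | H x =>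
          rw [hf, Submodule.Quotient.eq] at hx
          have h3 : ((Submodule.inclusion h2 x : ↥I) : M) - y ∈ J := hx
          have h4 : (y : M) = (x : M) - (((Submodule.inclusion h2 x : ↥I) : M) - y) := by
            simp
          show (y : M) ∈ L
          rw [h4]
          exact L.sub_mem x.2 (h1 h3)

end Interval


section Frac

variable {O : Type u} [CommRing O] [IsDomain O] {K : Type u} [Field K] [Algebra O K]
  [IsFractionRing O K]

/-- every `O`-linear map from a nonzero submodule of `K` to `K` is a multiplication -/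
theorem exists_mul_eq (I : Submodule O K) (hI : I ≠ ⊥) (φ : ↥I →ₗ[O] K) :
    ∃ y : K, ∀ x : ↥I, φ x = y * (x : K) := by
  obtain ⟨i₀, hi₀I, hi₀⟩ := Submodule.exists_mem_ne_zero_of_ne_bot hI
  refine ⟨φ ⟨i₀, hi₀I⟩ / i₀, fun x => ?_⟩
  obtain ⟨a, b, hb, hab⟩ := IsFractionRing.div_surjective (A := O) ((x : K) / i₀)
  have hbK : algebraMap O K b ≠ 0 := by
    intro h
    exact (nonZeroDivisors.ne_zero hb) ((IsFractionRing.injective O K) (by rw [h, map_zero]))
  have h1 : b • x = a • (⟨i₀, hi₀I⟩ : ↥I) := by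
    apply Subtype.ext
    simp only [Submodule.coe_smul, Algebra.smul_def]
    field_simp at hab
    linear_combination -hab
  have h2 := congrArg φ h1
  rw [map_smul, map_smul, Algebra.smul_def, Algebra.smul_def] at h2
  field_simp
  field_simp at hab
  have h3 : φ x = algebraMap O K a * φ ⟨i₀, hi₀I⟩ / algebraMap O K b := by
    field_simp
    linear_combination h2
  rw [h3]
  field_simp
  linear_combination (φ ⟨i₀, hi₀I⟩) * hab


/-- a common denominator for a finitely generated submodule of `K` -/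
theorem exists_denominator (I : Submodule O K) (hI : I.FG) :
    ∃ c : O, c ≠ 0 ∧ ∀ x ∈ I, ∃ r : O, algebraMap O K r = c • x := by
  classical
  obtain ⟨S, hS⟩ := hI
  obtain ⟨b, hb⟩ := IsLocalization.exist_integer_multiples_of_finset (nonZeroDivisors O) S
  refine ⟨b, nonZeroDivisors.ne_zero b.2, fun x hx => ?_⟩
  rw [← hS] at hx
  induction hx using Submodule.span_induction with
  | mem y hy => exact hb y hy
  | zero => exact ⟨0, by simp⟩
  | add y z _ _ hy hz =>
    obtain ⟨r1, h1⟩ := hy
    obtain ⟨r2, h2⟩ := hz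
    exact ⟨r1 + r2, by rw [map_add, h1, h2, smul_add]⟩
  | smul a y _ hy =>
    obtain ⟨r, hr⟩ := hy
    exact ⟨a * r, by rw [map_mul, hr, smul_comm, Algebra.smul_def a]⟩

/-- a finitely generated submodule of `K` embeds into `O` -/
theorem exists_embedding (I : Submodule O K) (hI : I.FG) :
    ∃ j : ↥I →ₗ[O] O, Function.Injective j := by
  obtain ⟨c, hc0, hc⟩ := exists_denominator I hI
  have hinj : Function.Injective (Algebra.linearMap O K) := IsFractionRing.injective O K
  let e := LinearEquiv.ofInjective (Algebra.linearMap O K) hinj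
  let ψ₀ : ↥I →ₗ[O] K := c • I.subtype
  have hrange : ∀ x : ↥I, ψ₀ x ∈ LinearMap.range (Algebra.linearMap O K) := by
    intro x
    obtain ⟨r, hr⟩ := hc x x.2
    exact ⟨r, hr⟩
  refine ⟨e.symm.toLinearMap ∘ₗ (ψ₀.codRestrict _ hrange), ?_⟩
  intro x y hxy
  have h1 : ψ₀.codRestrict _ hrange x = ψ₀.codRestrict _ hrange y := e.symm.injective hxy
  have h2 : c • (x : K) = c • (y : K) := congrArg Subtype.val h1
  apply Subtype.ext
  have hcK : algebraMap O K c ≠ 0 := fun h => hc0 ((IsFractionRing.injective O K) (by rw [h, map_zero]))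
  rw [Algebra.smul_def, Algebra.smul_def] at h2
  exact mul_left_cancel₀ hcK h2


/-- the colon into a nonzero module by a finitely generated module is nonzero -/
theorem div_ne_bot (ω I : Submodule O K) (hω0 : ω ≠ ⊥) (hI : I.FG) : ω / I ≠ ⊥ := by
  obtain ⟨c, hc0, hc⟩ := exists_denominator I hI
  obtain ⟨w, hwω, hw0⟩ := Submodule.exists_mem_ne_zero_of_ne_bot hω0
  have hcK : algebraMap O K c ≠ 0 := fun h =>
    hc0 ((IsFractionRing.injective O K) (by rw [h, map_zero]))
  have hmem : w * algebraMap O K c ∈ ω / I := by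
    rw [Submodule.mem_div_iff_forall_mul_mem]
    intro x hx
    obtain ⟨r, hr⟩ := hc x hx
    have : w * algebraMap O K c * x = r • w := by
      rw [Algebra.smul_def, hr, Algebra.smul_def]; ring
    rw [this]
    exact ω.smul_mem r hwω
  intro h
  rw [h, Submodule.mem_bot] at hmem
  exact mul_ne_zero hw0 hcK hmem

/-- the colon of a finitely generated module by a nonzero module is finitely generated -/
theorem div_fg [IsNoetherianRing O] (ω J : Submodule O K) (hωfg : ω.FG) (hJ0 : J ≠ ⊥) :
    (ω / J).FG := by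
  obtain ⟨j₀, hj₀J, hj₀⟩ := Submodule.exists_mem_ne_zero_of_ne_bot hJ0
  let μ : K →ₗ[O] K := LinearMap.mulLeft O (j₀⁻¹)
  have hN₀ : (ω.map μ).FG := hωfg.map μ
  have hnoeth : IsNoetherian O ↥(ω.map μ) := isNoetherian_of_fg_of_noetherian _ hN₀
  refine isNoetherian_submodule.mp hnoeth _ ?_
  intro y hy
  refine ⟨y * j₀, Submodule.mem_div_iff_forall_mul_mem.mp hy j₀ hj₀J, ?_⟩
  show j₀⁻¹ * (y * j₀) = y
  field_simp


/-- multiplication by an element of the colon as a linear map -/
noncomputable def mulHom (ω I : Submodule O K) (y : K) (hy : y ∈ ω / I) : ↥I →ₗ[O] ↥ω :=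
  { toFun := fun x => ⟨y * (x : K), Submodule.mem_div_iff_forall_mul_mem.mp hy x x.2⟩
    map_add' := fun a b => by
      apply Subtype.ext
      simp [mul_add]
    map_smul' := fun r a => by
      apply Subtype.ext
      simp [Algebra.smul_def]
      ring }

theorem div_antitone (ω : Submodule O K) {I J : Submodule O K} (h : I ≤ J) : ω / J ≤ ω / I := by
  intro y hy
  rw [Submodule.mem_div_iff_forall_mul_mem] at hy ⊢
  exact fun x hx => hy x (h hx)

theorem le_div_div (ω I : Submodule O K) : I ≤ ω / (ω / I) := by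
  intro x hx
  rw [Submodule.mem_div_iff_forall_mul_mem]
  intro y hy
  rw [mul_comm]
  exact Submodule.mem_div_iff_forall_mul_mem.mp hy x hx

variable [IsLocalRing O] [IsNoetherianRing O] [Ring.KrullDimLE 1 O]

/-- strictness in colon form -/
theorem div_ne_of_simple (ω : Submodule O K) (hωfg : ω.FG) (hω0 : ω ≠ ⊥)
    [HasInjectiveDimensionLT (ModuleCat.of O ↥ω) 2]
    (a : O) (ham : a ∈ IsLocalRing.maximalIdeal O) (ha0 : a ≠ 0)
    (I₂ I₁ : Submodule O K) (h21 : I₂ ≤ I₁) (hI₁fg : I₁.FG) (hI₂0 : I₂ ≠ ⊥)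
    (hsimple : IsSimpleModule O (↥I₁ ⧸ I₂.comap I₁.subtype)) :
    ∃ y ∈ ω / I₂, y ∉ ω / I₁ := by
  have hfin : Module.Finite O ↥ω := Module.Finite.iff_fg.mpr hωfg
  have hnt : Nontrivial ↥ω := Submodule.nontrivial_iff_ne_bot.mpr hω0
  obtain ⟨j, hj⟩ := exists_embedding I₁ hI₁fg
  have hrange : LinearMap.range (Submodule.inclusion h21) = I₂.comap I₁.subtype :=
    Submodule.range_inclusion I₂ I₁ h21
  have hsimple' : IsSimpleModule O (↥I₁ ⧸ LinearMap.range (Submodule.inclusion h21)) := by
    rw [hrange]; exact hsimple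
  obtain ⟨φ, hφ⟩ := exists_hom_not_extending (W := ↥ω) a ham (mem_nonZeroDivisors_of_ne_zero ha0)
    (Submodule.inclusion h21) (Submodule.inclusion_injective h21) j hj hsimple'
  obtain ⟨y, hy⟩ := exists_mul_eq I₂ hI₂0 (ω.subtype ∘ₗ φ)
  have hyω : y ∈ ω / I₂ := by
    rw [Submodule.mem_div_iff_forall_mul_mem]
    intro x hx
    have := hy ⟨x, hx⟩
    simp only [LinearMap.coe_comp, Submodule.coe_subtype, Function.comp_apply] at this
    rw [← this]
    exact (φ ⟨x, hx⟩).2
  refine ⟨y, hyω, fun hy1 => hφ ⟨mulHom ω I₁ y hy1, ?_⟩⟩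
  ext x
  have := hy x
  simp only [LinearMap.coe_comp, Submodule.coe_subtype, Function.comp_apply] at this
  rw [this]
  rfl


omit [IsDomain O] [IsFractionRing O K] [IsNoetherianRing O] [Ring.KrullDimLE 1 O] in
/-- the quotient `(I + Ox)/(I + mx)` is simple when `x ∉ I` -/
theorem isSimpleModule_sup_span (I : Submodule O K) (x : K) (hx : x ∉ I) :
    x ∉ I ⊔ (IsLocalRing.maximalIdeal O) • Submodule.span O {x} ∧
    IsSimpleModule O (↥(I ⊔ Submodule.span O {x}) ⧸
      (I ⊔ (IsLocalRing.maximalIdeal O) • Submodule.span O {x}).comap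
        (I ⊔ Submodule.span O {x}).subtype) := by
  set I₁ := I ⊔ Submodule.span O {x} with hI₁
  set I₂ := I ⊔ (IsLocalRing.maximalIdeal O) • Submodule.span O {x} with hI₂
  have hxI₂ : x ∉ I₂ := by
    intro h
    obtain ⟨i, hi, z, hz, hiz⟩ := Submodule.mem_sup.mp h
    obtain ⟨μ, hμ, rfl⟩ := Submodule.mem_smul_span_singleton.mp hz
    have hu : IsUnit (1 - μ) := IsLocalRing.isUnit_one_sub_self_of_mem_nonunits μ hμ
    have h1 : (1 - μ) • x = i := by
      rw [sub_smul, one_smul]
      exact sub_eq_of_eq_add hiz.symm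
    apply hx
    have h2 : x = (↑hu.unit⁻¹ : O) • i := by
      rw [← h1, smul_smul, IsUnit.val_inv_mul, one_smul]
    rw [h2]
    exact I.smul_mem _ hi
  refine ⟨hxI₂, ?_⟩
  have hxI₁ : x ∈ I₁ := Submodule.mem_sup_right (Submodule.mem_span_singleton_self x)
  set Q := ↥I₁ ⧸ I₂.comap I₁.subtype with hQ
  let xbar : Q := Submodule.Quotient.mk ⟨x, hxI₁⟩
  let f : O →ₗ[O] Q := LinearMap.toSpanSingleton O Q xbar
  have hf : ∀ r : O, f r = Submodule.Quotient.mk (r • (⟨x, hxI₁⟩ : ↥I₁)) := fun r => rfl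
  have hsurj : Function.Surjective f := by
    intro q
    induction q using Submodule.Quotient.induction_on with
    | H z =>
      obtain ⟨i, hi, w, hw, hiw⟩ := Submodule.mem_sup.mp z.2
      obtain ⟨r, rfl⟩ := Submodule.mem_span_singleton.mp hw
      refine ⟨r, ?_⟩
      rw [hf, Submodule.Quotient.eq, Submodule.mem_comap]
      have : ((r • (⟨x, hxI₁⟩ : ↥I₁) - z : ↥I₁) : K) = -i := by
        rw [Submodule.coe_sub, Submodule.coe_smul, ← hiw]
        simp
      rw [Submodule.coe_subtype, this]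
      exact Submodule.neg_mem _ (Submodule.mem_sup_left hi)
  have hker : LinearMap.ker f = IsLocalRing.maximalIdeal O := by
    apply le_antisymm
    · intro r hr
      by_contra hrm
      have hu : IsUnit r := by
        by_contra hnu
        exact hrm ((IsLocalRing.mem_maximalIdeal r).mpr hnu)
      rw [LinearMap.mem_ker, hf, Submodule.Quotient.mk_eq_zero, Submodule.mem_comap] at hr
      have h3 : r • x ∈ I₂ := hr
      apply hxI₂
      have : x = (↑hu.unit⁻¹ : O) • (r • x) := by
        rw [smul_smul, IsUnit.val_inv_mul, one_smul]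
      rw [this]
      exact I₂.smul_mem _ h3
    · intro r hr
      rw [LinearMap.mem_ker, hf, Submodule.Quotient.mk_eq_zero, Submodule.mem_comap]
      show r • x ∈ I₂
      exact Submodule.mem_sup_right
        (Submodule.smul_mem_smul hr (Submodule.mem_span_singleton_self x))
  let e : Q ≃ₗ[O] O ⧸ IsLocalRing.maximalIdeal O :=
    (LinearMap.quotKerEquivOfSurjective f hsurj).symm ≪≫ₗ Submodule.quotEquivOfEq _ _ hker
  exact isSimpleModule_iff_quot_maximal.mpr ⟨_, inferInstance, ⟨e⟩⟩

/-- reflexivity with respect to a canonical ideal -/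
theorem div_div_eq (ω : Submodule O K) (hωfg : ω.FG) (hω0 : ω ≠ ⊥)
    [HasInjectiveDimensionLT (ModuleCat.of O ↥ω) 2]
    (a : O) (ham : a ∈ IsLocalRing.maximalIdeal O) (ha0 : a ≠ 0)
    (I : Submodule O K) (hIfg : I.FG) (hI0 : I ≠ ⊥) : ω / (ω / I) = I := by
  refine le_antisymm ?_ (le_div_div ω I)
  intro x hx
  by_contra hxI
  obtain ⟨hxI₂, hsimple⟩ := isSimpleModule_sup_span I x hxI
  set I₁ := I ⊔ Submodule.span O {x} with hI₁
  set I₂ := I ⊔ (IsLocalRing.maximalIdeal O) • Submodule.span O {x} with hI₂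
  have h21 : I₂ ≤ I₁ := sup_le_sup_left Submodule.smul_le_right _
  have hI₁fg : I₁.FG := hIfg.sup (Submodule.fg_span_singleton x)
  have hI₂0 : I₂ ≠ ⊥ := fun h => hI0 (eq_bot_iff.mpr (h ▸ le_sup_left))
  obtain ⟨y, hy2, hy1⟩ := div_ne_of_simple ω hωfg hω0 a ham ha0 I₂ I₁ h21 hI₁fg hI₂0 hsimple
  apply hy1
  have hyI : y ∈ ω / I := div_antitone ω (le_sup_left : I ≤ I₂) hy2
  rw [Submodule.mem_div_iff_forall_mul_mem]
  intro z hz
  obtain ⟨i, hi, w, hw, rfl⟩ := Submodule.mem_sup.mp hz
  obtain ⟨r, rfl⟩ := Submodule.mem_span_singleton.mp hw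
  rw [mul_add]
  refine ω.add_mem (Submodule.mem_div_iff_forall_mul_mem.mp hyI i hi) ?_
  have h1 : x * y ∈ ω := Submodule.mem_div_iff_forall_mul_mem.mp hx y hyI
  have h2 : y * r • x = r • (x * y) := by
    rw [Algebra.smul_def, Algebra.smul_def]; ring
  rw [h2]
  exact ω.smul_mem r h1


/-- duality of relative lengths -/
theorem relLength_div (ω : Submodule O K) (hωfg : ω.FG) (hω0 : ω ≠ ⊥)
    [HasInjectiveDimensionLT (ModuleCat.of O ↥ω) 2]
    (a : O) (ham : a ∈ IsLocalRing.maximalIdeal O) (ha0 : a ≠ 0)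
    (J I : Submodule O K) (hJI : J ≤ I) (hIfg : I.FG) (hJ0 : J ≠ ⊥) :
    relLength J I = relLength (ω / I) (ω / J) := by
  have hI0 : I ≠ ⊥ := fun h => hJ0 (eq_bot_iff.mpr (h ▸ hJI))
  have hD : ∀ P : Submodule O K, P.FG → P ≠ ⊥ → ω / (ω / P) = P :=
    fun P h1 h2 => div_div_eq ω hωfg hω0 a ham ha0 P h1 h2
  have hnoethI : IsNoetherian O ↥I := isNoetherian_of_fg_of_noetherian _ hIfg
  have hωJfg : (ω / J).FG := div_fg ω J hωfg hJ0
  have hnoethJ : IsNoetherian O ↥(ω / J) := isNoetherian_of_fg_of_noetherian _ hωJfg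
  have hωI0 : ω / I ≠ ⊥ := div_ne_bot ω I hω0 hIfg
  have hP : ∀ P : Set.Icc J I, (P : Submodule O K).FG ∧ (P : Submodule O K) ≠ ⊥ := fun P =>
    ⟨isNoetherian_submodule.mp hnoethI _ P.2.2, fun h => hJ0 (eq_bot_iff.mpr (h ▸ P.2.1))⟩
  have hQ : ∀ Q : Set.Icc (ω / I) (ω / J), (Q : Submodule O K).FG ∧ (Q : Submodule O K) ≠ ⊥ :=
    fun Q => ⟨isNoetherian_submodule.mp hnoethJ _ Q.2.2,
      fun h => hωI0 (eq_bot_iff.mpr (h ▸ Q.2.1))⟩
  let Ψ : Set.Icc J I ≃o (Set.Icc (ω / I) (ω / J))ᵒᵈ :=
    { toFun := fun P => OrderDual.toDual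
        ⟨ω / (P : Submodule O K), div_antitone ω P.2.2, div_antitone ω P.2.1⟩
      invFun := fun Q => ⟨ω / ((OrderDual.ofDual Q : Set.Icc (ω / I) (ω / J)) : Submodule O K), by
        constructor
        · have := div_antitone ω (OrderDual.ofDual Q).2.2
          rwa [hD J (isNoetherian_submodule.mp hnoethI _ hJI) hJ0] at this
        · have := div_antitone ω (OrderDual.ofDual Q).2.1
          rwa [hD I hIfg hI0] at this⟩
      left_inv := fun P => Subtype.ext (hD _ (hP P).1 (hP P).2)
      right_inv := fun Q => by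
        apply OrderDual.ofDual.injective
        exact Subtype.ext (hD _ (hQ (OrderDual.ofDual Q)).1 (hQ (OrderDual.ofDual Q)).2)
      map_rel_iff' := by
        intro P₁ P₂
        constructor
        · intro h
          have h' : ω / (P₂ : Submodule O K) ≤ ω / (P₁ : Submodule O K) := h
          have := div_antitone ω h'
          rwa [hD _ (hP P₁).1 (hP P₁).2, hD _ (hP P₂).1 (hP P₂).2] at this
        · intro h
          exact div_antitone ω h }
  apply WithBot.coe_injective
  rw [coe_relLength J I hJI, coe_relLength _ _ (div_antitone ω hJI),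
    Order.krullDim_eq_of_orderIso Ψ, Order.krullDim_orderDual]


end Frac

end Groth.Agent.H75.Canon
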