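import Mathlib

set_option autoImplicit false
universe u

namespace Groth.Agent.H75.OneDim

open Module

/-- avoidance of finitely many proper submodules over a local ring with infinite residue field -/
theorem exists_notMem_of_ne_top {O : Type*} [CommRing O] [IsLocalRing O]
    [Infinite (IsLocalRing.ResidueField O)]
    {M : Type*} [AddCommGroup M] [Module O M] (s : Finset (Submodule O M))
    (hs : ∀ P ∈ s, P ≠ ⊤) : ∃ x : M, ∀ P ∈ s, x ∉ P := by
  classical
  induction s using Finset.induction_on with
  | empty => exact ⟨0, by simp⟩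
  | insert P s' hP ih =>
    obtain ⟨y, hy⟩ := ih (fun Q hQ => hs Q (Finset.mem_insert_of_mem hQ))
    by_cases hyP : y ∈ P
    · have hPtop : P ≠ ⊤ := hs P (Finset.mem_insert_self _ _)
      obtain ⟨z, hz⟩ : ∃ z : M, z ∉ P := by
        by_contra hcon
        push Not at hcon
        exact hPtop (eq_top_iff.mpr fun x _ => hcon x)
      by_contra hcon
      push Not at hcon
      -- every element lies in some member
      let lift : IsLocalRing.ResidueField O → O :=
        Function.surjInv (IsLocalRing.residue_surjective (R := O))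
      have hlift : ∀ a, IsLocalRing.residue O (lift a) = a :=
        Function.surjInv_eq (IsLocalRing.residue_surjective (R := O))
      have hw : ∀ a : IsLocalRing.ResidueField O, ∃ Q ∈ s', z + lift a • y ∈ Q := by
        intro a
        obtain ⟨Q, hQ, hmem⟩ := hcon (z + lift a • y)
        rcases Finset.mem_insert.mp hQ with rfl | hQ'
        · exfalso
          apply hz
          have := Q.sub_mem hmem (Q.smul_mem (lift a) hyP)
          simpa using this
        · exact ⟨Q, hQ', hmem⟩
      choose Q hQs hQmem using hw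
      let f : IsLocalRing.ResidueField O → (s' : Set (Submodule O M)) := fun a => ⟨Q a, hQs a⟩
      obtain ⟨a, a', hne, heq⟩ := Finite.exists_ne_map_eq_of_infinite f
      have heq' : Q a = Q a' := congrArg Subtype.val heq
      have h1 : (lift a - lift a') • y ∈ Q a := by
        have h2 := (Q a).sub_mem (hQmem a) (heq' ▸ hQmem a')
        have h3 : z + lift a • y - (z + lift a' • y) = (lift a - lift a') • y := by
          rw [sub_smul]; abel
        rwa [h3] at h2
      have hunit : IsUnit (lift a - lift a') := by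
        rw [← IsLocalRing.residue_ne_zero_iff_isUnit, map_sub, hlift, hlift]
        exact sub_ne_zero.mpr hne
      have h4 : y ∈ Q a := by
        have := (Q a).smul_mem (↑hunit.unit⁻¹ : O) h1
        rwa [smul_smul, IsUnit.val_inv_mul, one_smul] at this
      exact hy (Q a) (hQs a) h4
    · refine ⟨y, fun Q hQ => ?_⟩
      rcases Finset.mem_insert.mp hQ with rfl | hQ'
      · exact hyP
      · exact hy Q hQ'


section LemmaA

variable {O B : Type*} [CommRing O] [IsLocalRing O] [Infinite (IsLocalRing.ResidueField O)]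
  [CommRing B] [Algebra O B]
  {N : Type*} [AddCommGroup N] [Module B N] [Module O N] [IsScalarTower O B N]
  {n : ℕ} (b : Basis (Fin n) B N)

/-- reduction of coordinates mod an ideal -/
noncomputable def rho (𝔫 : Ideal B) : N →ₗ[B] (Fin n → B ⧸ 𝔫) :=
  LinearMap.pi fun i => (Ideal.Quotient.mkₐ B 𝔫).toLinearMap ∘ₗ (b.coord i)

theorem rho_apply (𝔫 : Ideal B) (x : N) (i : Fin n) :
    rho b 𝔫 x i = Ideal.Quotient.mk 𝔫 (b.repr x i) := rfl

theorem smul_eq_mk_smul (𝔫 : Ideal B) (c : B) (w : Fin n → B ⧸ 𝔫) :
    c • w = (Ideal.Quotient.mk 𝔫 c) • w := by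
  funext i
  rw [Pi.smul_apply, Pi.smul_apply, Algebra.smul_def, smul_eq_mul]
  rfl

theorem rho_surjective (𝔫 : Ideal B) : Function.Surjective (rho b 𝔫) := by
  intro w
  choose c hc using fun i => Ideal.Quotient.mk_surjective (w i)
  refine ⟨∑ i, c i • b i, ?_⟩
  funext j
  rw [rho_apply, map_sum, Finset.sum_apply']
  simp only [map_smul, Basis.repr_self, Finsupp.smul_apply, Finsupp.single_apply, smul_eq_mul,
    mul_ite, mul_one, mul_zero]
  rw [Finset.sum_ite_eq' Finset.univ j]
  simp [hc]

theorem cons_eq (𝔫 : Ideal B) {i : ℕ} (x : N) (v : Fin i → N) :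
    (fun t => rho b 𝔫 ((Fin.cons x v : Fin (i + 1) → N) t)) =
      Fin.cons (rho b 𝔫 x) (fun t => rho b 𝔫 (v t)) := by
  funext t
  refine Fin.cases ?_ (fun t' => ?_) t
  · simp
  · simp

theorem step (hfin : {𝔫 : Ideal B | 𝔫.IsMaximal}.Finite) (M₀ : Submodule O N)
    (hspan : Submodule.span B (M₀ : Set N) = ⊤) {i : ℕ} (hi : i < n) (v : Fin i → N)
    (hind : ∀ 𝔫 : Ideal B, 𝔫.IsMaximal → LinearIndependent (B ⧸ 𝔫) (fun t => rho b 𝔫 (v t))) :
    ∃ x ∈ M₀, ∀ 𝔫 : Ideal B, 𝔫.IsMaximal →
      LinearIndependent (B ⧸ 𝔫) (fun t => rho b 𝔫 ((Fin.cons x v : Fin (i + 1) → N) t)) := by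
  classical
  let W : ∀ 𝔫 : Ideal B, Submodule (B ⧸ 𝔫) (Fin n → B ⧸ 𝔫) := fun 𝔫 =>
    Submodule.span (B ⧸ 𝔫) (Set.range fun t => rho b 𝔫 (v t))
  let P : Ideal B → Submodule O M₀ := fun 𝔫 =>
    { carrier := {x | rho b 𝔫 x.1 ∈ W 𝔫}
      add_mem' := by
        intro x y hx hy
        simp only [Set.mem_setOf_eq, Submodule.coe_add, map_add] at hx hy ⊢
        exact (W 𝔫).add_mem hx hy
      zero_mem' := by
        simp only [Set.mem_setOf_eq, ZeroMemClass.coe_zero, map_zero]
        exact (W 𝔫).zero_mem
      smul_mem' := by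
        intro a x hx
        simp only [Set.mem_setOf_eq, Submodule.coe_smul] at hx ⊢
        rw [← algebraMap_smul B a (x : N), map_smul, smul_eq_mk_smul]
        exact (W 𝔫).smul_mem _ hx }
  have hP : ∀ 𝔫 : Ideal B, 𝔫.IsMaximal → P 𝔫 ≠ ⊤ := by
    intro 𝔫 h𝔫 htop
    have := h𝔫
    let _ : Field (B ⧸ 𝔫) := Ideal.Quotient.field 𝔫
    have h1 : ∀ x : N, rho b 𝔫 x ∈ W 𝔫 := by
      intro x
      have hx : x ∈ Submodule.span B (M₀ : Set N) := by rw [hspan]; trivial
      induction hx using Submodule.span_induction with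
      | mem y hy =>
        have : (⟨y, hy⟩ : M₀) ∈ P 𝔫 := by rw [htop]; trivial
        exact this
      | zero => rw [map_zero]; exact (W 𝔫).zero_mem
      | add y z _ _ hy hz => rw [map_add]; exact (W 𝔫).add_mem hy hz
      | smul c y _ hy => rw [map_smul, smul_eq_mk_smul]; exact (W 𝔫).smul_mem _ hy
    have h2 : W 𝔫 = ⊤ := by
      rw [eq_top_iff]
      intro w _
      obtain ⟨x, rfl⟩ := rho_surjective b 𝔫 w
      exact h1 x
    have h3 : Module.finrank (B ⧸ 𝔫) (W 𝔫) ≤ i := by
      have := finrank_range_le_card (R := B ⧸ 𝔫) (fun t => rho b 𝔫 (v t))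
      rw [Fintype.card_fin] at this
      exact this
    rw [h2, finrank_top, Module.finrank_fin_fun] at h3
    omega
  obtain ⟨x, hx⟩ := exists_notMem_of_ne_top (hfin.toFinset.image P) (by
    intro Q hQ
    obtain ⟨𝔫, h𝔫, rfl⟩ := Finset.mem_image.mp hQ
    exact hP 𝔫 (by simpa using h𝔫))
  refine ⟨x.1, x.2, fun 𝔫 h𝔫 => ?_⟩
  have := h𝔫
  let _ : Field (B ⧸ 𝔫) := Ideal.Quotient.field 𝔫
  rw [cons_eq]
  refine LinearIndependent.finCons (hind 𝔫 h𝔫) ?_
  have := hx (P 𝔫) (Finset.mem_image.mpr ⟨𝔫, by simpa using h𝔫, rfl⟩)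
  exact this

theorem exists_family (hfin : {𝔫 : Ideal B | 𝔫.IsMaximal}.Finite) (M₀ : Submodule O N)
    (hspan : Submodule.span B (M₀ : Set N) = ⊤) :
    ∀ i : ℕ, i ≤ n → ∃ v : Fin i → N, (∀ t, v t ∈ M₀) ∧
      ∀ 𝔫 : Ideal B, 𝔫.IsMaximal → LinearIndependent (B ⧸ 𝔫) (fun t => rho b 𝔫 (v t)) := by
  intro i
  induction i with
  | zero =>
    intro _
    exact ⟨Fin.elim0, fun t => t.elim0, fun 𝔫 _ => linearIndependent_empty_type⟩
  | succ i ih =>
    intro hi
    obtain ⟨v, hv, hind⟩ := ih (by omega)
    obtain ⟨x, hx, hind'⟩ := step b hfin M₀ hspan (by omega : i < n) v hind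
    refine ⟨Fin.cons x v, fun t => ?_, hind'⟩
    refine Fin.cases ?_ (fun t' => ?_) t
    · simpa using hx
    · simpa using hv t'

theorem exists_basis_in (hfin : {𝔫 : Ideal B | 𝔫.IsMaximal}.Finite) (M₀ : Submodule O N)
    (hspan : Submodule.span B (M₀ : Set N) = ⊤) :
    ∃ v : Fin n → N, (∀ t, v t ∈ M₀) ∧ IsUnit (b.det v) := by
  classical
  obtain ⟨v, hv, hind⟩ := exists_family b hfin M₀ hspan n le_rfl
  refine ⟨v, hv, ?_⟩
  by_contra hnu
  obtain ⟨𝔫, h𝔫, hmem⟩ := exists_max_ideal_of_mem_nonunits (show b.det v ∈ nonunits B from hnu)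
  have := h𝔫
  let _ : Field (B ⧸ 𝔫) := Ideal.Quotient.field 𝔫
  have hli := hind 𝔫 h𝔫
  have hsp : Submodule.span (B ⧸ 𝔫) (Set.range fun t => rho b 𝔫 (v t)) = ⊤ :=
    hli.span_eq_top_of_card_eq_finrank' (by simp)
  have hu : IsUnit ((Pi.basisFun (B ⧸ 𝔫) (Fin n)).det (fun t => rho b 𝔫 (v t))) :=
    (Pi.basisFun (B ⧸ 𝔫) (Fin n)).is_basis_iff_det.mp ⟨hli, hsp⟩
  have hdet : (Pi.basisFun (B ⧸ 𝔫) (Fin n)).det (fun t => rho b 𝔫 (v t)) =
      Ideal.Quotient.mk 𝔫 (b.det v) := by
    rw [Basis.det_apply, Basis.det_apply, RingHom.map_det]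
    congr 1
  rw [hdet, Ideal.Quotient.eq_zero_iff_mem.mpr hmem] at hu
  exact not_isUnit_zero hu

end LemmaA


section Closure

variable (O : Type u) [CommRing O] [IsDomain O] [IsNoetherianRing O] [IsLocalRing O]
  (K : Type u) [Field K] [Algebra O K] [IsFractionRing O K]

theorem dimLEOne (hdim : ringKrullDim O = 1) : Ring.DimensionLEOne O :=
  ⟨fun {p} hp0 hp => Ring.krullDimLE_one_iff_of_noZeroDivisors.mp
    (Ring.krullDimLE_iff.mpr (by simp [hdim])) p hp0 hp⟩

theorem isFractionRing_closure : IsFractionRing ↥(integralClosure O K) K := by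
  have : Algebra.IsAlgebraic O K := by
    have h : Algebra.IsAlgebraic K K := inferInstance
    exact (IsFractionRing.comap_isAlgebraic_iff (A := O) (K := K) (C := K)).mpr h
  exact integralClosure.isFractionRing_of_algebraic (A := O) (L := K)
    (fun x hx => (IsFractionRing.injective O K) (by rw [hx, map_zero]))

theorem isDedekindDomain_closure (hdim : ringKrullDim O = 1)
    (hfin : Module.Finite O ↥(integralClosure O K)) :
    IsDedekindDomain ↥(integralClosure O K) := by
  have h1 : Ring.DimensionLEOne O := dimLEOne O hdim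
  have h2 : IsNoetherianRing ↥(integralClosure O K) :=
    Algebra.FiniteType.isNoetherianRing O _
  have h3 : IsIntegrallyClosed ↥(integralClosure O K) :=
    integralClosure.isIntegrallyClosedOfFiniteExtension (R := O) K (L := K)
  have h4 : Ring.DimensionLEOne ↥(integralClosure O K) := inferInstance
  exact { h2, h4, h3 with }

theorem exists_ne_zero_mem_maximalIdeal (hdim : ringKrullDim O = 1) :
    ∃ x ∈ IsLocalRing.maximalIdeal O, x ≠ 0 := by
  by_contra hcon
  push Not at hcon
  have hbot : IsLocalRing.maximalIdeal O = ⊥ := by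
    rw [eq_bot_iff]
    intro x hx
    exact hcon x hx
  have hf : IsField O := IsLocalRing.isField_iff_maximalIdeal_eq.mpr hbot
  have := ringKrullDim_eq_zero_of_isField hf
  rw [hdim] at this
  exact one_ne_zero this

theorem maximalIdeal_le_comap (𝔫 : Ideal ↥(integralClosure O K)) (h𝔫 : 𝔫.IsMaximal) :
    ∀ a ∈ IsLocalRing.maximalIdeal O, algebraMap O ↥(integralClosure O K) a ∈ 𝔫 := by
  intro a ha
  have : Algebra.IsIntegral O ↥(integralClosure O K) := inferInstance
  have hmax : (𝔫.comap (algebraMap O ↥(integralClosure O K))).IsMaximal :=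
    Ideal.isMaximal_comap_of_isIntegral_of_isMaximal (R := O) 𝔫
  have := IsLocalRing.eq_maximalIdeal hmax
  rw [← this] at ha
  exact ha

theorem finite_maximals (hdim : ringKrullDim O = 1)
    (hfin : Module.Finite O ↥(integralClosure O K)) :
    {𝔫 : Ideal ↥(integralClosure O K) | 𝔫.IsMaximal}.Finite := by
  have hD := isDedekindDomain_closure O K hdim hfin
  obtain ⟨x, hxm, hx0⟩ := exists_ne_zero_mem_maximalIdeal O hdim
  set y : ↥(integralClosure O K) := algebraMap O _ x with hy
  have hy0 : y ≠ 0 := by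
    intro h
    apply hx0
    have h2 : algebraMap O K x = 0 := by
      have := congrArg (algebraMap ↥(integralClosure O K) K) h
      rwa [map_zero, hy, ← IsScalarTower.algebraMap_apply] at this
    exact (IsFractionRing.injective O K) (by rw [h2, map_zero])
  have hI : Ideal.span {y} ≠ 0 := by
    rw [Ne, Ideal.zero_eq_bot, Ideal.span_singleton_eq_bot]
    exact hy0
  have hfinF := Ideal.finite_factors hI
  refine (hfinF.image (fun v => v.asIdeal)).subset ?_
  intro 𝔫 h𝔫
  have hy𝔫 : y ∈ 𝔫 := maximalIdeal_le_comap O K 𝔫 h𝔫 x hxm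
  have hne : 𝔫 ≠ ⊥ := by
    intro h
    rw [h, Ideal.mem_bot] at hy𝔫
    exact hy0 hy𝔫
  refine ⟨⟨𝔫, h𝔫.isPrime, hne⟩, ?_, rfl⟩
  show 𝔫 ∣ Ideal.span {y}
  rw [Ideal.dvd_iff_le, Ideal.span_singleton_le_iff_mem]
  exact hy𝔫

theorem isPrincipalIdealRing_closure (hdim : ringKrullDim O = 1)
    (hfin : Module.Finite O ↥(integralClosure O K)) :
    IsPrincipalIdealRing ↥(integralClosure O K) := by
  have hD := isDedekindDomain_closure O K hdim hfin
  exact IsPrincipalIdealRing.of_finite_maximals (finite_maximals O K hdim hfin)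

end Closure


section Main

variable (O : Type u) [CommRing O] [IsDomain O] [IsNoetherianRing O] [IsLocalRing O]
  (K : Type u) [Field K] [Algebra O K] [IsFractionRing O K]

theorem span_mk_one_eq_top (M : Type u) [AddCommGroup M] [Module O M] :
    Submodule.span K (Set.range (TensorProduct.mk O K M 1)) = ⊤ := by
  rw [eq_top_iff]
  suffices key : ∀ t : TensorProduct O K M,
      t ∈ Submodule.span K (Set.range (TensorProduct.mk O K M 1)) from fun t _ => key t
  intro t
  induction t using TensorProduct.induction_on with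
  | zero => exact Submodule.zero_mem _
  | tmul c m =>
    have : c ⊗ₜ[O] m = c • ((1 : K) ⊗ₜ[O] m) := by
      rw [TensorProduct.smul_tmul', smul_eq_mul, mul_one]
    rw [this]
    exact Submodule.smul_mem _ _ (Submodule.subset_span ⟨m, rfl⟩)
  | add x y hx hy => exact Submodule.add_mem _ hx hy

theorem exists_lattice (hdim : ringKrullDim O = 1) [Infinite (IsLocalRing.ResidueField O)]
    (hfin : Module.Finite O ↥(integralClosure O K))
    (M : Type u) [AddCommGroup M] [Module O M] [Module.Finite O M] [NoZeroSMulDivisors O M] (n : ℕ)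
    (hn : Module.finrank K (TensorProduct O K M) = n) :
    ∃ M' : Submodule O (Fin n → K),
      Submodule.pi Set.univ (fun _ : Fin n => (1 : Submodule O K)) ≤ M' ∧
      M' ≤ Submodule.pi Set.univ (fun _ : Fin n => (Subalgebra.toSubmodule (integralClosure O K))) ∧
      Nonempty (M ≃ₗ[O] ↥M') := by
  classical
  have hPID : IsPrincipalIdealRing ↥(integralClosure O K) :=
    isPrincipalIdealRing_closure O K hdim hfin
  have hFR : IsFractionRing ↥(integralClosure O K) K := isFractionRing_closure O K
  have hfinmax := finite_maximals O K hdim hfin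
  -- step 1: embedding
  let ι₀ : M →ₗ[O] TensorProduct O K M := TensorProduct.mk O K M 1
  have hι₀ : Function.Injective ι₀ := by
    rw [← LinearMap.ker_eq_bot, LinearMap.ker_eq_bot']
    intro x hx
    obtain ⟨s, hs⟩ := (IsLocalizedModule.eq_zero_iff (nonZeroDivisors O)
      (TensorProduct.mk O K M 1)).mp hx
    have hs0 : (s : O) ≠ 0 := nonZeroDivisors.ne_zero s.2
    exact (smul_eq_zero.mp hs).resolve_left hs0
  let e : TensorProduct O K M ≃ₗ[K] (Fin n → K) :=
    LinearEquiv.ofFinrankEq _ _ (by rw [hn, Module.finrank_fin_fun])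
  let ι : M →ₗ[O] (Fin n → K) := (e.restrictScalars O).toLinearMap ∘ₗ ι₀
  have hι : Function.Injective ι := fun x y h => hι₀ (e.injective h)
  have hKspan : Submodule.span K (Set.range ι) = ⊤ := by
    have h1 : Set.range ι = e '' (Set.range ι₀) := by
      ext w
      constructor
      · rintro ⟨m, rfl⟩
        exact ⟨ι₀ m, ⟨m, rfl⟩, rfl⟩
      · rintro ⟨_, ⟨m, rfl⟩, rfl⟩
        exact ⟨m, rfl⟩
    rw [h1]
    show Submodule.span K (e.toLinearMap '' Set.range ι₀) = ⊤
    rw [Submodule.span_image, span_mk_one_eq_top O K M, Submodule.map_top]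
    exact LinearMap.range_eq_top.mpr e.surjective
  -- step 2: the lattice generated over the closure
  let N : Submodule ↥(integralClosure O K) (Fin n → K) :=
    Submodule.span ↥(integralClosure O K) (Set.range ι)
  have hιN : ∀ m, ι m ∈ N := fun m => Submodule.subset_span ⟨m, rfl⟩
  have hNfin : Module.Finite ↥(integralClosure O K) N := by
    obtain ⟨S, hS⟩ := (Module.finite_def.mp (inferInstance : Module.Finite O M))
    have hN : N = Submodule.span ↥(integralClosure O K) (ι '' (S : Set M)) := by
      apply le_antisymm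
      · apply Submodule.span_le.mpr
        rintro _ ⟨m, rfl⟩
        have hm : m ∈ Submodule.span O (S : Set M) := by rw [hS]; trivial
        induction hm using Submodule.span_induction with
        | mem y hy => exact Submodule.subset_span ⟨y, hy, rfl⟩
        | zero => rw [map_zero]; exact Submodule.zero_mem _
        | add y z _ _ hy hz => rw [map_add]; exact Submodule.add_mem _ hy hz
        | smul a y _ hy =>
          rw [map_smul, ← algebraMap_smul ↥(integralClosure O K) a (ι y)]
          exact Submodule.smul_mem _ _ hy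
      · exact Submodule.span_mono (Set.image_subset_range _ _)
    rw [Module.Finite.iff_fg, hN]
    exact Submodule.fg_span ((S.finite_toSet).image _)
  have hNfree : Module.Free ↥(integralClosure O K) N := Module.free_of_finite_type_torsion_free'
  let b₀ := Module.finBasis ↥(integralClosure O K) N
  have hb₀li : LinearIndependent K (fun t => ((b₀ t : N) : Fin n → K)) := by
    rw [← LinearIndependent.iff_fractionRing ↥(integralClosure O K) K]
    exact b₀.linearIndependent.map' N.subtype (Submodule.ker_subtype N)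
  have hb₀sp : ⊤ ≤ Submodule.span K (Set.range fun t => ((b₀ t : N) : Fin n → K)) := by
    rw [← hKspan]
    apply Submodule.span_le.mpr
    rintro _ ⟨m, rfl⟩
    have h1 : (⟨ι m, hιN m⟩ : N) ∈ Submodule.span ↥(integralClosure O K) (Set.range b₀) := by
      rw [b₀.span_eq]; trivial
    have h2 : ∀ y : N, y ∈ Submodule.span ↥(integralClosure O K) (Set.range b₀) →
        (y : Fin n → K) ∈ Submodule.span K (Set.range fun t => ((b₀ t : N) : Fin n → K)) := by
      intro y hy
      induction hy using Submodule.span_induction with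
      | mem z hz =>
        obtain ⟨t, rfl⟩ := hz
        exact Submodule.subset_span ⟨t, rfl⟩
      | zero => exact Submodule.zero_mem _
      | add y z _ _ hy hz => exact Submodule.add_mem _ hy hz
      | smul c y _ hy =>
        rw [Submodule.coe_smul, ← algebraMap_smul K c (y : Fin n → K)]
        exact Submodule.smul_mem _ _ hy
    exact h2 _ h1
  have hrank : Module.finrank ↥(integralClosure O K) N = n := by
    let bK : Basis _ K (Fin n → K) := Basis.mk hb₀li hb₀sp
    have := Module.finrank_eq_card_basis bK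
    rw [Module.finrank_fin_fun, Fintype.card_fin] at this
    exact this.symm
  let b : Basis (Fin n) ↥(integralClosure O K) N := b₀.reindex (finCongr hrank)
  -- step 3: the image of M inside N
  let M₀ : Submodule O N :=
    Submodule.comap ((N.subtype).restrictScalars O) (LinearMap.range ι)
  have hM₀ : ∀ y : N, y ∈ M₀ ↔ ∃ m, ι m = (y : Fin n → K) := fun y => Iff.rfl
  have hspan : Submodule.span ↥(integralClosure O K) (M₀ : Set N) = ⊤ := by
    rw [eq_top_iff]
    rintro ⟨y, hy⟩ _
    have h2 : ∀ (z : Fin n → K) (hz : z ∈ N),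
        (⟨z, hz⟩ : N) ∈ Submodule.span ↥(integralClosure O K) (M₀ : Set N) := by
      intro z hz
      induction hz using Submodule.span_induction with
      | mem w hw =>
        obtain ⟨m, rfl⟩ := hw
        exact Submodule.subset_span ((hM₀ _).mpr ⟨m, rfl⟩)
      | zero => exact Submodule.zero_mem _
      | add w z hw hz h1 h2 =>
        have : (⟨w + z, Submodule.add_mem _ hw hz⟩ : N) = ⟨w, hw⟩ + ⟨z, hz⟩ := rfl
        rw [this]
        exact Submodule.add_mem _ h1 h2
      | smul c w hw h1 =>
        have : (⟨c • w, Submodule.smul_mem _ c hw⟩ : N) = c • ⟨w, hw⟩ := rfl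
        rw [this]
        exact Submodule.smul_mem _ _ h1
    exact h2 y hy
  obtain ⟨v, hv, hdet⟩ := exists_basis_in b hfinmax M₀ hspan
  obtain ⟨hvli, hvsp⟩ := b.is_basis_iff_det.mpr hdet
  have hvK : LinearIndependent K (fun t => ((v t : N) : Fin n → K)) := by
    rw [← LinearIndependent.iff_fractionRing ↥(integralClosure O K) K]
    exact hvli.map' N.subtype (Submodule.ker_subtype N)
  let vK : Basis (Fin n) K (Fin n → K) :=
    Basis.mk hvK (hvK.span_eq_top_of_card_eq_finrank' (by simp)).ge
  have hvKapp : ∀ t, vK t = ((v t : N) : Fin n → K) := fun t => by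
    simp [vK]
  let g : (Fin n → K) ≃ₗ[K] (Fin n → K) := vK.equivFun
  have hg : ∀ t, g ((v t : N) : Fin n → K) = Pi.single t 1 := by
    intro t
    rw [← hvKapp t]
    funext j
    rw [Pi.single_apply]
    have := vK.equivFun_self t j
    rw [this]
    by_cases h : t = j
    · rw [if_pos h, if_pos h.symm]
    · rw [if_neg h, if_neg (Ne.symm h)]
  let φ : M →ₗ[O] (Fin n → K) := (g.restrictScalars O).toLinearMap ∘ₗ ι
  have hφ : Function.Injective φ := fun x y h => hι (g.injective h)
  refine ⟨LinearMap.range φ, ?_, ?_, ⟨LinearEquiv.ofInjective φ hφ⟩⟩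
  · -- O^n ≤ M'
    intro w hw
    rw [Submodule.mem_pi] at hw
    have hw' : ∀ i, ∃ a : O, algebraMap O K a = w i := fun i => by
      have := hw i (Set.mem_univ i)
      exact Submodule.mem_one.mp this
    choose a ha using hw'
    choose m hm using fun t => (hM₀ (v t)).mp (hv t)
    refine ⟨∑ t, a t • m t, ?_⟩
    rw [map_sum]
    funext i
    rw [Finset.sum_apply]
    have : ∀ t, φ (a t • m t) i = if t = i then algebraMap O K (a t) else 0 := by
      intro t
      rw [map_smul]
      show (a t • g (ι (m t))) i = _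
      rw [hm t, hg t, Pi.smul_apply, Pi.single_apply, Algebra.smul_def]
      by_cases h : i = t
      · subst h; simp
      · rw [if_neg h, if_neg (Ne.symm h), mul_zero]
    simp_rw [this]
    rw [Finset.sum_ite_eq' Finset.univ i]
    simp [ha]
  · -- M' ≤ closure^n
    rintro _ ⟨m, rfl⟩
    have h2 : ∀ y : N, y ∈ Submodule.span ↥(integralClosure O K) (Set.range v) →
        ∀ i, g (y : Fin n → K) i ∈ integralClosure O K := by
      intro y hy
      induction hy using Submodule.span_induction with
      | mem z hz =>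
        obtain ⟨t, rfl⟩ := hz
        intro i
        rw [hg t, Pi.single_apply]
        split_ifs
        · exact Subalgebra.one_mem _
        · exact Subalgebra.zero_mem _
      | zero => intro i; simp
      | add y z _ _ hy hz =>
        intro i
        rw [Submodule.coe_add, map_add, Pi.add_apply]
        exact Subalgebra.add_mem _ (hy i) (hz i)
      | smul c y _ hy =>
        intro i
        rw [Submodule.coe_smul, ← algebraMap_smul K c (y : Fin n → K), map_smul, Pi.smul_apply,
          smul_eq_mul]
        exact Subalgebra.mul_mem _ c.2 (hy i)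
    rw [Submodule.mem_pi]
    intro i _
    have := h2 ⟨ι m, hιN m⟩ (by rw [hvsp]; trivial) i
    exact this

end Main


end Groth.Agent.H75.OneDim
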