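import Mathlib
import Groth.Agent.H75.CanonIdeal
import Groth.Agent.H75.OneDimLattice

set_option autoImplicit false
universe u

namespace Groth.Agent.H75.Canon

open CategoryTheory Abelian

section Main

variable {O : Type u} [CommRing O] [IsDomain O] {K : Type u} [Field K] [Algebra O K]
  [IsFractionRing O K]

omit [IsDomain O] [IsFractionRing O K] in
theorem div_one' (ω : Submodule O K) : ω / (1 : Submodule O K) = ω := by
  ext y
  rw [Submodule.mem_div_iff_forall_mul_mem]
  constructor
  · intro h
    have := h 1 (Submodule.one_le.mp le_rfl)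
    rwa [mul_one] at this
  · intro hy x hx
    obtain ⟨r, rfl⟩ := Submodule.mem_one.mp hx
    rw [mul_comm, ← Algebra.smul_def]
    exact ω.smul_mem r hy

theorem length_formula [IsNoetherianRing O] [IsLocalRing O] (hdim : ringKrullDim O = 1)
    (hfin : Module.Finite O ↥(integralClosure O K))
    (ω : Submodule O K) (hω1 : (1 : Submodule O K) ≤ ω)
    (hω2 : ω ≤ (Subalgebra.toSubmodule (integralClosure O K)))
    (hωinj : HasInjectiveDimensionLT (ModuleCat.of O ↥ω) 2) :
    Module.length O (↥ω ⧸ Submodule.comap ω.subtype (1 : Submodule O K)) +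
      Module.length O (↥(integralClosure O K) ⧸
        ((1 : Submodule O K).colon (Subalgebra.toSubmodule (integralClosure O K))) •
          (⊤ : Submodule O ↥(integralClosure O K))) =
    2 * Module.length O (↥(integralClosure O K) ⧸
      Submodule.comap (Subalgebra.toSubmodule (integralClosure O K)).subtype
        (1 : Submodule O K)) := by
  classical
  have := hωinj
  have hKD : Ring.KrullDimLE 1 O := Ring.krullDimLE_iff.mpr (by simp [hdim])
  obtain ⟨a, ham, ha0⟩ := OneDim.exists_ne_zero_mem_maximalIdeal O hdim
  set B : Submodule O K := Subalgebra.toSubmodule (integralClosure O K) with hB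
  have hBfg : B.FG := by
    have : Module.Finite O ↥B := hfin
    exact Module.Finite.iff_fg.mp this
  have hnoethB : IsNoetherian O ↥B := isNoetherian_of_fg_of_noetherian _ hBfg
  have hωfg : ω.FG := isNoetherian_submodule.mp hnoethB _ hω2
  have h1ne : (1 : Submodule O K) ≠ ⊥ := by
    intro h
    have : (1 : K) ∈ (1 : Submodule O K) := Submodule.one_le.mp le_rfl
    rw [h, Submodule.mem_bot] at this
    exact one_ne_zero this
  have hω0 : ω ≠ ⊥ := fun h => h1ne (eq_bot_iff.mpr (h ▸ hω1))
  have h1fg : (1 : Submodule O K).FG := isNoetherian_submodule.mp hnoethB _ (hω1.trans hω2)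
  -- ω : ω = O
  have hωω : ω / ω = 1 := by
    have := div_div_eq ω hωfg hω0 a ham ha0 1 h1fg h1ne
    rwa [div_one'] at this
  set CK : Submodule O K := ω / B with hCK
  have hCK1 : CK ≤ 1 := by
    rw [← hωω]
    exact div_antitone ω hω2
  have h1B : (1 : Submodule O K) ≤ B := hω1.trans hω2
  -- the three lengths
  have e1 : relLength 1 B = relLength 1 ω + relLength ω B := relLength_add 1 ω B hω1 hω2
  have e2 : relLength ω B = relLength CK 1 := by
    rw [relLength_div ω hωfg hω0 a ham ha0 ω B hω2 hBfg hω0, hωω]
  have e3 : relLength CK B = relLength CK 1 + relLength 1 B := relLength_add CK 1 B hCK1 h1B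
  -- identification of the conductor quotient
  have hcond : ((1 : Submodule O K).colon B) • (⊤ : Submodule O ↥(integralClosure O K)) =
      CK.comap B.subtype := by
    apply le_antisymm
    · rw [Submodule.smul_le]
      intro r hr y _
      rw [Submodule.mem_comap, hCK, Submodule.mem_div_iff_forall_mul_mem]
      intro z hz
      have h2 : r • (y : K) ∈ (1 : Submodule O K) := Submodule.mem_colon.mp hr _ y.2
      obtain ⟨s, hs⟩ := Submodule.mem_one.mp h2
      have h3 : r • ((y : K) * z) ∈ (1 : Submodule O K) :=
        Submodule.mem_colon.mp hr _ (Subalgebra.mul_mem _ y.2 hz)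
      apply hω1
      have : B.subtype (r • y) * z = r • ((y : K) * z) := by
        simp [Algebra.smul_def, mul_assoc]
      rw [this]
      exact h3
    · intro y hy
      rw [Submodule.mem_comap] at hy
      have hy1 : (y : K) ∈ (1 : Submodule O K) := hCK1 hy
      obtain ⟨r, hr⟩ := Submodule.mem_one.mp hy1
      have hrC : r ∈ (1 : Submodule O K).colon B := by
        rw [Submodule.mem_colon]
        intro z hz
        apply hCK1
        rw [hCK, Submodule.mem_div_iff_forall_mul_mem]
        intro w hw
        have h4 := Submodule.mem_div_iff_forall_mul_mem.mp hy (z * w) (Subalgebra.mul_mem _ hz hw)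
        have : r • z * w = B.subtype y * (z * w) := by
          show r • z * w = (y : K) * (z * w)
          rw [← hr, Algebra.smul_def, mul_assoc]
        rw [this]
        exact h4
      have : y = r • (1 : ↥(integralClosure O K)) := by
        apply Subtype.ext
        show (y : K) = r • (1 : K)
        rw [← hr, Algebra.smul_def, mul_one]
      rw [this]
      exact Submodule.smul_mem_smul hrC Submodule.mem_top
  have e4 : Module.length O (↥(integralClosure O K) ⧸
      ((1 : Submodule O K).colon B) • (⊤ : Submodule O ↥(integralClosure O K))) =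
      relLength CK B := (Submodule.quotEquivOfEq _ _ hcond).length_eq
  rw [e4]
  show relLength 1 ω + relLength CK B = 2 * relLength 1 B
  rw [e3, e1, e2, two_mul]
  ring

end Main

end Groth.Agent.H75.Canon
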