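import Mathlib

set_option autoImplicit false
universe u

namespace Groth.Agent.H75

open TensorProduct

/-- clearing denominators of a `K`-linear form on `K ⊗ Q` -/
theorem exists_integral_multiple {A : Type u} [CommRing A] [IsDomain A] {Q : Type u} [AddCommGroup Q]
    [Module A Q] [Module.Finite A Q]
    (l : Module.Dual (FractionRing A) (FractionRing A ⊗[A] Q)) :
    ∃ (ψ : Q →ₗ[A] A) (c : A), c ≠ 0 ∧
      ∀ x, algebraMap A (FractionRing A) (ψ x) = c • l ((1 : FractionRing A) ⊗ₜ[A] x) := by
  classical
  let K := FractionRing A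
  let f : Q →ₗ[A] K ⊗[A] Q := TensorProduct.mk A K Q 1
  obtain ⟨S, hS⟩ := (Module.finite_def.mp (inferInstance : Module.Finite A Q))
  obtain ⟨b, hb⟩ := IsLocalization.exist_integer_multiples_of_finset (nonZeroDivisors A)
    (S.image (fun x => l (f x)))
  let ψ₀ : Q →ₗ[A] K := (b : A) • ((l.restrictScalars A) ∘ₗ f)
  have hψ₀ : ∀ x, ψ₀ x = (b : A) • l (f x) := fun x => rfl
  have hrange : ∀ x : Q, ψ₀ x ∈ LinearMap.range (Algebra.linearMap A K) := by
    intro x
    have hx : x ∈ Submodule.span A (S : Set Q) := by rw [hS]; trivial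
    induction hx using Submodule.span_induction with
    | mem y hy =>
      obtain ⟨c, hc⟩ := hb (l (f y)) (Finset.mem_image_of_mem _ hy)
      exact ⟨c, by rw [hψ₀]; exact hc⟩
    | zero => simp
    | add y z _ _ hy hz => rw [map_add]; exact Submodule.add_mem _ hy hz
    | smul r y _ hy => rw [map_smul]; exact Submodule.smul_mem _ r hy
  have hinj : Function.Injective (Algebra.linearMap A K) := IsFractionRing.injective A K
  let e := LinearEquiv.ofInjective (Algebra.linearMap A K) hinj
  let ψ : Q →ₗ[A] A := e.symm.toLinearMap ∘ₗ (ψ₀.codRestrict _ hrange)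
  refine ⟨ψ, (b : A), nonZeroDivisors.ne_zero b.2, ?_⟩
  intro x
  have : e (ψ x) = ψ₀.codRestrict _ hrange x := by
    simp [ψ]
  have h2 := congrArg Subtype.val this
  have h3 : algebraMap A K (ψ x) = ψ₀ x := by simpa [e] using h2
  rw [hψ₀] at h3
  exact h3

/-- a finitely generated torsion-free module over a domain embeds into a finite free module -/
theorem exists_embedding_free {A : Type u} [CommRing A] [IsDomain A] {Q : Type u} [AddCommGroup Q]
    [Module A Q] [Module.Finite A Q] [NoZeroSMulDivisors A Q] :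
    ∃ (n : ℕ) (j : Q →ₗ[A] (Fin n → A)), Function.Injective j := by
  classical
  let K := FractionRing A
  let V := K ⊗[A] Q
  let n := Module.finrank K V
  let b : Module.Basis (Fin n) K V := Module.finBasis K V
  choose ψ c hc hψ using fun i : Fin n => exists_integral_multiple (A := A) (Q := Q) (b.coord i)
  refine ⟨n, LinearMap.pi ψ, ?_⟩
  rw [← LinearMap.ker_eq_bot, LinearMap.ker_eq_bot']
  intro x hx
  have hinjK : Function.Injective (algebraMap A K) := IsFractionRing.injective A K
  have h1 : ∀ i, b.coord i ((1 : K) ⊗ₜ[A] x) = 0 := by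
    intro i
    have h2 : ψ i x = 0 := congrFun hx i
    have h3 := hψ i x
    rw [h2, map_zero] at h3
    have hcK : algebraMap A K (c i) ≠ 0 := fun h => hc i (hinjK (by rw [h, map_zero]))
    rw [Algebra.smul_def] at h3
    exact (mul_eq_zero.mp h3.symm).resolve_left hcK
  have h4 : ((1 : K) ⊗ₜ[A] x : V) = 0 := by
    apply b.ext_elem
    intro i
    rw [map_zero, Finsupp.zero_apply]
    exact h1 i
  obtain ⟨s, hs⟩ := (IsLocalizedModule.eq_zero_iff (nonZeroDivisors A)
    (TensorProduct.mk A K Q 1)).mp h4
  have hs0 : (s : A) ≠ 0 := nonZeroDivisors.ne_zero s.2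
  exact (smul_eq_zero.mp hs).resolve_left hs0

end Groth.Agent.H75
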