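import Mathlib
import Groth.Agent.H75.TFEmbed

set_option autoImplicit false
universe u

namespace Groth.Agent.H75

open TensorProduct

/-- a finitely generated torsion-free module over a domain embeds into a finite free module
with torsion cokernel -/
theorem exists_embedding_free_cofinite {A : Type u} [CommRing A] [IsDomain A] {Q : Type u}
    [AddCommGroup Q] [Module A Q] [Module.Finite A Q] [NoZeroSMulDivisors A Q] :
    ∃ (n : ℕ) (j : Q →ₗ[A] (Fin n → A)) (a : A), Function.Injective j ∧ a ≠ 0 ∧
      ∀ f : Fin n → A, ∃ q : Q, j q = a • f := by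
  classical
  let K := FractionRing A
  let V := K ⊗[A] Q
  let n := Module.finrank K V
  let b : Module.Basis (Fin n) K V := Module.finBasis K V
  choose ψ c hc hψ using fun i : Fin n => exists_integral_multiple (A := A) (Q := Q) (b.coord i)
  have hinjK : Function.Injective (algebraMap A K) := IsFractionRing.injective A K
  have hinj : Function.Injective (LinearMap.pi ψ) := by
    rw [← LinearMap.ker_eq_bot, LinearMap.ker_eq_bot']
    intro x hx
    have h1 : ∀ i, b.coord i ((1 : K) ⊗ₜ[A] x) = 0 := by
      intro i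
      have h2 : ψ i x = 0 := congrFun hx i
      have h3 := hψ i x
      rw [h2, map_zero] at h3
      have hcK : algebraMap A K (c i) ≠ 0 := fun h => hc i (hinjK (by rw [h, map_zero]))
      rw [Algebra.smul_def] at h3
      exact (mul_eq_zero.mp h3.symm).resolve_left hcK
    have h4 : ((1 : K) ⊗ₜ[A] x : V) = 0 := by
      apply b.ext_elem
      intro i
      rw [map_zero, Finsupp.zero_apply]
      exact h1 i
    obtain ⟨s, hs⟩ := (IsLocalizedModule.eq_zero_iff (nonZeroDivisors A)
      (TensorProduct.mk A K Q 1)).mp h4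
    have hs0 : (s : A) ≠ 0 := nonZeroDivisors.ne_zero s.2
    exact (smul_eq_zero.mp hs).resolve_left hs0
  -- preimages of multiples of the basis vectors
  have hsurj : ∀ k : Fin n, ∃ (s : A) (m : Q), s ≠ 0 ∧ (s • b k : V) = (1 : K) ⊗ₜ[A] m := by
    intro k
    obtain ⟨⟨m, s⟩, hms⟩ := IsLocalizedModule.surj (nonZeroDivisors A) (TensorProduct.mk A K Q 1) (b k)
    exact ⟨s, m, nonZeroDivisors.ne_zero s.2, hms⟩
  choose s m hs hsm using hsurj
  have key : ∀ i k, b.coord i ((1 : K) ⊗ₜ[A] m k) = if k = i then algebraMap A K (s k) else 0 := by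
    intro i k
    rw [← hsm k, ← algebraMap_smul K (s k) (b k), map_smul, Module.Basis.coord_apply,
      Module.Basis.repr_self, Finsupp.single_apply, smul_eq_mul]
    split_ifs <;> simp
  have hjm : ∀ k, LinearMap.pi ψ (m k) = (c k * s k) • (Pi.single k (1 : A) : Fin n → A) := by
    intro k
    ext i
    apply hinjK
    rw [LinearMap.pi_apply, hψ i (m k), key, Pi.smul_apply, Pi.single_apply]
    by_cases hik : k = i
    · subst hik
      rw [if_pos rfl, if_pos rfl, Algebra.smul_def, smul_eq_mul, mul_one, map_mul]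
    · have hki : ¬ i = k := fun h => hik h.symm
      rw [if_neg hik, if_neg hki, smul_zero, smul_zero, map_zero]
  refine ⟨n, LinearMap.pi ψ, ∏ k, (c k * s k), hinj,
    Finset.prod_ne_zero_iff.mpr (fun k _ => mul_ne_zero (hc k) (hs k)), ?_⟩
  intro f
  refine ⟨∑ k, (f k * ∏ l ∈ Finset.univ.erase k, (c l * s l)) • m k, ?_⟩
  rw [map_sum]
  simp_rw [map_smul, hjm]
  ext i
  rw [Finset.sum_apply, Finset.sum_eq_single i]
  · simp only [Pi.smul_apply, Pi.single_eq_same, smul_eq_mul, mul_one]
    rw [← Finset.mul_prod_erase Finset.univ (fun l => c l * s l) (Finset.mem_univ i)]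
    ring
  · intro k _ hki
    simp [hki]
  · intro h
    exact absurd (Finset.mem_univ i) h

end Groth.Agent.H75
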