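import Mathlib
import Groth.Agent.H75.CanonIdeal
import Groth.Agent.H75.CanonLength
import Groth.Agent.H75.TFEmbed2

/-! Reflexivity of finitely generated torsion-free modules with respect to a canonical module
over a one-dimensional Noetherian local domain. -/

set_option autoImplicit false
universe u

namespace Groth.Agent.H75.Canon

open CategoryTheory Abelian

section Simple

variable {O : Type*} [CommRing O] [IsLocalRing O] {N : Type*} [AddCommGroup N] [Module O N]

/-- the quotient `(I + Ox)/(I + mx)` is simple when `x ∉ I` (general module version) -/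
theorem isSimpleModule_sup_span' (I : Submodule O N) (x : N) (hx : x ∉ I) :
    x ∉ I ⊔ (IsLocalRing.maximalIdeal O) • Submodule.span O {x} ∧
    IsSimpleModule O (↥(I ⊔ Submodule.span O {x}) ⧸
      (I ⊔ (IsLocalRing.maximalIdeal O) • Submodule.span O {x}).comap
        (I ⊔ Submodule.span O {x}).subtype) := by
  set I₁ := I ⊔ Submodule.span O {x} with hI₁
  set I₂ := I ⊔ (IsLocalRing.maximalIdeal O) • Submodule.span O {x} with hI₂
  have hxI₂ : x ∉ I₂ := by
    intro h
    obtain ⟨i, hi, z, hz, hiz⟩ := Submodule.mem_sup.mp h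
    obtain ⟨μ, hμ, rfl⟩ := Submodule.mem_smul_span_singleton.mp hz
    have hu : IsUnit (1 - μ) := IsLocalRing.isUnit_one_sub_self_of_mem_nonunits μ hμ
    have h1 : (1 - μ) • x = i := by
      rw [sub_smul, one_smul]
      exact sub_eq_of_eq_add hiz.symm
    apply hx
    have h2 : x = (↑hu.unit⁻¹ : O) • i := by
      rw [← h1, smul_smul, IsUnit.val_inv_mul, one_smul]
    rw [h2]
    exact I.smul_mem _ hi
  refine ⟨hxI₂, ?_⟩
  have hxI₁ : x ∈ I₁ := Submodule.mem_sup_right (Submodule.mem_span_singleton_self x)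
  set Q := ↥I₁ ⧸ I₂.comap I₁.subtype with hQ
  let xbar : Q := Submodule.Quotient.mk ⟨x, hxI₁⟩
  let f : O →ₗ[O] Q := LinearMap.toSpanSingleton O Q xbar
  have hf : ∀ r : O, f r = Submodule.Quotient.mk (r • (⟨x, hxI₁⟩ : ↥I₁)) := fun r => rfl
  have hsurj : Function.Surjective f := by
    intro q
    induction q using Submodule.Quotient.induction_on with
    | H z =>
      obtain ⟨i, hi, w, hw, hiw⟩ := Submodule.mem_sup.mp z.2
      obtain ⟨r, rfl⟩ := Submodule.mem_span_singleton.mp hw
      refine ⟨r, ?_⟩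
      rw [hf, Submodule.Quotient.eq, Submodule.mem_comap]
      have : ((r • (⟨x, hxI₁⟩ : ↥I₁) - z : ↥I₁) : N) = -i := by
        rw [Submodule.coe_sub, Submodule.coe_smul, ← hiw]
        simp
      rw [Submodule.coe_subtype, this]
      exact Submodule.neg_mem _ (Submodule.mem_sup_left hi)
  have hker : LinearMap.ker f = IsLocalRing.maximalIdeal O := by
    apply le_antisymm
    · intro r hr
      by_contra hrm
      have hu : IsUnit r := by
        by_contra hnu
        exact hrm ((IsLocalRing.mem_maximalIdeal r).mpr hnu)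
      rw [LinearMap.mem_ker, hf, Submodule.Quotient.mk_eq_zero, Submodule.mem_comap] at hr
      have h3 : r • x ∈ I₂ := hr
      apply hxI₂
      have : x = (↑hu.unit⁻¹ : O) • (r • x) := by
        rw [smul_smul, IsUnit.val_inv_mul, one_smul]
      rw [this]
      exact I₂.smul_mem _ h3
    · intro r hr
      rw [LinearMap.mem_ker, hf, Submodule.Quotient.mk_eq_zero, Submodule.mem_comap]
      show r • x ∈ I₂
      exact Submodule.mem_sup_right
        (Submodule.smul_mem_smul hr (Submodule.mem_span_singleton_self x))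
  let e : Q ≃ₗ[O] O ⧸ IsLocalRing.maximalIdeal O :=
    (LinearMap.quotKerEquivOfSurjective f hsurj).symm ≪≫ₗ Submodule.quotEquivOfEq _ _ hker
  exact isSimpleModule_iff_quot_maximal.mpr ⟨_, inferInstance, ⟨e⟩⟩

end Simple

section Homothety

variable {O : Type u} [CommRing O] [IsDomain O] {K : Type u} [Field K] [Algebra O K]
  [IsFractionRing O K] [IsLocalRing O] [IsNoetherianRing O] [Ring.KrullDimLE 1 O]

/-- endomorphisms of a canonical ideal are homotheties -/
theorem exists_smul_eq (ω : Submodule O K) (hωfg : ω.FG) (hω0 : ω ≠ ⊥)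
    [HasInjectiveDimensionLT (ModuleCat.of O ↥ω) 2]
    (a : O) (ham : a ∈ IsLocalRing.maximalIdeal O) (ha0 : a ≠ 0) (φ : ↥ω →ₗ[O] ↥ω) :
    ∃ r : O, ∀ w : ↥ω, φ w = r • w := by
  obtain ⟨y, hy⟩ := exists_mul_eq ω hω0 (ω.subtype ∘ₗ φ)
  have h1fg : (1 : Submodule O K).FG := by
    rw [Submodule.one_eq_span]; exact Submodule.fg_span_singleton 1
  have h1ne : (1 : Submodule O K) ≠ ⊥ := by
    intro h
    have : (1 : K) ∈ (1 : Submodule O K) := Submodule.one_le.mp le_rfl
    rw [h, Submodule.mem_bot] at this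
    exact one_ne_zero this
  have h2 := div_div_eq ω hωfg hω0 a ham ha0 1 h1fg h1ne
  rw [div_one'] at h2
  have h3 : y ∈ ω / ω := by
    rw [Submodule.mem_div_iff_forall_mul_mem]
    intro z hz
    have := hy ⟨z, hz⟩
    simp only [LinearMap.coe_comp, Submodule.coe_subtype, Function.comp_apply] at this
    rw [← this]
    exact (φ ⟨z, hz⟩).2
  rw [h2] at h3
  obtain ⟨r, hr⟩ := Submodule.mem_one.mp h3
  refine ⟨r, fun w => Subtype.ext ?_⟩
  have := hy w
  simp only [LinearMap.coe_comp, Submodule.coe_subtype, Function.comp_apply] at this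
  rw [this, ← hr, Submodule.coe_smul, Algebra.smul_def]

end Homothety

theorem free_reflexive {R : Type u} [CommRing R] {W : Type u} [AddCommGroup W] [Module R W]
    (hW : ∀ φ : W →ₗ[R] W, ∃ r : R, ∀ w, φ w = r • w) (n : ℕ)
    (ζ : ((Fin n → R) →ₗ[R] W) →ₗ[R] W) : ∃ f : Fin n → R, ∀ φ, ζ φ = φ f := by
  classical
  choose r hr using fun i : Fin n =>
    hW (ζ ∘ₗ (LinearMap.smulRightₗ (LinearMap.proj i : (Fin n → R) →ₗ[R] R)))
  refine ⟨r, fun φ => ?_⟩
  have hφ : φ = ∑ i, (LinearMap.proj i : (Fin n → R) →ₗ[R] R).smulRight (φ (Pi.single i 1)) := by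
    ext i
    simp [Finset.sum_apply, Pi.single_apply]
  have h1 : ∀ i, ζ ((LinearMap.proj i : (Fin n → R) →ₗ[R] R).smulRight (φ (Pi.single i 1))) =
      r i • φ (Pi.single i 1) := fun i => hr i (φ (Pi.single i 1))
  conv_lhs => rw [hφ]
  rw [map_sum]
  simp_rw [h1]
  conv_rhs => rw [LinearMap.pi_apply_eq_sum_univ φ r]
  refine Finset.sum_congr rfl (fun i _ => ?_)
  congr 2
  ext j
  simp [Pi.single_apply, eq_comm]


theorem noZeroSMulDivisors_linearMap {R X W : Type*} [CommRing R] [AddCommGroup X] [Module R X]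
    [AddCommGroup W] [Module R W] [NoZeroSMulDivisors R W] : NoZeroSMulDivisors R (X →ₗ[R] W) :=
  ⟨fun {c f} h => by
    by_cases hc : c = 0
    · exact Or.inl hc
    · right
      ext x
      have h1 := LinearMap.congr_fun h x
      rw [LinearMap.smul_apply, LinearMap.zero_apply] at h1
      exact (eq_zero_or_eq_zero_of_smul_eq_zero h1).resolve_left hc⟩

section Refl

variable {O : Type u} [CommRing O] [IsDomain O] [IsLocalRing O] [IsNoetherianRing O]
  [Ring.KrullDimLE 1 O] {W : Type u} [AddCommGroup W] [Module O W] [Module.Finite O W]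
  [Nontrivial W] [NoZeroSMulDivisors O W] [HasInjectiveDimensionLT (ModuleCat.of O W) 2]

theorem reflexive (hW : ∀ φ : W →ₗ[O] W, ∃ r : O, ∀ w, φ w = r • w)
    (a₀ : O) (ham : a₀ ∈ IsLocalRing.maximalIdeal O) (ha₀ : a₀ ≠ 0)
    (M : Type u) [AddCommGroup M] [Module O M] [Module.Finite O M] [NoZeroSMulDivisors O M] :
    Function.Bijective (LinearMap.applyₗ : M →ₗ[O] (M →ₗ[O] W) →ₗ[O] W) := by
  classical
  obtain ⟨n, j, a, hj, ha, hja⟩ := exists_embedding_free_cofinite (A := O) (Q := M)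
  -- the quasi-inverse `G`
  choose mm hmm using fun i : Fin n => hja (Pi.single i 1)
  let G : (Fin n → O) →ₗ[O] M := Fintype.linearCombination O mm
  have hG : ∀ f, G f = ∑ i, f i • mm i := fun f => Fintype.linearCombination_apply O mm f
  have hjG : ∀ f, j (G f) = a • f := by
    intro f
    rw [hG, map_sum]
    simp_rw [map_smul, hmm]
    ext i
    rw [Finset.sum_apply, Finset.sum_eq_single i]
    · simp [mul_comm]
    · intro k _ hki
      simp [hki.symm]
    · intro h
      exact absurd (Finset.mem_univ i) h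
  have hGj : ∀ m, G (j m) = a • m := by
    intro m
    apply hj
    rw [hjG, map_smul]
  obtain ⟨w₀, hw₀⟩ := exists_ne (0 : W)
  set ev : M →ₗ[O] (M →ₗ[O] W) →ₗ[O] W := LinearMap.applyₗ with hev
  have hev_apply : ∀ m φ, ev m φ = φ m := fun m φ => rfl
  -- injectivity
  have hinj : Function.Injective ev := by
    rw [← LinearMap.ker_eq_bot, LinearMap.ker_eq_bot']
    intro m hm
    apply hj
    rw [map_zero]
    ext i
    have h1 := LinearMap.congr_fun hm
      (((LinearMap.proj i : (Fin n → O) →ₗ[O] O) ∘ₗ j).smulRight w₀)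
    rw [hev_apply] at h1
    simp only [LinearMap.smulRight_apply, LinearMap.coe_comp, Function.comp_apply,
      LinearMap.proj_apply, LinearMap.zero_apply] at h1
    exact (smul_eq_zero.mp h1).resolve_right hw₀
  -- torsion cokernel
  have htors : ∀ ξ : (M →ₗ[O] W) →ₗ[O] W, ∃ m, a • ξ = ev m := by
    intro ξ
    obtain ⟨f, hf⟩ := free_reflexive hW n (ξ ∘ₗ LinearMap.lcomp O W j)
    refine ⟨G f, ?_⟩
    ext φ
    rw [LinearMap.smul_apply, hev_apply, ← map_smul]
    have h1 : a • φ = LinearMap.lcomp O W j (φ ∘ₗ G) := by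
      ext m
      simp [hGj]
    rw [h1]
    have h2 := hf (φ ∘ₗ G)
    simpa using h2
  refine ⟨hinj, ?_⟩
  -- surjectivity
  intro ξ
  by_contra hξ
  set E : Submodule O ((M →ₗ[O] W) →ₗ[O] W) := LinearMap.range ev with hE
  have hξE : ξ ∉ E := fun ⟨m, hm⟩ => hξ ⟨m, hm⟩
  obtain ⟨hξI₂, hsimple⟩ := isSimpleModule_sup_span' E ξ hξE
  set I₁ := E ⊔ Submodule.span O {ξ} with hI₁
  set I₂ := E ⊔ (IsLocalRing.maximalIdeal O) • Submodule.span O {ξ} with hI₂
  have h21 : I₂ ≤ I₁ := sup_le_sup_left Submodule.smul_le_right _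
  have : NoZeroSMulDivisors O (M →ₗ[O] W) := noZeroSMulDivisors_linearMap
  have : NoZeroSMulDivisors O ((M →ₗ[O] W) →ₗ[O] W) := noZeroSMulDivisors_linearMap
  have : NoZeroSMulDivisors O ↥I₁ :=
    Function.Injective.noZeroSMulDivisors I₁.subtype (Submodule.subtype_injective _) (map_zero _)
      (fun c x => map_smul _ c x)
  obtain ⟨n', j', hj'⟩ := exists_embedding_free (A := O) (Q := ↥I₁)
  have hrange : LinearMap.range (Submodule.inclusion h21) = I₂.comap I₁.subtype :=
    Submodule.range_inclusion I₂ I₁ h21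
  have hsimple' : IsSimpleModule O (↥I₁ ⧸ LinearMap.range (Submodule.inclusion h21)) := by
    rw [hrange]; exact hsimple
  obtain ⟨φ, hφ⟩ := exists_hom_not_extending (W := W) a₀ ham (mem_nonZeroDivisors_of_ne_zero ha₀)
    (Submodule.inclusion h21) (Submodule.inclusion_injective h21) j' hj' hsimple'
  have hEI₂ : ∀ m, ev m ∈ I₂ := fun m => Submodule.mem_sup_left ⟨m, rfl⟩
  let φ₀ : M →ₗ[O] W := φ ∘ₗ (ev.codRestrict I₂ hEI₂)
  let ψ : ((M →ₗ[O] W) →ₗ[O] W) →ₗ[O] W := LinearMap.applyₗ φ₀
  apply hφ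
  refine ⟨ψ ∘ₗ I₁.subtype, ?_⟩
  ext z
  obtain ⟨m, hm⟩ := htors (z : (M →ₗ[O] W) →ₗ[O] W)
  have h1 : a • ψ (z : (M →ₗ[O] W) →ₗ[O] W) = a • φ z := by
    rw [← map_smul, hm]
    change (ev m) φ₀ = a • φ z
    rw [hev_apply, ← map_smul]
    change φ (ev.codRestrict I₂ hEI₂ m) = φ (a • z)
    congr 1
    apply Subtype.ext
    rw [LinearMap.codRestrict_apply, ← hm]
    rfl
  exact smul_right_injective W ha h1

end Refl


end Groth.Agent.H75.Canon
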