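import Mathlib
import Groth.Agent.H75.CanonRefl
import Groth.Agent.H75.OneDimLattice
import Groth.Agent.H2.GorensteinCM

set_option autoImplicit false
universe u

namespace Groth.Agent.H75.GorLat

open TensorProduct CategoryTheory

variable {O : Type u} [CommRing O] [IsDomain O] {K : Type u} [Field K] [Algebra O K]
  [IsFractionRing O K]

/-- the dot product as an `O`-bilinear map on `K^n` -/
noncomputable def dotB (n : ℕ) : (Fin n → K) →ₗ[O] (Fin n → K) →ₗ[O] K :=
  LinearMap.mk₂ O (fun y x => ∑ i, y i * x i)
    (fun y y' x => by simp [add_mul, Finset.sum_add_distrib])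
    (fun c y x => by simp [Finset.mul_sum, Algebra.smul_def, mul_assoc])
    (fun y x x' => by simp [mul_add, Finset.sum_add_distrib])
    (fun c y x => by
      simp only [Pi.smul_apply, Algebra.smul_def, Finset.mul_sum]
      exact Finset.sum_congr rfl (fun i _ => by ring))

theorem dotB_apply (n : ℕ) (y x : Fin n → K) : dotB (O := O) n y x = ∑ i, y i * x i := rfl

/-- the dual lattice -/
noncomputable def dualLat (n : ℕ) (N' : Submodule O (Fin n → K)) : Submodule O (Fin n → K) where
  carrier := {y | ∀ x ∈ N', dotB (O := O) n y x ∈ (1 : Submodule O K)}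
  add_mem' := fun {y y'} hy hy' x hx => by
    rw [map_add, LinearMap.add_apply]
    exact Submodule.add_mem _ (hy x hx) (hy' x hx)
  zero_mem' := fun x _ => by
    rw [map_zero, LinearMap.zero_apply]
    exact Submodule.zero_mem _
  smul_mem' := fun c y hy x hx => by
    rw [map_smul, LinearMap.smul_apply]
    exact Submodule.smul_mem _ c (hy x hx)

theorem mem_dualLat (n : ℕ) (N' : Submodule O (Fin n → K)) (y : Fin n → K) :
    y ∈ dualLat n N' ↔ ∀ x ∈ N', dotB (O := O) n y x ∈ (1 : Submodule O K) := Iff.rfl

/-- the dual lattice represents the dual module -/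
theorem nonempty_dualLat_equiv (n : ℕ) (N' : Submodule O (Fin n → K))
    (h1 : Submodule.pi Set.univ (fun _ : Fin n => (1 : Submodule O K)) ≤ N') :
    Nonempty (↥(dualLat n N') ≃ₗ[O] (↥N' →ₗ[O] O)) := by
  classical
  have hinjK : Function.Injective (algebraMap O K) := IsFractionRing.injective O K
  have hinj : Function.Injective (Algebra.linearMap O K) := hinjK
  -- standard vectors lie in N'
  have he : ∀ i : Fin n, (Pi.single i (1 : K) : Fin n → K) ∈ N' := by
    intro i
    apply h1
    rw [Submodule.mem_pi]
    intro k _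
    by_cases hk : k = i
    · subst hk
      rw [Pi.single_eq_same]
      exact Submodule.one_le.mp le_rfl
    · rw [Pi.single_eq_of_ne hk]
      exact Submodule.zero_mem _
  have hdot_single : ∀ (y : Fin n → K) (i : Fin n), dotB (O := O) n y (Pi.single i 1) = y i := by
    intro y i
    rw [dotB_apply, Finset.sum_eq_single i]
    · simp
    · intro k _ hk
      simp [hk]
    · intro h
      exact absurd (Finset.mem_univ i) h
  let Ψ : ↥(dualLat n N') →ₗ[O] (↥N' →ₗ[O] K) := (dotB (O := O) n).domRestrict₁₂ (dualLat n N') N'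
  have hΨ : ∀ (y : ↥(dualLat n N')) (x : ↥N'), Ψ y x = dotB (O := O) n y x := fun y x => rfl
  let J : (↥N' →ₗ[O] O) →ₗ[O] (↥N' →ₗ[O] K) := LinearMap.llcomp O ↥N' O K (Algebra.linearMap O K)
  have hJ : ∀ (φ : ↥N' →ₗ[O] O) (x : ↥N'), J φ x = algebraMap O K (φ x) := fun φ x => rfl
  have hΨinj : Function.Injective Ψ := by
    rw [← LinearMap.ker_eq_bot, LinearMap.ker_eq_bot']
    intro y hy
    apply Subtype.ext
    ext i
    have := LinearMap.congr_fun hy ⟨_, he i⟩
    rw [hΨ, hdot_single] at this
    exact this
  have hJinj : Function.Injective J := by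
    intro φ φ' h
    ext x
    apply hinjK
    have := LinearMap.congr_fun h x
    rwa [hJ, hJ] at this
  have hrange : LinearMap.range Ψ = LinearMap.range J := by
    apply le_antisymm
    · rintro _ ⟨y, rfl⟩
      let eO := LinearEquiv.ofInjective (Algebra.linearMap O K) hinj
      have hmem : ∀ x : ↥N', Ψ y x ∈ LinearMap.range (Algebra.linearMap O K) := by
        intro x
        rw [← Submodule.one_eq_range]
        exact y.2 x x.2
      refine ⟨eO.symm.toLinearMap ∘ₗ (Ψ y).codRestrict _ hmem, ?_⟩
      ext x
      rw [hJ]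
      have h1 : eO (eO.symm ((Ψ y).codRestrict _ hmem x)) = (Ψ y).codRestrict _ hmem x :=
        eO.apply_symm_apply _
      exact congrArg Subtype.val h1
    · rintro _ ⟨φ, rfl⟩
      let y : Fin n → K := fun i => algebraMap O K (φ ⟨_, he i⟩)
      have key : ∀ x : ↥N', dotB (O := O) n y x = algebraMap O K (φ x) := by
        intro x
        obtain ⟨b, hb⟩ := IsLocalization.exist_integer_multiples (nonZeroDivisors O)
          (Finset.univ : Finset (Fin n)) (x : Fin n → K)
        choose r hr using fun i => hb i (Finset.mem_univ i)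
        have hbK : algebraMap O K b ≠ 0 := fun h =>
          nonZeroDivisors.ne_zero b.2 (hinjK (by rw [h, map_zero]))
        have h2 : (b : O) • x = ∑ i, r i • (⟨_, he i⟩ : ↥N') := by
          apply Subtype.ext
          ext k
          rw [Submodule.coe_smul, Submodule.coe_sum, Finset.sum_apply, Pi.smul_apply,
            Finset.sum_eq_single k]
          · rw [Submodule.coe_smul, Pi.smul_apply]
            change (b : O) • (x : Fin n → K) k = r k • (Pi.single k (1 : K) : Fin n → K) k
            rw [Pi.single_eq_same, Algebra.smul_def (r k), mul_one, hr k]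
          · intro i _ hik
            rw [Submodule.coe_smul, Pi.smul_apply]
            change r i • (Pi.single i (1 : K) : Fin n → K) k = 0
            rw [Pi.single_eq_of_ne hik.symm, smul_zero]
          · intro h
            exact absurd (Finset.mem_univ k) h
        have h3 := congrArg φ h2
        rw [map_smul, map_sum] at h3
        simp_rw [map_smul] at h3
        have h4 := congrArg (algebraMap O K) h3
        rw [smul_eq_mul, map_mul, map_sum] at h4
        apply mul_left_cancel₀ hbK
        rw [h4, dotB_apply, Finset.mul_sum]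
        refine Finset.sum_congr rfl (fun i _ => ?_)
        rw [smul_eq_mul, map_mul, hr i, Algebra.smul_def]
        ring
      have hy : y ∈ dualLat n N' := by
        intro x hx
        rw [key ⟨x, hx⟩]
        exact Submodule.mem_one.mpr ⟨_, rfl⟩
      refine ⟨⟨y, hy⟩, ?_⟩
      ext x
      rw [hΨ, hJ]
      exact key x
  exact ⟨(LinearEquiv.ofInjective Ψ hΨinj).trans ((LinearEquiv.ofEq _ _ hrange).trans
    (LinearEquiv.ofInjective J hJinj).symm)⟩

/-- the rank of a full lattice -/
theorem finrank_tensor_of_lattice (n : ℕ) (L : Submodule O (Fin n → K)) (c : O) (hc : c ≠ 0)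
    (hcL : ∀ y : Fin n → K, (∀ i, y i ∈ (1 : Submodule O K)) → c • y ∈ L) :
    Module.finrank K (K ⊗[O] ↥L) = n := by
  classical
  have hinjK : Function.Injective (algebraMap O K) := IsFractionRing.injective O K
  have hloc : IsLocalizedModule (nonZeroDivisors O) L.subtype := by
    refine ⟨?_, ?_, ?_⟩
    · intro s
      have hs : algebraMap O K s ≠ 0 := fun h =>
        nonZeroDivisors.ne_zero s.2 (hinjK (by rw [h, map_zero]))
      rw [Module.End.isUnit_iff]
      constructor
      · intro y y' h
        have h1 : (s : O) • y = (s : O) • y' := h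
        ext i
        have h2 := congrFun h1 i
        simp only [Pi.smul_apply, Algebra.smul_def] at h2
        exact mul_left_cancel₀ hs h2
      · intro y
        refine ⟨(algebraMap O K s)⁻¹ • y, ?_⟩
        change (s : O) • ((algebraMap O K s)⁻¹ • y) = y
        ext i
        rw [Pi.smul_apply, Pi.smul_apply, smul_eq_mul, Algebra.smul_def, mul_inv_cancel_left₀ hs]
    · intro y
      obtain ⟨b, hb⟩ := IsLocalization.exist_integer_multiples (nonZeroDivisors O)
        (Finset.univ : Finset (Fin n)) y
      have hmem : c • ((b : O) • y) ∈ L := by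
        apply hcL
        intro i
        obtain ⟨r, hr⟩ := hb i (Finset.mem_univ i)
        exact Submodule.mem_one.mpr ⟨r, hr⟩
      refine ⟨(⟨c • ((b : O) • y), hmem⟩, ⟨c * b, mul_mem (mem_nonZeroDivisors_of_ne_zero hc) b.2⟩), ?_⟩
      change (c * (b : O)) • y = c • ((b : O) • y)
      rw [mul_smul]
    · intro x₁ x₂ h
      exact ⟨1, by rw [Subtype.ext h]⟩
  have hbc : IsBaseChange K L.subtype := IsLocalizedModule.isBaseChange (nonZeroDivisors O) K _
  rw [hbc.equiv.finrank_eq, Module.finrank_fin_fun]


/-- Gorenstein case: lattices between `C^n` and `O^n` -/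
theorem exists_lattice_gorenstein (O : Type u) [CommRing O] [IsDomain O]
    [LocCoh.IsGorensteinLocalRing O] (hdim : ringKrullDim O = 1)
    [Infinite (IsLocalRing.ResidueField O)] (K : Type u) [Field K] [Algebra O K]
    [IsFractionRing O K] (hfin : Module.Finite O ↥(integralClosure O K))
    (M : Type u) [AddCommGroup M] [Module O M] [Module.Finite O M] [NoZeroSMulDivisors O M] (n : ℕ)
    (hn : Module.finrank K (K ⊗[O] M) = n) :
    ∃ M'' : Submodule O (Fin n → K),
      Submodule.pi Set.univ (fun _ : Fin n =>
        (((1 : Submodule O K).colon (Subalgebra.toSubmodule (integralClosure O K))) •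
          (1 : Submodule O K))) ≤ M'' ∧
      M'' ≤ Submodule.pi Set.univ (fun _ : Fin n => (1 : Submodule O K)) ∧
      Nonempty (M ≃ₗ[O] ↥M'') := by
  classical
  have hinjO : HasInjectiveDimensionLT (ModuleCat.of O O) 2 :=
    Groth.Agent.H2.GorensteinCM.hasInjectiveDimensionLT_of_ringKrullDim O 1 (by rw [hdim]; rfl)
  have hKD : Ring.KrullDimLE 1 O := Ring.krullDimLE_iff.mpr (by simp [hdim])
  obtain ⟨a, ham, ha0⟩ := OneDim.exists_ne_zero_mem_maximalIdeal O hdim
  have hW : ∀ φ : O →ₗ[O] O, ∃ r : O, ∀ w, φ w = r • w := fun φ => ⟨φ 1, fun w => by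
    rw [smul_eq_mul, mul_comm, ← smul_eq_mul, ← map_smul, smul_eq_mul, mul_one]⟩
  have hrefl := Canon.reflexive (W := O) hW a ham ha0 M
  let e₁ : M ≃ₗ[O] ((M →ₗ[O] O) →ₗ[O] O) := LinearEquiv.ofBijective _ hrefl
  have : NoZeroSMulDivisors O (M →ₗ[O] O) := Canon.noZeroSMulDivisors_linearMap
  obtain ⟨N', h1N', hN'2, ⟨eN⟩⟩ := OneDim.exists_lattice O K hdim hfin (M →ₗ[O] O)
    (Module.finrank K (K ⊗[O] (M →ₗ[O] O))) rfl
  generalize Module.finrank K (K ⊗[O] (M →ₗ[O] O)) = n' at N' h1N' hN'2 eN
  obtain ⟨e₂⟩ := nonempty_dualLat_equiv n' N' h1N'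
  let e : M ≃ₗ[O] ↥(dualLat n' N') :=
    e₁.trans ((LinearEquiv.congrLeft O O eN).trans e₂.symm)
  -- the conductor
  set C : Ideal O := (1 : Submodule O K).colon (Subalgebra.toSubmodule (integralClosure O K)) with hC
  have hBfg : (Subalgebra.toSubmodule (integralClosure O K)).FG := by
    have : Module.Finite O ↥(Subalgebra.toSubmodule (integralClosure O K)) := hfin
    exact Module.Finite.iff_fg.mp this
  obtain ⟨c, hc0, hc⟩ := Canon.exists_denominator (Subalgebra.toSubmodule (integralClosure O K)) hBfg
  have hcC : c ∈ C := by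
    rw [hC, Submodule.mem_colon]
    intro x hx
    obtain ⟨r, hr⟩ := hc x hx
    exact Submodule.mem_one.mpr ⟨r, hr⟩
  have hCmul : ∀ z ∈ C • (1 : Submodule O K),
      ∀ w ∈ Subalgebra.toSubmodule (integralClosure O K), z * w ∈ (1 : Submodule O K) := by
    intro z hz w hw
    refine Submodule.smul_induction_on (p := fun z => z * w ∈ (1 : Submodule O K)) hz ?_ ?_
    · intro r hr u hu
      obtain ⟨s, rfl⟩ := Submodule.mem_one.mp hu
      have h1 : r • w ∈ (1 : Submodule O K) := (Submodule.mem_colon.mp hr) w hw
      have h2 : r • (algebraMap O K s) * w = s • (r • w) := by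
        simp only [Algebra.smul_def]; ring
      rw [h2]
      exact Submodule.smul_mem _ _ h1
    · intro x y hx hy
      rw [add_mul]
      exact Submodule.add_mem _ hx hy
  have he : ∀ i : Fin n', (Pi.single i (1 : K) : Fin n' → K) ∈ N' := by
    intro i
    apply h1N'
    rw [Submodule.mem_pi]
    intro k _
    by_cases hk : k = i
    · subst hk
      rw [Pi.single_eq_same]
      exact Submodule.one_le.mp le_rfl
    · rw [Pi.single_eq_of_ne hk]
      exact Submodule.zero_mem _
  have hlow : Submodule.pi Set.univ (fun _ : Fin n' => (C • (1 : Submodule O K))) ≤ dualLat n' N' := by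
    intro y hy x hx
    rw [dotB_apply]
    refine Submodule.sum_mem _ (fun i _ => ?_)
    have hyi : y i ∈ C • (1 : Submodule O K) := (Submodule.mem_pi.mp hy) i (Set.mem_univ i)
    have hxi : x i ∈ Subalgebra.toSubmodule (integralClosure O K) :=
      (Submodule.mem_pi.mp (hN'2 hx)) i (Set.mem_univ i)
    exact hCmul _ hyi _ hxi
  have hup : dualLat n' N' ≤ Submodule.pi Set.univ (fun _ : Fin n' => (1 : Submodule O K)) := by
    intro y hy
    rw [Submodule.mem_pi]
    intro i _
    have h1 := hy _ (he i)
    rw [dotB_apply, Finset.sum_eq_single i] at h1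
    · simpa using h1
    · intro k _ hk
      simp [hk]
    · intro h
      exact absurd (Finset.mem_univ i) h
  have hrank : n' = n := by
    rw [← hn, (LinearEquiv.baseChange O K M ↥(dualLat n' N') e).finrank_eq]
    refine (finrank_tensor_of_lattice n' (dualLat n' N') c hc0 ?_).symm
    intro y hy
    apply hlow
    rw [Submodule.mem_pi]
    intro i _
    rw [Pi.smul_apply]
    exact Submodule.smul_mem_smul hcC (hy i)
  subst hrank
  exact ⟨dualLat n' N', hlow, hup, ⟨e⟩⟩

end Groth.Agent.H75.GorLat
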