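import Mathlib

set_option autoImplicit false
universe u

namespace Groth.Agent.H75

theorem lattice_map_matrix (O : Type u) [CommRing O] [IsDomain O] (K : Type u) [Field K] [Algebra O K]
    [IsFractionRing O K] (n : ℕ) (M N : Submodule O (Fin n → K))
    (hM1 : Submodule.pi Set.univ (fun _ : Fin n => (1 : Submodule O K)) ≤ M)
    (hN2 : N ≤ Submodule.pi Set.univ (fun _ : Fin n => (Subalgebra.toSubmodule (integralClosure O K))))
    (φ : ↥M →ₗ[O] ↥N) :
    ∃ A : Matrix (Fin n) (Fin n) ↥(integralClosure O K),
      ∀ x : ↥M, ((φ x : ↥N) : Fin n → K) =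
        (A.map (algebraMap ↥(integralClosure O K) K)).mulVec (x : Fin n → K) := by
  classical
  have hinj : Function.Injective (algebraMap O K) := IsFractionRing.injective O K
  have hOn : ∀ c : Fin n → O, (fun i => algebraMap O K (c i)) ∈ M := by
    intro c
    apply hM1
    rw [Submodule.mem_pi]
    intro i _
    exact Submodule.mem_one.mpr ⟨c i, rfl⟩
  let e : Fin n → ↥M := fun i => ⟨fun j => algebraMap O K ((Pi.single i (1 : O) : Fin n → O) j), hOn _⟩
  let A : Matrix (Fin n) (Fin n) ↥(integralClosure O K) := fun j i =>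
    ⟨((φ (e i) : ↥N) : Fin n → K) j, by
      have := hN2 (φ (e i)).2
      rw [Submodule.mem_pi] at this
      exact this j (Set.mem_univ j)⟩
  refine ⟨A, ?_⟩
  -- step 1
  have step1 : ∀ c : Fin n → O, ((φ ⟨_, hOn c⟩ : ↥N) : Fin n → K) =
      (A.map (algebraMap ↥(integralClosure O K) K)).mulVec (fun i => algebraMap O K (c i)) := by
    intro c
    have hx : (⟨_, hOn c⟩ : ↥M) = ∑ i, c i • e i := by
      apply Subtype.ext
      funext j
      simp only [Submodule.coe_sum, Submodule.coe_smul, Finset.sum_apply, Pi.smul_apply, e]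
      rw [Finset.sum_eq_single j]
      · simp [Algebra.smul_def]
      · intro b _ hb
        simp [Pi.single_eq_of_ne (Ne.symm hb)]
      · intro h
        exact absurd (Finset.mem_univ j) h
    rw [hx, map_sum]
    funext j
    simp only [map_smul, Submodule.coe_sum, Submodule.coe_smul, Finset.sum_apply, Pi.smul_apply,
      Matrix.mulVec, dotProduct, Matrix.map_apply]
    apply Finset.sum_congr rfl
    intro i _
    rw [Algebra.smul_def, mul_comm]
    rfl
  intro x
  obtain ⟨b, hb⟩ := IsLocalization.exist_integer_multiples_of_finset (nonZeroDivisors O)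
    (Finset.univ.image (fun i => (x : Fin n → K) i))
  have hb0 : algebraMap O K (b : O) ≠ 0 := by
    intro h
    exact nonZeroDivisors.ne_zero b.2 (hinj (by rw [h, map_zero]))
  choose c hc using fun i => hb ((x : Fin n → K) i) (Finset.mem_image_of_mem _ (Finset.mem_univ i))
  have hbx : (b : O) • x = ⟨_, hOn c⟩ := by
    apply Subtype.ext
    funext i
    simp only [Submodule.coe_smul, Pi.smul_apply]
    exact (hc i).symm
  have h1 := step1 c
  rw [← hbx, map_smul] at h1
  have h2 : (fun i => algebraMap O K (c i)) = (b : O) • (x : Fin n → K) := by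
    funext i
    exact hc i
  rw [h2, Matrix.mulVec_smul] at h1
  funext j
  have h3 := congrFun h1 j
  simp only [Submodule.coe_smul, Pi.smul_apply, Algebra.smul_def] at h3
  exact mul_left_cancel₀ hb0 h3

end Groth.Agent.H75
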