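import Mathlib

set_option autoImplicit false
universe u

namespace Groth.Agent.H75

open MvPowerSeries Filter Topology
open scoped MvPowerSeries.WithPiTopology

section adictrans

variable {n : ℕ} {A : Type u} [CommRing A] [WithIdeal A]

theorem isTopologicallyNilpotent_of_mem_i {c : A} (hc : c ∈ WithIdeal.i (R := A)) :
    IsTopologicallyNilpotent c := by
  rw [IsTopologicallyNilpotent, (WithIdeal.i (R := A)).hasBasis_nhds_zero_adic.tendsto_right_iff]
  intro N _
  filter_upwards [Filter.eventually_ge_atTop N] with k hk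
  exact Ideal.pow_le_pow_right hk (Ideal.pow_mem_pow hc k)

theorem hasEval_trans (c : Fin n → A) (hc : ∀ i, c i ∈ WithIdeal.i (R := A)) :
    HasEval (fun i => (X i + C (c i) : MvPowerSeries (Fin n) A)) where
  hpow i := by
    apply MvPowerSeries.LinearTopology.isTopologicallyNilpotent_of_constantCoeff
    rw [map_add, constantCoeff_X, zero_add, constantCoeff_C]
    exact isTopologicallyNilpotent_of_mem_i (hc i)
  tendsto_zero := by
    rw [Filter.cofinite_eq_bot]; exact tendsto_bot

theorem hasEval_pt (c : Fin n → A) (hc : ∀ i, c i ∈ WithIdeal.i (R := A)) :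
    HasEval c where
  hpow i := isTopologicallyNilpotent_of_mem_i (hc i)
  tendsto_zero := by
    rw [Filter.cofinite_eq_bot]; exact tendsto_bot

theorem aeval_congr {S : Type*} [CommRing S] [UniformSpace S] [IsUniformAddGroup S]
    [CompleteSpace S] [T2Space S] [IsTopologicalRing S] [IsLinearTopology S S]
    [Algebra A S] [ContinuousSMul A S] {a b : Fin n → S} (h : a = b)
    (ha : HasEval a) (hb : HasEval b) :
    (MvPowerSeries.aeval ha : MvPowerSeries (Fin n) A →ₐ[A] S) = MvPowerSeries.aeval hb := by
  subst h; rfl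

variable [CompleteSpace A] [T2Space A]

/-- translation -/
noncomputable def tr (c : Fin n → A) (hc : ∀ i, c i ∈ WithIdeal.i (R := A)) :
    MvPowerSeries (Fin n) A →ₐ[A] MvPowerSeries (Fin n) A :=
  MvPowerSeries.aeval (hasEval_trans c hc)

theorem continuous_tr (c : Fin n → A) (hc : ∀ i, c i ∈ WithIdeal.i (R := A)) :
    Continuous (tr c hc) := continuous_aeval _

theorem tr_coe (c : Fin n → A) (hc : ∀ i, c i ∈ WithIdeal.i (R := A)) (p : MvPolynomial (Fin n) A) :
    tr c hc (p : MvPowerSeries (Fin n) A) =
      MvPolynomial.aeval (fun i => (X i + C (c i) : MvPowerSeries (Fin n) A)) p :=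
  aeval_coe _ p

theorem tr_X (c : Fin n → A) (hc : ∀ i, c i ∈ WithIdeal.i (R := A)) (i : Fin n) :
    tr c hc (X i) = X i + C (c i) := by
  have := tr_coe c hc (MvPolynomial.X i)
  rwa [MvPolynomial.coe_X, MvPolynomial.aeval_X] at this

theorem tr_C (c : Fin n → A) (hc : ∀ i, c i ∈ WithIdeal.i (R := A)) (r : A) :
    tr c hc (C r) = C r := by
  rw [c_eq_algebraMap, AlgHom.commutes]

theorem tr_comp (c c' : Fin n → A) (hc : ∀ i, c i ∈ WithIdeal.i (R := A))
    (hc' : ∀ i, c' i ∈ WithIdeal.i (R := A)) :
    (tr c' hc').comp (tr c hc) = tr (c + c') (fun i => Ideal.add_mem _ (hc i) (hc' i)) := by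
  have h1 : tr c hc = MvPowerSeries.aeval (hasEval_trans c hc) := rfl
  rw [h1, comp_aeval (hasEval_trans c hc) (continuous_tr c' hc')]
  refine aeval_congr ?_ _ _
  funext i
  show tr c' hc' (X i + C (c i)) = _
  rw [map_add, tr_X, tr_C, Pi.add_apply, map_add]
  ring

theorem tr_zero : tr (0 : Fin n → A) (fun _ => Ideal.zero_mem _) = AlgHom.id A _ := by
  rw [← aeval_unique (ε := AlgHom.id A (MvPowerSeries (Fin n) A)) continuous_id]
  refine aeval_congr ?_ _ _
  funext i
  simp

/-- translation as an automorphism -/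
noncomputable def trEquiv (c : Fin n → A) (hc : ∀ i, c i ∈ WithIdeal.i (R := A)) :
    MvPowerSeries (Fin n) A ≃ₐ[A] MvPowerSeries (Fin n) A :=
  AlgEquiv.ofAlgHom (tr c hc) (tr (-c) (fun i => Ideal.neg_mem_iff _ |>.2 (hc i)))
    (by
      rw [tr_comp]
      have : (-c + c) = 0 := by simp
      rw [← tr_zero]
      exact aeval_congr (by rw [this]) _ _)
    (by
      rw [tr_comp]
      have : (c + -c) = 0 := by simp
      rw [← tr_zero]
      exact aeval_congr (by rw [this]) _ _)

theorem trEquiv_apply (c : Fin n → A) (hc : ∀ i, c i ∈ WithIdeal.i (R := A))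
    (f : MvPowerSeries (Fin n) A) : trEquiv c hc f = tr c hc f := rfl

theorem mvpoly_aeval_sub_mem {S : Type*} [CommRing S] [Algebra A S] (K : Ideal S)
    (a b : Fin n → S) (h : ∀ i, a i - b i ∈ K) (p : MvPolynomial (Fin n) A) :
    MvPolynomial.aeval a p - MvPolynomial.aeval b p ∈ K := by
  rw [← Ideal.Quotient.eq]
  have key : ∀ a' : Fin n → S, Ideal.Quotient.mk K (MvPolynomial.aeval a' p) =
      MvPolynomial.aeval (fun i => Ideal.Quotient.mk K (a' i)) p := by
    intro a'
    exact MvPolynomial.comp_aeval_apply (f := a') (Ideal.Quotient.mkₐ A K) p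
  rw [key a, key b]
  congr 2
  funext i
  exact (Ideal.Quotient.eq).2 (h i)

theorem isClosed_i : IsClosed ((WithIdeal.i (R := A) : Ideal A) : Set A) := by
  have hop : IsOpen ((WithIdeal.i (R := A) : Ideal A) : Set A) := by
    have := (isAdic_iff (J := WithIdeal.i (R := A))).1 rfl
    have h1 := this.1 1
    rwa [pow_one] at h1
  exact AddSubgroup.isClosed_of_isOpen (WithIdeal.i (R := A)).toAddSubgroup hop

/-- the ideal of power series all of whose coefficients lie in `i` -/
noncomputable def coeffIdeal : Ideal (MvPowerSeries (Fin n) A) :=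
  RingHom.ker (MvPowerSeries.map (σ := Fin n) (Ideal.Quotient.mk (WithIdeal.i (R := A))))

theorem mem_coeffIdeal (g : MvPowerSeries (Fin n) A) :
    g ∈ coeffIdeal (n := n) (A := A) ↔ ∀ e, coeff e g ∈ WithIdeal.i (R := A) := by
  rw [coeffIdeal, RingHom.mem_ker, MvPowerSeries.ext_iff]
  simp only [coeff_map, map_zero, Ideal.Quotient.eq_zero_iff_mem]

theorem tr_coeff_sub_mem (c : Fin n → A) (hc : ∀ i, c i ∈ WithIdeal.i (R := A))
    (f : MvPowerSeries (Fin n) A) (e : Fin n →₀ ℕ) :
    coeff e (tr c hc f) - coeff e f ∈ WithIdeal.i (R := A) := by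
  have hclosed : IsClosed {f : MvPowerSeries (Fin n) A |
      coeff e (tr c hc f) - coeff e f ∈ WithIdeal.i (R := A)} :=
    isClosed_i.preimage (((WithPiTopology.continuous_coeff A e).comp (continuous_tr c hc)).sub
      (WithPiTopology.continuous_coeff A e))
  refine DenseRange.induction_on WithPiTopology.denseRange_toMvPowerSeries f hclosed ?_
  intro p
  show coeff e (tr c hc (p : MvPowerSeries (Fin n) A)) - coeff e (p : MvPowerSeries (Fin n) A) ∈ _
  have h1 : (p : MvPowerSeries (Fin n) A) =
      MvPolynomial.aeval (fun i => (X i : MvPowerSeries (Fin n) A)) p := by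
    rw [← subst_coe]
    exact (congrFun subst_self _).symm
  have h2 := mvpoly_aeval_sub_mem (coeffIdeal (n := n) (A := A))
    (fun i => (X i + C (c i) : MvPowerSeries (Fin n) A)) (fun i => X i) (fun i => by
      rw [add_sub_cancel_left, mem_coeffIdeal]
      intro e
      rw [coeff_C]
      split_ifs
      · exact hc i
      · exact Ideal.zero_mem _) p
  rw [← tr_coe c hc, ← h1, mem_coeffIdeal] at h2
  have := h2 e
  rwa [map_sub] at this

theorem continuous_pderiv' (j : Fin n) :
    Continuous (fun f : MvPowerSeries (Fin n) A => pderiv A j f) := by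
  refine continuous_pi fun d => ?_
  have : (fun f : MvPowerSeries (Fin n) A => (pderiv A j f) d) =
      fun f => coeff (d + Finsupp.single j 1) f * ((d j : A) + 1) := by
    funext f
    exact coeff_pderiv f d
  rw [this]
  exact (WithPiTopology.continuous_coeff A _).mul continuous_const

theorem pderiv_tr (c : Fin n → A) (hc : ∀ i, c i ∈ WithIdeal.i (R := A)) (j : Fin n)
    (f : MvPowerSeries (Fin n) A) :
    pderiv A j (tr c hc f) = tr c hc (pderiv A j f) := by
  classical
  have hclosed : IsClosed {f : MvPowerSeries (Fin n) A |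
      pderiv A j (tr c hc f) = tr c hc (pderiv A j f)} :=
    isClosed_eq ((continuous_pderiv' j).comp (continuous_tr c hc))
      ((continuous_tr c hc).comp (continuous_pderiv' j))
  refine DenseRange.induction_on WithPiTopology.denseRange_toMvPowerSeries f hclosed ?_
  intro p
  show pderiv A j (tr c hc (p : MvPowerSeries (Fin n) A)) =
    tr c hc (pderiv A j (p : MvPowerSeries (Fin n) A))
  induction p using MvPolynomial.induction_on with
  | C a =>
    rw [MvPolynomial.coe_C, tr_C, pderiv_C, map_zero]
  | add p q hp hq =>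
    rw [MvPolynomial.coe_add, map_add, map_add, hp, hq, map_add, map_add]
  | mul_X p i hp =>
    have : tr c hc (pderiv A j (X i)) = pderiv A j (X i) := by
      rw [pderiv_X]
      by_cases h : j = i
      · subst h; rw [Pi.single_eq_same, map_one]
      · rw [Pi.single_eq_of_ne (Ne.symm h), map_zero]
    rw [MvPolynomial.coe_mul, MvPolynomial.coe_X, map_mul, tr_X, Derivation.leibniz,
      Derivation.leibniz]
    simp only [smul_eq_mul]
    rw [hp, map_add (pderiv A j), pderiv_C, add_zero, map_add (tr c hc), map_mul, map_mul,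
      tr_X, this]

/-- the constant coefficient as an algebra map -/
noncomputable def constantCoeffA : MvPowerSeries (Fin n) A →ₐ[A] A :=
  { (constantCoeff : MvPowerSeries (Fin n) A →+* A) with
    commutes' := fun r => by
      show constantCoeff (algebraMap A (MvPowerSeries (Fin n) A) r) = r
      rw [← c_eq_algebraMap]
      exact constantCoeff_C (σ := Fin n) (R := A) r }

theorem constantCoeffA_apply (f : MvPowerSeries (Fin n) A) :
    constantCoeffA f = constantCoeff f := rfl

/-- evaluation at a point of `i^n` -/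
noncomputable def evA (c : Fin n → A) (hc : ∀ i, c i ∈ WithIdeal.i (R := A)) :
    MvPowerSeries (Fin n) A →ₐ[A] A :=
  MvPowerSeries.aeval (hasEval_pt c hc)

theorem continuous_evA (c : Fin n → A) (hc : ∀ i, c i ∈ WithIdeal.i (R := A)) :
    Continuous (evA c hc) := continuous_aeval _

theorem evA_X (c : Fin n → A) (hc : ∀ i, c i ∈ WithIdeal.i (R := A)) (i : Fin n) :
    evA c hc (X i) = c i := by
  have := aeval_coe (hasEval_pt c hc) (MvPolynomial.X i : MvPolynomial (Fin n) A)
  rwa [MvPolynomial.coe_X, MvPolynomial.aeval_X] at this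

theorem evA_C (c : Fin n → A) (hc : ∀ i, c i ∈ WithIdeal.i (R := A)) (r : A) :
    evA c hc (C r) = r := by
  rw [c_eq_algebraMap, AlgHom.commutes]; rfl

theorem constantCoeff_tr (c : Fin n → A) (hc : ∀ i, c i ∈ WithIdeal.i (R := A))
    (f : MvPowerSeries (Fin n) A) :
    constantCoeff (tr c hc f) = evA c hc f := by
  have h1 : tr c hc = MvPowerSeries.aeval (hasEval_trans c hc) := rfl
  have h2 := comp_aeval (hasEval_trans c hc) (ε := constantCoeffA (n := n) (A := A))
    (WithPiTopology.continuous_constantCoeff A)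
  have h3 : MvPowerSeries.aeval ((hasEval_trans c hc).map
      (show Continuous (constantCoeffA (n := n) (A := A)) from
        WithPiTopology.continuous_constantCoeff A)) = evA c hc := by
    refine aeval_congr ?_ _ _
    funext i
    show constantCoeff (X i + C (c i)) = c i
    rw [map_add, constantCoeff_X, zero_add, constantCoeff_C]
  rw [h3, ← h1] at h2
  have := DFunLike.congr_fun h2 f
  exact this

theorem evA_sub_constantCoeff_mem (c : Fin n → A) (hc : ∀ i, c i ∈ WithIdeal.i (R := A))
    (f : MvPowerSeries (Fin n) A) :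
    evA c hc f - constantCoeff f ∈ WithIdeal.i (R := A) := by
  have := tr_coeff_sub_mem c hc f 0
  rwa [coeff_zero_eq_constantCoeff_apply, coeff_zero_eq_constantCoeff_apply,
    constantCoeff_tr] at this

theorem hasEval_of_constantCoeff_zero (b : Fin n → MvPowerSeries (Fin n) A)
    (hb : ∀ i, constantCoeff (b i) = 0) : HasEval b where
  hpow i := by
    apply MvPowerSeries.LinearTopology.isTopologicallyNilpotent_of_constantCoeff
    rw [hb i]
    exact IsTopologicallyNilpotent.zero
  tendsto_zero := by
    rw [Filter.cofinite_eq_bot]; exact tendsto_bot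

/-- formal substitution agrees with adic evaluation -/
theorem subst_eq_aeval (b : Fin n → MvPowerSeries (Fin n) A)
    (hb : ∀ i, constantCoeff (b i) = 0) (f : MvPowerSeries (Fin n) A) :
    subst b f = MvPowerSeries.aeval (hasEval_of_constantCoeff_zero b hb) f := by
  have hs : HasSubst b := hasSubst_of_constantCoeff_zero hb
  refine MvPowerSeries.ext fun e => ?_
  have h1 := ((hasSum_aeval (hasEval_of_constantCoeff_zero b hb) f).map (coeff e)
    (WithPiTopology.continuous_coeff A e))
  have hfin := coeff_subst_finite hs f e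
  have h2 : HasSum (fun d => coeff d f • coeff e (d.prod fun s e => (b s) ^ e))
      (∑ᶠ d, coeff d f • coeff e (d.prod fun s e => (b s) ^ e)) := by
    rw [← tsum_eq_finsum (L := SummationFilter.unconditional _) hfin]
    exact (summable_of_hasFiniteSupport hfin).hasSum
  rw [coeff_subst hs]
  refine HasSum.unique h2 ?_
  convert h1 using 1
  funext d
  simp

theorem evA_subst (p : Fin n → A) (hp : ∀ i, p i ∈ WithIdeal.i (R := A))
    (b : Fin n → MvPowerSeries (Fin n) A) (hb : ∀ i, constantCoeff (b i) = 0)
    (hmem : ∀ i, evA p hp (b i) ∈ WithIdeal.i (R := A)) (f : MvPowerSeries (Fin n) A) :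
    evA p hp (subst b f) = evA (fun i => evA p hp (b i)) hmem f := by
  rw [subst_eq_aeval b hb]
  have h2 := comp_aeval (hasEval_of_constantCoeff_zero b hb) (ε := evA p hp) (continuous_evA p hp)
  have h3 : MvPowerSeries.aeval ((hasEval_of_constantCoeff_zero b hb).map (continuous_evA p hp)) =
      evA (fun i => evA p hp (b i)) hmem := aeval_congr rfl _ _
  rw [h3] at h2
  exact DFunLike.congr_fun h2 f

end adictrans

end Groth.Agent.H75
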