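import Mathlib

set_option autoImplicit false
universe u

namespace Groth.Agent.H75

open TensorProduct

variable (A A' N : Type u) [CommRing A] [CommRing A'] [Algebra A A'] [AddCommGroup N] [Module A N]

/-- `n ↦ 1 ⊗ n` -/
noncomputable def amE : N →ₗ[A] A' ⊗[A] N := (TensorProduct.mk A A' N) 1

noncomputable def amD0 : A' ⊗[A] N →ₗ[A] (A' ⊗[A] A') ⊗[A] N :=
  LinearMap.rTensor N (Algebra.TensorProduct.includeLeft : A' →ₐ[A] A' ⊗[A] A').toLinearMap

noncomputable def amD1 : A' ⊗[A] N →ₗ[A] (A' ⊗[A] A') ⊗[A] N :=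
  LinearMap.rTensor N (Algebra.TensorProduct.includeRight : A' →ₐ[A] A' ⊗[A] A').toLinearMap

/-- `b ⊗ ((a ⊗ a') ⊗ n) ↦ (b a) ⊗ (a' ⊗ n)` -/
noncomputable def amMu : A' ⊗[A] ((A' ⊗[A] A') ⊗[A] N) →ₗ[A] A' ⊗[A] (A' ⊗[A] N) :=
  (TensorProduct.assoc A A' A' N).toLinearMap ∘ₗ
    (LinearMap.rTensor N ((LinearMap.rTensor A' (LinearMap.mul' A A')) ∘ₗ
      (TensorProduct.assoc A A' A' A').symm.toLinearMap)) ∘ₗ
    (TensorProduct.assoc A A' (A' ⊗[A] A') N).symm.toLinearMap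

/-- `b ⊗ (a ⊗ n) ↦ (b a) ⊗ n` -/
noncomputable def amS : A' ⊗[A] (A' ⊗[A] N) →ₗ[A] A' ⊗[A] N :=
  (LinearMap.rTensor N (LinearMap.mul' A A')) ∘ₗ (TensorProduct.assoc A A' A' N).symm.toLinearMap

theorem amMu_tmul (b a a' : A') (n : N) :
    amMu A A' N (b ⊗ₜ ((a ⊗ₜ a') ⊗ₜ n)) = (b * a) ⊗ₜ (a' ⊗ₜ n) := by
  simp [amMu]

theorem amS_tmul (b a : A') (n : N) : amS A A' N (b ⊗ₜ (a ⊗ₜ n)) = (b * a) ⊗ₜ n := by
  simp [amS]

theorem amMu_d0 : amMu A A' N ∘ₗ LinearMap.lTensor A' (amD0 A A' N) =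
    LinearMap.lTensor A' (amE A A' N) ∘ₗ amS A A' N := by
  ext b a n
  simp [amD0, amE, amMu_tmul, amS_tmul]

theorem amMu_d1 : amMu A A' N ∘ₗ LinearMap.lTensor A' (amD1 A A' N) = LinearMap.id := by
  ext b a n
  simp [amD1, amMu_tmul]

theorem amD_comp_E : (amD0 A A' N - amD1 A A' N) ∘ₗ amE A A' N = 0 := by
  ext n
  simp [amD0, amD1, amE]

theorem amitsur0_exact [Module.FaithfullyFlat A A'] :
    Function.Exact (amE A A' N) (amD0 A A' N - amD1 A A' N) := by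
  rw [← Module.FaithfullyFlat.lTensor_exact_iff_exact A A']
  intro x
  constructor
  · intro hx
    refine ⟨amS A A' N x, ?_⟩
    have h1 : LinearMap.lTensor A' (amD0 A A' N) x = LinearMap.lTensor A' (amD1 A A' N) x := by
      rw [LinearMap.lTensor_sub, LinearMap.sub_apply, sub_eq_zero] at hx
      exact hx
    have h2 := LinearMap.congr_fun (amMu_d0 A A' N) x
    have h3 := LinearMap.congr_fun (amMu_d1 A A' N) x
    simp only [LinearMap.comp_apply, LinearMap.id_apply] at h2 h3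
    rw [← h2, h1, h3]
  · rintro ⟨y, rfl⟩
    rw [← LinearMap.comp_apply, ← LinearMap.lTensor_comp, amD_comp_E, LinearMap.lTensor_zero,
      LinearMap.zero_apply]

theorem amE_injective [Module.FaithfullyFlat A A'] : Function.Injective (amE A A' N) := by
  rw [← Module.FaithfullyFlat.lTensor_injective_iff_injective A A']
  intro x y hxy
  have hs : amS A A' N ∘ₗ LinearMap.lTensor A' (amE A A' N) = LinearMap.id := by
    ext b n
    simp [amE, amS_tmul]
  have := congrArg (amS A A' N) hxy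
  rw [← LinearMap.comp_apply, ← LinearMap.comp_apply, hs] at this
  exact this

end Groth.Agent.H75
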