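import Mathlib.LinearAlgebra.QuadraticForm.Basic
import Mathlib.Algebra.CharP.Lemmas
import Mathlib.Algebra.CharP.Algebra
import Mathlib.LinearAlgebra.FiniteDimensional.Defs
import Mathlib.RingTheory.Nilpotent.Basic
import Mathlib.Tactic
import Mathlib.LinearAlgebra.Eigenspace.Minpoly
import Mathlib.Algebra.Polynomial.Splits

set_option autoImplicit false
universe u v

namespace Groth.Agent.H75

variable {K : Type u} [Field K] {V : Type v} [AddCommGroup V] [Module K V]

/-- An isometry of an anisotropic quadratic form (char ≠ 2) which is unipotent is trivial. -/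
theorem aniso_unipotent_eq_one (h2 : (2 : K) ≠ 0) (q : QuadraticForm K V) (hq : q.Anisotropic)
    (g : V →ₗ[K] V) (hg : ∀ x : V, q (g x) = q x) (hnil : IsNilpotent (g - 1)) : g = 1 := by
  by_contra hne
  set u : V →ₗ[K] V := g - 1 with hu
  have hu0 : u ≠ 0 := fun h => hne (sub_eq_zero.mp h)
  obtain ⟨n, hn⟩ := hnil
  classical
  have hex : ∃ n, u ^ n = 0 := ⟨n, hn⟩
  let m := Nat.find hex
  have hm : u ^ m = 0 := Nat.find_spec hex
  have hm2 : 2 ≤ m := by
    by_contra hlt
    push Not at hlt
    interval_cases m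
    · have h0 : u ^ 0 = 0 := hm
      rw [pow_zero] at h0
      apply hu0
      calc u = u * 1 := (mul_one u).symm
        _ = u * 0 := by rw [h0]
        _ = 0 := mul_zero u
    · have h1 : u ^ 1 = 0 := hm
      rw [pow_one] at h1
      exact hu0 h1
  have hm1 : u ^ (m - 1) ≠ 0 := Nat.find_min hex (by omega : m - 1 < m)
  obtain ⟨w, hw⟩ : ∃ w, (u ^ (m - 1)) w ≠ 0 := by
    by_contra hall
    push Not at hall
    exact hm1 (LinearMap.ext hall)
  set v := (u ^ (m - 2)) w with hv
  have huv : u v = (u ^ (m - 1)) w := by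
    rw [hv, ← Module.End.mul_apply, ← pow_succ']
    congr 2
    omega
  have huuv : u (u v) = 0 := by
    rw [huv, ← Module.End.mul_apply, ← pow_succ']
    have : m - 1 + 1 = m := by omega
    rw [this, hm]; rfl
  obtain ⟨w', hw'⟩ : ∃ w', u v = w' := ⟨_, rfl⟩
  rw [hw'] at huuv
  have hw'0 : w' ≠ 0 := by rw [← hw', huv]; exact hw
  have hgu : g = u + 1 := by rw [hu]; abel
  have hgv : g v = v + w' := by
    rw [hgu, LinearMap.add_apply, hw', Module.End.one_apply]; abel
  have hgw : g w' = w' := by
    rw [hgu, LinearMap.add_apply, huuv, Module.End.one_apply, zero_add]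
  have hpolar : QuadraticMap.polar q (g v) (g w') = QuadraticMap.polar q v w' := by
    unfold QuadraticMap.polar
    rw [← map_add, hg, hg, hg]
  rw [hgv, hgw, QuadraticMap.polar_add_left, QuadraticMap.polar_self] at hpolar
  have h3 : 2 * q w' = 0 := by
    have := hpolar
    simpa using this
  have h4 : q w' = 0 := (mul_eq_zero.mp h3).resolve_left h2
  exact hw'0 (hq w' h4)

open Polynomial in
/-- A finite-order isometry of an anisotropic form over a field with all roots of unity
squares to one. -/
theorem aniso_finite_order_sq (hK : ∀ n : ℕ, 0 < n → (X ^ n - 1 : K[X]).Splits) (h2 : (2 : K) ≠ 0)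
    [FiniteDimensional K V] (q : QuadraticForm K V) (hq : q.Anisotropic)
    (G : Module.End K V) (hG : ∀ x : V, q (G x) = q x) (d : ℕ) (hd : 0 < d) (hGd : G ^ d = 1) :
    G ^ 2 = 1 := by
  have hint : IsIntegral K G := Algebra.IsIntegral.isIntegral G
  have hne : (X ^ d - 1 : K[X]) ≠ 0 := by
    have : (X ^ d - 1 : K[X]) = X ^ d - C 1 := by simp
    rw [this]
    exact X_pow_sub_C_ne_zero hd 1
  have hdvd : minpoly K G ∣ X ^ d - 1 := by
    apply minpoly.dvd
    simp [hGd]
  have hsplit : (minpoly K G).Splits := (hK d hd).of_dvd hne hdvd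
  have hmonic : (minpoly K G).Monic := minpoly.monic hint
  have hroot : ∀ μ ∈ (minpoly K G).roots, μ * μ = 1 := by
    intro μ hμ
    have hr : (minpoly K G).IsRoot μ := (mem_roots (minpoly.ne_zero hint)).mp hμ
    obtain ⟨v, hv⟩ := (Module.End.hasEigenvalue_of_isRoot hr).exists_hasEigenvector
    have hv1 : G v = μ • v := Module.End.mem_eigenspace_iff.mp hv.1
    have hqv : q v ≠ 0 := fun h => hv.2 (hq v h)
    have h3 : q v = μ * μ * q v := by
      conv_lhs => rw [← hG v, hv1, QuadraticMap.map_smul]
      rfl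
    have h4 : (μ * μ - 1) * q v = 0 := by rw [sub_mul, one_mul, ← h3, sub_self]
    exact sub_eq_zero.mp ((mul_eq_zero.mp h4).resolve_right hqv)
  have hdvd2 : minpoly K G ∣ (X ^ 2 - 1 : K[X]) ^ (Multiset.card (minpoly K G).roots) := by
    conv_lhs => rw [hsplit.eq_prod_roots_of_monic hmonic]
    have h5 := Multiset.prod_dvd_prod_of_dvd (S := (minpoly K G).roots)
      (fun a : K => (X - C a : K[X])) (fun _ => (X ^ 2 - 1 : K[X])) (by
        intro a ha
        refine ⟨X + C a, ?_⟩
        have : (C a * C a : K[X]) = 1 := by rw [← C_mul, hroot a ha, C_1]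
        have h6 : (X - C a) * (X + C a) = X ^ 2 - C a * C a := by ring
        rw [h6, this])
    rwa [Multiset.map_const', Multiset.prod_replicate] at h5
  have hnil : IsNilpotent (G ^ 2 - 1) := by
    refine ⟨Multiset.card (minpoly K G).roots, ?_⟩
    obtain ⟨r, hr⟩ := hdvd2
    have h7 := congrArg (aeval G) hr
    rw [map_mul, minpoly.aeval, zero_mul] at h7
    simpa using h7
  have hG2 : ∀ x : V, q ((G ^ 2) x) = q x := by
    intro x
    rw [pow_two, Module.End.mul_apply, hG, hG]
  exact aniso_unipotent_eq_one h2 q hq (G ^ 2) hG2 hnil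

end Groth.Agent.H75
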