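import Mathlib.RingTheory.LocalRing.Module
import Mathlib.RingTheory.Flat.Equalizer
import Mathlib.RingTheory.Flat.Tensor
import Mathlib.RingTheory.Artinian.Ring
import Mathlib.RingTheory.FiniteLength
import Mathlib.RingTheory.HopkinsLevitzki
import Mathlib.LinearAlgebra.TensorProduct.Quotient
import Mathlib.LinearAlgebra.TensorProduct.RightExactness

set_option autoImplicit false
universe u v w

namespace Groth.Agent.H75

open TensorProduct IsLocalRing Function

section
variable (A : Type u) [CommRing A] [IsLocalRing A] [IsArtinianRing A]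

theorem maxIdeal_nilpotent : ∃ n : ℕ, (maximalIdeal A) ^ n = ⊥ := by
  have h := IsArtinianRing.isNilpotent_jacobson_bot (R := A)
  rw [IsLocalRing.jacobson_eq_maximalIdeal ⊥ bot_ne_top] at h
  obtain ⟨n, hn⟩ := h
  exact ⟨n, hn⟩

variable {A}

/-- Nakayama for an Artinian local ring, any module. -/
theorem subsingleton_of_residue {M : Type v} [AddCommGroup M] [Module A M]
    (h : Subsingleton (ResidueField A ⊗[A] M)) : Subsingleton M := by
  have e := quotTensorEquivQuotSMul M (maximalIdeal A)
  have h' : Subsingleton ((A ⧸ maximalIdeal A) ⊗[A] M) := h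
  have h1 : Subsingleton (M ⧸ (maximalIdeal A • (⊤ : Submodule A M))) :=
    e.symm.injective.subsingleton
  have h2 : (maximalIdeal A • (⊤ : Submodule A M)) = ⊤ :=
    Submodule.Quotient.subsingleton_iff.mp h1
  obtain ⟨n, hn⟩ := maxIdeal_nilpotent A
  have h3 : ∀ j : ℕ, ((maximalIdeal A) ^ j • (⊤ : Submodule A M)) = ⊤ := by
    intro j
    induction j with
    | zero => simp
    | succ j ih => rw [pow_succ, mul_smul, h2, ih]
  have h4 := h3 n
  rw [hn, Submodule.bot_smul] at h4
  exact (Submodule.subsingleton_iff A).mp (subsingleton_of_bot_eq_top h4)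


/-- surjectivity can be tested modulo the maximal ideal. -/
theorem surjective_of_residue {P : Type v} {L : Type w} [AddCommGroup P] [Module A P]
    [AddCommGroup L] [Module A L] (h : P →ₗ[A] L)
    (hs : Surjective (h.lTensor (ResidueField A))) : Surjective h := by
  have hex : Exact h (LinearMap.range h).mkQ := LinearMap.exact_map_mkQ_range h
  have hex' := lTensor_exact (ResidueField A) hex (Submodule.mkQ_surjective _)
  have hsurj := LinearMap.lTensor_surjective (ResidueField A)
    (Submodule.mkQ_surjective (LinearMap.range h))
  have hsub : Subsingleton (ResidueField A ⊗[A] (L ⧸ LinearMap.range h)) := by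
    refine ⟨fun x y => ?_⟩
    obtain ⟨x', rfl⟩ := hsurj x
    obtain ⟨y', rfl⟩ := hsurj y
    have hx : (LinearMap.range h).mkQ.lTensor _ x' = 0 := (hex' x').mpr (hs x')
    have hy : (LinearMap.range h).mkQ.lTensor _ y' = 0 := (hex' y').mpr (hs y')
    rw [hx, hy]
  have h1 := subsingleton_of_residue hsub
  rw [← LinearMap.range_eq_top, ← Submodule.Quotient.subsingleton_iff]
  exact h1

section ext
variable {M : Type v} {N : Type w} [AddCommGroup M] [Module A M] [AddCommGroup N] [Module A N]

omit [IsLocalRing A] [IsArtinianRing A] in
theorem lTensor_inj_of_ext (f : M →ₗ[A] N) [Module.Flat A N]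
    {V' V V'' : Type*} [AddCommGroup V'] [Module A V'] [AddCommGroup V] [Module A V]
    [AddCommGroup V''] [Module A V'']
    (i : V' →ₗ[A] V) (p : V →ₗ[A] V'') (hi : Injective i) (hp : Surjective p) (hex : Exact i p)
    (h' : Injective (f.lTensor V')) (h'' : Injective (f.lTensor V'')) :
    Injective (f.lTensor V) := by
  rw [injective_iff_map_eq_zero]
  intro x hx
  have h1 : f.lTensor V'' (p.rTensor M x) = 0 := by
    have : f.lTensor V'' (p.rTensor M x) = p.rTensor N (f.lTensor V x) := by
      rw [← LinearMap.comp_apply, ← LinearMap.comp_apply, LinearMap.lTensor_comp_rTensor,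
        LinearMap.rTensor_comp_lTensor]
    rw [this, hx, map_zero]
  have h2 : p.rTensor M x = 0 := (injective_iff_map_eq_zero _).mp h'' _ h1
  obtain ⟨x', rfl⟩ := (rTensor_exact M hex hp x).mp h2
  have h3 : i.rTensor N (f.lTensor V' x') = 0 := by
    have : i.rTensor N (f.lTensor V' x') = f.lTensor V (i.rTensor M x') := by
      rw [← LinearMap.comp_apply, ← LinearMap.comp_apply, LinearMap.lTensor_comp_rTensor,
        LinearMap.rTensor_comp_lTensor]
    rw [this, hx]
  have h4 : f.lTensor V' x' = 0 :=
    (injective_iff_map_eq_zero _).mp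
      (Module.Flat.rTensor_preserves_injective_linearMap i hi) _ h3
  have h5 : x' = 0 := (injective_iff_map_eq_zero _).mp h' _ h4
  rw [h5, map_zero]

omit [IsLocalRing A] [IsArtinianRing A] in
theorem lTensor_inj_of_equiv (f : M →ₗ[A] N)
    {V W : Type*} [AddCommGroup V] [Module A V] [AddCommGroup W] [Module A W]
    (e : V ≃ₗ[A] W) (h : Injective (f.lTensor W)) : Injective (f.lTensor V) := by
  rw [injective_iff_map_eq_zero]
  intro x hx
  have h1 : f.lTensor W (e.toLinearMap.rTensor M x) = 0 := by
    have : f.lTensor W (e.toLinearMap.rTensor M x) = e.toLinearMap.rTensor N (f.lTensor V x) := by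
      rw [← LinearMap.comp_apply, ← LinearMap.comp_apply, LinearMap.lTensor_comp_rTensor,
        LinearMap.rTensor_comp_lTensor]
    rw [this, hx, map_zero]
  have h2 : e.toLinearMap.rTensor M x = 0 := (injective_iff_map_eq_zero _).mp h _ h1
  have h3 : e.symm.toLinearMap.rTensor M (e.toLinearMap.rTensor M x) = x := by
    rw [← LinearMap.comp_apply, ← LinearMap.rTensor_comp]
    simp
  rw [← h3, h2, map_zero]

omit [IsArtinianRing A] in
theorem lTensor_inj_of_finiteLength (f : M →ₗ[A] N) [Module.Flat A N]
    (hk : Injective (f.lTensor (ResidueField A)))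
    (V : Type*) [AddCommGroup V] [Module A V] (hV : IsFiniteLength A V) :
    Injective (f.lTensor V) := by
  induction hV with
  | of_subsingleton =>
    exact Function.injective_of_subsingleton _
  | @of_simple_quotient V _ _ N' _ _ ih =>
    have hsimple : IsSimpleModule A (V ⧸ N') := inferInstance
    obtain ⟨I, hI, ⟨e⟩⟩ := isSimpleModule_iff_quot_maximal.mp hsimple
    have hIm : I = maximalIdeal A := IsLocalRing.eq_maximalIdeal hI
    subst hIm
    have hq : Injective (f.lTensor (V ⧸ N')) := lTensor_inj_of_equiv f e hk
    exact lTensor_inj_of_ext f N'.subtype N'.mkQ N'.subtype_injective (Submodule.mkQ_surjective _)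
      (LinearMap.exact_subtype_mkQ N') ih hq

/-- local flatness criterion over an Artinian local ring -/
theorem flat_of_residue_injective {P : Type*} [AddCommGroup P] [Module A P]
    (f : M →ₗ[A] N) (g : N →ₗ[A] P) [Module.Flat A N] (hg : Surjective g) (hfg : Exact f g)
    (hk : Injective (f.lTensor (ResidueField A))) : Module.Flat A P := by
  rw [Module.Flat.iff_lTensor_injective']
  intro I
  apply lTensor_injective_of_exact_of_exact_of_rTensor_injective hfg hg
    (LinearMap.exact_subtype_mkQ I) (Submodule.mkQ_surjective I)
  · rw [← LinearMap.lTensor_inj_iff_rTensor_inj]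
    apply lTensor_inj_of_finiteLength f hk
    rw [isFiniteLength_iff_isNoetherian_isArtinian]
    have : IsNoetherianRing A := inferInstance
    exact ⟨inferInstance, inferInstance⟩
  · exact Module.Flat.lTensor_preserves_injective_linearMap _ Subtype.val_injective

omit [IsLocalRing A] [IsArtinianRing A] in
/-- kernel of a surjection of flat modules is flat -/
theorem flat_of_exact_of_flat {P : Type*} [AddCommGroup P] [Module A P]
    (f : M →ₗ[A] N) (g : N →ₗ[A] P) [Module.Flat A N] [Module.Flat A P]
    (hf : Injective f) (hg : Surjective g) (hfg : Exact f g) : Module.Flat A M := by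
  rw [Module.Flat.iff_rTensor_injective']
  intro I
  have h1 : Injective (f.lTensor I) :=
    LinearMap.lTensor_injective_of_exact_of_flat g hg f hf hfg I
  have h2 : Injective (I.subtype.rTensor N) :=
    Module.Flat.rTensor_preserves_injective_linearMap _ Subtype.val_injective
  have h3 : (f.lTensor A) ∘ₗ (I.subtype.rTensor M) = (I.subtype.rTensor N) ∘ₗ (f.lTensor I) := by
    rw [LinearMap.lTensor_comp_rTensor, LinearMap.rTensor_comp_lTensor]
  have h4 : Injective ((f.lTensor A) ∘ₗ (I.subtype.rTensor M)) := by
    rw [h3]; exact h2.comp h1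
  exact Function.Injective.of_comp h4

/-- A map into a flat module which is injective modulo the maximal ideal is injective,
with flat source and flat cokernel. -/
theorem inj_flat_of_residue_injective {P : Type v} {L : Type w} [AddCommGroup P] [Module A P]
    [AddCommGroup L] [Module A L] (h : P →ₗ[A] L) [Module.Flat A L]
    (hk : Injective (h.lTensor (ResidueField A))) :
    Injective h ∧ Module.Flat A P ∧ Module.Flat A (L ⧸ LinearMap.range h) := by
  set I := LinearMap.range h with hI
  have hcomp : I.subtype ∘ₗ h.rangeRestrict = h := LinearMap.subtype_comp_codRestrict _ _ _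
  have hcompk : (I.subtype.lTensor (ResidueField A)) ∘ₗ (h.rangeRestrict.lTensor (ResidueField A)) =
      h.lTensor (ResidueField A) := by
    rw [← LinearMap.lTensor_comp, hcomp]
  have hs : Surjective (h.rangeRestrict.lTensor (ResidueField A)) :=
    LinearMap.lTensor_surjective _ h.surjective_rangeRestrict
  have hi' : Injective (h.rangeRestrict.lTensor (ResidueField A)) := by
    have : Injective ((I.subtype.lTensor (ResidueField A)) ∘ₗ
        (h.rangeRestrict.lTensor (ResidueField A))) := by rw [hcompk]; exact hk
    exact Function.Injective.of_comp this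
  have hι : Injective (I.subtype.lTensor (ResidueField A)) := by
    rw [injective_iff_map_eq_zero]
    intro x hx
    obtain ⟨y, rfl⟩ := hs x
    have : h.lTensor (ResidueField A) y = 0 := by
      rw [← hcompk]; exact hx
    have hy : y = 0 := (injective_iff_map_eq_zero _).mp hk _ this
    rw [hy, map_zero]
  have hCflat : Module.Flat A (L ⧸ I) :=
    flat_of_residue_injective I.subtype I.mkQ (Submodule.mkQ_surjective _)
      (LinearMap.exact_subtype_mkQ I) hι
  have hIflat : Module.Flat A I :=
    flat_of_exact_of_flat I.subtype I.mkQ I.subtype_injective (Submodule.mkQ_surjective _)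
      (LinearMap.exact_subtype_mkQ I)
  -- kernel
  have hKex : Exact (LinearMap.ker h).subtype h.rangeRestrict := by
    intro x
    constructor
    · intro hx
      refine ⟨⟨x, ?_⟩, rfl⟩
      have := congrArg Subtype.val hx
      simpa using this
    · rintro ⟨y, rfl⟩
      apply Subtype.ext
      simp
  have hKk : Injective ((LinearMap.ker h).subtype.lTensor (ResidueField A)) :=
    LinearMap.lTensor_injective_of_exact_of_flat h.rangeRestrict h.surjective_rangeRestrict
      (LinearMap.ker h).subtype (LinearMap.ker h).subtype_injective hKex _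
  have hKsub : Subsingleton (ResidueField A ⊗[A] (LinearMap.ker h)) := by
    refine ⟨fun x y => ?_⟩
    apply hKk
    apply hi'
    have hz : ∀ z, h.rangeRestrict.lTensor (ResidueField A)
        ((LinearMap.ker h).subtype.lTensor (ResidueField A) z) = 0 := by
      intro z
      rw [← LinearMap.comp_apply, ← LinearMap.lTensor_comp, hKex.linearMap_comp_eq_zero]
      simp
    rw [hz x, hz y]
  have hK : Subsingleton (LinearMap.ker h) := subsingleton_of_residue hKsub
  have hinj : Injective h := by
    rw [← LinearMap.ker_eq_bot]
    exact Submodule.eq_bot_of_subsingleton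
  refine ⟨hinj, ?_, hCflat⟩
  exact Module.Flat.of_linearEquiv (LinearEquiv.ofInjective h hinj)

end ext

end

end Groth.Agent.H75
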