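import Mathlib

/-! Helper for S15056: for a finite type algebra `A` over `R` with an augmentation `ε : A → R`,
the augmentation ideal is nil of bounded exponent iff (Noetherian base) `A` is finite and all
geometric fibres are local. -/

set_option autoImplicit false

namespace Groth.Agent.H75.AugNil

open TensorProduct

universe u

variable {R : Type u} [CommRing R] {A : Type u} [CommRing A] [Algebra R A]

/-- bounded nil augmentation ideal + finite type ⇒ module finite -/
theorem finite_of_nil [Algebra.FiniteType R A] (ε : A →ₐ[R] R) (m : ℕ)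
    (h : ∀ a : A, ε a = 0 → a ^ m = 0) : Module.Finite R A := by
  classical
  obtain ⟨s, hs⟩ := (Algebra.FiniteType.out : (⊤ : Subalgebra R A).FG)
  let s' : Finset A := s.image fun x => x - algebraMap R A (ε x)
  have hs' : Algebra.adjoin R (s' : Set A) = ⊤ := by
    rw [eq_top_iff, ← hs]
    apply Algebra.adjoin_le
    intro x hx
    have h1 : x - algebraMap R A (ε x) ∈ Algebra.adjoin R (s' : Set A) :=
      Algebra.subset_adjoin (Finset.mem_coe.2 (Finset.mem_image.2 ⟨x, hx, rfl⟩))
    have h2 : x = (x - algebraMap R A (ε x)) + algebraMap R A (ε x) := by ring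
    rw [h2]
    exact Subalgebra.add_mem _ h1 (Subalgebra.algebraMap_mem _ _)
  have hint : ∀ y ∈ (s' : Set A), IsIntegral R y := by
    intro y hy
    obtain ⟨x, -, rfl⟩ := Finset.mem_image.1 (Finset.mem_coe.1 hy)
    have h0 : ε (x - algebraMap R A (ε x)) = 0 := by
      rw [map_sub, AlgHom.commutes]
      exact sub_self _
    refine ⟨Polynomial.X ^ m, Polynomial.monic_X_pow m, ?_⟩
    rw [Polynomial.eval₂_X_pow, h _ h0]
  have hfg := fg_adjoin_of_finite s'.finite_toSet hint
  rw [hs'] at hfg
  exact ⟨by simpa using hfg⟩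

/-- The augmentation of the base change to `K`. -/
noncomputable def augK (ε : A →ₐ[R] R) (K : Type*) [Field K] [Algebra R K] :
    K ⊗[R] A →ₐ[K] K :=
  Algebra.TensorProduct.lift (Algebra.ofId K K) ((Algebra.ofId R K).comp ε)
    (fun _ _ => Commute.all _ _)

theorem augK_tmul (ε : A →ₐ[R] R) (K : Type*) [Field K] [Algebra R K] (c : K) (a : A) :
    augK ε K (c ⊗ₜ a) = c * algebraMap R K (ε a) := by
  simp [augK, Algebra.ofId_apply]

theorem augK_surjective (ε : A →ₐ[R] R) (K : Type*) [Field K] [Algebra R K] :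
    Function.Surjective (augK ε K) := by
  intro c
  refine ⟨c ⊗ₜ 1, ?_⟩
  rw [augK_tmul, map_one, map_one, mul_one]

/-- bounded nil augmentation ideal ⇒ fibres local -/
theorem isLocalRing_of_nil (ε : A →ₐ[R] R) (m : ℕ)
    (h : ∀ a : A, ε a = 0 → a ^ m = 0) (K : Type*) [Field K] [Algebra R K] :
    IsLocalRing (K ⊗[R] A) := by
  have hnt : Nontrivial (K ⊗[R] A) := by
    refine ⟨⟨0, 1, fun h01 => ?_⟩⟩
    have := congrArg (augK ε K) h01
    rw [map_zero, map_one] at this
    exact zero_ne_one this
  -- every element differs from its augmentation by a nilpotent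
  have hnil : ∀ z : K ⊗[R] A, IsNilpotent (z - algebraMap K (K ⊗[R] A) (augK ε K z)) := by
    intro z
    induction z using TensorProduct.induction_on with
    | zero => simp
    | tmul c a =>
      have e : c ⊗ₜ[R] a - algebraMap K (K ⊗[R] A) (augK ε K (c ⊗ₜ a)) =
          c ⊗ₜ[R] (a - algebraMap R A (ε a)) := by
        have key : (c * algebraMap R K (ε a)) ⊗ₜ[R] (1 : A) = c ⊗ₜ[R] algebraMap R A (ε a) := by
          rw [mul_comm, ← Algebra.smul_def, TensorProduct.smul_tmul,
            ← Algebra.algebraMap_eq_smul_one]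
        rw [augK_tmul, Algebra.TensorProduct.algebraMap_apply, Algebra.algebraMap_self_apply, key,
          TensorProduct.tmul_sub]
      rw [e]
      refine ⟨m, ?_⟩
      have h0 : ε (a - algebraMap R A (ε a)) = 0 := by
        rw [map_sub, AlgHom.commutes]
        exact sub_self _
      rw [Algebra.TensorProduct.tmul_pow, h _ h0, TensorProduct.tmul_zero]
    | add x y hx hy =>
      have e : x + y - algebraMap K (K ⊗[R] A) (augK ε K (x + y)) =
          (x - algebraMap K (K ⊗[R] A) (augK ε K x)) +
          (y - algebraMap K (K ⊗[R] A) (augK ε K y)) := by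
        rw [map_add, map_add]
        ring
      rw [e]
      exact Commute.isNilpotent_add (Commute.all _ _) hx hy
  have hunit : ∀ z : K ⊗[R] A, IsUnit z ↔ augK ε K z ≠ 0 := by
    intro z
    constructor
    · intro hz h0
      have := hz.map (augK ε K)
      rw [h0] at this
      exact not_isUnit_zero this
    · intro hz
      have e : z = algebraMap K (K ⊗[R] A) (augK ε K z) +
          (z - algebraMap K (K ⊗[R] A) (augK ε K z)) := by ring
      rw [e]
      exact (hnil z).isUnit_add_left_of_commute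
        ((isUnit_iff_ne_zero.2 hz).map (algebraMap K (K ⊗[R] A))) (Commute.all _ _)
  refine IsLocalRing.of_nonunits_add ?_
  intro a b ha hb
  rw [mem_nonunits_iff, hunit, not_not] at ha hb ⊢
  rw [map_add, ha, hb, add_zero]

/-- Noetherian base, geometric fibres local ⇒ augmentation ideal nilpotent. -/
theorem exists_nil_of_isLocalRing [IsNoetherianRing R] [Algebra.FiniteType R A] (ε : A →ₐ[R] R)
    (hloc : ∀ (K : Type u) [Field K] [IsAlgClosed K] [Algebra R K], IsLocalRing (K ⊗[R] A)) :
    ∃ m : ℕ, ∀ a : A, ε a = 0 → a ^ m = 0 := by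
  have hprime : ∀ P : Ideal A, P.IsPrime → ∀ a : A, ε a = 0 → a ∈ P := by
    intro P hP a ha
    let K := AlgebraicClosure (FractionRing (A ⧸ P))
    let ψ : A →ₐ[R] K :=
      (IsScalarTower.toAlgHom R (FractionRing (A ⧸ P)) K).comp
        ((IsScalarTower.toAlgHom R (A ⧸ P) (FractionRing (A ⧸ P))).comp (Ideal.Quotient.mkₐ R P))
    have hψ : ∀ x : A, ψ x = algebraMap (FractionRing (A ⧸ P)) K
        (algebraMap (A ⧸ P) (FractionRing (A ⧸ P)) (Ideal.Quotient.mk P x)) := fun x => rfl
    let Ψ : K ⊗[R] A →ₐ[K] K :=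
      Algebra.TensorProduct.lift (Algebra.ofId K K) ψ (fun _ _ => Commute.all _ _)
    have hΨ : ∀ (c : K) (x : A), Ψ (c ⊗ₜ x) = c * ψ x := by
      intro c x
      simp [Ψ]
    have hΨs : Function.Surjective Ψ := by
      intro c
      exact ⟨c ⊗ₜ 1, by rw [hΨ, map_one, mul_one]⟩
    have hlocK := hloc K
    have h1 : RingHom.ker (Ψ : K ⊗[R] A →+* K) = IsLocalRing.maximalIdeal (K ⊗[R] A) :=
      IsLocalRing.eq_maximalIdeal (RingHom.ker_isMaximal_of_surjective _ hΨs)
    have h2 : RingHom.ker (augK ε K : K ⊗[R] A →+* K) = IsLocalRing.maximalIdeal (K ⊗[R] A) :=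
      IsLocalRing.eq_maximalIdeal (RingHom.ker_isMaximal_of_surjective _ (augK_surjective ε K))
    have h3 : (1 : K) ⊗ₜ[R] a ∈ RingHom.ker (Ψ : K ⊗[R] A →+* K) := by
      rw [h1, ← h2, RingHom.mem_ker]
      change augK ε K (1 ⊗ₜ a) = 0
      rw [augK_tmul, ha, map_zero, mul_zero]
    rw [RingHom.mem_ker] at h3
    change Ψ (1 ⊗ₜ a) = 0 at h3
    rw [hΨ, one_mul, hψ] at h3
    have h4 : Ideal.Quotient.mk P a = 0 := by
      have hinj1 := (algebraMap (FractionRing (A ⧸ P)) K).injective
      have hinj2 := IsFractionRing.injective (A ⧸ P) (FractionRing (A ⧸ P))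
      apply hinj2
      apply hinj1
      rw [h3, map_zero, map_zero]
    exact Ideal.Quotient.eq_zero_iff_mem.1 h4
  have hA : IsNoetherianRing A := Algebra.FiniteType.isNoetherianRing R A
  obtain ⟨m, hm⟩ := IsNoetherianRing.isNilpotent_nilradical A
  refine ⟨m, fun a ha => ?_⟩
  have ha' : a ∈ nilradical A := by
    rw [nilradical_eq_sInf, Ideal.mem_sInf]
    intro P hP
    exact hprime P hP a ha
  have : a ^ m ∈ (nilradical A) ^ m := Ideal.pow_mem_pow ha' m
  rw [hm] at this
  exact this

end Groth.Agent.H75.AugNil
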