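import Mathlib
import Groth.Agent.H1.BrModDim

set_option autoImplicit false
universe u v

namespace Groth.Agent.H75

open Polynomial TensorProduct

section Core

variable {K : Type u} [Field K] {A : Type v} [Ring A] [Algebra K A]
variable (x : A) (W : Submodule K A) (hx : ∀ w ∈ W, w * x ∈ W) (hA : ∀ (a : A), ∀ w ∈ W, a * w ∈ W)

/-- right multiplication by `x` on `W` -/
noncomputable def rmulX : Module.End K W := (LinearMap.mulRight K x).restrict hx

theorem rmulX_apply (w : W) : ((rmulX x W hx w : W) : A) = (w : A) * x := rfl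

theorem aeval_rmulX (p : K[X]) (w : W) :
    ((aeval (rmulX x W hx) p w : W) : A) = (w : A) * aeval x p := by
  induction p using Polynomial.induction_on' generalizing w with
  | add p q hp hq =>
    rw [map_add, map_add, LinearMap.add_apply, Submodule.coe_add, hp, hq, mul_add]
  | monomial n a =>
    rw [← C_mul_X_pow_eq_monomial, map_mul, map_mul, aeval_C, aeval_C, map_pow, map_pow,
      aeval_X, aeval_X]
    induction n generalizing w with
    | zero =>
      rw [pow_zero, pow_zero, mul_one, mul_one, Module.algebraMap_end_apply, Submodule.coe_smul,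
        Algebra.algebraMap_eq_smul_one, mul_smul_comm, mul_one]
    | succ n ih =>
      rw [pow_succ, pow_succ, ← mul_assoc, Module.End.mul_apply, ih, rmulX_apply, mul_assoc]
      congr 1
      rw [← mul_assoc, ← Algebra.commutes a x, mul_assoc, ← pow_succ', pow_succ]

/-- left multiplication by `A` on `W` -/
noncomputable def lmulA : A →ₐ[K] Module.End K W where
  toFun a := (LinearMap.mulLeft K a).restrict (hA a)
  map_one' := by
    ext w
    show (1 : A) * (w : A) = w
    rw [one_mul]
  map_mul' a b := by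
    ext w
    show a * b * (w : A) = a * (b * (w : A))
    rw [mul_assoc]
  map_zero' := by
    ext w
    show (0 : A) * (w : A) = 0
    rw [zero_mul]
  map_add' a b := by
    ext w
    show (a + b) * (w : A) = a * (w : A) + b * (w : A)
    rw [add_mul]
  commutes' r := by
    ext w
    show algebraMap K A r * (w : A) = r • (w : A)
    rw [Algebra.smul_def]

theorem lmulA_apply (a : A) (w : W) : ((lmulA W hA a w : W) : A) = a * (w : A) := rfl

variable (f : K[X]) (hf0 : ∀ w ∈ W, w * aeval x f = 0)

/-- the action of `K[X]/(f)` on `W` through right multiplication by `x` -/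
noncomputable def alphaL : AdjoinRoot f →ₐ[K] Module.End K W :=
  Ideal.Quotient.liftₐ (Ideal.span {f}) (aeval (rmulX x W hx)) (by
    intro p hp
    obtain ⟨c, rfl⟩ := Ideal.mem_span_singleton.mp hp
    ext w
    rw [aeval_rmulX, map_mul, ← mul_assoc, hf0 w w.2, zero_mul]
    rfl)

theorem alphaL_mk (p : K[X]) (w : W) :
    ((alphaL x W hx f hf0 (AdjoinRoot.mk f p) w : W) : A) = (w : A) * aeval x p :=
  aeval_rmulX x W hx p w

theorem alphaL_comm (l : AdjoinRoot f) (a : A) :
    Commute (alphaL x W hx f hf0 l) (lmulA W hA a) := by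
  obtain ⟨p, rfl⟩ := AdjoinRoot.mk_surjective l
  ext w
  show ((alphaL x W hx f hf0 (AdjoinRoot.mk f p)) (lmulA W hA a w) : A)
    = ((lmulA W hA a) (alphaL x W hx f hf0 (AdjoinRoot.mk f p) w) : A)
  rw [alphaL_mk, lmulA_apply, lmulA_apply, alphaL_mk, mul_assoc]

/-- the action of `K[X]/(f) ⊗ A` on `W` -/
noncomputable def gammaLA : AdjoinRoot f ⊗[K] A →ₐ[K] Module.End K W :=
  Algebra.TensorProduct.lift (alphaL x W hx f hf0) (lmulA W hA) (alphaL_comm x W hx hA f hf0)

include hx hA hf0 in
theorem natDegree_mul_dvd_finrank [Algebra.IsCentral K A] [IsSimpleRing A]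
    [FiniteDimensional K A] (n : ℕ) (hn : Module.finrank K A = n ^ 2) (hirr : Irreducible f) :
    f.natDegree * n ∣ Module.finrank K W := by
  have : Fact (Irreducible f) := ⟨hirr⟩
  obtain ⟨h1, h2, h3⟩ := Groth.Agent.H1.csa_baseChange K (AdjoinRoot f) A
  let _ : Module (AdjoinRoot f) W :=
    Module.compHom W (alphaL x W hx f hf0 : AdjoinRoot f →+* Module.End K W)
  let _ : Module (AdjoinRoot f ⊗[K] A) W :=
    Module.compHom W (gammaLA x W hx hA f hf0 : AdjoinRoot f ⊗[K] A →+* Module.End K W)
  have hsmulL : ∀ (l : AdjoinRoot f) (w : W), l • w = alphaL x W hx f hf0 l w := fun _ _ => rfl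
  have hsmulB : ∀ (b : AdjoinRoot f ⊗[K] A) (w : W), b • w = gammaLA x W hx hA f hf0 b w :=
    fun _ _ => rfl
  have : IsScalarTower (AdjoinRoot f) (AdjoinRoot f ⊗[K] A) W := by
    refine ⟨fun l b w => ?_⟩
    rw [hsmulB, hsmulL, hsmulB, Algebra.smul_def, map_mul, Algebra.TensorProduct.algebraMap_apply,
      Algebra.algebraMap_self, RingHom.id_apply, gammaLA, Algebra.TensorProduct.lift_tmul,
      map_one, mul_one]
    rfl
  have : IsScalarTower K (AdjoinRoot f) W := by
    refine ⟨fun c l w => ?_⟩
    rw [hsmulL, hsmulL, map_smul]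
    rfl
  have : FiniteDimensional (AdjoinRoot f) W :=
    Module.Finite.of_restrictScalars_finite K (AdjoinRoot f) W
  obtain ⟨d, hd⟩ := Groth.Agent.H1.exists_isIndex (AdjoinRoot f) (AdjoinRoot f ⊗[K] A)
  have hNB : Module.finrank (AdjoinRoot f) (AdjoinRoot f ⊗[K] A) = n ^ 2 := by
    rw [Module.finrank_baseChange, hn]
  have hdvd := Groth.Agent.H1.IsIndex.mul_dvd_finrank_module hd hNB W
  have hfr : Module.finrank K W
      = Module.finrank K (AdjoinRoot f) * Module.finrank (AdjoinRoot f) W :=
    (Module.finrank_mul_finrank K (AdjoinRoot f) W).symm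
  have hL : Module.finrank K (AdjoinRoot f) = f.natDegree := by
    rw [(AdjoinRoot.powerBasis hirr.ne_zero).finrank, AdjoinRoot.powerBasis_dim]
  rw [hfr, hL]
  exact Nat.mul_dvd_mul_left _ (dvd_trans (Dvd.intro _ rfl) hdvd)

end Core

section Induct

variable {K : Type u} [Field K] {A : Type v} [Ring A] [Algebra K A]

/-- kernel of right multiplication by `g(x)` -/
noncomputable def kerR (x : A) (g : K[X]) : Submodule K A :=
  LinearMap.ker (LinearMap.mulRight K (aeval x g))

theorem mem_kerR (x : A) (g : K[X]) (a : A) : a ∈ kerR x g ↔ a * aeval x g = 0 := by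
  rw [kerR, LinearMap.mem_ker, LinearMap.mulRight_apply]

theorem aeval_mul_self_comm (x : A) (p : K[X]) : aeval x p * x = x * aeval x p := by
  have h1 : aeval x (p * X) = aeval x p * x := by rw [map_mul, aeval_X]
  have h2 : aeval x (X * p) = x * aeval x p := by rw [map_mul, aeval_X]
  rw [← h1, ← h2, mul_comm]

variable [Algebra.IsCentral K A] [IsSimpleRing A] [FiniteDimensional K A]

theorem dvd_finrank_kerR (n : ℕ) (hn : Module.finrank K A = n ^ 2) (x : A) (r : ℕ)
    (Φ : Multiset K[X]) (hΦ : ∀ f ∈ Φ, Irreducible f ∧ f.natDegree = r) :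
    r * n ∣ Module.finrank K (kerR x Φ.prod) := by
  induction Φ using Multiset.induction_on with
  | empty =>
    have : kerR x (Multiset.prod (0 : Multiset K[X])) = ⊥ := by
      rw [eq_bot_iff]
      intro a ha
      rw [mem_kerR, Multiset.prod_zero, map_one, mul_one] at ha
      rw [Submodule.mem_bot]; exact ha
    rw [this, finrank_bot]
    exact dvd_zero _
  | cons f Φ ih =>
    have ih' := ih (fun f' hf' => hΦ f' (Multiset.mem_cons_of_mem hf'))
    obtain ⟨hirr, hdeg⟩ := hΦ f (Multiset.mem_cons_self f Φ)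
    rw [Multiset.prod_cons]
    set g' := Φ.prod with hg'
    set N := kerR x (f * g') with hN
    let φ : N →ₗ[K] A := (LinearMap.mulRight K (aeval x g')).domRestrict N
    have hφ : ∀ a : N, φ a = (a : A) * aeval x g' := fun a => rfl
    set W := LinearMap.range φ with hW
    have hWx : ∀ w ∈ W, w * x ∈ W := by
      rintro _ ⟨a, rfl⟩
      have hmem : (a : A) * x ∈ N := by
        refine (mem_kerR x (f * g') _).mpr ?_
        rw [mul_assoc, ← aeval_mul_self_comm, ← mul_assoc,
          (mem_kerR x (f * g') a).mp a.2, zero_mul]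
      refine ⟨⟨(a : A) * x, hmem⟩, ?_⟩
      rw [hφ, hφ]
      show (a : A) * x * aeval x g' = (a : A) * aeval x g' * x
      rw [mul_assoc, mul_assoc, aeval_mul_self_comm]
    have hWA : ∀ (b : A), ∀ w ∈ W, b * w ∈ W := by
      rintro b _ ⟨a, rfl⟩
      have hmem : b * (a : A) ∈ N := by
        refine (mem_kerR x (f * g') _).mpr ?_
        rw [mul_assoc, (mem_kerR x (f * g') a).mp a.2, mul_zero]
      refine ⟨⟨b * (a : A), hmem⟩, ?_⟩
      rw [hφ, hφ]
      show b * (a : A) * aeval x g' = b * ((a : A) * aeval x g')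
      rw [mul_assoc]
    have hWf : ∀ w ∈ W, w * aeval x f = 0 := by
      rintro _ ⟨a, rfl⟩
      rw [hφ, mul_assoc, ← map_mul, mul_comm g' f]
      exact (mem_kerR x (f * g') a).mp a.2
    have hdW := natDegree_mul_dvd_finrank x W hWx hWA f hWf n hn hirr
    rw [hdeg] at hdW
    have hrn := LinearMap.finrank_range_add_finrank_ker φ
    have hle : kerR x g' ≤ N := by
      intro a ha
      refine (mem_kerR x (f * g') _).mpr ?_
      rw [mul_comm f g', map_mul, ← mul_assoc, (mem_kerR x g' a).mp ha, zero_mul]
    have hker : Module.finrank K (LinearMap.ker φ) = Module.finrank K (kerR x g') := by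
      have : LinearMap.ker φ = Submodule.comap N.subtype (kerR x g') := by
        rw [LinearMap.ker_domRestrict]; rfl
      rw [this]
      exact (Submodule.comapSubtypeEquivOfLe hle).finrank_eq
    rw [← hrn, hker]
    exact dvd_add hdW ih'

end Induct

end Groth.Agent.H75
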