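import Mathlib
import Groth.Agent.H1.CSAMaxComm

set_option autoImplicit false
universe u v

namespace Groth.Agent.H75

open Polynomial

/-- product of a multiset of scalar multiples of `y` -/
theorem multiset_prod_smul {K F : Type*} [Field K] [Field F] [Algebra K F] (y : F)
    (R : Multiset F) (h : ∀ z ∈ R, ∃ ζ : K, ζ ≠ 0 ∧ z = algebraMap K F ζ * y) :
    ∃ c : K, c ≠ 0 ∧ R.prod = algebraMap K F c * y ^ (Multiset.card R) := by
  induction R using Multiset.induction_on with
  | empty => exact ⟨1, one_ne_zero, by simp⟩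
  | cons z R ih =>
    obtain ⟨c, hc, hR⟩ := ih (fun w hw => h w (Multiset.mem_cons_of_mem hw))
    obtain ⟨ζ, hζ, hz⟩ := h z (Multiset.mem_cons_self z R)
    refine ⟨ζ * c, mul_ne_zero hζ hc, ?_⟩
    rw [Multiset.prod_cons, Multiset.card_cons, hR, hz, map_mul, pow_succ]
    ring

/-- over a field containing all roots of unity, an irreducible factor of `X^m - a` is itself
a pure binomial -/
theorem eq_X_pow_sub_C_of_irreducible_dvd {K : Type u} [Field K]
    (hK : ∀ n : ℕ, 0 < n → (X ^ n - 1 : K[X]).Splits)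
    (μ : K[X]) (hμ : Irreducible μ) (hmonic : μ.Monic) (m : ℕ) (hm : 0 < m) (a : K) (ha : a ≠ 0)
    (hdvd : μ ∣ X ^ m - C a) : ∃ b : K, μ = X ^ μ.natDegree - C b := by
  let F := AlgebraicClosure K
  set μF : F[X] := μ.map (algebraMap K F) with hμF
  have hsplit : μF.Splits := IsAlgClosed.splits _
  have he : 0 < μ.natDegree := hμ.natDegree_pos
  have hμFmonic : μF.Monic := hmonic.map _
  have hdegF : μF.natDegree = μ.natDegree := natDegree_map _
  have hroot_pow : ∀ z : F, μF.IsRoot z → z ^ m = algebraMap K F a := by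
    intro z hz
    have h1 : μF ∣ (X ^ m - C a).map (algebraMap K F) := Polynomial.map_dvd _ hdvd
    have h2 := (h1.trans (dvd_refl _))
    have h3 : ((X ^ m - C a : K[X]).map (algebraMap K F)).IsRoot z := hz.dvd h2
    simp only [Polynomial.map_sub, Polynomial.map_pow, map_X, map_C, IsRoot.def, eval_sub,
      eval_pow, eval_X, eval_C] at h3
    exact sub_eq_zero.mp h3
  have haF : algebraMap K F a ≠ 0 := by
    rwa [Ne, map_eq_zero_iff _ (algebraMap K F).injective]
  obtain ⟨y, hy⟩ : ∃ y : F, μF.IsRoot y := by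
    apply IsAlgClosed.exists_root
    rw [degree_eq_natDegree hμFmonic.ne_zero, hdegF]
    exact_mod_cast he.ne'
  have hy0 : y ≠ 0 := by
    intro h0
    have := hroot_pow y hy
    rw [h0, zero_pow hm.ne'] at this
    exact haF this.symm
  have hroots : ∀ z ∈ μF.roots, ∃ ζ : K, ζ ≠ 0 ∧ z = algebraMap K F ζ * y := by
    intro z hz
    have hzr : μF.IsRoot z := isRoot_of_mem_roots hz
    have h1 : (z / y) ^ m = 1 := by
      rw [div_pow, hroot_pow z hzr, hroot_pow y hy, div_self haF]
    have h2 : ((X ^ m - 1 : K[X]).map (algebraMap K F)).IsRoot (z / y) := by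
      simp [h1]
    have hne : (X ^ m - 1 : K[X]) ≠ 0 := by
      have := monic_X_pow_sub_C (1 : K) hm.ne'
      rw [map_one] at this
      exact this.ne_zero
    obtain ⟨ζ, hζ⟩ := (hK m hm).mem_range_of_isRoot hne h2
    refine ⟨ζ, ?_, ?_⟩
    · intro h0
      rw [h0, map_zero] at hζ
      have : z / y = 0 := hζ.symm
      rw [this, zero_pow hm.ne'] at h1
      exact zero_ne_one h1
    · rw [hζ, div_mul_cancel₀ _ hy0]
  obtain ⟨c, hc, hprod⟩ := multiset_prod_smul y μF.roots hroots
  have hcard : Multiset.card μF.roots = μ.natDegree := by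
    rw [← hsplit.natDegree_eq_card_roots, hdegF]
  have hcoeff := hsplit.coeff_zero_eq_prod_roots_of_monic hμFmonic
  rw [hprod, hcard, hdegF, hμF, coeff_map] at hcoeff
  have hcF : algebraMap K F c ≠ 0 := by
    rwa [Ne, map_eq_zero_iff _ (algebraMap K F).injective]
  set e := μ.natDegree with hedef
  have hye : y ^ e = algebraMap K F ((-1) ^ e * μ.coeff 0 / c) := by
    rw [map_div₀, map_mul, map_pow, map_neg, map_one, hcoeff, eq_div_iff hcF]
    have h1 : ((-1 : F) ^ e) * (-1) ^ e = 1 := by
      rw [← mul_pow, neg_one_mul, neg_neg, one_pow]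
    calc y ^ e * algebraMap K F c = ((-1 : F) ^ e * (-1) ^ e) * (y ^ e * algebraMap K F c) := by
          rw [h1, one_mul]
      _ = (-1) ^ e * ((-1) ^ e * (algebraMap K F c * y ^ e)) := by ring
  set b : K := (-1) ^ e * μ.coeff 0 / c with hb
  refine ⟨b, ?_⟩
  have hμy : aeval y μ = 0 := by
    rw [aeval_def, ← eval_map]; exact hy
  have hmin : μ = minpoly K y := minpoly.eq_of_irreducible_of_monic hμ hμy hmonic
  have hdiv : μ ∣ X ^ e - C b := by
    rw [hmin]
    apply minpoly.dvd
    simp [hye]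
  have hm2 : (X ^ e - C b : K[X]).Monic := monic_X_pow_sub_C b he.ne'
  have hdeg2 : (X ^ e - C b : K[X]).natDegree = e := natDegree_X_pow_sub_C
  exact (eq_of_monic_of_dvd_of_natDegree_le hmonic hm2 hdiv (by rw [hdeg2])).symm

section Division

variable (K : Type u) [Field K] (A : Type v) [DivisionRing A] [Algebra K A]

/-- the map `K[X]/(μ) → A` sending the root to `x` -/
noncomputable def adjoinRootTo (x : A) (μ : K[X]) (h : aeval x μ = 0) : AdjoinRoot μ →ₐ[K] A :=
  Ideal.Quotient.liftₐ (Ideal.span {μ}) (aeval x) (by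
    intro a ha
    obtain ⟨c, rfl⟩ := Ideal.mem_span_singleton.mp ha
    rw [map_mul, h, zero_mul])

variable [Algebra.IsCentral K A] [FiniteDimensional K A]

/-- the degree of an element of a central division algebra divides the degree of the algebra -/
theorem natDegree_minpoly_dvd (n : ℕ) (hn : Module.finrank K A = n ^ 2) (x : A) :
    (minpoly K x).natDegree ∣ n := by
  have hint : IsIntegral K x := Algebra.IsIntegral.isIntegral x
  set μ := minpoly K x with hμdef
  have hirr : Irreducible μ := minpoly.irreducible hint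
  have : Fact (Irreducible μ) := ⟨hirr⟩
  have hμ0 : μ ≠ 0 := hirr.ne_zero
  let E := AdjoinRoot μ
  let φ : E →ₐ[K] A := adjoinRootTo K A x μ (minpoly.aeval K x)
  have hinj : Function.Injective φ := (φ : E →+* A).injective
  let B : Subalgebra K A := φ.range
  have : IsSimpleRing B := Groth.Agent.H1.isSimpleRing_subalgebra B
  have h1 := Groth.Agent.H1.finrank_mul_finrank_centralizer B
  have hE : Module.finrank K E = μ.natDegree := by
    rw [(AdjoinRoot.powerBasis hμ0).finrank, AdjoinRoot.powerBasis_dim]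
  have hB : Module.finrank K B = μ.natDegree := by
    rw [← hE]
    exact (AlgEquiv.ofInjective φ hinj).toLinearEquiv.finrank_eq.symm
  let Cc : Subalgebra K A := Subalgebra.centralizer K (B : Set A)
  have hmem : ∀ z : E, φ z ∈ Cc := by
    intro z
    rw [Subalgebra.mem_centralizer_iff]
    rintro _ ⟨w, rfl⟩
    show φ w * φ z = φ z * φ w
    rw [← map_mul, ← map_mul, mul_comm]
  let ψ : E →ₐ[K] Cc := φ.codRestrict Cc hmem
  let _ : Module E Cc := Module.compHom Cc (ψ : E →+* Cc)
  have : IsScalarTower K E Cc := by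
    refine ⟨fun k z c => ?_⟩
    show ψ (k • z) * c = k • (ψ z * c)
    rw [map_smul, smul_mul_assoc]
  have h2 := Module.finrank_mul_finrank K E Cc
  rw [hn, hB, ← h2, hE, ← mul_assoc, ← sq] at h1
  have h3 : μ.natDegree ^ 2 ∣ n ^ 2 := ⟨_, h1⟩
  exact (Nat.pow_dvd_pow_iff (by norm_num)).mp h3

theorem pow_mem_range_of_pow_mem_range
    (hK : ∀ n : ℕ, 0 < n → (X ^ n - 1 : K[X]).Splits)
    (n : ℕ) (hn : Module.finrank K A = n ^ 2)
    (x : A) (hxm : ∃ m : ℕ, 0 < m ∧ x ^ m ∈ (algebraMap K A).range) :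
    x ^ n ∈ (algebraMap K A).range := by
  have hnpos : 0 < n := by
    rcases Nat.eq_zero_or_pos n with h0 | h0
    · rw [h0] at hn
      have : 0 < Module.finrank K A := Module.finrank_pos
      simp at hn
      omega
    · exact h0
  by_cases hx0 : x = 0
  · rw [hx0, zero_pow hnpos.ne']
    exact ⟨0, map_zero _⟩
  obtain ⟨m, hm, a, ha⟩ := hxm
  have ha0 : a ≠ 0 := by
    intro h0
    rw [h0, map_zero] at ha
    exact hx0 (pow_eq_zero_iff hm.ne' |>.mp ha.symm)
  have hint : IsIntegral K x := Algebra.IsIntegral.isIntegral x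
  have hirr : Irreducible (minpoly K x) := minpoly.irreducible hint
  have hdvd : minpoly K x ∣ X ^ m - C a := by
    apply minpoly.dvd
    simp [ha]
  obtain ⟨b, hb⟩ := eq_X_pow_sub_C_of_irreducible_dvd hK (minpoly K x) hirr
    (minpoly.monic hint) m hm a ha0 hdvd
  have hxe : x ^ (minpoly K x).natDegree = algebraMap K A b := by
    have h1 := minpoly.aeval K x
    rw [hb] at h1
    simp only [map_sub, map_pow, aeval_X, aeval_C] at h1
    exact sub_eq_zero.mp h1
  obtain ⟨t, ht⟩ := natDegree_minpoly_dvd K A n hn x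
  refine ⟨b ^ t, ?_⟩
  rw [map_pow, ← hxe, ← pow_mul, ← ht]

end Division

end Groth.Agent.H75
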