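import Mathlib
import Groth.Agent.H75.CentralPow
import Groth.Agent.H75.CSAModDvd

set_option autoImplicit false
universe u v

namespace Groth.Agent.H75

open Polynomial

section Roots

variable {K : Type u} [Field K]

theorem root_pow_eq_of_dvd {F : Type*} [Field F] [Algebra K F] (f : K[X]) (m : ℕ) (a : K)
    (hdvd : f ∣ X ^ m - C a) (z : F) (hz : (f.map (algebraMap K F)).IsRoot z) :
    z ^ m = algebraMap K F a := by
  have h1 : f.map (algebraMap K F) ∣ (X ^ m - C a).map (algebraMap K F) :=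
    Polynomial.map_dvd _ hdvd
  have h3 : ((X ^ m - C a : K[X]).map (algebraMap K F)).IsRoot z := hz.dvd h1
  simp only [Polynomial.map_sub, Polynomial.map_pow, map_X, map_C, IsRoot.def, eval_sub,
    eval_pow, eval_X, eval_C] at h3
  exact sub_eq_zero.mp h3

theorem exists_scalar_of_pow_eq {F : Type*} [Field F] [Algebra K F]
    (hK : ∀ n : ℕ, 0 < n → (X ^ n - 1 : K[X]).Splits) (m : ℕ) (hm : 0 < m) (c : F) (hc : c ≠ 0)
    (z y : F) (hz : z ^ m = c) (hy : y ^ m = c) : ∃ ζ : K, z = algebraMap K F ζ * y := by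
  have hy0 : y ≠ 0 := by
    intro h0
    rw [h0, zero_pow hm.ne'] at hy
    exact hc hy.symm
  have h1 : (z / y) ^ m = 1 := by rw [div_pow, hz, hy, div_self hc]
  have h2 : ((X ^ m - 1 : K[X]).map (algebraMap K F)).IsRoot (z / y) := by simp [h1]
  have hne : (X ^ m - 1 : K[X]) ≠ 0 := by
    have := monic_X_pow_sub_C (1 : K) hm.ne'
    rw [map_one] at this
    exact this.ne_zero
  obtain ⟨ζ, hζ⟩ := (hK m hm).mem_range_of_isRoot hne h2
  exact ⟨ζ, by rw [hζ, div_mul_cancel₀ _ hy0]⟩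

theorem natDegree_le_of_irreducible_dvd
    (hK : ∀ n : ℕ, 0 < n → (X ^ n - 1 : K[X]).Splits)
    (f₁ f₂ : K[X]) (h₁ : Irreducible f₁) (h₂ : Irreducible f₂) (hm₁ : f₁.Monic) (hm₂ : f₂.Monic)
    (m : ℕ) (hm : 0 < m) (a : K) (ha : a ≠ 0)
    (hd₁ : f₁ ∣ X ^ m - C a) (hd₂ : f₂ ∣ X ^ m - C a) : f₁.natDegree ≤ f₂.natDegree := by
  obtain ⟨b₂, hb₂⟩ := eq_X_pow_sub_C_of_irreducible_dvd hK f₂ h₂ hm₂ m hm a ha hd₂
  let F := AlgebraicClosure K
  have hroot : ∀ f : K[X], Irreducible f → ∃ y : F, (f.map (algebraMap K F)).IsRoot y := by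
    intro f hf
    apply IsAlgClosed.exists_root
    rw [degree_map]
    exact (degree_pos_of_irreducible hf).ne'
  obtain ⟨y₁, hy₁⟩ := hroot f₁ h₁
  obtain ⟨y₂, hy₂⟩ := hroot f₂ h₂
  have haF : algebraMap K F a ≠ 0 := by
    rwa [Ne, map_eq_zero_iff _ (algebraMap K F).injective]
  have hp₁ := root_pow_eq_of_dvd f₁ m a hd₁ y₁ hy₁
  have hp₂ := root_pow_eq_of_dvd f₂ m a hd₂ y₂ hy₂
  obtain ⟨ζ, hζ⟩ := exists_scalar_of_pow_eq hK m hm _ haF y₁ y₂ hp₁ hp₂
  have he₂ : 0 < f₂.natDegree := h₂.natDegree_pos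
  have hy₂e : y₂ ^ f₂.natDegree = algebraMap K F b₂ := by
    have h := hy₂
    rw [hb₂] at h
    simp only [Polynomial.map_sub, Polynomial.map_pow, map_X, map_C, IsRoot.def, eval_sub,
      eval_pow, eval_X, eval_C] at h
    exact sub_eq_zero.mp h
  have hy₁e : y₁ ^ f₂.natDegree = algebraMap K F (ζ ^ f₂.natDegree * b₂) := by
    rw [hζ, mul_pow, hy₂e, map_mul, map_pow]
  have hf₁y : aeval y₁ f₁ = 0 := by
    rw [aeval_def, ← eval_map]; exact hy₁
  have hmin : f₁ = minpoly K y₁ := minpoly.eq_of_irreducible_of_monic h₁ hf₁y hm₁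
  have hdiv : f₁ ∣ X ^ f₂.natDegree - C (ζ ^ f₂.natDegree * b₂) := by
    rw [hmin]
    apply minpoly.dvd
    simp [hy₁e]
  have hmon : (X ^ f₂.natDegree - C (ζ ^ f₂.natDegree * b₂) : K[X]).Monic :=
    monic_X_pow_sub_C _ he₂.ne'
  have := natDegree_le_of_dvd hdiv hmon.ne_zero
  rwa [natDegree_X_pow_sub_C] at this

end Roots

section Main

variable {K : Type u} [Field K] {A : Type v} [Ring A] [Algebra K A] [Algebra.IsCentral K A]
  [IsSimpleRing A] [FiniteDimensional K A]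

theorem minpoly_eq_prod_binomials
    (hK : ∀ n : ℕ, 0 < n → (X ^ n - 1 : K[X]).Splits)
    (n : ℕ) (hn : Module.finrank K A = n ^ 2)
    (x : A) (hx : IsUnit x) (hxm : ∃ m : ℕ, 0 < m ∧ x ^ m ∈ (algebraMap K A).range) :
    ∃ r : ℕ, 0 < r ∧ r ∣ n ∧
      ∃ s : Multiset K, minpoly K x = (s.map fun a : K => X ^ r - C a).prod := by
  classical
  have hnpos : 0 < n := by
    rcases Nat.eq_zero_or_pos n with h0 | h0
    · rw [h0] at hn
      have : 0 < Module.finrank K A := Module.finrank_pos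
      simp at hn
      omega
    · exact h0
  obtain ⟨m, hm, a, ha⟩ := hxm
  have ha0 : a ≠ 0 := by
    intro h0
    rw [h0, map_zero] at ha
    have := hx.pow m
    rw [← ha] at this
    exact not_isUnit_zero this
  have hint : IsIntegral K x := Algebra.IsIntegral.isIntegral x
  set μ := minpoly K x with hμ
  have hμmonic : μ.Monic := minpoly.monic hint
  have hμ0 : μ ≠ 0 := hμmonic.ne_zero
  have hdvd : μ ∣ X ^ m - C a := by
    apply minpoly.dvd
    simp [ha]
  set Φ := UniqueFactorizationMonoid.normalizedFactors μ with hΦ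
  have hprod : Φ.prod = μ := by
    rw [hΦ, UniqueFactorizationMonoid.prod_normalizedFactors_eq hμ0, hμmonic.normalize_eq_self]
  have hirr : ∀ f ∈ Φ, Irreducible f :=
    fun f hf => UniqueFactorizationMonoid.irreducible_of_normalized_factor f hf
  have hmonic : ∀ f ∈ Φ, f.Monic := by
    intro f hf
    have h1 := UniqueFactorizationMonoid.normalize_normalized_factor f hf
    rw [← h1]
    exact monic_normalize (hirr f hf).ne_zero
  have hfd : ∀ f ∈ Φ, f ∣ X ^ m - C a :=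
    fun f hf => (UniqueFactorizationMonoid.dvd_of_mem_normalizedFactors hf).trans hdvd
  have hne : Φ ≠ 0 := by
    rw [hΦ, Ne, UniqueFactorizationMonoid.normalizedFactors_eq_zero_iff hμ0]
    exact minpoly.not_isUnit K x
  obtain ⟨f₀, hf₀⟩ := Multiset.exists_mem_of_ne_zero hne
  set r := f₀.natDegree with hr
  have hrpos : 0 < r := (hirr f₀ hf₀).natDegree_pos
  have hdeg : ∀ f ∈ Φ, f.natDegree = r := by
    intro f hf
    apply le_antisymm
    · exact natDegree_le_of_irreducible_dvd hK f f₀ (hirr f hf) (hirr f₀ hf₀) (hmonic f hf)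
        (hmonic f₀ hf₀) m hm a ha0 (hfd f hf) (hfd f₀ hf₀)
    · exact natDegree_le_of_irreducible_dvd hK f₀ f (hirr f₀ hf₀) (hirr f hf) (hmonic f₀ hf₀)
        (hmonic f hf) m hm a ha0 (hfd f₀ hf₀) (hfd f hf)
  have hrn : r ∣ n := by
    have h1 := dvd_finrank_kerR n hn x r Φ (fun f hf => ⟨hirr f hf, hdeg f hf⟩)
    have h2 : kerR x Φ.prod = ⊤ := by
      rw [eq_top_iff]
      intro b _
      rw [mem_kerR, hprod, hμ, minpoly.aeval, mul_zero]
    rw [h2, finrank_top, hn, sq] at h1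
    exact Nat.dvd_of_mul_dvd_mul_right hnpos h1
  refine ⟨r, hrpos, hrn, Φ.map (fun f => -f.coeff 0), ?_⟩
  rw [Multiset.map_map, ← hprod]
  congr 1
  symm
  calc Multiset.map ((fun a : K => X ^ r - C a) ∘ fun f : K[X] => -f.coeff 0) Φ
      = Multiset.map id Φ := by
        apply Multiset.map_congr rfl
        intro f hf
        obtain ⟨b, hb⟩ := eq_X_pow_sub_C_of_irreducible_dvd hK f (hirr f hf) (hmonic f hf) m hm a
          ha0 (hfd f hf)
        rw [hdeg f hf] at hb
        have hc : f.coeff 0 = -b := by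
          rw [hb, coeff_sub, coeff_X_pow, coeff_C_zero, if_neg hrpos.ne, zero_sub]
        show X ^ r - C (-f.coeff 0) = f
        rw [hc, neg_neg, ← hb]
    _ = Φ := Multiset.map_id Φ

end Main

end Groth.Agent.H75
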