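import Groth.Agent.H75.PSOrder

set_option autoImplicit false
universe u

namespace Groth.Agent.H75

open PowerSeries

variable {k : Type u} [Field k]

theorem gaps_finite (V : Submodule k (PowerSeries k)) (c : ℕ)
    (hc : ∀ h : PowerSeries k, (c : ℕ∞) ≤ PowerSeries.order h → h ∈ V)
    (Γ : Set ℕ) (hΓ : ∀ n, n ∈ Γ ↔ ∃ f ∈ V, PowerSeries.order f = n) : Γᶜ.Finite := by
  apply Set.Finite.subset (Set.finite_lt_nat c)
  intro n hn
  by_contra hlt
  apply hn
  rw [hΓ]
  refine ⟨PowerSeries.X ^ n, hc _ ?_, PowerSeries.order_X_pow n⟩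
  rw [PowerSeries.order_X_pow]
  have : c ≤ n := not_lt.mp hlt
  exact_mod_cast this

theorem finrank_quot_eq_ncard_gaps (V : Submodule k (PowerSeries k)) (c : ℕ)
    (hc : ∀ h : PowerSeries k, (c : ℕ∞) ≤ PowerSeries.order h → h ∈ V)
    (Γ : Set ℕ) (hΓ : ∀ n, n ∈ Γ ↔ ∃ f ∈ V, PowerSeries.order f = n) :
    Module.finrank k (PowerSeries k ⧸ V) = Γᶜ.ncard := by
  classical
  have hfin := gaps_finite V c hc Γ hΓ
  letI : Fintype ↥(Γᶜ) := hfin.fintype
  let P : (↥(Γᶜ) → k) →ₗ[k] PowerSeries k :=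
    Fintype.linearCombination k (fun i : ↥(Γᶜ) => (PowerSeries.X : PowerSeries k) ^ (i : ℕ))
  have hP : ∀ g, P g = ∑ i, g i • (PowerSeries.X : PowerSeries k) ^ (i : ℕ) := fun g =>
    Fintype.linearCombination_apply k _ g
  have hcoeff : ∀ g (j : ↥(Γᶜ)), PowerSeries.coeff (j : ℕ) (P g) = g j := by
    intro g j
    rw [hP, map_sum]
    rw [Finset.sum_eq_single j]
    · simp [PowerSeries.coeff_X_pow]
    · intro b _ hb
      rw [PowerSeries.coeff_smul, PowerSeries.coeff_X_pow]
      have : (j : ℕ) ≠ (b : ℕ) := fun h => hb (Subtype.ext h.symm)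
      simp [this]
    · intro h
      exact absurd (Finset.mem_univ j) h
  have hcoeff' : ∀ g (j : ℕ), j ∈ Γ → PowerSeries.coeff j (P g) = 0 := by
    intro g j hj
    rw [hP, map_sum]
    apply Finset.sum_eq_zero
    intro b _
    rw [PowerSeries.coeff_smul, PowerSeries.coeff_X_pow]
    have : j ≠ (b : ℕ) := fun h => b.2 (h ▸ hj)
    simp [this]
  let φ : (↥(Γᶜ) → k) →ₗ[k] (PowerSeries k ⧸ V) := V.mkQ ∘ₗ P
  have hinj : Function.Injective φ := by
    rw [← LinearMap.ker_eq_bot, LinearMap.ker_eq_bot']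
    intro g hg
    have hgV : P g ∈ V := by
      have : V.mkQ (P g) = 0 := hg
      simpa using this
    by_contra hne
    have hex : ∃ n : ℕ, ∃ h : n ∈ Γᶜ, g ⟨n, h⟩ ≠ 0 := by
      by_contra hno
      apply hne
      funext i
      by_contra hi
      exact hno ⟨i, i.2, hi⟩
    let n₀ := Nat.find hex
    obtain ⟨hn₀, hgn₀⟩ := Nat.find_spec hex
    have hmin : ∀ m < n₀, ∀ h : m ∈ Γᶜ, g ⟨m, h⟩ = 0 := by
      intro m hm h
      by_contra h0
      exact Nat.find_min hex hm ⟨h, h0⟩
    have hord : PowerSeries.order (P g) = (n₀ : ℕ) := by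
      rw [PowerSeries.order_eq_nat]
      constructor
      · have := hcoeff g ⟨n₀, hn₀⟩
        simp only at this
        rw [this]
        exact hgn₀
      · intro i hi
        by_cases hiΓ : i ∈ Γ
        · exact hcoeff' g i hiΓ
        · have := hcoeff g ⟨i, hiΓ⟩
          simp only at this
          rw [this]
          exact hmin i hi hiΓ
    exact hn₀ ((hΓ n₀).mpr ⟨P g, hgV, hord⟩)
  have hsurjQ : ∀ m n : ℕ, c ≤ n + m → ∀ f : PowerSeries k, (n : ℕ∞) ≤ PowerSeries.order f →
      ∃ g, f - P g ∈ V := by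
    intro m
    induction m with
    | zero =>
      intro n hn f hf
      refine ⟨0, ?_⟩
      rw [map_zero, sub_zero]
      apply hc
      refine le_trans ?_ hf
      exact_mod_cast hn
    | succ m ih =>
      intro n hn f hf
      by_cases hnΓ : n ∈ Γ
      · obtain ⟨a, haV, hao⟩ := (hΓ n).mp hnΓ
        obtain ⟨l, hl⟩ := exists_smul_sub_order_gt f a n hao hf
        obtain ⟨g, hg⟩ := ih (n + 1) (by omega) (f - l • a) hl
        refine ⟨g, ?_⟩
        have : f - P g = (f - l • a - P g) + l • a := by ring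
        rw [this]
        exact V.add_mem hg (V.smul_mem l haV)
      · obtain ⟨l, hl⟩ := exists_smul_sub_order_gt f (PowerSeries.X ^ n) n
          (PowerSeries.order_X_pow n) hf
        obtain ⟨g, hg⟩ := ih (n + 1) (by omega) (f - l • PowerSeries.X ^ n) hl
        refine ⟨g + Pi.single ⟨n, hnΓ⟩ l, ?_⟩
        have hPs : P (Pi.single ⟨n, hnΓ⟩ l) = l • (PowerSeries.X : PowerSeries k) ^ n := by
          rw [hP, Finset.sum_eq_single ⟨n, hnΓ⟩]
          · simp
          · intro b _ hb
            simp [Pi.single_eq_of_ne hb]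
          · intro h
            exact absurd (Finset.mem_univ _) h
        have : f - P (g + Pi.single ⟨n, hnΓ⟩ l) = f - l • PowerSeries.X ^ n - P g := by
          rw [map_add, hPs]
          ring
        rw [this]
        exact hg
  have hsurj : Function.Surjective φ := by
    intro q
    obtain ⟨f, rfl⟩ := V.mkQ_surjective q
    obtain ⟨g, hg⟩ := hsurjQ c 0 (by omega) f (by simp)
    refine ⟨g, ?_⟩
    show V.mkQ (P g) = V.mkQ f
    have h2 : V.mkQ (f - P g) = 0 := by
      rw [Submodule.mkQ_apply, Submodule.Quotient.mk_eq_zero]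
      exact hg
    rw [map_sub, sub_eq_zero] at h2
    exact h2.symm
  have e := LinearEquiv.ofBijective φ ⟨hinj, hsurj⟩
  rw [← e.finrank_eq, Module.finrank_fintype_fun_eq_card]
  rw [Set.ncard_eq_toFinset_card', Set.toFinset_card]

end Groth.Agent.H75
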