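import Mathlib

/-! Helper for S15034: a finitely generated module over a closed subalgebra of `k⟦X⟧` (with
`k⟦X⟧` finite over it) whose value set contains all `n ≥ c` contains `X^c k⟦X⟧`. -/

set_option autoImplicit false

namespace Groth.Agent.H75.ValSemi

open PowerSeries

variable {k : Type*} [Field k]

theorem dvd_iff_le_order {c : ℕ} {f : k⟦X⟧} : (X : k⟦X⟧) ^ c ∣ f ↔ (c : ℕ∞) ≤ f.order := by
  rw [X_pow_dvd_iff]
  constructor
  · intro h
    exact nat_le_order f c h
  · intro h m hm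
    exact coeff_of_lt_order m (lt_of_lt_of_le (by exact_mod_cast hm) h)

theorem exists_pos_order (A : Subalgebra k k⟦X⟧) (hA : Module.Finite A k⟦X⟧) :
    ∃ a ∈ A, a ≠ 0 ∧ constantCoeff a = 0 := by
  by_contra h
  push Not at h
  have hbot : A = ⊥ := by
    rw [eq_bot_iff]
    intro a ha
    have h1 : a - algebraMap k k⟦X⟧ (constantCoeff a) ∈ A :=
      A.sub_mem ha (A.algebraMap_mem _)
    have h2 : constantCoeff (a - algebraMap k k⟦X⟧ (constantCoeff a)) = 0 := by
      rw [map_sub]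
      change constantCoeff a - constantCoeff (C (constantCoeff a)) = 0
      rw [constantCoeff_C, sub_self]
    have h3 : a - algebraMap k k⟦X⟧ (constantCoeff a) = 0 := by
      by_contra h3
      exact h _ h1 h3 h2
    rw [Algebra.mem_bot]
    exact ⟨constantCoeff a, (sub_eq_zero.1 h3).symm⟩
  subst hbot
  have h1 : Module.Finite k (⊥ : Subalgebra k k⟦X⟧) := Subalgebra.finite_bot
  have h2 : Module.Finite k k⟦X⟧ := Module.Finite.trans (⊥ : Subalgebra k k⟦X⟧) k⟦X⟧
  have h3 : Module.Finite k (Polynomial k) :=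
    Module.Finite.of_injective (Polynomial.coeToPowerSeries.algHom k).toLinearMap (by
      intro p q hpq
      apply Polynomial.coe_injective k
      simpa [Polynomial.coeToPowerSeries.algHom_apply] using hpq)
  exact Polynomial.not_finite h3

theorem mem_jacobson (A : Subalgebra k k⟦X⟧)
    (hcl : ∀ f : k⟦X⟧, (∀ n : ℕ, ∃ g ∈ A, (n : ℕ∞) ≤ PowerSeries.order (f - g)) → f ∈ A)
    (a : A) (ha0 : constantCoeff (a : k⟦X⟧) = 0) : a ∈ Ideal.jacobson (⊥ : Ideal A) := by
  rw [Ideal.mem_jacobson_bot]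
  intro y
  set x : k⟦X⟧ := -((a : k⟦X⟧) * (y : k⟦X⟧)) with hx
  have hx0 : constantCoeff x = 0 := by
    rw [hx, map_neg, map_mul, ha0, zero_mul, neg_zero]
  have hxA : x ∈ A := A.neg_mem (A.mul_mem a.2 y.2)
  have hc1 : constantCoeff (1 - x) ≠ 0 := by
    rw [map_sub, hx0, sub_zero, map_one]
    exact one_ne_zero
  set g : k⟦X⟧ := (1 - x)⁻¹ with hg
  have hg1 : (1 - x) * g = 1 := PowerSeries.mul_inv_cancel _ hc1
  have hgA : g ∈ A := by
    apply hcl
    intro n
    refine ⟨∑ i ∈ Finset.range n, x ^ i, A.sum_mem fun i _ => A.pow_mem hxA i, ?_⟩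
    have h1 : g - ∑ i ∈ Finset.range n, x ^ i = g * x ^ n := by
      have h2 : (1 - x) * (g - ∑ i ∈ Finset.range n, x ^ i) = x ^ n := by
        rw [mul_sub, hg1, mul_neg_geom_sum]
        ring
      calc g - ∑ i ∈ Finset.range n, x ^ i
          = ((1 - x) * g) * (g - ∑ i ∈ Finset.range n, x ^ i) := by rw [hg1, one_mul]
        _ = g * ((1 - x) * (g - ∑ i ∈ Finset.range n, x ^ i)) := by ring
        _ = g * x ^ n := by rw [h2]
    rw [h1]
    calc (n : ℕ∞) ≤ order (x ^ n) := le_order_pow_of_constantCoeff_eq_zero n hx0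
      _ ≤ order g + order (x ^ n) := le_add_self
      _ ≤ order (g * x ^ n) := le_order_mul _ _
  rw [isUnit_iff_exists_inv]
  refine ⟨⟨g, hgA⟩, Subtype.ext ?_⟩
  change ((a : k⟦X⟧) * (y : k⟦X⟧) + 1) * g = 1
  have e : (a : k⟦X⟧) * (y : k⟦X⟧) + 1 = 1 - x := by
    rw [hx]
    ring
  rw [e, hg1]

theorem mem_of_dvd (A : Subalgebra k k⟦X⟧) (hA : Module.Finite A k⟦X⟧)
    (hcl : ∀ f : k⟦X⟧, (∀ n : ℕ, ∃ g ∈ A, (n : ℕ∞) ≤ PowerSeries.order (f - g)) → f ∈ A)
    (N : Submodule A k⟦X⟧) (c : ℕ)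
    (hc : ∀ n : ℕ, c ≤ n → ∃ f ∈ N, PowerSeries.order f = n) :
    ∀ f : k⟦X⟧, (X : k⟦X⟧) ^ c ∣ f → f ∈ N := by
  classical
  -- scalars act through `C`
  have hsmul : ∀ (l : k) (h : k⟦X⟧), (algebraMap k A l) • h = C l * h := by
    intro l h
    rfl
  -- approximation
  have approx : ∀ f : k⟦X⟧, (X : k⟦X⟧) ^ c ∣ f → ∀ j : ℕ,
      ∃ g ∈ N, (X : k⟦X⟧) ^ c ∣ g ∧ (X : k⟦X⟧) ^ (c + j) ∣ (f - g) := by
    intro f hf j
    induction j with
    | zero => exact ⟨0, N.zero_mem, dvd_zero _, by simpa using hf⟩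
    | succ j ih =>
      obtain ⟨g, hgN, hgc, hgj⟩ := ih
      by_cases hr : coeff (c + j) (f - g) = 0
      · refine ⟨g, hgN, hgc, ?_⟩
        rw [X_pow_dvd_iff] at hgj ⊢
        intro m hm
        rcases Nat.lt_or_ge m (c + j) with h | h
        · exact hgj m h
        · have : m = c + j := by omega
          rw [this]
          exact hr
      · obtain ⟨h, hhN, hho⟩ := hc (c + j) (Nat.le_add_right c j)
        rw [order_eq_nat] at hho
        obtain ⟨hh1, hh2⟩ := hho
        refine ⟨g + (algebraMap k A (coeff (c + j) (f - g) / coeff (c + j) h)) • h,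
          N.add_mem hgN (N.smul_mem _ hhN), ?_, ?_⟩
        · refine dvd_add hgc ?_
          rw [hsmul]
          refine Dvd.dvd.mul_left ?_ _
          rw [X_pow_dvd_iff]
          intro m hm
          exact hh2 m (by omega)
        · rw [hsmul, X_pow_dvd_iff]
          rw [X_pow_dvd_iff] at hgj
          intro m hm
          have e : f - (g + C (coeff (c + j) (f - g) / coeff (c + j) h) * h) =
              (f - g) - C (coeff (c + j) (f - g) / coeff (c + j) h) * h := by ring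
          rw [e, map_sub, coeff_C_mul]
          rcases Nat.lt_or_ge m (c + j) with h' | h'
          · rw [hgj m h', hh2 m h', mul_zero, sub_zero]
          · have : m = c + j := by omega
            rw [this]
            field_simp
            ring
  obtain ⟨a, haA, ha0, hac⟩ := exists_pos_order A hA
  set d := a.order.toNat with hd
  have had : (X : k⟦X⟧) ^ d * divXPowOrder a = a := X_pow_order_mul_divXPowOrder
  obtain ⟨b1, hb1⟩ := (isUnit_divided_by_X_pow_order ha0).exists_right_inv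
  let W : Submodule A k⟦X⟧ := Submodule.map (LinearMap.mulLeft A ((X : k⟦X⟧) ^ c)) ⊤
  have hmemW : ∀ f : k⟦X⟧, f ∈ W ↔ (X : k⟦X⟧) ^ c ∣ f := by
    intro f
    constructor
    · rintro ⟨g, -, rfl⟩
      exact ⟨g, rfl⟩
    · rintro ⟨g, rfl⟩
      exact ⟨g, Submodule.mem_top, rfl⟩
  have hWfg : W.FG := (Module.Finite.fg_top).map _
  have hIJ : Ideal.span {(⟨a, haA⟩ : A)} ≤ Ideal.jacobson (⊥ : Ideal A) := by
    rw [Ideal.span_le, Set.singleton_subset_iff]
    exact mem_jacobson A hcl ⟨a, haA⟩ hac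
  have hNN : W ≤ (N ⊓ W) ⊔ Ideal.span {(⟨a, haA⟩ : A)} • W := by
    intro f hf
    rw [hmemW] at hf
    obtain ⟨g, hgN, hgc, hgd⟩ := approx f hf d
    obtain ⟨r', hr'⟩ := hgd
    have hw : (X : k⟦X⟧) ^ c * r' * b1 ∈ W := (hmemW _).2 ⟨r' * b1, by ring⟩
    have hfg : f = g + (⟨a, haA⟩ : A) • ((X : k⟦X⟧) ^ c * r' * b1) := by
      change f = g + a * ((X : k⟦X⟧) ^ c * r' * b1)
      have : a * ((X : k⟦X⟧) ^ c * r' * b1) = f - g := by
        rw [hr', ← had]
        calc (X : k⟦X⟧) ^ d * divXPowOrder a * ((X : k⟦X⟧) ^ c * r' * b1)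
            = (X : k⟦X⟧) ^ (c + d) * r' * (divXPowOrder a * b1) := by ring
          _ = (X : k⟦X⟧) ^ (c + d) * r' := by rw [hb1, mul_one]
      rw [this]
      ring
    rw [hfg]
    refine Submodule.add_mem_sup ⟨hgN, (hmemW g).2 hgc⟩ ?_
    exact Submodule.smul_mem_smul (Ideal.mem_span_singleton_self _) hw
  have hle := Submodule.le_of_le_smul_of_le_jacobson_bot hWfg hIJ hNN
  intro f hf
  exact (hle ((hmemW f).2 hf)).1

end Groth.Agent.H75.ValSemi
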