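import Mathlib
import Groth.Agent.H75.PSGaps
import Groth.Agent.H75.ValSemiCond

set_option autoImplicit false
universe u

namespace Groth.Agent.H75.MonoRank1

open PowerSeries TensorProduct

section Embed

/-- clearing denominators of a `K`-linear form on `K ⊗ Q` -/
theorem exists_integral_multiple' {A : Type u} [CommRing A] [IsDomain A] {Q : Type u} [AddCommGroup Q]
    [Module A Q] [Module.Finite A Q]
    (l : Module.Dual (FractionRing A) (FractionRing A ⊗[A] Q)) :
    ∃ (ψ : Q →ₗ[A] A) (c : A), c ≠ 0 ∧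
      ∀ x, algebraMap A (FractionRing A) (ψ x) = c • l ((1 : FractionRing A) ⊗ₜ[A] x) := by
  classical
  let K := FractionRing A
  let f : Q →ₗ[A] K ⊗[A] Q := TensorProduct.mk A K Q 1
  obtain ⟨S, hS⟩ := (Module.finite_def.mp (inferInstance : Module.Finite A Q))
  obtain ⟨b, hb⟩ := IsLocalization.exist_integer_multiples_of_finset (nonZeroDivisors A)
    (S.image (fun x => l (f x)))
  let ψ₀ : Q →ₗ[A] K := (b : A) • ((l.restrictScalars A) ∘ₗ f)
  have hψ₀ : ∀ x, ψ₀ x = (b : A) • l (f x) := fun x => rfl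
  have hrange : ∀ x : Q, ψ₀ x ∈ LinearMap.range (Algebra.linearMap A K) := by
    intro x
    have hx : x ∈ Submodule.span A (S : Set Q) := by rw [hS]; trivial
    induction hx using Submodule.span_induction with
    | mem y hy =>
      obtain ⟨c, hc⟩ := hb (l (f y)) (Finset.mem_image_of_mem _ hy)
      exact ⟨c, by rw [hψ₀]; exact hc⟩
    | zero => simp
    | add y z _ _ hy hz => rw [map_add]; exact Submodule.add_mem _ hy hz
    | smul r y _ hy => rw [map_smul]; exact Submodule.smul_mem _ r hy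
  have hinj : Function.Injective (Algebra.linearMap A K) := IsFractionRing.injective A K
  let e := LinearEquiv.ofInjective (Algebra.linearMap A K) hinj
  let ψ : Q →ₗ[A] A := e.symm.toLinearMap ∘ₗ (ψ₀.codRestrict _ hrange)
  refine ⟨ψ, (b : A), nonZeroDivisors.ne_zero b.2, ?_⟩
  intro x
  have : e (ψ x) = ψ₀.codRestrict _ hrange x := by
    simp [ψ]
  have h2 := congrArg Subtype.val this
  have h3 : algebraMap A K (ψ x) = ψ₀ x := by simpa [e] using h2
  rw [hψ₀] at h3
  exact h3

/-- a finitely generated torsion-free module of rank one over a domain embeds into the ring -/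
theorem exists_embedding_rank_one {A : Type u} [CommRing A] [IsDomain A] {Q : Type u} [AddCommGroup Q]
    [Module A Q] [Module.Finite A Q] [NoZeroSMulDivisors A Q]
    (hrk : Module.finrank (FractionRing A) (FractionRing A ⊗[A] Q) = 1) :
    ∃ j : Q →ₗ[A] A, Function.Injective j := by
  classical
  let K := FractionRing A
  let V := K ⊗[A] Q
  have hfd : FiniteDimensional K V := inferInstance
  let b : Module.Basis (Fin 1) K V := Module.basisUnique (Fin 1) hrk
  obtain ⟨ψ, c, hc, hψ⟩ := exists_integral_multiple' (A := A) (Q := Q) (b.coord 0)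
  refine ⟨ψ, ?_⟩
  rw [← LinearMap.ker_eq_bot, LinearMap.ker_eq_bot']
  intro x hx
  have hinjK : Function.Injective (algebraMap A K) := IsFractionRing.injective A K
  have h1 : b.coord 0 ((1 : K) ⊗ₜ[A] x) = 0 := by
    have h3 := hψ x
    rw [hx, map_zero] at h3
    have hcK : algebraMap A K c ≠ 0 := fun h => hc (hinjK (by rw [h, map_zero]))
    rw [Algebra.smul_def] at h3
    exact (mul_eq_zero.mp h3.symm).resolve_left hcK
  have h4 : ((1 : K) ⊗ₜ[A] x : V) = 0 := by
    apply b.ext_elem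
    intro i
    rw [map_zero, Finsupp.zero_apply]
    have : i = 0 := Subsingleton.elim _ _
    rw [this]
    exact h1
  obtain ⟨s, hs⟩ := (IsLocalizedModule.eq_zero_iff (nonZeroDivisors A)
    (TensorProduct.mk A K Q 1)).mp h4
  have hs0 : (s : A) ≠ 0 := nonZeroDivisors.ne_zero s.2
  exact (smul_eq_zero.mp hs).resolve_left hs0

end Embed


variable {k : Type u} [Field k]

theorem smul_def' (A : Subalgebra k (PowerSeries k)) (a : ↥A) (f : PowerSeries k) :
    a • f = (a : PowerSeries k) * f := rfl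

/-- the conductor is nonzero -/
theorem exists_conductor_elt (A : Subalgebra k (PowerSeries k)) (hA : Module.Finite ↥A (PowerSeries k))
    (hbir : ∀ f : PowerSeries k, ∃ a ∈ A, a ≠ 0 ∧ a * f ∈ A) :
    ∃ a ∈ A, a ≠ 0 ∧ ∀ f : PowerSeries k, a * f ∈ A := by
  classical
  obtain ⟨S, hS⟩ := (Module.finite_def.mp hA)
  choose a haA ha0 haf using hbir
  refine ⟨∏ s ∈ S, a s, Subalgebra.prod_mem _ (fun s _ => haA s),
    Finset.prod_ne_zero_iff.mpr (fun s _ => ha0 s), ?_⟩
  intro f
  have hf : f ∈ Submodule.span ↥A (S : Set (PowerSeries k)) := by rw [hS]; trivial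
  induction hf using Submodule.span_induction with
  | mem s hs =>
    rw [← Finset.mul_prod_erase S a hs, mul_comm (a s), mul_assoc]
    exact A.mul_mem (Subalgebra.prod_mem _ (fun s' _ => haA s')) (haf s)
  | zero => rw [mul_zero]; exact A.zero_mem
  | add x y _ _ hx hy => rw [mul_add]; exact A.add_mem hx hy
  | smul b x _ hx =>
    rw [smul_def', mul_left_comm]
    exact A.mul_mem b.2 hx

/-- multiplication by a power of `X` as an `A`-linear map -/
noncomputable def mulX (A : Subalgebra k (PowerSeries k)) (d : ℕ) : PowerSeries k →ₗ[↥A] PowerSeries k :=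
  { toFun := fun f => (X : PowerSeries k) ^ d * f
    map_add' := fun f g => mul_add _ _ _
    map_smul' := fun a f => by
      simp only [smul_def', RingHom.id_apply]
      ring }

theorem mulX_apply (A : Subalgebra k (PowerSeries k)) (d : ℕ) (f : PowerSeries k) :
    mulX A d f = (X : PowerSeries k) ^ d * f := rfl

theorem mulX_injective (A : Subalgebra k (PowerSeries k)) (d : ℕ) : Function.Injective (mulX A d) := by
  intro f g h
  exact mul_left_cancel₀ (pow_ne_zero d PowerSeries.X_ne_zero) h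

theorem order_mulX (A : Subalgebra k (PowerSeries k)) (d : ℕ) (f : PowerSeries k) :
    PowerSeries.order (mulX A d f) = d + PowerSeries.order f := by
  rw [mulX_apply, PowerSeries.order_mul, PowerSeries.order_X_pow]


/-- normalise a nonzero submodule so that it contains a unit -/
theorem exists_normalized (A : Subalgebra k (PowerSeries k)) (I : Submodule ↥A (PowerSeries k))
    (hI : I ≠ ⊥) :
    ∃ I' : Submodule ↥A (PowerSeries k), Nonempty (↥I ≃ₗ[↥A] ↥I') ∧
      ∃ u ∈ I', PowerSeries.order u = 0 := by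
  classical
  obtain ⟨f₀, hf₀I, hf₀⟩ := Submodule.exists_mem_ne_zero_of_ne_bot hI
  have hex : ∃ n : ℕ, ∃ f ∈ I, PowerSeries.order f = (n : ℕ∞) :=
    ⟨f₀.order.toNat, f₀, hf₀I, (PowerSeries.coe_toNat_order hf₀).symm⟩
  set o := Nat.find hex with ho
  obtain ⟨f₁, hf₁I, hf₁o⟩ := Nat.find_spec hex
  have hmin : ∀ f ∈ I, (o : ℕ∞) ≤ PowerSeries.order f := by
    intro f hf
    by_cases h0 : f = 0
    · rw [h0, PowerSeries.order_zero]; exact le_top
    · have h1 : ∃ g ∈ I, PowerSeries.order g = (f.order.toNat : ℕ∞) :=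
        ⟨f, hf, (PowerSeries.coe_toNat_order h0).symm⟩
      have h2 := Nat.find_min' hex h1
      rw [← PowerSeries.coe_toNat_order h0]
      exact_mod_cast h2
  let I' : Submodule ↥A (PowerSeries k) := I.comap (mulX A o)
  have hmem : ∀ f, f ∈ I' ↔ mulX A o f ∈ I := fun f => Iff.rfl
  let ψ : ↥I' →ₗ[↥A] ↥I := (mulX A o).restrict (fun f hf => (hmem f).mp hf)
  have hψinj : Function.Injective ψ := by
    intro f g h
    apply Subtype.ext
    apply mulX_injective A o
    exact congrArg Subtype.val h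
  have hψsurj : Function.Surjective ψ := by
    rintro ⟨g, hg⟩
    obtain ⟨f, rfl⟩ := ValSemi.dvd_iff_le_order.mpr (hmin g hg)
    exact ⟨⟨f, (hmem f).mpr hg⟩, Subtype.ext rfl⟩
  refine ⟨I', ⟨(LinearEquiv.ofBijective ψ ⟨hψinj, hψsurj⟩).symm⟩, ?_⟩
  obtain ⟨u, rfl⟩ := ValSemi.dvd_iff_le_order.mpr (hmin f₁ hf₁I)
  refine ⟨u, (hmem u).mpr hf₁I, ?_⟩
  rw [PowerSeries.order_mul, PowerSeries.order_X_pow] at hf₁o
  have hfin : PowerSeries.order u ≠ ⊤ := by
    intro h
    rw [h] at hf₁o
    simp at hf₁o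
  lift PowerSeries.order u to ℕ using hfin with m hm
  have : o + m = o := by exact_mod_cast hf₁o
  have hm0 : m = 0 := by omega
  rw [hm0]
  rfl


/-- the counting bound for the conductor of a semimodule -/
theorem conductor_le (Γ Δ : Set ℕ) (hΓfin : Γᶜ.Finite) (hΔfin : Δᶜ.Finite)
    (hadd : ∀ n ∈ Γ, ∀ m ∈ Δ, n + m ∈ Δ) (c : ℕ) (hc : c ≠ 0 → c - 1 ∉ Δ) :
    c ≤ Γᶜ.ncard + Δᶜ.ncard := by
  classical
  rw [Set.ncard_eq_toFinset_card _ hΓfin, Set.ncard_eq_toFinset_card _ hΔfin]
  have hsub : Finset.range c ⊆ hΓfin.toFinset ∪ (hΔfin.toFinset.image (fun y => c - 1 - y)) := by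
    intro x hx
    rw [Finset.mem_range] at hx
    rw [Finset.mem_union]
    by_cases hxΓ : x ∈ Γ
    · right
      rw [Finset.mem_image]
      refine ⟨c - 1 - x, ?_, by omega⟩
      rw [Set.Finite.mem_toFinset, Set.mem_compl_iff]
      intro hy
      have := hadd x hxΓ _ hy
      have e : x + (c - 1 - x) = c - 1 := by omega
      rw [e] at this
      exact hc (by omega) this
    · left
      rw [Set.Finite.mem_toFinset]
      exact hxΓ
  calc c = (Finset.range c).card := (Finset.card_range c).symm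
    _ ≤ (hΓfin.toFinset ∪ (hΔfin.toFinset.image (fun y => c - 1 - y))).card :=
        Finset.card_le_card hsub
    _ ≤ hΓfin.toFinset.card + (hΔfin.toFinset.image (fun y => c - 1 - y)).card :=
        Finset.card_union_le _ _
    _ ≤ hΓfin.toFinset.card + hΔfin.toFinset.card :=
        Nat.add_le_add_left Finset.card_image_le _

/-- gaps of a shifted set -/
theorem ncard_compl_shift (Δ : Set ℕ) (hΔfin : Δᶜ.Finite) (d : ℕ) :
    ({n : ℕ | d ≤ n ∧ n - d ∈ Δ}ᶜ).ncard = d + Δᶜ.ncard := by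
  classical
  have h1 : {n : ℕ | d ≤ n ∧ n - d ∈ Δ}ᶜ =
      (↑(Finset.range d) : Set ℕ) ∪ (fun y => y + d) '' Δᶜ := by
    ext n
    simp only [Set.mem_compl_iff, Set.mem_setOf_eq, not_and, Set.mem_union, Finset.coe_range,
      Set.mem_Iio, Set.mem_image]
    constructor
    · intro h
      by_cases hn : n < d
      · left; exact hn
      · right
        exact ⟨n - d, h (by omega), by omega⟩
    · rintro (h | ⟨y, hy, rfl⟩)
      · intro h'; omega
      · intro _
        rwa [Nat.add_sub_cancel]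
  rw [h1, Set.ncard_union_eq ?_ (Finset.finite_toSet _) (hΔfin.image _),
    Set.ncard_coe_finset, Finset.card_range,
    Set.ncard_image_of_injective _ (fun a b h => by simpa using h)]
  rw [Set.disjoint_left]
  rintro n hn ⟨y, _, rfl⟩
  simp only [Finset.coe_range, Set.mem_Iio] at hn
  omega

theorem main (A : Subalgebra k (PowerSeries k)) (hA : Module.Finite ↥A (PowerSeries k))
    (hcl : ∀ f : PowerSeries k, (∀ n : ℕ, ∃ g ∈ A, (n : ℕ∞) ≤ PowerSeries.order (f - g)) → f ∈ A)
    (hbir : ∀ f : PowerSeries k, ∃ a ∈ A, a ≠ 0 ∧ a * f ∈ A) (Γ : Set ℕ)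
    (hΓ : ∀ n : ℕ, n ∈ Γ ↔ ∃ f ∈ A, PowerSeries.order f = n)
    (M : Type u) [AddCommGroup M] [Module ↥A M] [Module.Finite ↥A M] [NoZeroSMulDivisors ↥A M]
    (hrk : Module.finrank (FractionRing ↥A) (TensorProduct ↥A (FractionRing ↥A) M) = 1) :
    ∃ M' : Submodule ↥A (PowerSeries k),
      (Ideal.span {(PowerSeries.X : PowerSeries k) ^ (2 * Γᶜ.ncard)}).restrictScalars ↥A ≤ M' ∧
      Nonempty (M ≃ₗ[↥A] ↥M') ∧
      Module.finrank k (PowerSeries k ⧸ M'.restrictScalars k) = Γᶜ.ncard := by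
  classical
  -- step 1: embed M into k[[t]]
  obtain ⟨j, hj⟩ := exists_embedding_rank_one (A := ↥A) (Q := M) hrk
  let incl : ↥A →ₗ[↥A] PowerSeries k :=
    { toFun := fun a => (a : PowerSeries k)
      map_add' := fun a b => rfl
      map_smul' := fun a b => rfl }
  let φ : M →ₗ[↥A] PowerSeries k := incl ∘ₗ j
  have hφ : Function.Injective φ := fun x y h => hj (Subtype.ext h)
  let I : Submodule ↥A (PowerSeries k) := LinearMap.range φ
  let e0 : M ≃ₗ[↥A] ↥I := LinearEquiv.ofInjective φ hφ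
  have hI : I ≠ ⊥ := by
    intro h
    have hsub : Subsingleton M := by
      refine ⟨fun x y => hφ ?_⟩
      have hx : φ x ∈ I := ⟨x, rfl⟩
      have hy : φ y ∈ I := ⟨y, rfl⟩
      rw [h, Submodule.mem_bot] at hx hy
      rw [hx, hy]
    have : Subsingleton (TensorProduct ↥A (FractionRing ↥A) M) := inferInstance
    have h0 := Module.finrank_zero_of_subsingleton (R := FractionRing ↥A)
      (M := TensorProduct ↥A (FractionRing ↥A) M)
    omega
  -- step 2: normalise
  obtain ⟨I', ⟨e1⟩, u, huI', hu0⟩ := exists_normalized A I hI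
  -- step 3: conductor of A
  obtain ⟨a, haA, ha0, haf⟩ := exists_conductor_elt A hA hbir
  set cA := a.order.toNat with hcAdef
  have hcA : ∀ h : PowerSeries k, (cA : ℕ∞) ≤ PowerSeries.order h → h ∈ A := by
    intro h hh
    have := mem_of_order_ge_of_mul_mem (V := (A : Set (PowerSeries k))) a ha0 haf h (by
      rw [← PowerSeries.coe_toNat_order ha0]; exact hh)
    exact this
  have hΓc : ∀ n : ℕ, cA ≤ n → n ∈ Γ := by
    intro n hn
    rw [hΓ]
    refine ⟨PowerSeries.X ^ n, hcA _ ?_, PowerSeries.order_X_pow n⟩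
    rw [PowerSeries.order_X_pow]
    exact_mod_cast hn
  -- step 4: value set of I'
  set Δ : Set ℕ := {n | ∃ f ∈ I', PowerSeries.order f = (n : ℕ∞)} with hΔdef
  have hadd : ∀ n ∈ Γ, ∀ m ∈ Δ, n + m ∈ Δ := by
    intro n hn m hm
    obtain ⟨f, hfA, hfo⟩ := (hΓ n).mp hn
    obtain ⟨g, hgI, hgo⟩ := hm
    refine ⟨(⟨f, hfA⟩ : ↥A) • g, I'.smul_mem _ hgI, ?_⟩
    rw [smul_def', PowerSeries.order_mul, hfo, hgo]
    rfl
  have h0Δ : (0 : ℕ) ∈ Δ := ⟨u, huI', by rw [hu0]; rfl⟩
  have hΓΔ : Γ ⊆ Δ := fun n hn => by simpa using hadd n hn 0 h0Δ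
  have hex : ∃ c' : ℕ, ∀ n : ℕ, c' ≤ n → n ∈ Δ := ⟨cA, fun n hn => hΓΔ (hΓc n hn)⟩
  set cΔ := Nat.find hex with hcΔdef
  have hcΔ : ∀ n : ℕ, cΔ ≤ n → n ∈ Δ := Nat.find_spec hex
  have hcΔmin : cΔ ≠ 0 → cΔ - 1 ∉ Δ := by
    intro hne hmem
    have h1 : ∀ n : ℕ, cΔ - 1 ≤ n → n ∈ Δ := by
      intro n hn
      rcases Nat.eq_or_lt_of_le hn with h | h
      · rw [← h]; exact hmem
      · exact hcΔ n (by omega)
    have := Nat.find_min' hex h1
    omega
  have hΓfin : Γᶜ.Finite := by
    apply Set.Finite.subset (Set.finite_lt_nat cA)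
    intro n hn
    by_contra hlt
    exact hn (hΓc n (not_lt.mp hlt))
  have hΔfin : Δᶜ.Finite := hΓfin.subset (Set.compl_subset_compl.mpr hΓΔ)
  have hgδ : Δᶜ.ncard ≤ Γᶜ.ncard := Set.ncard_le_ncard (Set.compl_subset_compl.mpr hΓΔ) hΓfin
  have hcount : cΔ ≤ Γᶜ.ncard + Δᶜ.ncard := conductor_le Γ Δ hΓfin hΔfin hadd cΔ hcΔmin
  have hI'c : ∀ f : PowerSeries k, (PowerSeries.X : PowerSeries k) ^ cΔ ∣ f → f ∈ I' :=
    ValSemi.mem_of_dvd A hA hcl I' cΔ (fun n hn => hcΔ n hn)
  -- step 5: shift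
  set δ := Γᶜ.ncard with hδ
  set g := Δᶜ.ncard with hg
  set d := δ - g with hd
  let M' : Submodule ↥A (PowerSeries k) := I'.map (mulX A d)
  let e2 : ↥I' ≃ₗ[↥A] ↥M' := Submodule.equivMapOfInjective (mulX A d) (mulX_injective A d) I'
  have hbig : ∀ h : PowerSeries k, (PowerSeries.X : PowerSeries k) ^ (2 * δ) ∣ h → h ∈ M' := by
    rintro _ ⟨h', rfl⟩
    refine ⟨PowerSeries.X ^ (δ + g) * h', hI'c _ ?_, ?_⟩
    · exact Dvd.dvd.mul_right (pow_dvd_pow _ hcount) _
    · rw [mulX_apply, ← mul_assoc, ← pow_add]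
      congr 2
      omega
  refine ⟨M', ?_, ⟨e0.trans (e1.trans e2)⟩, ?_⟩
  · intro h hh
    rw [Submodule.restrictScalars_mem] at hh
    exact hbig h (Ideal.mem_span_singleton.mp hh)
  · have hV : ∀ h : PowerSeries k, ((2 * δ : ℕ) : ℕ∞) ≤ PowerSeries.order h →
        h ∈ M'.restrictScalars k := by
      intro h hh
      rw [Submodule.restrictScalars_mem]
      exact hbig h (ValSemi.dvd_iff_le_order.mpr hh)
    have hval : ∀ n : ℕ, n ∈ {n : ℕ | d ≤ n ∧ n - d ∈ Δ} ↔
        ∃ f ∈ M'.restrictScalars k, PowerSeries.order f = n := by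
      intro n
      constructor
      · rintro ⟨hdn, f', hf'I, hf'o⟩
        refine ⟨mulX A d f', ⟨f', hf'I, rfl⟩, ?_⟩
        rw [order_mulX, hf'o]
        have : d + (n - d) = n := by omega
        exact_mod_cast this
      · rintro ⟨f, ⟨f', hf'I, rfl⟩, hfo⟩
        rw [order_mulX] at hfo
        have hfin : PowerSeries.order f' ≠ ⊤ := by
          intro h
          rw [h] at hfo
          simp at hfo
        lift PowerSeries.order f' to ℕ using hfin with m hm
        have hdm : d + m = n := by exact_mod_cast hfo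
        refine ⟨by omega, f', hf'I, ?_⟩
        rw [← hm]
        have : n - d = m := by omega
        rw [this]
    rw [finrank_quot_eq_ncard_gaps (M'.restrictScalars k) (2 * δ) hV _ hval,
      ncard_compl_shift Δ hΔfin d]
    omega


end Groth.Agent.H75.MonoRank1
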