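import Mathlib

set_option autoImplicit false
universe u

namespace Groth.Agent.H75

open PowerSeries

variable {k : Type u} [Field k]

/-- kill the leading coefficient -/
theorem exists_smul_sub_order_gt (h a : PowerSeries k) (n : ℕ)
    (ha : PowerSeries.order a = n) (hh : (n : ℕ∞) ≤ PowerSeries.order h) :
    ∃ l : k, ((n + 1 : ℕ) : ℕ∞) ≤ PowerSeries.order (h - l • a) := by
  have hane : coeff n a ≠ 0 := by
    have := (PowerSeries.order_eq_nat.mp ha).1
    exact this
  refine ⟨coeff n h / coeff n a, ?_⟩
  apply PowerSeries.nat_le_order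
  intro i hi
  rw [map_sub, PowerSeries.coeff_smul]
  rcases Nat.lt_succ_iff_lt_or_eq.mp hi with h1 | h1
  · have e1 : coeff i h = 0 := PowerSeries.coeff_of_lt_order i (lt_of_lt_of_le (by exact_mod_cast h1) hh)
    have e2 : coeff i a = 0 := PowerSeries.coeff_of_lt_order i (by rw [ha]; exact_mod_cast h1)
    simp [e1, e2]
  · subst h1
    rw [smul_eq_mul, div_mul_cancel₀ _ hane, sub_self]

/-- successive approximation inside a `k`-subspace having elements of all orders `≥ c` -/
theorem approx_of_orders (V : Submodule k (PowerSeries k)) (c : ℕ)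
    (hV : ∀ n : ℕ, c ≤ n → ∃ a ∈ V, PowerSeries.order a = n)
    (h : PowerSeries k) (hh : (c : ℕ∞) ≤ PowerSeries.order h) (n : ℕ) :
    ∃ g ∈ V, (c : ℕ∞) ≤ PowerSeries.order g ∧ (n : ℕ∞) ≤ PowerSeries.order (h - g) := by
  induction n with
  | zero => exact ⟨0, V.zero_mem, by simp, by simp⟩
  | succ n ih =>
    obtain ⟨g, hgV, hgc, hgn⟩ := ih
    by_cases hlt : ((n + 1 : ℕ) : ℕ∞) ≤ PowerSeries.order (h - g)
    · exact ⟨g, hgV, hgc, hlt⟩
    · have hord : PowerSeries.order (h - g) = n := by
        apply le_antisymm _ hgn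
        have := not_le.mp hlt
        exact Order.le_of_lt_succ (by simpa using this)
      have hcle : (c : ℕ∞) ≤ PowerSeries.order (h - g) := by
        have := PowerSeries.min_order_le_order_add h (-g)
        rw [PowerSeries.order_neg, ← sub_eq_add_neg] at this
        exact le_trans (le_min hh hgc) this
      have hcn : c ≤ n := by
        rw [hord] at hcle
        exact_mod_cast hcle
      obtain ⟨a, haV, hao⟩ := hV n hcn
      obtain ⟨l, hl⟩ := exists_smul_sub_order_gt (h - g) a n hao hgn
      refine ⟨g + l • a, V.add_mem hgV (V.smul_mem l haV), ?_, ?_⟩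
      · refine le_trans (le_min hgc ?_) (PowerSeries.min_order_le_order_add g (l • a))
        refine le_trans ?_ (PowerSeries.le_order_smul)
        rw [hao]
        exact_mod_cast hcn
      · have : h - (g + l • a) = h - g - l • a := by ring
        rw [this]
        exact hl

/-- if `a * f ∈ V` for all `f`, with `a ≠ 0`, then everything of order `≥ order a` is in `V` -/
theorem mem_of_order_ge_of_mul_mem (V : Set (PowerSeries k)) (a : PowerSeries k) (ha : a ≠ 0)
    (hV : ∀ f : PowerSeries k, a * f ∈ V) (h : PowerSeries k)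
    (hh : PowerSeries.order a ≤ PowerSeries.order h) : h ∈ V := by
  have h1 : (PowerSeries.X : PowerSeries k) ^ a.order.toNat ∣ h := by
    rw [PowerSeries.X_pow_dvd_iff]
    intro m hm
    apply PowerSeries.coeff_of_lt_order
    refine lt_of_lt_of_le ?_ hh
    rw [← PowerSeries.coe_toNat_order ha]
    exact_mod_cast hm
  obtain ⟨h', rfl⟩ := h1
  have hu : IsUnit (PowerSeries.divXPowOrder a) := by
    rw [PowerSeries.isUnit_iff_constantCoeff]
    rw [isUnit_iff_ne_zero]
    intro h0
    exact ha (PowerSeries.constantCoeff_divXPowOrder_eq_zero_iff.mp h0)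
  obtain ⟨u, hu⟩ := hu
  obtain ⟨w, hw⟩ : ∃ w : PowerSeries k, PowerSeries.divXPowOrder a * w = 1 :=
    ⟨((u⁻¹ : (PowerSeries k)ˣ) : PowerSeries k), by rw [← hu]; exact Units.mul_inv u⟩
  have e : PowerSeries.X ^ a.order.toNat * h' = a * (w * h') := by
    conv_rhs => rw [← PowerSeries.X_pow_order_mul_divXPowOrder (f := a)]
    calc PowerSeries.X ^ a.order.toNat * h'
        = PowerSeries.X ^ a.order.toNat * ((PowerSeries.divXPowOrder a * w) * h') := by
          rw [hw, one_mul]
      _ = _ := by ring
  rw [e]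
  exact hV _

end Groth.Agent.H75
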