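import Mathlib
import Groth.Agent.H75.ValSemiCond
import Groth.Agent.H75.MonoRank1
import Groth.Agent.H75.PSOrder

/-! Ring-theoretic structure of a closed subalgebra `A` of `k⟦X⟧` over which `k⟦X⟧` is finite:
local, Noetherian, of dimension one, with the same fraction field as `k⟦X⟧`. -/

set_option autoImplicit false
universe u

namespace Groth.Agent.H75.PSSub

open PowerSeries

variable {k : Type u} [Field k] (A : Subalgebra k (PowerSeries k))


theorem isUnit_of_constantCoeff_ne_zero
    (hcl : ∀ f : PowerSeries k, (∀ n : ℕ, ∃ g ∈ A, (n : ℕ∞) ≤ PowerSeries.order (f - g)) → f ∈ A)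
    (a : ↥A) (ha : constantCoeff (a : PowerSeries k) ≠ 0) : IsUnit a := by
  set l : k := constantCoeff (a : PowerSeries k) with hl
  set x : ↥A := 1 - algebraMap k ↥A l⁻¹ * a with hx
  have hx0 : constantCoeff (x : PowerSeries k) = 0 := by
    have : (x : PowerSeries k) = 1 - C l⁻¹ * (a : PowerSeries k) := rfl
    rw [this, map_sub, map_mul, constantCoeff_C, map_one, ← hl, inv_mul_cancel₀ ha, sub_self]
  have hj := ValSemi.mem_jacobson A hcl x hx0
  rw [Ideal.mem_jacobson_bot] at hj
  have h1 := hj (-1)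
  have h2 : x * -1 + 1 = algebraMap k ↥A l⁻¹ * a := by
    rw [hx]; ring
  rw [h2] at h1
  exact isUnit_of_mul_isUnit_right h1

theorem isLocalRing
    (hcl : ∀ f : PowerSeries k, (∀ n : ℕ, ∃ g ∈ A, (n : ℕ∞) ≤ PowerSeries.order (f - g)) → f ∈ A) :
    IsLocalRing ↥A := by
  apply IsLocalRing.of_isUnit_or_isUnit_one_sub_self
  intro a
  by_cases h : constantCoeff (a : PowerSeries k) = 0
  · right
    apply isUnit_of_constantCoeff_ne_zero A hcl
    have : ((1 - a : ↥A) : PowerSeries k) = 1 - (a : PowerSeries k) := rfl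
    rw [this, map_sub, map_one, h, sub_zero]
    exact one_ne_zero
  · left
    exact isUnit_of_constantCoeff_ne_zero A hcl a h

theorem mem_maximalIdeal_iff
    (hcl : ∀ f : PowerSeries k, (∀ n : ℕ, ∃ g ∈ A, (n : ℕ∞) ≤ PowerSeries.order (f - g)) → f ∈ A)
    [IsLocalRing ↥A] (a : ↥A) :
    a ∈ IsLocalRing.maximalIdeal ↥A ↔ constantCoeff (a : PowerSeries k) = 0 := by
  rw [IsLocalRing.mem_maximalIdeal, mem_nonunits_iff]
  constructor
  · intro h
    by_contra h0
    exact h (isUnit_of_constantCoeff_ne_zero A hcl a h0)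
  · intro h hu
    have : IsUnit (a : PowerSeries k) := hu.map A.val
    rw [PowerSeries.isUnit_iff_constantCoeff, h] at this
    exact not_isUnit_zero this


/-- `X^n k⟦X⟧` as an `A`-submodule -/
noncomputable def T (n : ℕ) : Submodule ↥A (PowerSeries k) := LinearMap.range (MonoRank1.mulX A n)

theorem mem_T (n : ℕ) (f : PowerSeries k) : f ∈ T A n ↔ (X : PowerSeries k) ^ n ∣ f := by
  constructor
  · rintro ⟨g, rfl⟩
    exact ⟨g, rfl⟩
  · rintro ⟨g, rfl⟩
    exact ⟨g, rfl⟩

theorem T_fg (hA : Module.Finite ↥A (PowerSeries k)) (n : ℕ) : (T A n).FG := by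
  rw [T, LinearMap.range_eq_map]
  exact (Module.Finite.fg_top).map _

theorem finite_quot_T (n : ℕ) : Module.Finite k (PowerSeries k ⧸ T A n) := by
  let φ : ↥(Polynomial.degreeLT k n) →ₗ[k] (PowerSeries k ⧸ T A n) :=
    ((T A n).mkQ.restrictScalars k) ∘ₗ (Polynomial.coeToPowerSeries.algHom k).toLinearMap ∘ₗ
      (Polynomial.degreeLT k n).subtype
  have hφ : Function.Surjective φ := by
    intro y
    induction y using Submodule.Quotient.induction_on with
    | H f =>
      refine ⟨⟨f.trunc n, Polynomial.mem_degreeLT.mpr (degree_trunc_lt f n)⟩, ?_⟩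
      change Submodule.Quotient.mk ((f.trunc n : Polynomial k) : PowerSeries k) = Submodule.Quotient.mk f
      rw [Submodule.Quotient.eq, mem_T]
      refine ⟨-(mk fun i ↦ coeff (i + n) f), ?_⟩
      nth_rw 2 [f.eq_X_pow_mul_shift_add_trunc n]
      ring
  have : Module.Finite k ↥(Polynomial.degreeLT k n) :=
    Module.Finite.equiv (Polynomial.degreeLTEquiv k n).symm
  exact Module.Finite.of_surjective φ hφ

/-- a submodule containing a nonzero element contains a power of `X` -/
theorem T_le (c : ℕ) (hcond : ∀ f : PowerSeries k, (X : PowerSeries k) ^ c ∣ f → f ∈ A)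
    (N : Submodule ↥A (PowerSeries k)) (f : PowerSeries k) (hf : f ∈ N) (hf0 : f ≠ 0) :
    T A (c + f.order.toNat) ≤ N := by
  intro g hg
  rw [mem_T] at hg
  have ha0 : (X : PowerSeries k) ^ c * f ≠ 0 := mul_ne_zero (pow_ne_zero _ X_ne_zero) hf0
  refine mem_of_order_ge_of_mul_mem (N : Set (PowerSeries k)) ((X : PowerSeries k) ^ c * f) ha0 ?_ g ?_
  · intro b
    have hb : (X : PowerSeries k) ^ c * b ∈ A := hcond _ ⟨b, rfl⟩
    have : (X : PowerSeries k) ^ c * f * b = (⟨_, hb⟩ : ↥A) • f := by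
      rw [MonoRank1.smul_def']
      ring
    rw [this]
    exact N.smul_mem _ hf
  · rw [order_mul, order_X_pow, ← PowerSeries.coe_toNat_order hf0]
    rw [ValSemi.dvd_iff_le_order] at hg
    exact_mod_cast hg

theorem isNoetherian (hA : Module.Finite ↥A (PowerSeries k))
    (c : ℕ) (hcond : ∀ f : PowerSeries k, (X : PowerSeries k) ^ c ∣ f → f ∈ A) :
    IsNoetherian ↥A (PowerSeries k) := by
  rw [isNoetherian_def]
  intro N
  by_cases hN : N = ⊥
  · rw [hN]; exact Submodule.fg_bot
  obtain ⟨f, hf, hf0⟩ := Submodule.exists_mem_ne_zero_of_ne_bot hN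
  set n := c + f.order.toNat
  have hT : T A n ≤ N := T_le A c hcond N f hf hf0
  have := finite_quot_T A n
  have hnoeth : IsNoetherian ↥A (PowerSeries k ⧸ T A n) :=
    isNoetherian_of_tower k inferInstance
  apply Submodule.fg_of_fg_map_of_fg_inf_ker (T A n).mkQ
  · exact (isNoetherian_def.mp hnoeth) _
  · rw [Submodule.ker_mkQ, inf_eq_right.mpr hT]
    exact T_fg A hA n

theorem isNoetherianRing (hA : Module.Finite ↥A (PowerSeries k))
    (c : ℕ) (hcond : ∀ f : PowerSeries k, (X : PowerSeries k) ^ c ∣ f → f ∈ A) :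
    IsNoetherianRing ↥A := by
  have := isNoetherian A hA c hcond
  exact isNoetherian_of_injective (Algebra.linearMap ↥A (PowerSeries k)) Subtype.val_injective

theorem krullDimLE_one
    (hcl : ∀ f : PowerSeries k, (∀ n : ℕ, ∃ g ∈ A, (n : ℕ∞) ≤ PowerSeries.order (f - g)) → f ∈ A)
    [IsLocalRing ↥A]
    (c : ℕ) (hcond : ∀ f : PowerSeries k, (X : PowerSeries k) ^ c ∣ f → f ∈ A) :
    Ring.KrullDimLE 1 ↥A := by
  apply Ring.KrullDimLE.mk₁'
  intro P hP0 hPprime
  obtain ⟨p, hp, hp0⟩ := Submodule.exists_mem_ne_zero_of_ne_bot hP0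
  have hp0' : (p : PowerSeries k) ≠ 0 := fun h => hp0 (Subtype.ext h)
  set N : Submodule ↥A (PowerSeries k) := Submodule.map (Algebra.linearMap ↥A (PowerSeries k)) P with hN
  have hpN : (p : PowerSeries k) ∈ N := ⟨p, hp, rfl⟩
  have hT := T_le A c hcond N p hpN hp0'
  have hle : IsLocalRing.maximalIdeal ↥A ≤ P := by
    intro a ha
    rw [mem_maximalIdeal_iff A hcl] at ha
    set n := c + (p : PowerSeries k).order.toNat
    have h1 : (a : PowerSeries k) ^ n ∈ N := by
      apply hT
      rw [mem_T, ValSemi.dvd_iff_le_order]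
      exact le_order_pow_of_constantCoeff_eq_zero n ha
    obtain ⟨q, hq, hqe⟩ := h1
    have h2 : q = a ^ n := Subtype.ext hqe
    rw [h2] at hq
    exact hPprime.mem_of_pow_mem n hq
  have : P = IsLocalRing.maximalIdeal ↥A :=
    le_antisymm (IsLocalRing.le_maximalIdeal hPprime.ne_top) hle
  rw [this]
  infer_instance


theorem isFractionRing
    (c : ℕ) (hcond : ∀ f : PowerSeries k, (X : PowerSeries k) ^ c ∣ f → f ∈ A) :
    IsFractionRing ↥A (FractionRing (PowerSeries k)) := by
  have hinj : Function.Injective (algebraMap ↥A (FractionRing (PowerSeries k))) := by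
    rw [IsScalarTower.algebraMap_eq ↥A (PowerSeries k) (FractionRing (PowerSeries k))]
    exact (IsFractionRing.injective (PowerSeries k) (FractionRing (PowerSeries k))).comp
      Subtype.val_injective
  have : FaithfulSMul ↥A (FractionRing (PowerSeries k)) :=
    (faithfulSMul_iff_algebraMap_injective _ _).mpr hinj
  apply IsFractionRing.of_field
  intro z
  obtain ⟨f, g, hg, rfl⟩ := IsFractionRing.div_surjective (A := PowerSeries k) z
  have hf' : (X : PowerSeries k) ^ c * f ∈ A := hcond _ ⟨f, rfl⟩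
  have hg' : (X : PowerSeries k) ^ c * g ∈ A := hcond _ ⟨g, rfl⟩
  refine ⟨⟨_, hf'⟩, ⟨_, hg'⟩, ?_⟩
  rw [IsScalarTower.algebraMap_apply ↥A (PowerSeries k) (FractionRing (PowerSeries k)),
    IsScalarTower.algebraMap_apply ↥A (PowerSeries k) (FractionRing (PowerSeries k))]
  change _ = algebraMap (PowerSeries k) _ ((X : PowerSeries k) ^ c * f) /
    algebraMap (PowerSeries k) _ ((X : PowerSeries k) ^ c * g)
  rw [map_mul, map_mul]
  have hX : algebraMap (PowerSeries k) (FractionRing (PowerSeries k)) ((X : PowerSeries k) ^ c) ≠ 0 := by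
    rw [map_ne_zero_iff _ (IsFractionRing.injective (PowerSeries k) (FractionRing (PowerSeries k)))]
    exact pow_ne_zero _ X_ne_zero
  rw [mul_div_mul_left _ _ hX]

end Groth.Agent.H75.PSSub
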