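import Mathlib
import Groth.Agent.H75.PSSubalg
import Groth.Agent.H75.CanonIdeal
import Groth.Agent.H75.CanonLength

set_option autoImplicit false
universe u

namespace Groth.Agent.H75.CanonVal

open PowerSeries CategoryTheory

variable {k : Type u} [Field k]

theorem main (A : Subalgebra k (PowerSeries k)) (hA : Module.Finite ↥A (PowerSeries k))
    (hcl : ∀ f : PowerSeries k, (∀ n : ℕ, ∃ g ∈ A, (n : ℕ∞) ≤ PowerSeries.order (f - g)) → f ∈ A)
    (Γ : Set ℕ) (hΓ : ∀ n : ℕ, n ∈ Γ ↔ ∃ f ∈ A, PowerSeries.order f = n) (c : ℕ)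
    (hc : ∀ n : ℕ, c ≤ n → n ∈ Γ) (hc0 : c ≠ 0) (hc1 : c - 1 ∉ Γ)
    (ω : Submodule ↥A (PowerSeries k)) (hω1 : (1 : PowerSeries k) ∈ ω) (hωfg : ω.FG)
    (hωinj : HasInjectiveDimensionLT (ModuleCat.of ↥A ↥ω) 2)
    (M : Submodule ↥A (PowerSeries k)) (hMfg : M.FG) (hM1 : (1 : PowerSeries k) ∈ M) (n : ℕ) :
    (∃ u : PowerSeries k, PowerSeries.order u = n ∧ ∀ m ∈ M, u * m ∈ ω) ↔
      (c ≤ n ∨ ¬ ∃ m ∈ M, PowerSeries.order m = ((c - 1 - n : ℕ) : ℕ∞)) := by
  classical
  -- the conductor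
  have hcond : ∀ f : PowerSeries k, (X : PowerSeries k) ^ c ∣ f → f ∈ A := by
    intro f hf
    have h1 := ValSemi.mem_of_dvd A hA hcl (1 : Submodule ↥A (PowerSeries k)) c (by
      intro n hn
      obtain ⟨g, hg, hgo⟩ := (hΓ n).mp (hc n hn)
      exact ⟨g, Submodule.mem_one.mpr ⟨⟨g, hg⟩, rfl⟩, hgo⟩) f hf
    obtain ⟨a, rfl⟩ := Submodule.mem_one.mp h1
    exact a.2
  have hAω : ∀ f : PowerSeries k, f ∈ A → f ∈ ω := by
    intro f hf
    have : f = (⟨f, hf⟩ : ↥A) • (1 : PowerSeries k) := by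
      rw [MonoRank1.smul_def', mul_one]
    rw [this]
    exact ω.smul_mem _ hω1
  have hcω : ∀ f : PowerSeries k, (X : PowerSeries k) ^ c ∣ f → f ∈ ω := fun f hf => hAω f (hcond f hf)
  -- ring structure
  have : IsLocalRing ↥A := PSSub.isLocalRing A hcl
  have : IsNoetherianRing ↥A := PSSub.isNoetherianRing A hA c hcond
  have : Ring.KrullDimLE 1 ↥A := PSSub.krullDimLE_one A hcl c hcond
  have : IsFractionRing ↥A (FractionRing (PowerSeries k)) := PSSub.isFractionRing A c hcond
  -- embedding into the fraction field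
  set K := FractionRing (PowerSeries k) with hK
  let ι : PowerSeries k →ₗ[↥A] K := (IsScalarTower.toAlgHom ↥A (PowerSeries k) K).toLinearMap
  have hιdef : ∀ f, ι f = algebraMap (PowerSeries k) K f := fun _ => rfl
  have hιinj : Function.Injective ι := IsFractionRing.injective (PowerSeries k) K
  have hιmul : ∀ f g, ι (f * g) = ι f * ι g := fun f g => by rw [hιdef, hιdef, hιdef, map_mul]
  have hι1 : ι 1 = 1 := by rw [hιdef, map_one]
  set ω' : Submodule ↥A K := ω.map ι with hω'
  have hω'fg : ω'.FG := hωfg.map ι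
  have hω'1 : (1 : K) ∈ ω' := ⟨1, hω1, hι1⟩
  have hω'0 : ω' ≠ ⊥ := by
    intro h
    rw [h, Submodule.mem_bot] at hω'1
    exact one_ne_zero hω'1
  have : HasInjectiveDimensionLT (ModuleCat.of ↥A ↥ω') 2 := by
    have := hωinj
    let e : ↥ω ≃ₗ[↥A] ↥ω' := Submodule.equivMapOfInjective ι hιinj ω
    let e' : ModuleCat.of ↥A ↥ω ≅ ModuleCat.of ↥A ↥ω' := LinearEquiv.toModuleIso e
    exact hasInjectiveDimensionLT_of_iso e' 2
  -- a nonzero element of the maximal ideal
  have hXc : (X : PowerSeries k) ^ c ∈ A := hcond _ (dvd_refl _)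
  set a : ↥A := ⟨(X : PowerSeries k) ^ c, hXc⟩ with ha
  have ham : a ∈ IsLocalRing.maximalIdeal ↥A := by
    rw [PSSub.mem_maximalIdeal_iff A hcl]
    change constantCoeff ((X : PowerSeries k) ^ c) = 0
    rw [map_pow, constantCoeff_X, zero_pow hc0]
  have ha0 : a ≠ 0 := by
    intro h
    have : (X : PowerSeries k) ^ c = 0 := congrArg Subtype.val h
    exact pow_ne_zero _ X_ne_zero this
  have hD : ∀ P : Submodule ↥A K, P.FG → P ≠ ⊥ → ω' / (ω' / P) = P :=
    fun P h1 h2 => Canon.div_div_eq ω' hω'fg hω'0 a ham ha0 P h1 h2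
  -- description of `ω' / N'`
  have T1 : ∀ N : Submodule ↥A (PowerSeries k), (1 : PowerSeries k) ∈ N → ∀ y : K,
      y ∈ ω' / N.map ι ↔ ∃ u : PowerSeries k, ι u = y ∧ ∀ m ∈ N, u * m ∈ ω := by
    intro N hN1 y
    rw [Submodule.mem_div_iff_forall_mul_mem]
    constructor
    · intro h
      have h1 : y * ι 1 ∈ ω' := h _ (Submodule.mem_map_of_mem hN1)
      rw [hι1, mul_one] at h1
      obtain ⟨u, hu, rfl⟩ := h1
      refine ⟨u, rfl, fun m hm => ?_⟩
      have h2 := h _ (Submodule.mem_map_of_mem hm)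
      rw [← hιmul] at h2
      obtain ⟨w, hw, hwe⟩ := h2
      rw [hιinj hwe] at hw
      exact hw
    · rintro ⟨u, rfl, hu⟩ z hz
      obtain ⟨m, hm, rfl⟩ := hz
      rw [← hιmul]
      exact Submodule.mem_map_of_mem (hu m hm)
  -- ω : ω = A
  have L1 : ∀ u : PowerSeries k, (∀ w ∈ ω, u * w ∈ ω) → u ∈ A := by
    intro u hu
    have h1fg : (1 : Submodule ↥A K).FG := by
      rw [Submodule.one_eq_span]; exact Submodule.fg_span_singleton 1
    have h1ne : (1 : Submodule ↥A K) ≠ ⊥ := by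
      intro h
      have : (1 : K) ∈ (1 : Submodule ↥A K) := Submodule.one_le.mp le_rfl
      rw [h, Submodule.mem_bot] at this
      exact one_ne_zero this
    have h2 := hD 1 h1fg h1ne
    rw [Canon.div_one'] at h2
    have h3 : ι u ∈ ω' / ω' := by
      rw [Submodule.mem_div_iff_forall_mul_mem]
      rintro z ⟨w, hw, rfl⟩
      rw [← hιmul]
      exact Submodule.mem_map_of_mem (hu w hw)
    rw [h2] at h3
    obtain ⟨b, hb⟩ := Submodule.mem_one.mp h3
    have h4 : ι (b : PowerSeries k) = ι u := by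
      rw [← hb, hιdef]
      exact (IsScalarTower.algebraMap_apply ↥A (PowerSeries k) K b).symm
    rw [← hιinj h4]
    exact b.2
  -- ω : k⟦X⟧ ⊆ X^c k⟦X⟧
  have L2 : ∀ u : PowerSeries k, (∀ b, u * b ∈ ω) → (c : ℕ∞) ≤ order u := by
    intro u hu
    by_contra hlt
    rw [not_le] at hlt
    have hu0 : u ≠ 0 := by
      rintro rfl
      rw [order_zero] at hlt
      exact not_top_lt hlt
    have hd : (u.order.toNat : ℕ∞) = u.order := coe_toNat_order hu0
    set d := u.order.toNat with hdd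
    have hdc : d < c := by
      rw [← hd] at hlt
      exact_mod_cast hlt
    have hb : ∀ b, u * b ∈ A := by
      intro b
      apply L1
      intro w _
      rw [mul_assoc]
      exact hu _
    apply hc1
    rw [hΓ]
    refine ⟨u * (X : PowerSeries k) ^ (c - 1 - d), hb _, ?_⟩
    rw [order_mul, order_X_pow, ← hd]
    have : d + (c - 1 - d) = c - 1 := by omega
    exact_mod_cast this
  constructor
  · rintro ⟨u, huo, huM⟩
    by_contra hcon
    push Not at hcon
    obtain ⟨hnc, m, hm, hmo⟩ := hcon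
    set f := u * m with hf
    have hfω : f ∈ ω := huM m hm
    have hfo : order f = ((c - 1 : ℕ) : ℕ∞) := by
      rw [hf, order_mul, huo, hmo]
      have : n + (c - 1 - n) = c - 1 := by omega
      exact_mod_cast this
    have hfd : (X : PowerSeries k) ^ (c - 1) ∣ f := by
      rw [ValSemi.dvd_iff_le_order, hfo]
    obtain ⟨g, hg⟩ := hfd
    have h1 : ∀ b, f * b ∈ ω := by
      intro b
      have hb := eq_X_mul_shift_add_const b
      set b' : PowerSeries k := mk fun p => coeff (p + 1) b with hb'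
      have e : f * b = f * (X * b') + (algebraMap k ↥A (constantCoeff b)) • f := by
        rw [MonoRank1.smul_def']
        change f * b = f * (X * b') + C (constantCoeff b) * f
        nth_rw 1 [hb]
        ring
      rw [e]
      refine ω.add_mem (hcω _ ⟨g * b', ?_⟩) (ω.smul_mem _ hfω)
      rw [hg]
      have : c = (c - 1) + 1 := by omega
      nth_rw 2 [this]
      rw [pow_succ]
      ring
    have h2 := L2 f h1
    rw [hfo] at h2
    have : c ≤ c - 1 := by exact_mod_cast h2
    omega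
  · intro h
    by_cases hcn : c ≤ n
    · refine ⟨(X : PowerSeries k) ^ n, order_X_pow n, fun m _ => hcω _ ?_⟩
      exact Dvd.dvd.mul_right (pow_dvd_pow _ hcn) m
    · have hj : ¬ ∃ m ∈ M, PowerSeries.order m = ((c - 1 - n : ℕ) : ℕ∞) := by
        rcases h with h | h
        · exact absurd h hcn
        · exact h
      rw [not_le] at hcn
      set j := c - 1 - n with hjdef
      have hXfg : ∀ i, ((M ⊔ PSSub.T A i).map ι).FG := fun i =>
        (hMfg.sup (PSSub.T_fg A hA i)).map ι
      have hX1 : ∀ i, (1 : PowerSeries k) ∈ M ⊔ PSSub.T A i := fun i =>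
        Submodule.mem_sup_left hM1
      have hXne : ∀ i, (M ⊔ PSSub.T A i).map ι ≠ ⊥ := by
        intro i h
        have : ι 1 ∈ (M ⊔ PSSub.T A i).map ι := Submodule.mem_map_of_mem (hX1 i)
        rw [h, Submodule.mem_bot, hι1] at this
        exact one_ne_zero this
      have hle : M ⊔ PSSub.T A (j + 1) ≤ M ⊔ PSSub.T A j := by
        apply sup_le_sup_left
        intro f hf
        rw [PSSub.mem_T] at hf ⊢
        exact dvd_trans (pow_dvd_pow _ (Nat.le_succ j)) hf
      have hne : ω' / (M ⊔ PSSub.T A j).map ι ≠ ω' / (M ⊔ PSSub.T A (j + 1)).map ι := by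
        intro heq
        have h1 := hD _ (hXfg j) (hXne j)
        have h2 := hD _ (hXfg (j + 1)) (hXne (j + 1))
        rw [heq, h2] at h1
        have h3 : M ⊔ PSSub.T A (j + 1) = M ⊔ PSSub.T A j :=
          Submodule.map_injective_of_injective hιinj h1
        have h4 : (X : PowerSeries k) ^ j ∈ M ⊔ PSSub.T A (j + 1) := by
          rw [h3]
          exact Submodule.mem_sup_right ((PSSub.mem_T A j _).mpr (dvd_refl _))
        obtain ⟨m, hm, t, ht, hmt⟩ := Submodule.mem_sup.mp h4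
        rw [PSSub.mem_T] at ht
        obtain ⟨t', rfl⟩ := ht
        apply hj
        refine ⟨m, hm, ?_⟩
        have hm' : m = (X : PowerSeries k) ^ j * (1 - X * t') := by
          rw [eq_sub_of_add_eq hmt, pow_succ]
          ring
        have hunit : IsUnit (1 - X * t' : PowerSeries k) := by
          rw [PowerSeries.isUnit_iff_constantCoeff]
          simp
        rw [hm', order_mul, order_X_pow, order_zero_of_unit hunit, add_zero]
      have hlt : ω' / (M ⊔ PSSub.T A j).map ι < ω' / (M ⊔ PSSub.T A (j + 1)).map ι :=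
        lt_of_le_of_ne (Canon.div_antitone ω' (Submodule.map_mono hle)) hne
      obtain ⟨y, hy1, hy2⟩ := SetLike.exists_of_lt hlt
      obtain ⟨u, rfl, hu⟩ := (T1 _ (hX1 (j + 1)) y).mp hy1
      have huM : ∀ m ∈ M, u * m ∈ ω := fun m hm => hu m (Submodule.mem_sup_left hm)
      have hu0 : u ≠ 0 := by
        rintro rfl
        apply hy2
        rw [map_zero]
        exact Submodule.zero_mem _
      have hd : (u.order.toNat : ℕ∞) = u.order := coe_toNat_order hu0
      set d := u.order.toNat with hdd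
      have hdn : n ≤ d := by
        have h1 := L2 (u * (X : PowerSeries k) ^ (j + 1)) (by
          intro b
          rw [mul_assoc]
          exact hu _ (Submodule.mem_sup_right ((PSSub.mem_T A _ _).mpr ⟨b, rfl⟩)))
        rw [order_mul, order_X_pow, ← hd] at h1
        have : c ≤ d + (j + 1) := by exact_mod_cast h1
        omega
      have hdn' : d ≤ n := by
        by_contra hgt
        rw [not_le] at hgt
        apply hy2
        rw [T1 _ (hX1 j)]
        refine ⟨u, rfl, ?_⟩
        intro m hm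
        obtain ⟨m', hm', t, ht, rfl⟩ := Submodule.mem_sup.mp hm
        rw [mul_add]
        refine ω.add_mem (huM m' hm') (hcω _ ?_)
        rw [PSSub.mem_T] at ht
        have h1 : (X : PowerSeries k) ^ d ∣ u := X_pow_order_dvd
        have h2 : (X : PowerSeries k) ^ c ∣ (X : PowerSeries k) ^ d * (X : PowerSeries k) ^ j := by
          rw [← pow_add]
          exact pow_dvd_pow _ (by omega)
        exact dvd_trans h2 (mul_dvd_mul h1 ht)
      refine ⟨u, ?_, huM⟩
      rw [← hd]
      have : d = n := le_antisymm hdn' hdn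
      exact_mod_cast this

theorem main_self (A : Subalgebra k (PowerSeries k)) (hA : Module.Finite ↥A (PowerSeries k))
    (hcl : ∀ f : PowerSeries k, (∀ n : ℕ, ∃ g ∈ A, (n : ℕ∞) ≤ PowerSeries.order (f - g)) → f ∈ A)
    (Γ : Set ℕ) (hΓ : ∀ n : ℕ, n ∈ Γ ↔ ∃ f ∈ A, PowerSeries.order f = n) (c : ℕ)
    (hc : ∀ n : ℕ, c ≤ n → n ∈ Γ) (hc0 : c ≠ 0) (hc1 : c - 1 ∉ Γ)
    (ω : Submodule ↥A (PowerSeries k)) (hω1 : (1 : PowerSeries k) ∈ ω) (hωfg : ω.FG)
    (hωinj : HasInjectiveDimensionLT (ModuleCat.of ↥A ↥ω) 2) (n : ℕ) :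
    (∃ f ∈ ω, PowerSeries.order f = n) ↔ (c ≤ n ∨ c - 1 - n ∉ Γ) := by
  have h1fg : (1 : Submodule ↥A (PowerSeries k)).FG := by
    rw [Submodule.one_eq_span]; exact Submodule.fg_span_singleton 1
  have h11 : (1 : PowerSeries k) ∈ (1 : Submodule ↥A (PowerSeries k)) := Submodule.one_le.mp le_rfl
  have hmain := main A hA hcl Γ hΓ c hc hc0 hc1 ω hω1 hωfg hωinj 1 h1fg h11 n
  have e1 : (∃ f ∈ ω, PowerSeries.order f = n) ↔
      (∃ u : PowerSeries k, PowerSeries.order u = n ∧
        ∀ m ∈ (1 : Submodule ↥A (PowerSeries k)), u * m ∈ ω) := by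
    constructor
    · rintro ⟨f, hf, hfo⟩
      refine ⟨f, hfo, fun m hm => ?_⟩
      obtain ⟨a, rfl⟩ := Submodule.mem_one.mp hm
      have : f * algebraMap ↥A (PowerSeries k) a = a • f := by
        rw [MonoRank1.smul_def', mul_comm]; rfl
      rw [this]
      exact ω.smul_mem _ hf
    · rintro ⟨u, huo, hu⟩
      refine ⟨u, ?_, huo⟩
      have := hu 1 h11
      rwa [mul_one] at this
  have e2 : (∃ m ∈ (1 : Submodule ↥A (PowerSeries k)),
      PowerSeries.order m = ((c - 1 - n : ℕ) : ℕ∞)) ↔ c - 1 - n ∈ Γ := by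
    rw [hΓ]
    constructor
    · rintro ⟨m, hm, hmo⟩
      obtain ⟨a, rfl⟩ := Submodule.mem_one.mp hm
      exact ⟨a, a.2, hmo⟩
    · rintro ⟨f, hf, hfo⟩
      exact ⟨f, Submodule.mem_one.mpr ⟨⟨f, hf⟩, rfl⟩, hfo⟩
  rw [e1, hmain, e2]

end Groth.Agent.H75.CanonVal
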