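import Mathlib

/-! Freeness of the cokernel of a map `A → A²` over a domain, locally at primes. -/

set_option autoImplicit false
set_option maxHeartbeats 1000000
universe u v w x

namespace Groth.Agent.H75.CokerFree

open Module

section LemmaB

variable {A : Type u} [CommRing A] [IsDomain A]
  {F₁ : Type v} {F₂ : Type w} {M : Type x}
  [AddCommGroup F₁] [AddCommGroup F₂] [AddCommGroup M] [Module A F₁] [Module A F₂] [Module A M]

/-- If the cokernel of `A → A²`, `1 ↦ a x₀ + b x₁ ≠ 0`, is free after localizing at the prime `P`,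
then `(a, b)` is not contained in `P`. -/
theorem not_le_of_free_localized (e : Basis (Fin 1) A F₁) (x : Basis (Fin 2) A F₂)
    (f : F₁ →ₗ[A] F₂) (g : F₂ →ₗ[A] M) (hfg : Function.Exact f g) (hg : Function.Surjective g)
    (hw : f (e 0) ≠ 0) (P : Ideal A) [P.IsPrime]
    (hfree : Module.Free (Localization.AtPrime P) (LocalizedModule P.primeCompl M)) :
    ¬ (Ideal.span {x.repr (f (e 0)) 0, x.repr (f (e 0)) 1} ≤ P) := by
  intro hle
  set S := P.primeCompl with hS
  set B := Localization.AtPrime P with hB
  set w := f (e 0) with hwdef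
  set a := x.repr w 0 with ha
  set b := x.repr w 1 with hb
  have haP : a ∈ P := hle (Ideal.subset_span (by simp))
  have hbP : b ∈ P := hle (Ideal.subset_span (by simp))
  -- localized maps
  let fB : LocalizedModule S F₁ →ₗ[B] LocalizedModule S F₂ := LocalizedModule.map S f
  let gB : LocalizedModule S F₂ →ₗ[B] LocalizedModule S M := LocalizedModule.map S g
  have hgB : Function.Surjective gB := LocalizedModule.map_surjective S g hg
  have hex : ∀ y, gB y = 0 → ∃ z, fB z = y := by
    intro y hy
    exact (LocalizedModule.map_exact S f g hfg y).mp hy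
  -- bases
  let eB : Basis (Fin 1) B (LocalizedModule S F₁) :=
    e.ofIsLocalizedModule B S (LocalizedModule.mkLinearMap S F₁)
  let xB : Basis (Fin 2) B (LocalizedModule S F₂) :=
    x.ofIsLocalizedModule B S (LocalizedModule.mkLinearMap S F₂)
  set w₁ : LocalizedModule S F₂ := LocalizedModule.mkLinearMap S F₂ w with hw₁
  have hfBe : fB (eB 0) = w₁ := by
    simp only [fB, eB, Basis.ofIsLocalizedModule_apply, LocalizedModule.mkLinearMap_apply,
      hw₁, hwdef]
    exact LocalizedModule.map_mk S f _ _
  have hgw : gB w₁ = 0 := by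
    simp only [gB, hw₁, LocalizedModule.mkLinearMap_apply]
    have : g w = 0 := (hfg w).mpr ⟨e 0, rfl⟩
    rw [LocalizedModule.map_mk S g, this, LocalizedModule.zero_mk]
  -- range of fB is B w₁
  have hrange : ∀ z, ∃ c : B, fB z = c • w₁ := by
    intro z
    refine ⟨eB.repr z 0, ?_⟩
    have hz : z = eB.repr z 0 • eB 0 := by
      conv_lhs => rw [← eB.sum_repr z]
      simp
    conv_lhs => rw [hz]
    rw [map_smul, hfBe]
  -- splitting
  haveI : Module.Projective B (LocalizedModule S M) := Module.Projective.of_free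
  obtain ⟨σ, hσ⟩ := Module.projective_lifting_property gB LinearMap.id hgB
  have hψ : ∀ y, ∃ c : B, y - σ (gB y) = c • w₁ := by
    intro y
    have h0 : gB (y - σ (gB y)) = 0 := by
      rw [map_sub]
      have := LinearMap.congr_fun hσ (gB y)
      simp only [LinearMap.comp_apply, LinearMap.id_apply] at this
      rw [this, sub_self]
    obtain ⟨z, hz⟩ := hex _ h0
    obtain ⟨c, hc⟩ := hrange z
    exact ⟨c, by rw [← hz, hc]⟩
  obtain ⟨c₀, hc₀⟩ := hψ (xB 0)
  obtain ⟨c₁, hc₁⟩ := hψ (xB 1)
  have hw₁x : w₁ = algebraMap A B a • xB 0 + algebraMap A B b • xB 1 := by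
    have h := xB.sum_repr w₁
    rw [Fin.sum_univ_two] at h
    rw [← h]
    simp only [xB, hw₁, Basis.ofIsLocalizedModule_repr_apply, ha, hb]
  have hkey : w₁ = (algebraMap A B a * c₀ + algebraMap A B b * c₁) • w₁ := by
    have h1 : w₁ - σ (gB w₁) = w₁ := by rw [hgw, map_zero, sub_zero]
    conv_lhs => rw [← h1]
    conv_lhs => rw [hw₁x]
    simp only [map_add, map_smul]
    have : algebraMap A B a • xB 0 + algebraMap A B b • xB 1 -
        (algebraMap A B a • σ (gB (xB 0)) + algebraMap A B b • σ (gB (xB 1))) =
        algebraMap A B a • (xB 0 - σ (gB (xB 0))) + algebraMap A B b • (xB 1 - σ (gB (xB 1))) := by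
      simp only [smul_sub]
      abel
    rw [this, hc₀, hc₁, smul_smul, smul_smul, ← add_smul]
  -- injectivity of A → B
  have hinj : Function.Injective (algebraMap A B) :=
    IsLocalization.injective B (M := S) (by
      intro s hs
      exact mem_nonZeroDivisors_of_ne_zero (by
        rintro rfl
        exact hs (Ideal.zero_mem P)))
  -- some coordinate of w₁ is nonzero
  have hab : a ≠ 0 ∨ b ≠ 0 := by
    by_contra hcon
    rw [not_or, not_not, not_not] at hcon
    apply hw
    have h := x.sum_repr w
    rw [Fin.sum_univ_two, ← ha, ← hb, hcon.1, hcon.2, zero_smul, zero_smul, add_zero] at h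
    exact h.symm
  have hone : algebraMap A B a * c₀ + algebraMap A B b * c₁ = 1 := by
    set s := algebraMap A B a * c₀ + algebraMap A B b * c₁ with hs
    have hrep : ∀ i, xB.repr w₁ i = s * xB.repr w₁ i := by
      intro i
      conv_lhs => rw [hkey]
      simp
    rcases hab with h | h
    · have h0 := hrep 0
      have hne : xB.repr w₁ 0 ≠ 0 := by
        simp only [xB, hw₁, Basis.ofIsLocalizedModule_repr_apply]
        rw [← ha]
        intro h'
        exact h (hinj (by rw [h', map_zero]))
      have : (1 - s) * xB.repr w₁ 0 = 0 := by linear_combination h0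
      rcases mul_eq_zero.mp this with h' | h'
      · exact (sub_eq_zero.mp h').symm
      · exact absurd h' hne
    · have h0 := hrep 1
      have hne : xB.repr w₁ 1 ≠ 0 := by
        simp only [xB, hw₁, Basis.ofIsLocalizedModule_repr_apply]
        rw [← hb]
        intro h'
        exact h (hinj (by rw [h', map_zero]))
      have : (1 - s) * xB.repr w₁ 1 = 0 := by linear_combination h0
      rcases mul_eq_zero.mp this with h' | h'
      · exact (sub_eq_zero.mp h').symm
      · exact absurd h' hne
  -- contradiction: 1 lies in the maximal ideal of B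
  have hmem : (1 : B) ∈ IsLocalRing.maximalIdeal B := by
    rw [← hone]
    apply Ideal.add_mem
    · apply Ideal.mul_mem_right
      exact (IsLocalization.AtPrime.to_map_mem_maximal_iff B P a).mpr haP
    · apply Ideal.mul_mem_right
      exact (IsLocalization.AtPrime.to_map_mem_maximal_iff B P b).mpr hbP
  exact (IsLocalRing.maximalIdeal.isMaximal B).ne_top ((Ideal.eq_top_iff_one _).mpr hmem)

end LemmaB

section LemmaA

variable {A : Type u} [CommRing A] [IsLocalRing A]
  {F₁ : Type v} {F₂ : Type w} {M : Type x}
  [AddCommGroup F₁] [AddCommGroup F₂] [AddCommGroup M] [Module A F₁] [Module A F₂] [Module A M]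

/-- If `(a, b)` is the unit ideal, the cokernel of `A → A²`, `1 ↦ a x₀ + b x₁`, is free. -/
theorem free_of_span_eq_top (e : Basis (Fin 1) A F₁) (x : Basis (Fin 2) A F₂)
    (f : F₁ →ₗ[A] F₂) (g : F₂ →ₗ[A] M) (hfg : Function.Exact f g) (hg : Function.Surjective g)
    (htop : Ideal.span {x.repr (f (e 0)) 0, x.repr (f (e 0)) 1} = ⊤) :
    Module.Free A M := by
  set w := f (e 0) with hwdef
  set a := x.repr w 0 with ha
  set b := x.repr w 1 with hb
  have h1 : (1 : A) ∈ Ideal.span {a, b} := by rw [htop]; trivial
  obtain ⟨c₀, c₁, hc⟩ := Ideal.mem_span_pair.mp h1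
  let φ : F₂ →ₗ[A] A := x.constr A ![c₀, c₁]
  have hwx : w = a • x 0 + b • x 1 := by
    have h := x.sum_repr w
    rw [Fin.sum_univ_two] at h
    exact h.symm
  have hφw : φ w = 1 := by
    rw [hwx, map_add, map_smul, map_smul]
    simp only [φ, Basis.constr_basis, Matrix.cons_val_zero, Matrix.cons_val_one, smul_eq_mul]
    linear_combination hc
  let ψ : F₂ →ₗ[A] F₂ := LinearMap.id - φ.smulRight w
  have hψ : ∀ y, ψ y = y - φ y • w := by
    intro y
    simp [ψ]
  have hker : LinearMap.ker g ≤ LinearMap.ker ψ := by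
    intro y hy
    rw [LinearMap.mem_ker] at hy ⊢
    obtain ⟨z, rfl⟩ := (hfg y).mp hy
    have hz : z = e.repr z 0 • e 0 := by
      conv_lhs => rw [← e.sum_repr z]
      simp
    rw [hz, map_smul, ← hwdef, hψ, map_smul, hφw, smul_eq_mul, mul_one, sub_self]
  let s : M →ₗ[A] F₂ := ((LinearMap.ker g).liftQ ψ hker).comp
    (g.quotKerEquivOfSurjective hg).symm.toLinearMap
  have hs : ∀ y, s (g y) = ψ y := by
    intro y
    have : (g.quotKerEquivOfSurjective hg).symm (g y) = Submodule.Quotient.mk y := by
      rw [LinearEquiv.symm_apply_eq]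
      rfl
    simp only [s, LinearMap.comp_apply, LinearEquiv.coe_coe, this, Submodule.liftQ_apply]
  have hgw : g w = 0 := (hfg w).mpr ⟨e 0, rfl⟩
  have hgs : g.comp s = LinearMap.id := by
    apply LinearMap.ext
    intro m
    obtain ⟨y, rfl⟩ := hg m
    rw [LinearMap.comp_apply, hs, hψ, map_sub, map_smul, hgw, smul_zero, sub_zero,
      LinearMap.id_apply]
  haveI : Module.Finite A F₂ := Module.Finite.of_basis x
  haveI : Module.Finite A M := Module.Finite.of_surjective g hg
  haveI : Module.Free A F₂ := Module.Free.of_basis x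
  haveI : Module.Projective A M := Module.Projective.of_split s g hgs
  exact Module.free_of_flat_of_isLocalRing

end LemmaA

end Groth.Agent.H75.CokerFree
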