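import Mathlib
import Groth.Agent.H75.CokerFree

/-! A non-free cokernel of `A → A²` over a three-dimensional local domain which is locally free on
the punctured special fibre `V(t)` is not locally free away from `V(t)`. -/

set_option autoImplicit false
set_option maxHeartbeats 1000000
universe u v w x

namespace Groth.Agent.H75.CokerFree

open Module

theorem exists_prime_not_free (A : Type u) [CommRing A] [IsDomain A] [IsNoetherianRing A]
    [IsLocalRing A] {F₁ : Type v} {F₂ : Type w} {M : Type x}
    [AddCommGroup F₁] [AddCommGroup F₂] [AddCommGroup M] [Module A F₁] [Module A F₂] [Module A M]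
    [Module.Free A F₁] [Module.Free A F₂]
    (h1 : Module.finrank A F₁ = 1) (h2 : Module.finrank A F₂ = 2)
    (f : F₁ →ₗ[A] F₂) (g : F₂ →ₗ[A] M) (hfg : Function.Exact f g) (hg : Function.Surjective g)
    (t : A) (hdim : ringKrullDim A = 3)
    (h0 : ∀ P : PrimeSpectrum A, t ∈ P.asIdeal → P.asIdeal ≠ IsLocalRing.maximalIdeal A →
      Module.Free (Localization.AtPrime P.asIdeal) (LocalizedModule P.asIdeal.primeCompl M))
    (hm : ¬ Module.Free A M) :
    ∃ Q : PrimeSpectrum A, t ∉ Q.asIdeal ∧
      ¬ Module.Free (Localization.AtPrime Q.asIdeal)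
        (LocalizedModule Q.asIdeal.primeCompl M) := by
  classical
  haveI : Module.Finite A F₁ := Module.finite_of_finrank_pos (by omega)
  haveI : Module.Finite A F₂ := Module.finite_of_finrank_pos (by omega)
  let e : Basis (Fin 1) A F₁ := Module.finBasisOfFinrankEq A F₁ h1
  let x : Basis (Fin 2) A F₂ := Module.finBasisOfFinrankEq A F₂ h2
  have hw : f (e 0) ≠ 0 := by
    intro hw0
    apply hm
    have hf0 : ∀ z, f z = 0 := by
      intro z
      have hz : z = e.repr z 0 • e 0 := by
        conv_lhs => rw [← e.sum_repr z]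
        simp
      rw [hz, map_smul, hw0, smul_zero]
    have hinj : Function.Injective g := by
      rw [← LinearMap.ker_eq_bot, eq_bot_iff]
      intro y hy
      rw [LinearMap.mem_ker] at hy
      obtain ⟨z, rfl⟩ := (hfg y).mp hy
      rw [hf0 z]
      exact Submodule.zero_mem _
    exact Module.Free.of_equiv (LinearEquiv.ofBijective g ⟨hinj, hg⟩)
  set a := x.repr (f (e 0)) 0 with ha
  set b := x.repr (f (e 0)) 1 with hb
  have hJ : Ideal.span {a, b} ≠ ⊤ := by
    intro htop
    exact hm (free_of_span_eq_top e x f g hfg hg htop)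
  obtain ⟨⟨Q, hQ⟩⟩ := Ideal.nonempty_minimalPrimes hJ
  haveI hQp : Q.IsPrime := hQ.1.1
  have hJQ : Ideal.span {a, b} ≤ Q := hQ.1.2
  have hht : Q.height ≤ 2 := by
    have hQ' : Q ∈ (Ideal.span ((({a, b} : Finset A)) : Set A)).minimalPrimes := by
      rw [Finset.coe_insert, Finset.coe_singleton]
      exact hQ
    refine (Ideal.height_le_card_of_mem_minimalPrimes_span_finset hQ').trans ?_
    exact_mod_cast Finset.card_le_two
  refine ⟨⟨Q, hQp⟩, ?_, ?_⟩
  · intro htQ
    by_cases hQm : Q = IsLocalRing.maximalIdeal A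
    · have h3 := IsLocalRing.maximalIdeal_height_eq_ringKrullDim (R := A)
      rw [hdim, ← hQm] at h3
      have h3' : Q.height = 3 := by
        have h3'' : (Q.height : WithBot ℕ∞) = ((3 : ℕ∞) : WithBot ℕ∞) := h3
        exact WithBot.coe_injective h3''
      rw [h3'] at hht
      exact absurd hht (by norm_num)
    · have hfree := h0 ⟨Q, hQp⟩ htQ hQm
      exact not_le_of_free_localized e x f g hfg hg hw Q hfree hJQ
  · intro hfree
    exact not_le_of_free_localized e x f g hfg hg hw Q hfree hJQ

end Groth.Agent.H75.CokerFree
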