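import Groth.Agent.H75.ConicPsi

/-!
# Extending automorphisms of the coordinate ring to Laurent polynomials (helper75)
-/

set_option autoImplicit false
universe u

attribute [local instance] MvPolynomial.gradedAlgebra

namespace Groth.Agent.H75.Conic

open MvPolynomial TensorProduct
open scoped LaurentPolynomial

local notation "LC" => LaurentPolynomial.C
local notation "LT" => LaurentPolynomial.T

attribute [local instance] algAway

variable {K : Type u} [Field K] (D : QData K)

/-- `K`-linearity of a ring automorphism. -/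
def QData.IsLin (g : Aw D.qform ≃+* Aw D.qform) : Prop :=
  ∀ k : K, g (algebraMap K (Aw D.qform) k) = algebraMap K (Aw D.qform) k

/-- The extension of a `K`-linear ring automorphism of `A` to an `L`-algebra automorphism of
`L[T;T⁻¹]`. -/
noncomputable def QData.ext (g : Aw D.qform ≃+* Aw D.qform) (hg : D.IsLin g) :
    D.L[T;T⁻¹] ≃ₐ[D.L] D.L[T;T⁻¹] :=
  D.ΨE.symm.trans ((Algebra.TensorProduct.congr AlgEquiv.refl
    (AlgEquiv.ofRingEquiv (f := g) hg)).trans D.ΨE)

lemma QData.ext_apply (g : Aw D.qform ≃+* Aw D.qform) (hg : D.IsLin g) (l : D.L)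
    (x : Aw D.qform) : D.ext g hg (LC l * D.ι x) = LC l * D.ι (g x) := by
  have h1 : LC l * D.ι x = D.ΨE (l ⊗ₜ x) := by rw [D.ΨE_apply, D.Ψ_tmul]
  unfold QData.ext
  rw [h1, AlgEquiv.trans_apply, AlgEquiv.symm_apply_apply, AlgEquiv.trans_apply,
    Algebra.TensorProduct.congr_apply, Algebra.TensorProduct.map_tmul, D.ΨE_apply, D.Ψ_tmul]
  rfl

lemma QData.ext_ι (g : Aw D.qform ≃+* Aw D.qform) (hg : D.IsLin g) (x : Aw D.qform) :
    D.ext g hg (D.ι x) = D.ι (g x) := by
  have := D.ext_apply g hg 1 x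
  rwa [map_one, one_mul, one_mul] at this

/-- An `L`-algebra endomorphism of `L[T;T⁻¹]` is determined by its values on `λ · ι a`. -/
lemma QData.algHom_ext_ι (h h' : D.L[T;T⁻¹] →ₐ[D.L] D.L[T;T⁻¹])
    (H : ∀ (l : D.L) (x : Aw D.qform), h (LC l * D.ι x) = h' (LC l * D.ι x)) : h = h' := by
  refine AlgHom.ext fun p => ?_
  induction p using D.B_induction with
  | hadd p q hp hq => rw [map_add, map_add, hp, hq]
  | hmul l x => exact H l x

lemma QData.ext_mul (g g' : Aw D.qform ≃+* Aw D.qform) (hg : D.IsLin g) (hg' : D.IsLin g')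
    (hgg' : D.IsLin (g * g')) : D.ext (g * g') hgg' = D.ext g hg * D.ext g' hg' := by
  apply AlgEquiv.coe_algHom_injective
  apply D.algHom_ext_ι
  intro l x
  change D.ext (g * g') hgg' (LC l * D.ι x) = D.ext g hg (D.ext g' hg' (LC l * D.ι x))
  rw [D.ext_apply, D.ext_apply, D.ext_apply]
  rfl

lemma QData.ext_one (h1 : D.IsLin 1) : D.ext 1 h1 = 1 := by
  apply AlgEquiv.coe_algHom_injective
  apply D.algHom_ext_ι
  intro l x
  change D.ext 1 h1 (LC l * D.ι x) = LC l * D.ι x
  rw [D.ext_apply]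
  rfl

lemma QData.isLin_one : D.IsLin 1 := fun _ => rfl

lemma QData.isLin_mul {g g' : Aw D.qform ≃+* Aw D.qform} (hg : D.IsLin g) (hg' : D.IsLin g') :
    D.IsLin (g * g') := fun k => by
  change g (g' _) = _
  rw [hg' k, hg k]

lemma QData.isLin_pow {g : Aw D.qform ≃+* Aw D.qform} (hg : D.IsLin g) (n : ℕ) :
    D.IsLin (g ^ n) := by
  induction n with
  | zero => rw [pow_zero]; exact D.isLin_one
  | succ n ih => rw [pow_succ]; exact D.isLin_mul ih hg

lemma QData.ext_pow (g : Aw D.qform ≃+* Aw D.qform) (hg : D.IsLin g) (n : ℕ) :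
    D.ext (g ^ n) (D.isLin_pow hg n) = D.ext g hg ^ n := by
  induction n with
  | zero =>
    have : D.ext (g ^ 0) (D.isLin_pow hg 0) = D.ext 1 D.isLin_one := by
      congr 1
    rw [this, D.ext_one, pow_zero]
  | succ n ih =>
    have : D.ext (g ^ (n + 1)) (D.isLin_pow hg (n + 1)) =
        D.ext (g ^ n * g) (D.isLin_mul (D.isLin_pow hg n) hg) := by
      congr 1
    rw [this, D.ext_mul _ _ (D.isLin_pow hg n) hg, ih, pow_succ]

/-- `ext` commutes with `σ̃`. -/
lemma QData.sT_ext (g : Aw D.qform ≃+* Aw D.qform) (hg : D.IsLin g) (p : D.L[T;T⁻¹]) :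
    D.sT (D.ext g hg p) = D.ext g hg (D.sT p) := by
  induction p using D.B_induction with
  | hadd p q hp hq => rw [map_add, map_add, map_add, map_add, hp, hq]
  | hmul l x =>
    rw [D.ext_apply, map_mul, map_mul, D.sT_C, D.sT_ι, D.sT_ι, D.ext_apply]

/-- `ext` is injective in `g`. -/
lemma QData.eq_of_ext_eq (g g' : Aw D.qform ≃+* Aw D.qform) (hg : D.IsLin g) (hg' : D.IsLin g')
    (h : D.ext g hg = D.ext g' hg') : g = g' := by
  refine RingEquiv.ext fun x => ?_
  apply D.ι_injective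
  rw [← D.ext_ι g hg, ← D.ext_ι g' hg', h]

/-- An `L`-algebra automorphism of `L[T;T⁻¹]` is determined by the image of `T`. -/
lemma algEquiv_ext_T {L : Type u} [Field L] (h h' : L[T;T⁻¹] ≃ₐ[L] L[T;T⁻¹])
    (hT : h (LT 1) = h' (LT 1)) : h = h' := by
  have : (h : L[T;T⁻¹] →+* L[T;T⁻¹]) = (h' : L[T;T⁻¹] →+* L[T;T⁻¹]) := by
    apply laurent_ringHom_ext'
    · intro a
      change h (LC a) = h' (LC a)
      rw [LaurentPolynomial.C_eq_algebraMap, AlgEquiv.commutes, AlgEquiv.commutes]
    · exact hT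
  refine AlgEquiv.ext fun p => ?_
  exact DFunLike.congr_fun this p

end Groth.Agent.H75.Conic
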