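import Mathlib

/-!
# Quadratic separable extension attached to an irreducible quadratic polynomial (helper75)

Data: `a b c : K`, `a ≠ 0`, `b^2 - 4ac ≠ 0`, `a X^2 + b X + c` irreducible.
We build `L = K[X]/(aX^2+bX+c)`, the two distinct roots `α, β`, and the involution `σ` swapping
them.
-/

set_option autoImplicit false
universe u

open Polynomial

namespace Groth.Agent.H75.Conic

lemma eval₂_quad {R S : Type*} [CommSemiring R] [CommSemiring S] (f : R →+* S) (x : S)
    (a b c : R) :
    (C a * X ^ 2 + C b * X + C c : R[X]).eval₂ f x = f a * x ^ 2 + f b * x + f c := by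
  simp only [eval₂_add, eval₂_mul, eval₂_C, eval₂_pow, eval₂_X]

/-- Coefficients of an irreducible separable quadratic polynomial. -/
structure QData (K : Type u) [Field K] where
  a : K
  b : K
  c : K
  ha : a ≠ 0
  hdisc : b ^ 2 - 4 * a * c ≠ 0
  hirr : Irreducible (C a * X ^ 2 + C b * X + C c : K[X])

variable {K : Type u} [Field K] (D : QData K)

/-- The quadratic polynomial. -/
noncomputable def QData.poly : K[X] := C D.a * X ^ 2 + C D.b * X + C D.c

instance QData.factIrr : Fact (Irreducible D.poly) := ⟨D.hirr⟩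

/-- The quadratic extension. -/
abbrev QData.L : Type u := AdjoinRoot D.poly

/-- First root. -/
noncomputable def QData.α : D.L := AdjoinRoot.root D.poly

/-- Second root. -/
noncomputable def QData.β : D.L := -(algebraMap K D.L D.b) / (algebraMap K D.L D.a) - D.α

/-- `a` in `L`. -/
noncomputable def QData.aL : D.L := algebraMap K D.L D.a

lemma QData.aL_ne_zero : D.aL ≠ 0 := by
  unfold QData.aL
  rw [Ne, map_eq_zero_iff _ (algebraMap K D.L).injective]
  exact D.ha

lemma QData.eval_α :
    algebraMap K D.L D.a * D.α ^ 2 + algebraMap K D.L D.b * D.α + algebraMap K D.L D.c = 0 := by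
  have h := AdjoinRoot.eval₂_root D.poly
  exact (eval₂_quad _ _ _ _ _).symm.trans h

lemma QData.eval_β :
    algebraMap K D.L D.a * D.β ^ 2 + algebraMap K D.L D.b * D.β + algebraMap K D.L D.c = 0 := by
  have h := D.eval_α
  have ha := D.aL_ne_zero
  unfold QData.aL at ha
  unfold QData.β
  field_simp
  linear_combination (algebraMap K D.L D.a) * h

/-- Vieta: `b = -a (α + β)`. -/
lemma QData.b_eq : algebraMap K D.L D.b = -(D.aL * (D.α + D.β)) := by
  have ha := D.aL_ne_zero
  unfold QData.β QData.aL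
  unfold QData.aL at ha
  field_simp
  ring

/-- Vieta: `c = a α β`. -/
lemma QData.c_eq : algebraMap K D.L D.c = D.aL * D.α * D.β := by
  have h := D.eval_α
  have ha := D.aL_ne_zero
  unfold QData.β QData.aL
  unfold QData.aL at ha
  field_simp
  linear_combination h

lemma QData.disc_eq :
    (D.aL * (D.α - D.β)) ^ 2 = algebraMap K D.L (D.b ^ 2 - 4 * D.a * D.c) := by
  rw [map_sub, map_pow, map_mul, map_mul, D.b_eq, D.c_eq]
  have : algebraMap K D.L 4 = 4 := map_ofNat _ 4
  rw [this]
  unfold QData.aL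
  ring

lemma QData.α_ne_β : D.α ≠ D.β := by
  intro h
  have h1 := D.disc_eq
  rw [h, sub_self, mul_zero, zero_pow two_ne_zero] at h1
  have h2 := (map_eq_zero_iff _ (algebraMap K D.L).injective).1 h1.symm
  exact D.hdisc h2

lemma QData.aeval_β : D.poly.eval₂ (Algebra.ofId K D.L : K →ₐ[K] D.L) D.β = 0 := by
  change D.poly.eval₂ (algebraMap K D.L) D.β = 0
  exact (eval₂_quad _ _ _ _ _).trans D.eval_β

/-- The conjugation. -/
noncomputable def QData.σ : D.L →ₐ[K] D.L :=
  AdjoinRoot.liftAlgHom D.poly (Algebra.ofId K D.L) D.β D.aeval_β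

lemma QData.σ_α : D.σ D.α = D.β := by
  unfold QData.σ QData.α
  rw [AdjoinRoot.liftAlgHom_root]

lemma QData.σ_β : D.σ D.β = D.α := by
  have h : D.σ D.β = -(algebraMap K D.L D.b) / (algebraMap K D.L D.a) - D.σ D.α := by
    conv_lhs => unfold QData.β
    rw [map_sub, map_div₀, map_neg, AlgHom.commutes, AlgHom.commutes]
  rw [h, D.σ_α]
  unfold QData.β
  ring

lemma QData.σ_σ (x : D.L) : D.σ (D.σ x) = x := by
  have h : D.σ.comp D.σ = AlgHom.id K D.L := by
    apply AdjoinRoot.algHom_ext
    rw [AlgHom.comp_apply]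
    change D.σ (D.σ D.α) = D.α
    rw [D.σ_α, D.σ_β]
  exact DFunLike.congr_fun h x

lemma QData.σ_aL : D.σ D.aL = D.aL := by
  unfold QData.aL
  rw [AlgHom.commutes]

/-- Every element of `L` is `u + v α`. -/
lemma QData.exists_repr (x : D.L) :
    ∃ u v : K, x = algebraMap K D.L u + algebraMap K D.L v * D.α := by
  obtain ⟨f, rfl⟩ := AdjoinRoot.mk_surjective (g := D.poly) x
  have hp0 : D.poly ≠ 0 := D.hirr.ne_zero
  have hdeg : D.poly.natDegree = 2 := by
    unfold QData.poly
    compute_degree!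
    exact D.ha
  have h1 : (f % D.poly).degree < D.poly.degree := Polynomial.degree_mod_lt f hp0
  have h2 : (f % D.poly).natDegree ≤ 1 := by
    by_cases hz : f % D.poly = 0
    · rw [hz]; simp
    · have := (Polynomial.natDegree_lt_natDegree_iff hz).2 h1
      omega
  obtain ⟨v, u, huv⟩ := Polynomial.exists_eq_X_add_C_of_natDegree_le_one h2
  refine ⟨u, v, ?_⟩
  have h3 : AdjoinRoot.mk D.poly f = AdjoinRoot.mk D.poly (f % D.poly) := by
    rw [AdjoinRoot.mk_eq_mk]
    have := EuclideanDomain.div_add_mod f D.poly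
    exact ⟨f / D.poly, by linear_combination this.symm⟩
  rw [h3, huv, map_add, map_mul, AdjoinRoot.mk_C, AdjoinRoot.mk_C, AdjoinRoot.mk_X]
  unfold QData.α
  rw [add_comm]
  rfl

/-- Roots of unity in `L` lie in `K` when `X^n - 1` splits over `K`. -/
lemma QData.mem_range_of_pow_eq_one (hK : ∀ n : ℕ, 0 < n → (X ^ n - 1 : K[X]).Splits)
    (x : D.L) (n : ℕ) (hn : 0 < n) (hx : x ^ n = 1) : ∃ r : K, algebraMap K D.L r = x := by
  have h0 : (X ^ n - 1 : K[X]) ≠ 0 := Polynomial.X_pow_sub_C_ne_zero hn 1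
  have hr : ((X ^ n - 1 : K[X]).map (algebraMap K D.L)).IsRoot x := by
    simp [hx]
  exact (hK n hn).mem_range_of_isRoot h0 hr

end Groth.Agent.H75.Conic
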