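import Groth.Agent.H75.ConicField

/-!
# Binary quadratic forms (helper75)
-/

set_option autoImplicit false
universe u

namespace Groth.Agent.H75.Conic

open MvPolynomial

variable {K : Type u} [Field K]

lemma fin2_finsupp_cases (m : Fin 2 →₀ ℕ) (hm : m.degree = 2) :
    m = Finsupp.single 0 2 ∨ m = Finsupp.single 0 1 + Finsupp.single 1 1 ∨
      m = Finsupp.single 1 2 := by
  have h1 : m 0 + m 1 = 2 := by
    rw [Finsupp.degree_eq_sum, Fin.sum_univ_two] at hm
    exact hm
  have h2 : ∀ m' : Fin 2 →₀ ℕ, m' 0 = m 0 → m' 1 = m 1 → m = m' := by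
    intro m' h0 h1
    ext i
    fin_cases i
    · exact h0.symm
    · exact h1.symm
  have hcases : (m 0 = 2 ∧ m 1 = 0) ∨ (m 0 = 1 ∧ m 1 = 1) ∨ (m 0 = 0 ∧ m 1 = 2) := by omega
  rcases hcases with ⟨h0, h1'⟩ | ⟨h0, h1'⟩ | ⟨h0, h1'⟩
  · left
    exact h2 _ (by simp [h0]) (by simp [h1'])
  · right; left
    exact h2 _ (by simp [h0]) (by simp [h1'])
  · right; right
    exact h2 _ (by simp [h0]) (by simp [h1'])

/-- A binary quadratic form is `a x² + b xy + c y²`. -/
lemma binary_quadratic_eq (q : MvPolynomial (Fin 2) K) (hq : q.IsHomogeneous 2) :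
    q = C (q.coeff (Finsupp.single 0 2)) * X 0 ^ 2 +
      C (q.coeff (Finsupp.single 0 1 + Finsupp.single 1 1)) * (X 0 * X 1) +
      C (q.coeff (Finsupp.single 1 2)) * X 1 ^ 2 := by
  have e1 : (X 0 ^ 2 : MvPolynomial (Fin 2) K) = monomial (Finsupp.single 0 2) 1 := by
    rw [X_pow_eq_monomial]
  have e2 : (X 0 * X 1 : MvPolynomial (Fin 2) K) =
      monomial (Finsupp.single 0 1 + Finsupp.single 1 1) 1 := by
    rw [X, X, monomial_mul, one_mul]
  have e3 : (X 1 ^ 2 : MvPolynomial (Fin 2) K) = monomial (Finsupp.single 1 2) 1 := by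
    rw [X_pow_eq_monomial]
  rw [e1, e2, e3, C_mul_monomial, C_mul_monomial, C_mul_monomial, mul_one, mul_one, mul_one]
  have d12 : (Finsupp.single 0 2 : Fin 2 →₀ ℕ) ≠ Finsupp.single 0 1 + Finsupp.single 1 1 := by
    intro h
    have := DFunLike.congr_fun h 1
    simp at this
  have d13 : (Finsupp.single 0 2 : Fin 2 →₀ ℕ) ≠ Finsupp.single 1 2 := by
    intro h
    have := DFunLike.congr_fun h 1
    simp at this
  have d23 : (Finsupp.single 0 1 + Finsupp.single 1 1 : Fin 2 →₀ ℕ) ≠ Finsupp.single 1 2 := by
    intro h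
    have := DFunLike.congr_fun h 0
    simp at this
  ext m
  rw [coeff_add, coeff_add, coeff_monomial, coeff_monomial, coeff_monomial]
  by_cases hm : m.degree = 2
  · rcases fin2_finsupp_cases m hm with rfl | rfl | rfl
    · rw [if_pos rfl, if_neg d12.symm, if_neg d13.symm, add_zero, add_zero]
    · rw [if_neg d12, if_pos rfl, if_neg d23.symm, add_zero, zero_add]
    · rw [if_neg d13, if_neg d23, if_pos rfl, zero_add, zero_add]
  · have h0 : coeff m q = 0 := by
      by_contra hne
      have := hq hne
      have h2 : Finsupp.degree m = Finsupp.weight (1 : Fin 2 → ℕ) m := by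
        rw [Finsupp.degree_eq_weight_one]; rfl
      exact hm (h2.trans this)
    have n1 : Finsupp.single 0 2 ≠ m := by
      rintro rfl; apply hm; simp [Finsupp.degree_eq_sum, Fin.sum_univ_two]
    have n2 : Finsupp.single 0 1 + Finsupp.single 1 1 ≠ m := by
      rintro rfl; apply hm; simp [Finsupp.degree_eq_sum, Fin.sum_univ_two]
    have n3 : Finsupp.single 1 2 ≠ m := by
      rintro rfl; apply hm; simp [Finsupp.degree_eq_sum, Fin.sum_univ_two]
    rw [h0, if_neg n1, if_neg n2, if_neg n3, add_zero, add_zero]

lemma not_irreducible_of_factor (q l1 l2 : MvPolynomial (Fin 2) K) (h : q = l1 * l2)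
    (h1 : constantCoeff l1 = 0) (h2 : constantCoeff l2 = 0) : ¬ Irreducible q := by
  intro hirr
  rcases hirr.isUnit_or_isUnit h with hu | hu
  · have := hu.map (constantCoeff (R := K) (σ := Fin 2))
    rw [h1] at this
    exact not_isUnit_zero this
  · have := hu.map (constantCoeff (R := K) (σ := Fin 2))
    rw [h2] at this
    exact not_isUnit_zero this

/-- The data attached to an irreducible binary quadratic form with non-zero discriminant. -/
noncomputable def QData.ofForm (q : MvPolynomial (Fin 2) K) (hq : q.IsHomogeneous 2)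
    (hirr : Irreducible q)
    (hdisc : (q.coeff (Finsupp.single 0 1 + Finsupp.single 1 1)) ^ 2 -
      4 * q.coeff (Finsupp.single 0 2) * q.coeff (Finsupp.single 1 2) ≠ 0) : QData K where
  a := q.coeff (Finsupp.single 0 2)
  b := q.coeff (Finsupp.single 0 1 + Finsupp.single 1 1)
  c := q.coeff (Finsupp.single 1 2)
  ha := by
    intro ha
    have h := binary_quadratic_eq q hq
    rw [ha, map_zero, zero_mul, zero_add] at h
    refine not_irreducible_of_factor q (X 1)
      (C (q.coeff (Finsupp.single 0 1 + Finsupp.single 1 1)) * X 0 +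
        C (q.coeff (Finsupp.single 1 2)) * X 1) ?_ ?_ ?_ hirr
    · conv_lhs => rw [h]
      ring
    · simp
    · simp
  hdisc := hdisc
  hirr := by
    have ha : q.coeff (Finsupp.single 0 2) ≠ 0 := by
      intro ha
      have h := binary_quadratic_eq q hq
      rw [ha, map_zero, zero_mul, zero_add] at h
      refine not_irreducible_of_factor q (X 1)
        (C (q.coeff (Finsupp.single 0 1 + Finsupp.single 1 1)) * X 0 +
          C (q.coeff (Finsupp.single 1 2)) * X 1) ?_ ?_ ?_ hirr
      · conv_lhs => rw [h]
        ring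
      · simp
      · simp
    apply Polynomial.irreducible_of_degree_le_three_of_not_isRoot
    · have : (Polynomial.C (q.coeff (Finsupp.single 0 2)) * Polynomial.X ^ 2 +
          Polynomial.C (q.coeff (Finsupp.single 0 1 + Finsupp.single 1 1)) * Polynomial.X +
          Polynomial.C (q.coeff (Finsupp.single 1 2)) : Polynomial K).natDegree = 2 := by
        compute_degree!
      rw [this]
      simp
    · intro r hr
      rw [Polynomial.IsRoot.def] at hr
      simp only [Polynomial.eval_add, Polynomial.eval_mul, Polynomial.eval_C, Polynomial.eval_pow,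
        Polynomial.eval_X] at hr
      have h := binary_quadratic_eq q hq
      set a := q.coeff (Finsupp.single 0 2) with ha_def
      set b := q.coeff (Finsupp.single 0 1 + Finsupp.single 1 1) with hb_def
      set c := q.coeff (Finsupp.single 1 2) with hc_def
      have hc : c = -(a * r ^ 2 + b * r) := by linear_combination hr
      refine not_irreducible_of_factor q (X 0 - C r * X 1) (C a * X 0 + C (b + a * r) * X 1)
        ?_ ?_ ?_ hirr
      · conv_lhs => rw [h]
        rw [hc]
        simp only [map_neg, map_add, map_mul, map_pow]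
        ring
      · simp
      · simp

end Groth.Agent.H75.Conic
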