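import Groth.Agent.H75.ConicIota

/-!
# Injectivity and Galois-invariance of the embedding into Laurent polynomials (helper75)
-/

set_option autoImplicit false
universe u

attribute [local instance] MvPolynomial.gradedAlgebra

namespace Groth.Agent.H75.Conic

open MvPolynomial
open scoped LaurentPolynomial

local notation "LC" => LaurentPolynomial.C
local notation "LT" => LaurentPolynomial.T

attribute [local instance] algAway

section General

variable {R B : Type*} [CommSemiring R] [CommSemiring B] [Algebra R B] {τ : Type*}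

lemma aeval_monomial_mul (c : B) (g : τ → B) (d : τ →₀ ℕ) (a : R) :
    aeval (fun i => c * g i) (monomial d a) = c ^ d.degree * aeval g (monomial d a) := by
  rw [aeval_monomial, aeval_monomial, Finsupp.prod, Finsupp.prod]
  simp only [mul_pow]
  rw [Finset.prod_mul_distrib, Finset.prod_pow_eq_pow_sum, Finsupp.degree_apply]
  ring

/-- Scaling all variables by `c` scales a homogeneous polynomial of degree `n` by `c ^ n`. -/
lemma aeval_mul_of_isHomogeneous (f : MvPolynomial τ R) (n : ℕ) (hf : f.IsHomogeneous n)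
    (c : B) (g : τ → B) : aeval (fun i => c * g i) f = c ^ n * aeval g f := by
  conv_lhs => rw [f.as_sum]
  conv_rhs => rw [f.as_sum]
  rw [map_sum, map_sum, Finset.mul_sum]
  refine Finset.sum_congr rfl fun d hd => ?_
  rw [aeval_monomial_mul]
  have : d.degree = n := by
    have h := hf (mem_support_iff.1 hd)
    rw [← h, Finsupp.degree_eq_weight_one]
    rfl
  rw [this]

end General

variable {K : Type u} [Field K] (D : QData K)

/-- `σ̃`. -/
noncomputable def QData.sT : D.L[T;T⁻¹] →+* D.L[T;T⁻¹] := sigT (D.σ : D.L →+* D.L)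

lemma QData.sT_C (x : D.L) : D.sT (LC x) = LC (D.σ x) := sigT_C _ x

lemma QData.sT_T (n : ℤ) : D.sT (LT n) = LT (-n) := sigT_T _ n

lemma QData.sT_sT (p : D.L[T;T⁻¹]) : D.sT (D.sT p) = p :=
  sigT_sigT _ (fun x => D.σ_σ x) p

lemma QData.T_neg_mul_T : (LT (-1) : D.L[T;T⁻¹]) * LT 1 = 1 := by
  rw [← LaurentPolynomial.T_add]; simp

lemma QData.sT_φx : D.sT D.φx = (-LT (-1)) * D.φx := by
  unfold QData.φx
  rw [map_sub, map_mul, D.sT_C, D.sT_C, D.sT_T, D.σ_α, D.σ_β]
  have h := D.T_neg_mul_T
  linear_combination (LC D.β : D.L[T;T⁻¹]) * h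

lemma QData.sT_φy : D.sT D.φy = (-LT (-1)) * D.φy := by
  unfold QData.φy
  rw [map_sub, map_one, D.sT_T]
  have h := D.T_neg_mul_T
  linear_combination h

lemma QData.sT_comp_φ :
    (D.sT.comp (D.φ : MvPolynomial (Fin 2) K →+* D.L[T;T⁻¹])) =
      ((aeval (fun i => (-LT (-1)) * ![D.φx, D.φy] i) :
        MvPolynomial (Fin 2) K →ₐ[K] D.L[T;T⁻¹]) : MvPolynomial (Fin 2) K →+* D.L[T;T⁻¹]) := by
  apply MvPolynomial.ringHom_ext
  · intro k
    rw [RingHom.comp_apply, RingHom.coe_coe, RingHom.coe_coe, D.φ_C, D.sT_C, AlgHom.commutes,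
      aeval_C, LaurentPolynomial.algebraMap_apply]
  · intro i
    rw [RingHom.comp_apply, RingHom.coe_coe, RingHom.coe_coe, aeval_X]
    fin_cases i
    · change D.sT (D.φ (X 0)) = _
      rw [D.φ_X0, D.sT_φx]; rfl
    · change D.sT (D.φ (X 1)) = _
      rw [D.φ_X1, D.sT_φy]; rfl

lemma QData.sT_φ (f : MvPolynomial (Fin 2) K) (n : ℕ) (hf : f.IsHomogeneous n) :
    D.sT (D.φ f) = (-LT (-1)) ^ n * D.φ f := by
  have h := DFunLike.congr_fun D.sT_comp_φ f
  rw [RingHom.comp_apply, RingHom.coe_coe, RingHom.coe_coe,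
    aeval_mul_of_isHomogeneous f n hf] at h
  exact h

/-- The image of `ι` is fixed by `σ̃`. -/
lemma QData.sT_ι (x : Aw D.qform) : D.sT (D.ι x) = D.ι x := by
  obtain ⟨n, f, hf, rfl⟩ := HomogeneousLocalization.Away.mk_surjective (gr K) D.qform_mem x
  have h1 := D.ι_mk n f hf
  have hf' : f.IsHomogeneous (2 * n) := by
    have : f.IsHomogeneous (n • 2) := hf
    rwa [smul_eq_mul, mul_comm] at this
  have h2 := D.sT_φ f (2 * n) hf'
  rw [← h1, map_mul, map_pow, map_mul, D.sT_C, D.sT_T, D.σ_c₀] at h2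
  set y := D.ι (HomogeneousLocalization.Away.mk (gr K) D.qform_mem n f hf) with hy
  have hu : IsUnit ((LC D.c₀ * LT (-1) : D.L[T;T⁻¹]) ^ n) :=
    (isUnit_C_mul_T D.c₀_ne_zero (-1)).pow n
  apply hu.mul_right_cancel
  rw [h2]
  have h4 : ((-LT (-1) : D.L[T;T⁻¹])) ^ 2 * (LC D.c₀ * LT 1) = LC D.c₀ * LT (-1) := by
    have h := D.T_neg_mul_T
    generalize (LT (-1) : D.L[T;T⁻¹]) = s at h ⊢
    generalize (LT 1 : D.L[T;T⁻¹]) = t at h ⊢
    generalize (LC D.c₀ : D.L[T;T⁻¹]) = c
    linear_combination (c * s) * h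
  have h3 : ((-LT (-1) : D.L[T;T⁻¹])) ^ (2 * n) * (LC D.c₀ * LT 1) ^ n =
      (LC D.c₀ * LT (-1)) ^ n := by
    rw [pow_mul, ← mul_pow, h4]
  rw [← h3, mul_left_comm]

section Dehom

variable {F : Type*} [Field F]

/-- Dehomogenization `x ↦ X`, `y ↦ 1`. -/
noncomputable def dehom : MvPolynomial (Fin 2) F →ₐ[F] Polynomial F :=
  aeval ![Polynomial.X, 1]

lemma dehom_monomial (d : Fin 2 →₀ ℕ) (a : F) :
    dehom (monomial d a) = Polynomial.C a * Polynomial.X ^ (d 0) := by
  unfold dehom
  rw [aeval_monomial, Finsupp.prod_fintype _ _ (fun i => pow_zero _), Fin.prod_univ_two]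
  simp [Polynomial.algebraMap_eq]

lemma fin2_ext_of_degree {d e : Fin 2 →₀ ℕ} (h : d.degree = e.degree) (h0 : e 0 = d 0) :
    e = d := by
  rw [Finsupp.degree_eq_sum, Finsupp.degree_eq_sum, Fin.sum_univ_two, Fin.sum_univ_two] at h
  ext i
  fin_cases i
  · exact h0
  · change e 1 = d 1
    omega

lemma coeff_dehom (h : MvPolynomial (Fin 2) F) (m : ℕ) (hh : h.IsHomogeneous m)
    (d : Fin 2 →₀ ℕ) (hd : d.degree = m) : (dehom h).coeff (d 0) = h.coeff d := by
  conv_lhs => rw [h.as_sum]
  rw [map_sum, Polynomial.finset_sum_coeff]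
  have key : ∀ e ∈ h.support, (dehom (monomial e (coeff e h))).coeff (d 0) =
      if e = d then coeff d h else 0 := by
    intro e he
    rw [dehom_monomial, Polynomial.coeff_C_mul, Polynomial.coeff_X_pow]
    have hdeg : e.degree = m := by
      have h' := hh (mem_support_iff.1 he)
      rw [← h', Finsupp.degree_eq_weight_one]
      rfl
    by_cases hed : e = d
    · subst hed
      rw [if_pos rfl, if_pos rfl, mul_one]
    · rw [if_neg hed, if_neg, mul_zero]
      intro h0
      exact hed (fin2_ext_of_degree (hd.trans hdeg.symm) h0.symm)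
  rw [Finset.sum_congr rfl key, Finset.sum_ite_eq' h.support d]
  split_ifs with hmem
  · rfl
  · exact (notMem_support_iff.1 hmem).symm

lemma eq_zero_of_dehom_eq_zero (h : MvPolynomial (Fin 2) F) (m : ℕ) (hh : h.IsHomogeneous m)
    (h0 : dehom h = 0) : h = 0 := by
  ext d
  rw [coeff_zero]
  by_cases hd : d.degree = m
  · rw [← coeff_dehom h m hh d hd, h0, Polynomial.coeff_zero]
  · by_contra hne
    have h' := hh hne
    apply hd
    rw [← h', Finsupp.degree_eq_weight_one]
    rfl

/-- The linear substitution `x ↦ β x - α y`, `y ↦ x - y`. -/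
noncomputable def lam (α β : F) : MvPolynomial (Fin 2) F →ₐ[F] MvPolynomial (Fin 2) F :=
  aeval ![C β * X 0 - C α * X 1, X 0 - X 1]

/-- Its inverse. -/
noncomputable def lamInv (α β : F) : MvPolynomial (Fin 2) F →ₐ[F] MvPolynomial (Fin 2) F :=
  aeval ![C (β - α)⁻¹ * (X 0 - C α * X 1), C (β - α)⁻¹ * (X 0 - C β * X 1)]

lemma lamInv_lam (α β : F) (hαβ : α ≠ β) (f : MvPolynomial (Fin 2) F) :
    lamInv α β (lam α β f) = f := by
  have hne : β - α ≠ 0 := sub_ne_zero.2 (Ne.symm hαβ)
  have hC : (C (β - α)⁻¹ : MvPolynomial (Fin 2) F) * C (β - α) = 1 := by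
    rw [← C_mul, inv_mul_cancel₀ hne, C_1]
  have : (lamInv α β).comp (lam α β) = AlgHom.id F _ := by
    apply MvPolynomial.algHom_ext
    intro i
    rw [AlgHom.comp_apply, AlgHom.id_apply]
    fin_cases i
    · change lamInv α β (lam α β (X 0)) = X 0
      unfold lam
      rw [aeval_X]
      change lamInv α β (C β * X 0 - C α * X 1) = X 0
      unfold lamInv
      rw [map_sub, map_mul, map_mul, aeval_C, aeval_C, aeval_X, aeval_X]
      change algebraMap F _ β * (C (β - α)⁻¹ * (X 0 - C α * X 1)) -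
        algebraMap F _ α * (C (β - α)⁻¹ * (X 0 - C β * X 1)) = X 0
      rw [MvPolynomial.algebraMap_eq]
      rw [map_sub] at hC
      linear_combination (X 0 : MvPolynomial (Fin 2) F) * hC
    · change lamInv α β (lam α β (X 1)) = X 1
      unfold lam
      rw [aeval_X]
      change lamInv α β (X 0 - X 1) = X 1
      unfold lamInv
      rw [map_sub, aeval_X, aeval_X]
      change (C (β - α)⁻¹ * (X 0 - C α * X 1)) - (C (β - α)⁻¹ * (X 0 - C β * X 1)) = X 1
      rw [map_sub] at hC
      linear_combination (X 1 : MvPolynomial (Fin 2) F) * hC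
  exact DFunLike.congr_fun this f

lemma lam_isHomogeneous (α β : F) (f : MvPolynomial (Fin 2) F) (m : ℕ)
    (hf : f.IsHomogeneous m) : (lam α β f).IsHomogeneous m := by
  have := hf.aeval (S := F) (n := 1)
    (![C β * X 0 - C α * X 1, X 0 - X 1] : Fin 2 → MvPolynomial (Fin 2) F) (by
    intro i
    fin_cases i
    · change (C β * X 0 - C α * X 1 : MvPolynomial (Fin 2) F).IsHomogeneous 1
      have h1 := (isHomogeneous_C (Fin 2) β).mul (isHomogeneous_X F (0 : Fin 2))
      have h2 := (isHomogeneous_C (Fin 2) α).mul (isHomogeneous_X F (1 : Fin 2))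
      simpa using h1.sub h2
    · change (X 0 - X 1 : MvPolynomial (Fin 2) F).IsHomogeneous 1
      exact (isHomogeneous_X F (0 : Fin 2)).sub (isHomogeneous_X F (1 : Fin 2)))
  rw [one_mul] at this
  exact this

end Dehom

/-- `φ` factors through coefficient extension, linear substitution and dehomogenization. -/
lemma QData.φ_eq (f : MvPolynomial (Fin 2) K) :
    D.φ f = Polynomial.toLaurent (dehom (lam D.α D.β (map (algebraMap K D.L) f))) := by
  have : (D.φ : MvPolynomial (Fin 2) K →+* D.L[T;T⁻¹]) =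
      (Polynomial.toLaurent.comp ((dehom : MvPolynomial (Fin 2) D.L →ₐ[D.L] _) :
        MvPolynomial (Fin 2) D.L →+* Polynomial D.L)).comp
        (((lam D.α D.β : MvPolynomial (Fin 2) D.L →ₐ[D.L] _) :
          MvPolynomial (Fin 2) D.L →+* MvPolynomial (Fin 2) D.L).comp
          (map (algebraMap K D.L))) := by
    apply MvPolynomial.ringHom_ext
    · intro k
      rw [RingHom.coe_coe, D.φ_C]
      simp only [RingHom.comp_apply, RingHom.coe_coe, map_C]
      rw [← MvPolynomial.algebraMap_eq, AlgHom.commutes, AlgHom.commutes,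
        Polynomial.algebraMap_eq, Polynomial.toLaurent_C]
    · intro i
      simp only [RingHom.comp_apply, RingHom.coe_coe, map_X]
      fin_cases i
      · change D.φ (X 0) = _
        rw [D.φ_X0]
        unfold lam dehom
        rw [aeval_X]
        change D.φx = Polynomial.toLaurent (aeval ![Polynomial.X, 1] (C D.β * X 0 - C D.α * X 1))
        rw [map_sub, map_mul, map_mul, aeval_C, aeval_C, aeval_X, aeval_X]
        change D.φx = Polynomial.toLaurent (algebraMap _ _ D.β * Polynomial.X -
          algebraMap _ _ D.α * 1)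
        rw [Polynomial.algebraMap_eq, mul_one, map_sub, map_mul, Polynomial.toLaurent_C,
          Polynomial.toLaurent_C, Polynomial.toLaurent_X]
        rfl
      · change D.φ (X 1) = _
        rw [D.φ_X1]
        unfold lam dehom
        rw [aeval_X]
        change D.φy = Polynomial.toLaurent (aeval ![Polynomial.X, 1] (X 0 - X 1))
        rw [map_sub, aeval_X, aeval_X]
        change D.φy = Polynomial.toLaurent (Polynomial.X - 1)
        rw [map_sub, map_one, Polynomial.toLaurent_X]
        rfl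
  exact DFunLike.congr_fun this f

lemma QData.eq_zero_of_φ_eq_zero (f : MvPolynomial (Fin 2) K) (m : ℕ) (hf : f.IsHomogeneous m)
    (h0 : D.φ f = 0) : f = 0 := by
  rw [D.φ_eq, Polynomial.toLaurent_eq_zero] at h0
  have h1 : (map (algebraMap K D.L) f).IsHomogeneous m := hf.map _
  have h2 := eq_zero_of_dehom_eq_zero _ m (lam_isHomogeneous D.α D.β _ m h1) h0
  have h3 := lamInv_lam D.α D.β D.α_ne_β (map (algebraMap K D.L) f)
  rw [h2, map_zero] at h3
  exact map_injective _ (algebraMap K D.L).injective (h3.symm.trans (map_zero _).symm)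

/-- `ι` is injective. -/
lemma QData.ι_injective : Function.Injective D.ι := by
  rw [injective_iff_map_eq_zero]
  intro x hx
  obtain ⟨n, f, hf, rfl⟩ := HomogeneousLocalization.Away.mk_surjective (gr K) D.qform_mem x
  have h1 := D.ι_mk n f hf
  rw [hx, zero_mul] at h1
  have hf0 : f = 0 := D.eq_zero_of_φ_eq_zero f (n • 2) hf h1.symm
  subst hf0
  apply HomogeneousLocalization.val_injective
  rw [HomogeneousLocalization.Away.val_mk, HomogeneousLocalization.val_zero,
    Localization.mk_zero]

end Groth.Agent.H75.Conic
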