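import Mathlib

/-!
# Laurent polynomials over a field: units, semilinear inversion, hom extensionality (helper75)
-/

set_option autoImplicit false
universe u

open LaurentPolynomial

namespace Groth.Agent.H75.Conic

section Ext

variable {R S : Type*} [CommRing R] [CommRing S]

lemma laurent_hom_T_eq (f g : R[T;T⁻¹] →+* S) (hT : f (T 1) = g (T 1)) (n : ℤ) :
    f (T n) = g (T n) := by
  have hnat : ∀ k : ℕ, f (T (k : ℤ)) = g (T (k : ℤ)) := by
    intro k
    have : (T (k : ℤ) : R[T;T⁻¹]) = T 1 ^ k := by rw [T_pow, mul_one]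
    rw [this, map_pow, map_pow, hT]
  obtain ⟨k, rfl | rfl⟩ := Int.eq_nat_or_neg n
  · exact hnat k
  · have h1 : f (T (-(k : ℤ))) * f (T (k : ℤ)) = 1 := by
      rw [← map_mul, ← T_add, neg_add_cancel, T_zero, map_one]
    have h2 : g (T (-(k : ℤ))) * g (T (k : ℤ)) = 1 := by
      rw [← map_mul, ← T_add, neg_add_cancel, T_zero, map_one]
    rw [← hnat k] at h2
    calc f (T (-(k : ℤ))) = f (T (-(k : ℤ))) * (g (T (-(k : ℤ))) * f (T (k : ℤ))) := by
          rw [h2, mul_one]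
      _ = g (T (-(k : ℤ))) * (f (T (-(k : ℤ))) * f (T (k : ℤ))) := by ring
      _ = g (T (-(k : ℤ))) := by rw [h1, mul_one]

lemma laurent_ringHom_ext' (f g : R[T;T⁻¹] →+* S) (hC : ∀ a, f (C a) = g (C a))
    (hT : f (T 1) = g (T 1)) : f = g := by
  refine RingHom.ext fun p => ?_
  induction p using LaurentPolynomial.induction_on' with
  | add p q hp hq => rw [map_add, map_add, hp, hq]
  | C_mul_T n a => rw [map_mul, map_mul, hC, laurent_hom_T_eq f g hT]

end Ext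

variable {L : Type u} [Field L]

lemma C_mul_T_inj {c c' : L} {n n' : ℤ} (hc : c ≠ 0)
    (h : (C c * T n : L[T;T⁻¹]) = C c' * T n') : c = c' ∧ n = n' := by
  rw [← single_eq_C_mul_T, ← single_eq_C_mul_T] at h
  have h1 := congrArg (fun p : L[T;T⁻¹] => p.coeff n) h
  simp only [AddMonoidAlgebra.coeff_single, Finsupp.single_apply, if_pos rfl] at h1
  by_cases hn : n' = n
  · rw [if_pos hn] at h1
    exact ⟨h1, hn.symm⟩
  · rw [if_neg hn] at h1
    exact absurd h1 hc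

lemma isUnit_C_mul_T {c : L} (hc : c ≠ 0) (n : ℤ) : IsUnit (C c * T n : L[T;T⁻¹]) :=
  (hc.isUnit.map C).mul (isUnit_T n)

/-- Units of `L[T;T⁻¹]` are the monomials. -/
lemma exists_eq_C_mul_T_of_isUnit {u : L[T;T⁻¹]} (hu : IsUnit u) :
    ∃ (c : L) (n : ℤ), c ≠ 0 ∧ u = C c * T n := by
  obtain ⟨v, huv⟩ := hu.exists_right_inv
  obtain ⟨m, P, hP⟩ := exists_T_pow u
  obtain ⟨m', Q, hQ⟩ := exists_T_pow v
  have h1 : Polynomial.toLaurent (P * Q) = Polynomial.toLaurent (Polynomial.X ^ (m + m') : Polynomial L) := by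
    rw [map_mul, hP, hQ, Polynomial.toLaurent_X_pow]
    calc u * T (m : ℤ) * (v * T (m' : ℤ)) = (u * v) * (T (m : ℤ) * T (m' : ℤ)) := by ring
      _ = T ((m + m' : ℕ) : ℤ) := by rw [huv, one_mul, ← T_add]; push_cast; rfl
  have h2 : P * Q = Polynomial.X ^ (m + m') := Polynomial.toLaurent_injective h1
  have h3 : P ∣ Polynomial.X ^ (m + m') := ⟨Q, h2.symm⟩
  obtain ⟨i, _, hi⟩ := (dvd_prime_pow Polynomial.prime_X _).1 h3
  obtain ⟨w, hw⟩ := hi.symm
  obtain ⟨c, hc, hcw⟩ := Polynomial.isUnit_iff.1 w.isUnit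
  refine ⟨c, (i : ℤ) - m, hc.ne_zero, ?_⟩
  have h4 : u * T (m : ℤ) = C c * T (i : ℤ) := by
    rw [← hP, ← hw, ← hcw, map_mul, Polynomial.toLaurent_X_pow, Polynomial.toLaurent_C, mul_comm]
  calc u = u * T (m : ℤ) * T (-(m : ℤ)) := by
        rw [mul_T_assoc, add_neg_cancel, T_zero, mul_one]
    _ = C c * T ((i : ℤ) - m) := by rw [h4, mul_T_assoc, sub_eq_add_neg]

/-- The `σ`-semilinear ring endomorphism `Σ c_n T^n ↦ Σ σ(c_n) T^{-n}`. -/
noncomputable def sigT (σ : L →+* L) : L[T;T⁻¹] →+* L[T;T⁻¹] :=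
  ((invert (R := L) : L[T;T⁻¹] ≃ₐ[L] L[T;T⁻¹]) : L[T;T⁻¹] →+* L[T;T⁻¹]).comp
    (AddMonoidAlgebra.mapRingHom ℤ σ)

lemma sigT_C (σ : L →+* L) (x : L) : sigT σ (C x) = C (σ x) := by
  unfold sigT
  rw [RingHom.comp_apply, ← single_eq_C, AddMonoidAlgebra.mapRingHom_single, single_eq_C]
  simp

lemma sigT_T (σ : L →+* L) (n : ℤ) : sigT σ (T n) = T (-n) := by
  unfold sigT
  rw [RingHom.comp_apply]
  have : (T n : L[T;T⁻¹]) = AddMonoidAlgebra.single n 1 := rfl
  rw [this, AddMonoidAlgebra.mapRingHom_single, map_one]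
  change invert (T n) = T (-n)
  simp

lemma sigT_sigT (σ : L →+* L) (hσ : ∀ x, σ (σ x) = x) (p : L[T;T⁻¹]) :
    sigT σ (sigT σ p) = p := by
  have : (sigT σ).comp (sigT σ) = RingHom.id _ := by
    apply laurent_ringHom_ext'
    · intro a
      rw [RingHom.comp_apply, sigT_C, sigT_C, hσ, RingHom.id_apply]
    · rw [RingHom.comp_apply, sigT_T, sigT_T, neg_neg, RingHom.id_apply]
  exact DFunLike.congr_fun this p

end Groth.Agent.H75.Conic
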