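import Groth.Agent.H75.ConicForm
import Groth.Agent.H75.ConicLaurent

/-!
# The embedding of the coordinate ring of `P^1 - {q = 0}` into Laurent polynomials (helper75)
-/

set_option autoImplicit false
universe u

attribute [local instance] MvPolynomial.gradedAlgebra

namespace Groth.Agent.H75.Conic

open MvPolynomial
open scoped LaurentPolynomial

local notation "LC" => LaurentPolynomial.C
local notation "LT" => LaurentPolynomial.T

variable {K : Type u} [Field K]

/-- The grading. -/
abbrev gr (K : Type u) [Field K] : ℕ → Submodule K (MvPolynomial (Fin 2) K) :=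
  MvPolynomial.homogeneousSubmodule (Fin 2) K

/-- The coordinate ring of the complement of `q = 0`. -/
abbrev Aw (q : MvPolynomial (Fin 2) K) : Type u := HomogeneousLocalization.Away (gr K) q

/-- `K`-module structure on the homogeneous localization (same scalar action as Mathlib's). -/
@[reducible] noncomputable def modAway (q : MvPolynomial (Fin 2) K) : Module K (Aw q) :=
  Function.Injective.module K
    (⟨⟨HomogeneousLocalization.val, HomogeneousLocalization.val_zero⟩,
      HomogeneousLocalization.val_add⟩ : Aw q →+ Localization (Submonoid.powers q))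
    (HomogeneousLocalization.val_injective _)
    (fun c x => HomogeneousLocalization.val_smul _ c x)

/-- `K`-algebra structure on the homogeneous localization. -/
@[reducible] noncomputable def algAway (q : MvPolynomial (Fin 2) K) : Algebra K (Aw q) :=
  @Algebra.ofModule K (Aw q) _ _ (modAway q)
    (fun r x y => by
      apply HomogeneousLocalization.val_injective
      rw [HomogeneousLocalization.val_mul, HomogeneousLocalization.val_smul,
        HomogeneousLocalization.val_smul, HomogeneousLocalization.val_mul, smul_mul_assoc])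
    (fun r x y => by
      apply HomogeneousLocalization.val_injective
      rw [HomogeneousLocalization.val_mul, HomogeneousLocalization.val_smul,
        HomogeneousLocalization.val_smul, HomogeneousLocalization.val_mul, mul_smul_comm])

attribute [local instance] algAway

lemma val_algebraMap (q : MvPolynomial (Fin 2) K) (k : K) :
    (algebraMap K (Aw q) k).val = algebraMap K (Localization (Submonoid.powers q)) k := by
  change (k • (1 : Aw q)).val = _
  rw [HomogeneousLocalization.val_smul, HomogeneousLocalization.val_one,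
    Algebra.algebraMap_eq_smul_one]

variable (D : QData K)

/-- The quadratic form. -/
noncomputable def QData.qform : MvPolynomial (Fin 2) K :=
  C D.a * X 0 ^ 2 + C D.b * (X 0 * X 1) + C D.c * X 1 ^ 2

lemma QData.qform_hom : D.qform.IsHomogeneous 2 := by
  unfold QData.qform
  refine ((?_ : IsHomogeneous _ 2).add ?_).add ?_
  · have := (isHomogeneous_C (Fin 2) D.a).mul ((isHomogeneous_X K (0 : Fin 2)).pow 2)
    simpa using this
  · have := (isHomogeneous_C (Fin 2) D.b).mul
      ((isHomogeneous_X K (0 : Fin 2)).mul (isHomogeneous_X K (1 : Fin 2)))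
    simpa using this
  · have := (isHomogeneous_C (Fin 2) D.c).mul ((isHomogeneous_X K (1 : Fin 2)).pow 2)
    simpa using this

lemma QData.qform_mem : D.qform ∈ gr K 2 := D.qform_hom

/-- Image of `x`. -/
noncomputable def QData.φx : D.L[T;T⁻¹] := LC D.β * LT 1 - LC D.α

/-- Image of `y`. -/
noncomputable def QData.φy : D.L[T;T⁻¹] := LT 1 - 1

/-- The substitution `x ↦ β T - α`, `y ↦ T - 1`. -/
noncomputable def QData.φ : MvPolynomial (Fin 2) K →ₐ[K] D.L[T;T⁻¹] :=
  aeval ![D.φx, D.φy]

lemma QData.φ_X0 : D.φ (X 0) = D.φx := by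
  unfold QData.φ; rw [aeval_X]; rfl

lemma QData.φ_X1 : D.φ (X 1) = D.φy := by
  unfold QData.φ; rw [aeval_X]; rfl

lemma QData.φ_C (k : K) : D.φ (C k) = LC (algebraMap K D.L k) := by
  unfold QData.φ; rw [aeval_C, LaurentPolynomial.algebraMap_apply]

/-- The constant `a (β - α)²`. -/
noncomputable def QData.c₀ : D.L := D.aL * (D.β - D.α) ^ 2

lemma QData.c₀_ne_zero : D.c₀ ≠ 0 :=
  mul_ne_zero D.aL_ne_zero (pow_ne_zero 2 (sub_ne_zero.2 (Ne.symm D.α_ne_β)))

lemma QData.σ_c₀ : D.σ D.c₀ = D.c₀ := by
  unfold QData.c₀
  rw [map_mul, map_pow, map_sub, D.σ_aL, D.σ_α, D.σ_β]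
  ring

lemma QData.φ_qform : D.φ D.qform = LC D.c₀ * LT 1 := by
  unfold QData.qform
  rw [map_add, map_add, map_mul, map_mul, map_mul, map_mul, map_pow, map_pow, D.φ_X0, D.φ_X1,
    D.φ_C, D.φ_C, D.φ_C, D.b_eq, D.c_eq]
  unfold QData.φx QData.φy QData.c₀ QData.aL
  simp only [map_neg, map_mul, map_add, map_pow, map_sub]
  ring

lemma QData.isUnit_φ_qform : IsUnit (D.φ D.qform) := by
  rw [D.φ_qform]
  exact isUnit_C_mul_T D.c₀_ne_zero 1

/-- The map from the full localization. -/
noncomputable def QData.ιLoc : Localization.Away D.qform →+* D.L[T;T⁻¹] :=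
  IsLocalization.Away.lift (S := Localization.Away D.qform) D.qform
    (g := (D.φ : MvPolynomial (Fin 2) K →+* D.L[T;T⁻¹])) D.isUnit_φ_qform

/-- The embedding of the coordinate ring into Laurent polynomials. -/
noncomputable def QData.ι : Aw D.qform →+* D.L[T;T⁻¹] :=
  D.ιLoc.comp (algebraMap (Aw D.qform) (Localization.Away D.qform))

lemma QData.ιLoc_algebraMap (f : MvPolynomial (Fin 2) K) :
    D.ιLoc (algebraMap _ (Localization.Away D.qform) f) = D.φ f := by
  unfold QData.ιLoc
  exact IsLocalization.Away.lift_eq _ _ _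

/-- The formula `ι (f / q^n) * (c₀ T)^n = φ f`. -/
lemma QData.ι_mk (n : ℕ) (f : MvPolynomial (Fin 2) K) (hf : f ∈ gr K (n • 2)) :
    D.ι (HomogeneousLocalization.Away.mk (gr K) D.qform_mem n f hf) * (LC D.c₀ * LT 1) ^ n =
      D.φ f := by
  unfold QData.ι
  rw [RingHom.comp_apply, HomogeneousLocalization.algebraMap_apply,
    HomogeneousLocalization.Away.val_mk, ← D.φ_qform, ← map_pow, ← D.ιLoc_algebraMap,
    ← D.ιLoc_algebraMap, ← map_mul]
  congr 1
  rw [Localization.mk_eq_mk']
  exact IsLocalization.mk'_spec _ _ _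

lemma QData.ι_algebraMap (k : K) : D.ι (algebraMap K (Aw D.qform) k) = LC (algebraMap K D.L k) := by
  unfold QData.ι
  rw [RingHom.comp_apply, HomogeneousLocalization.algebraMap_apply, val_algebraMap,
    IsScalarTower.algebraMap_apply K (MvPolynomial (Fin 2) K), D.ιLoc_algebraMap,
    MvPolynomial.algebraMap_eq, D.φ_C]

end Groth.Agent.H75.Conic
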