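import Groth.Agent.H75.ConicAut

/-!
# Finite groups of automorphisms of `P^1` minus a conjugate pair of points (helper75)
-/

set_option autoImplicit false
universe u

attribute [local instance] MvPolynomial.gradedAlgebra

namespace Groth.Agent.H75.Conic

open MvPolynomial TensorProduct
open scoped LaurentPolynomial

local notation "LC" => LaurentPolynomial.C
local notation "LT" => LaurentPolynomial.T

attribute [local instance] algAway

section Laurent

variable {L : Type u} [Field L]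

lemma T_one_eq : (LT 1 : L[T;T⁻¹]) = LC 1 * LT 1 := by rw [map_one, one_mul]

lemma map_T_int (h : L[T;T⁻¹] →+* L[T;T⁻¹]) (c : L) (n : ℤ) (hc : c ≠ 0)
    (hT : h (LT 1) = LC c * LT n) (m : ℤ) : h (LT m) = LC (c ^ m) * LT (m * n) := by
  have hnat : ∀ k : ℕ, h (LT (k : ℤ)) = LC (c ^ k) * LT ((k : ℤ) * n) := by
    intro k
    have : (LT (k : ℤ) : L[T;T⁻¹]) = LT 1 ^ k := by rw [LaurentPolynomial.T_pow, mul_one]
    rw [this, map_pow, hT, mul_pow, ← map_pow, LaurentPolynomial.T_pow]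
  obtain ⟨k, rfl | rfl⟩ := Int.eq_nat_or_neg m
  · rw [zpow_natCast]; exact hnat k
  · have h1 : h (LT (-(k : ℤ))) * h (LT (k : ℤ)) = 1 := by
      rw [← map_mul, ← LaurentPolynomial.T_add, neg_add_cancel, LaurentPolynomial.T_zero, map_one]
    have h2 : (LC (c ^ (-(k : ℤ))) * LT (-(k : ℤ) * n) : L[T;T⁻¹]) * h (LT (k : ℤ)) = 1 := by
      rw [hnat k]
      calc (LC (c ^ (-(k : ℤ))) * LT (-(k : ℤ) * n) : L[T;T⁻¹]) * (LC (c ^ k) * LT ((k : ℤ) * n))
          = (LC (c ^ (-(k : ℤ))) * LC (c ^ k)) * (LT (-(k : ℤ) * n) * LT ((k : ℤ) * n)) := by ring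
        _ = 1 := by
          rw [← map_mul, ← LaurentPolynomial.T_add, zpow_neg, zpow_natCast,
            inv_mul_cancel₀ (pow_ne_zero k hc), map_one, one_mul]
          have : -(k : ℤ) * n + (k : ℤ) * n = 0 := by ring
          rw [this, LaurentPolynomial.T_zero]
    calc h (LT (-(k : ℤ))) = h (LT (-(k : ℤ))) *
          ((LC (c ^ (-(k : ℤ))) * LT (-(k : ℤ) * n) : L[T;T⁻¹]) * h (LT (k : ℤ))) := by
          rw [h2, mul_one]
      _ = (LC (c ^ (-(k : ℤ))) * LT (-(k : ℤ) * n) : L[T;T⁻¹]) *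
          (h (LT (-(k : ℤ))) * h (LT (k : ℤ))) := by ring
      _ = _ := by rw [h1, mul_one]

lemma map_T_int' (h : L[T;T⁻¹] ≃ₐ[L] L[T;T⁻¹]) (c : L) (n : ℤ) (hc : c ≠ 0)
    (hT : h (LT 1) = LC c * LT n) (m : ℤ) : h (LT m) = LC (c ^ m) * LT (m * n) :=
  map_T_int (h : L[T;T⁻¹] →+* L[T;T⁻¹]) c n hc hT m

lemma exists_T_form (h : L[T;T⁻¹] ≃ₐ[L] L[T;T⁻¹]) :
    ∃ c : L, c ≠ 0 ∧ (h (LT 1) = LC c * LT 1 ∨ h (LT 1) = LC c * LT (-1)) := by
  obtain ⟨c, n, hc, hcn⟩ := exists_eq_C_mul_T_of_isUnit ((LaurentPolynomial.isUnit_T 1).map h)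
  obtain ⟨c', n', hc', hcn'⟩ :=
    exists_eq_C_mul_T_of_isUnit ((LaurentPolynomial.isUnit_T 1).map h.symm)
  have h1 : (LT 1 : L[T;T⁻¹]) = LC (c' * c ^ n') * LT (n' * n) := by
    calc (LT 1 : L[T;T⁻¹]) = h (h.symm (LT 1)) := (h.apply_symm_apply _).symm
      _ = h (LC c' * LT n') := by rw [hcn']
      _ = LC c' * h (LT n') := by
        rw [map_mul, LaurentPolynomial.C_eq_algebraMap, AlgEquiv.commutes]
      _ = LC c' * (LC (c ^ n') * LT (n' * n)) := by
        rw [map_T_int' h c n hc hcn n']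
      _ = _ := by rw [map_mul, mul_assoc]
  rw [T_one_eq] at h1
  obtain ⟨-, h2⟩ := C_mul_T_inj one_ne_zero h1
  have h3 : n * n' = 1 := by rw [mul_comm]; exact h2.symm
  refine ⟨c, hc, ?_⟩
  rcases Int.eq_one_or_neg_one_of_mul_eq_one h3 with rfl | rfl
  · left; exact hcn
  · right; exact hcn

end Laurent

variable {K : Type u} [Field K] (D : QData K)

lemma QData.ext_eq_one_of_eq_one (g : Aw D.qform ≃+* Aw D.qform) (hg : D.IsLin g) (h : g = 1) :
    D.ext g hg = 1 := by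
  subst h
  exact D.ext_one _

lemma QData.ext_C (g : Aw D.qform ≃+* Aw D.qform) (hg : D.IsLin g) (l : D.L) :
    D.ext g hg (LC l) = LC l := by
  rw [LaurentPolynomial.C_eq_algebraMap, AlgEquiv.commutes]

/-- If `ext g T = c T` then `σ c = c⁻¹`. -/
lemma QData.σ_of_ext_T (g : Aw D.qform ≃+* Aw D.qform) (hg : D.IsLin g) (c : D.L) (hc : c ≠ 0)
    (hT : D.ext g hg (LT 1) = LC c * LT 1) : D.σ c = c⁻¹ := by
  have h1 := D.sT_ext g hg (LT 1)
  rw [hT, map_mul, D.sT_C, D.sT_T,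
    map_T_int' (D.ext g hg) c 1 hc hT (-1)] at h1
  have h2 : (-1 : ℤ) * 1 = -1 := by norm_num
  rw [h2] at h1
  have hσc : D.σ c ≠ 0 := (map_ne_zero D.σ).2 hc
  obtain ⟨h3, -⟩ := C_mul_T_inj hσc h1
  rw [h3, zpow_neg, zpow_one]

lemma QData.ext_pow_T (g : Aw D.qform ≃+* Aw D.qform) (hg : D.IsLin g) (c : D.L)
    (hT : D.ext g hg (LT 1) = LC c * LT 1) (m : ℕ) :
    (D.ext g hg ^ m) (LT 1) = LC (c ^ m) * LT 1 := by
  induction m with
  | zero => rw [pow_zero, pow_zero, map_one, one_mul]; rfl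
  | succ m ih =>
    rw [pow_succ, AlgEquiv.mul_apply, hT, map_mul, ih, pow_succ, map_mul]
    have : (D.ext g hg ^ m) (LC c) = LC c := by
      rw [LaurentPolynomial.C_eq_algebraMap, AlgEquiv.commutes]
    rw [this]
    ring

/-- A finite-order automorphism of type `T ↦ c T` has `c = ± 1`. -/
lemma QData.c_eq_of_pow (hK : ∀ n : ℕ, 0 < n → (Polynomial.X ^ n - 1 : Polynomial K).Splits)
    (g : Aw D.qform ≃+* Aw D.qform) (hg : D.IsLin g) (c : D.L) (hc : c ≠ 0)
    (hT : D.ext g hg (LT 1) = LC c * LT 1) (m : ℕ) (hm : 0 < m) (hgm : g ^ m = 1) :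
    c = 1 ∨ c = -1 := by
  have h1 : D.ext g hg ^ m = 1 := by
    rw [← D.ext_pow g hg m]
    exact D.ext_eq_one_of_eq_one _ _ hgm
  have h2 := D.ext_pow_T g hg c hT m
  rw [h1, AlgEquiv.one_apply] at h2
  have h2' : (LC (1 : D.L) * LT 1 : D.L[T;T⁻¹]) = LC (c ^ m) * LT 1 := by
    rw [← T_one_eq]; exact h2
  have h10 : (1 : D.L) ≠ 0 := one_ne_zero
  obtain ⟨h3, -⟩ := C_mul_T_inj h10 h2'
  obtain ⟨r, hr⟩ := D.mem_range_of_pow_eq_one hK c m hm h3.symm
  have h4 : D.σ c = c := by rw [← hr, AlgHom.commutes]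
  have h5 := D.σ_of_ext_T g hg c hc hT
  rw [h4] at h5
  have h6 : c * c = 1 := by
    nth_rewrite 2 [h5]
    exact mul_inv_cancel₀ hc
  have h7 : (c - 1) * (c + 1) = 0 := by linear_combination h6
  rcases mul_eq_zero.1 h7 with h | h
  · left; exact sub_eq_zero.1 h
  · right; exact eq_neg_of_add_eq_zero_left h

lemma QData.sq_eq_one_of_ext_sq (g : Aw D.qform ≃+* Aw D.qform) (hg : D.IsLin g)
    (h : (D.ext g hg ^ 2) (LT 1) = LT 1) : g ^ 2 = 1 := by
  have h1 : D.ext g hg ^ 2 = 1 := algEquiv_ext_T _ _ h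
  rw [← D.ext_pow g hg 2, ← D.ext_one D.isLin_one] at h1
  exact D.eq_of_ext_eq _ _ _ _ h1

lemma QData.sq_eq_one_A (g : Aw D.qform ≃+* Aw D.qform) (hg : D.IsLin g) (c : D.L)
    (hT : D.ext g hg (LT 1) = LC c * LT 1) (hc : c = 1 ∨ c = -1) : g ^ 2 = 1 := by
  apply D.sq_eq_one_of_ext_sq g hg
  rw [D.ext_pow_T g hg c hT 2]
  have : c ^ 2 = 1 := by rcases hc with rfl | rfl <;> ring
  rw [this, map_one, one_mul]

lemma QData.ext_ext_B (g g' : Aw D.qform ≃+* Aw D.qform) (hg : D.IsLin g) (hg' : D.IsLin g')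
    (c c' : D.L) (hc : c ≠ 0) (hT : D.ext g hg (LT 1) = LC c * LT (-1))
    (hT' : D.ext g' hg' (LT 1) = LC c' * LT (-1)) :
    D.ext g hg (D.ext g' hg' (LT 1)) = LC (c' * c⁻¹) * LT 1 := by
  rw [hT', map_mul, D.ext_C,
    map_T_int' (D.ext g hg) c (-1) hc hT (-1)]
  have h2 : (-1 : ℤ) * (-1) = 1 := by norm_num
  rw [h2, zpow_neg, zpow_one, map_mul, mul_assoc]

lemma QData.sq_eq_one_B (g : Aw D.qform ≃+* Aw D.qform) (hg : D.IsLin g) (c : D.L) (hc : c ≠ 0)
    (hT : D.ext g hg (LT 1) = LC c * LT (-1)) : g ^ 2 = 1 := by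
  apply D.sq_eq_one_of_ext_sq g hg
  rw [pow_two, AlgEquiv.mul_apply, D.ext_ext_B g g hg hg c c hc hT hT, mul_inv_cancel₀ hc,
    map_one, one_mul]

lemma card_le_of_injective_finset {α β : Type*} [DecidableEq β] (θ : α → β)
    (hθ : Function.Injective θ) (S : Finset β) (hS : ∀ a, θ a ∈ S) : Nat.card α ≤ S.card := by
  have h1 : Nat.card α ≤ Nat.card S :=
    Nat.card_le_card_of_injective (fun a => (⟨θ a, hS a⟩ : S))
      (fun a b hab => hθ (congrArg Subtype.val hab))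
  have h2 : Nat.card S = S.card := by
    rw [Nat.card_eq_fintype_card, Fintype.card_coe]
  rwa [h2] at h1

/-- Main theorem: a finite group of `K`-automorphisms of the coordinate ring of
`P^1 - {q = 0}` has exponent dividing 2 and at most 4 elements. -/
theorem QData.main (hK : ∀ n : ℕ, 0 < n → (Polynomial.X ^ n - 1 : Polynomial K).Splits)
    (q : MvPolynomial (Fin 2) K) (hqD : q = D.qform)
    (G : Subgroup (Aw q ≃+* Aw q)) [Finite G]
    (hG : ∀ g ∈ G, ∀ k : K, g (algebraMap K (Aw q) k) = algebraMap K (Aw q) k) :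
    (∀ g ∈ G, g ^ 2 = 1) ∧ Nat.card G ≤ 4 := by
  subst hqD
  have hfin : ∀ g ∈ G, ∃ m : ℕ, 0 < m ∧ g ^ m = 1 := by
    intro g hg
    obtain ⟨m, hm, hgm⟩ := isOfFinOrder_iff_pow_eq_one.1 (isOfFinOrder_of_finite (⟨g, hg⟩ : G))
    refine ⟨m, hm, ?_⟩
    have := congrArg Subtype.val hgm
    rwa [Subgroup.coe_pow] at this
  have typeA : ∀ (g : Aw D.qform ≃+* Aw D.qform) (hg : g ∈ G) (c : D.L), c ≠ 0 →
      D.ext g (hG g hg) (LT 1) = LC c * LT 1 → c = 1 ∨ c = -1 := by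
    intro g hg c hc hT
    obtain ⟨m, hm, hgm⟩ := hfin g hg
    exact D.c_eq_of_pow hK g (hG g hg) c hc hT m hm hgm
  refine ⟨?_, ?_⟩
  · intro g hg
    obtain ⟨c, hc, hT | hT⟩ := exists_T_form (D.ext g (hG g hg))
    · exact D.sq_eq_one_A g (hG g hg) c hT (typeA g hg c hc hT)
    · exact D.sq_eq_one_B g (hG g hg) c hc hT
  · classical
    let θ : G → D.L[T;T⁻¹] := fun g => D.ext g.1 (hG g.1 g.2) (LT 1)
    have hθ : Function.Injective θ := by
      intro g g' h
      have h1 := algEquiv_ext_T _ _ h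
      exact Subtype.ext (D.eq_of_ext_eq _ _ _ _ h1)
    by_cases hB : ∃ (g₀ : Aw D.qform ≃+* Aw D.qform) (hg₀ : g₀ ∈ G) (c₁ : D.L), c₁ ≠ 0 ∧
        D.ext g₀ (hG g₀ hg₀) (LT 1) = LC c₁ * LT (-1)
    · obtain ⟨g₀, hg₀, c₁, hc₁, hT₀⟩ := hB
      have hS : ∀ g : G, θ g ∈ ({LC 1 * LT 1, LC (-1) * LT 1, LC c₁ * LT (-1),
          LC (-c₁) * LT (-1)} : Finset D.L[T;T⁻¹]) := by
        intro g
        obtain ⟨c, hc, hT | hT⟩ := exists_T_form (D.ext g.1 (hG g.1 g.2))
        · rcases typeA g.1 g.2 c hc hT with rfl | rfl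
          · simp only [Finset.mem_insert]
            left; exact hT
          · simp only [Finset.mem_insert]
            right; left; exact hT
        · have hmem : g₀ * g.1 ∈ G := mul_mem hg₀ g.2
          have h1 := D.ext_mul g₀ g.1 (hG g₀ hg₀) (hG g.1 g.2) (hG _ hmem)
          have h2 : D.ext (g₀ * g.1) (hG _ hmem) (LT 1) = LC (c * c₁⁻¹) * LT 1 := by
            rw [h1, AlgEquiv.mul_apply]
            exact D.ext_ext_B g₀ g.1 _ _ c₁ c hc₁ hT₀ hT
          have h3 : c * c₁⁻¹ ≠ 0 := mul_ne_zero hc (inv_ne_zero hc₁)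
          have hcc : c = 1 * c₁ ∨ c = -1 * c₁ := by
            rcases typeA _ hmem _ h3 h2 with h4 | h4
            · left; rw [← h4, mul_assoc, inv_mul_cancel₀ hc₁, mul_one]
            · right; rw [← h4, mul_assoc, inv_mul_cancel₀ hc₁, mul_one]
          simp only [Finset.mem_insert, Finset.mem_singleton]
          rcases hcc with h5 | h5
          · right; right; left
            change D.ext g.1 (hG g.1 g.2) (LT 1) = _
            rw [hT, h5, one_mul]
          · right; right; right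
            change D.ext g.1 (hG g.1 g.2) (LT 1) = _
            rw [hT, h5, neg_one_mul]
      exact (card_le_of_injective_finset θ hθ _ hS).trans Finset.card_le_four
    · have hS : ∀ g : G, θ g ∈ ({LC 1 * LT 1, LC (-1) * LT 1} : Finset D.L[T;T⁻¹]) := by
        intro g
        obtain ⟨c, hc, hT | hT⟩ := exists_T_form (D.ext g.1 (hG g.1 g.2))
        · rcases typeA g.1 g.2 c hc hT with rfl | rfl
          · simp only [Finset.mem_insert]
            left; exact hT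
          · simp only [Finset.mem_insert, Finset.mem_singleton]
            right; exact hT
        · exact absurd ⟨g.1, g.2, c, hc, hT⟩ hB
      exact (card_le_of_injective_finset θ hθ _ hS).trans
        (Finset.card_le_two.trans (by norm_num))

end Groth.Agent.H75.Conic
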