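import Groth.Agent.H75.ConicInj

/-!
# Base change of the coordinate ring to the quadratic extension is a Laurent polynomial ring
(helper75)
-/

set_option autoImplicit false
universe u

attribute [local instance] MvPolynomial.gradedAlgebra

namespace Groth.Agent.H75.Conic

open MvPolynomial TensorProduct
open scoped LaurentPolynomial

local notation "LC" => LaurentPolynomial.C
local notation "LT" => LaurentPolynomial.T

attribute [local instance] algAway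

variable {K : Type u} [Field K] (D : QData K)

/-- `ι` as a `K`-algebra homomorphism. -/
noncomputable def QData.ιA : Aw D.qform →ₐ[K] D.L[T;T⁻¹] :=
  { D.ι with
    commutes' := fun k => by
      change D.ι (algebraMap K (Aw D.qform) k) = _
      rw [D.ι_algebraMap, LaurentPolynomial.algebraMap_apply] }

lemma QData.ιA_apply (x : Aw D.qform) : D.ιA x = D.ι x := rfl

/-- The comparison map `L ⊗[K] A → L[T;T⁻¹]`. -/
noncomputable def QData.Ψ : D.L ⊗[K] Aw D.qform →ₐ[D.L] D.L[T;T⁻¹] :=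
  Algebra.TensorProduct.lift (Algebra.ofId D.L D.L[T;T⁻¹]) D.ιA (fun _ _ => Commute.all _ _)

lemma QData.Ψ_tmul (l : D.L) (x : Aw D.qform) : D.Ψ (l ⊗ₜ x) = LC l * D.ι x := by
  unfold QData.Ψ
  rw [Algebra.TensorProduct.lift_tmul]
  rfl

lemma QData.unit_mul_inv :
    (LC D.c₀ * LT 1 : D.L[T;T⁻¹]) * (LC D.c₀⁻¹ * LT (-1)) = 1 := by
  have h1 : (LC D.c₀ : D.L[T;T⁻¹]) * LC D.c₀⁻¹ = 1 := by
    rw [← map_mul, mul_inv_cancel₀ D.c₀_ne_zero, map_one]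
  have h2 : (LT 1 : D.L[T;T⁻¹]) * LT (-1) = 1 := by
    rw [← LaurentPolynomial.T_add]; simp
  calc (LC D.c₀ * LT 1 : D.L[T;T⁻¹]) * (LC D.c₀⁻¹ * LT (-1))
      = (LC D.c₀ * LC D.c₀⁻¹) * (LT 1 * LT (-1)) := by ring
    _ = 1 := by rw [h1, h2, mul_one]

lemma QData.ι_mk_one (f : MvPolynomial (Fin 2) K) (hf : f ∈ gr K (1 • 2)) :
    D.ι (HomogeneousLocalization.Away.mk (gr K) D.qform_mem 1 f hf) =
      D.φ f * (LC D.c₀⁻¹ * LT (-1)) := by
  have h := D.ι_mk 1 f hf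
  rw [pow_one] at h
  rw [← h, mul_assoc, D.unit_mul_inv, mul_one]

lemma mem_X00 : (X 0 ^ 2 : MvPolynomial (Fin 2) K) ∈ gr K (1 • 2) :=
  (isHomogeneous_X K (0 : Fin 2)).pow 2

lemma mem_X01 : (X 0 * X 1 : MvPolynomial (Fin 2) K) ∈ gr K (1 • 2) :=
  (isHomogeneous_X K (0 : Fin 2)).mul (isHomogeneous_X K (1 : Fin 2))

lemma mem_X11 : (X 1 ^ 2 : MvPolynomial (Fin 2) K) ∈ gr K (1 • 2) :=
  (isHomogeneous_X K (1 : Fin 2)).pow 2

/-- `x² / q`. -/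
noncomputable def QData.e1 : Aw D.qform :=
  HomogeneousLocalization.Away.mk (gr K) D.qform_mem 1 (X 0 ^ 2) mem_X00

/-- `xy / q`. -/
noncomputable def QData.e2 : Aw D.qform :=
  HomogeneousLocalization.Away.mk (gr K) D.qform_mem 1 (X 0 * X 1) mem_X01

/-- `y² / q`. -/
noncomputable def QData.e3 : Aw D.qform :=
  HomogeneousLocalization.Away.mk (gr K) D.qform_mem 1 (X 1 ^ 2) mem_X11

lemma QData.ι_e1 : D.ι D.e1 = D.φx ^ 2 * (LC D.c₀⁻¹ * LT (-1)) := by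
  unfold QData.e1
  rw [D.ι_mk_one, map_pow, D.φ_X0]

lemma QData.ι_e2 : D.ι D.e2 = D.φx * D.φy * (LC D.c₀⁻¹ * LT (-1)) := by
  unfold QData.e2
  rw [D.ι_mk_one, map_mul, D.φ_X0, D.φ_X1]

lemma QData.ι_e3 : D.ι D.e3 = D.φy ^ 2 * (LC D.c₀⁻¹ * LT (-1)) := by
  unfold QData.e3
  rw [D.ι_mk_one, map_pow, D.φ_X1]

lemma QData.rel_c₀ :
    (LC D.c₀⁻¹ : D.L[T;T⁻¹]) * LC D.aL * (LC D.β - LC D.α) ^ 2 - 1 = 0 := by
  rw [← map_sub, ← map_pow, ← map_mul, ← map_mul, sub_eq_zero]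
  have : D.c₀⁻¹ * D.aL * (D.β - D.α) ^ 2 = 1 := by
    rw [mul_assoc]
    exact inv_mul_cancel₀ D.c₀_ne_zero
  rw [this, map_one]

/-- `T` as a combination of `ι e_i`. -/
lemma QData.T_eq : (LT 1 : D.L[T;T⁻¹]) =
    LC D.aL * D.ι D.e1 - LC (2 * D.aL * D.α) * D.ι D.e2 + LC (D.aL * D.α ^ 2) * D.ι D.e3 := by
  rw [D.ι_e1, D.ι_e2, D.ι_e3]
  unfold QData.φx QData.φy
  have h1 := D.rel_c₀
  have h2 := D.T_neg_mul_T
  simp only [map_mul, map_pow, map_ofNat]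
  generalize (LT (-1) : D.L[T;T⁻¹]) = s at h2 ⊢
  generalize (LT 1 : D.L[T;T⁻¹]) = t at h2 ⊢
  generalize (LC D.c₀⁻¹ : D.L[T;T⁻¹]) = ci at h1 ⊢
  generalize (LC D.aL : D.L[T;T⁻¹]) = A at h1 ⊢
  generalize (LC D.α : D.L[T;T⁻¹]) = Al at h1 ⊢
  generalize (LC D.β : D.L[T;T⁻¹]) = Be at h1 ⊢
  linear_combination (-(s * t ^ 2)) * h1 - t * h2

/-- `T⁻¹` as a combination of `ι e_i`. -/
lemma QData.Tinv_eq : (LT (-1) : D.L[T;T⁻¹]) =
    LC D.aL * D.ι D.e1 - LC (2 * D.aL * D.β) * D.ι D.e2 + LC (D.aL * D.β ^ 2) * D.ι D.e3 := by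
  rw [D.ι_e1, D.ι_e2, D.ι_e3]
  unfold QData.φx QData.φy
  have h1 := D.rel_c₀
  simp only [map_mul, map_pow, map_ofNat]
  generalize (LT (-1) : D.L[T;T⁻¹]) = s
  generalize (LT 1 : D.L[T;T⁻¹]) = t
  generalize (LC D.c₀⁻¹ : D.L[T;T⁻¹]) = ci at h1 ⊢
  generalize (LC D.aL : D.L[T;T⁻¹]) = A at h1 ⊢
  generalize (LC D.α : D.L[T;T⁻¹]) = Al at h1 ⊢
  generalize (LC D.β : D.L[T;T⁻¹]) = Be at h1 ⊢
  linear_combination (-s) * h1

lemma QData.C_mem_range (l : D.L) : LC l ∈ D.Ψ.range :=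
  ⟨l ⊗ₜ 1, by change D.Ψ (l ⊗ₜ 1) = _; rw [D.Ψ_tmul, map_one, mul_one]⟩

lemma QData.ι_mem_range (x : Aw D.qform) : D.ι x ∈ D.Ψ.range :=
  ⟨1 ⊗ₜ x, by change D.Ψ (1 ⊗ₜ x) = _; rw [D.Ψ_tmul, map_one, one_mul]⟩

lemma QData.T_mem_range : (LT 1 : D.L[T;T⁻¹]) ∈ D.Ψ.range := by
  rw [D.T_eq]
  exact add_mem (sub_mem (mul_mem (D.C_mem_range _) (D.ι_mem_range _))
    (mul_mem (D.C_mem_range _) (D.ι_mem_range _))) (mul_mem (D.C_mem_range _) (D.ι_mem_range _))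

lemma QData.Tinv_mem_range : (LT (-1) : D.L[T;T⁻¹]) ∈ D.Ψ.range := by
  rw [D.Tinv_eq]
  exact add_mem (sub_mem (mul_mem (D.C_mem_range _) (D.ι_mem_range _))
    (mul_mem (D.C_mem_range _) (D.ι_mem_range _))) (mul_mem (D.C_mem_range _) (D.ι_mem_range _))

lemma QData.Ψ_surjective : Function.Surjective D.Ψ := by
  intro p
  change p ∈ D.Ψ.range
  induction p using LaurentPolynomial.induction_on' with
  | add p q hp hq => exact add_mem hp hq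
  | C_mul_T n a =>
    refine mul_mem (D.C_mem_range a) ?_
    obtain ⟨k, rfl | rfl⟩ := Int.eq_nat_or_neg n
    · have : (LT (k : ℤ) : D.L[T;T⁻¹]) = LT 1 ^ k := by
        rw [LaurentPolynomial.T_pow, mul_one]
      rw [this]
      exact pow_mem D.T_mem_range k
    · have : (LT (-(k : ℤ)) : D.L[T;T⁻¹]) = LT (-1) ^ k := by
        rw [LaurentPolynomial.T_pow, mul_neg, mul_one]
      rw [this]
      exact pow_mem D.Tinv_mem_range k

/-- Every element of `L ⊗ A` is `1 ⊗ a₁ + α ⊗ a₂`. -/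
lemma QData.exists_tmul_repr (z : D.L ⊗[K] Aw D.qform) :
    ∃ a₁ a₂ : Aw D.qform, z = (1 : D.L) ⊗ₜ[K] a₁ + D.α ⊗ₜ[K] a₂ := by
  induction z using TensorProduct.induction_on with
  | zero => exact ⟨0, 0, by rw [tmul_zero, tmul_zero, add_zero]⟩
  | tmul l x =>
    obtain ⟨u, v, rfl⟩ := D.exists_repr l
    refine ⟨u • x, v • x, ?_⟩
    rw [add_tmul, Algebra.algebraMap_eq_smul_one, Algebra.algebraMap_eq_smul_one, smul_mul_assoc,
      one_mul, smul_tmul, smul_tmul]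
  | add z w hz hw =>
    obtain ⟨a₁, a₂, rfl⟩ := hz
    obtain ⟨b₁, b₂, rfl⟩ := hw
    refine ⟨a₁ + b₁, a₂ + b₂, ?_⟩
    rw [tmul_add, tmul_add]
    abel

lemma QData.Ψ_injective : Function.Injective D.Ψ := by
  rw [injective_iff_map_eq_zero]
  intro z hz
  obtain ⟨a₁, a₂, rfl⟩ := D.exists_tmul_repr z
  rw [map_add, D.Ψ_tmul, D.Ψ_tmul, map_one, one_mul] at hz
  have hz' := congrArg D.sT hz
  rw [map_add, map_mul, D.sT_ι, D.sT_ι, D.sT_C, D.σ_α, map_zero] at hz'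
  have h1 : (LC (D.α - D.β) : D.L[T;T⁻¹]) * D.ι a₂ = 0 := by
    rw [map_sub]
    linear_combination hz - hz'
  have hu : IsUnit (LC (D.α - D.β) : D.L[T;T⁻¹]) :=
    (sub_ne_zero.2 D.α_ne_β).isUnit.map _
  have h2 : D.ι a₂ = 0 := (hu.mul_right_eq_zero).1 h1
  have h3 : a₂ = 0 := D.ι_injective (h2.trans (map_zero _).symm)
  rw [h2, mul_zero, add_zero] at hz
  have h4 : a₁ = 0 := D.ι_injective (hz.trans (map_zero _).symm)
  rw [h3, h4, tmul_zero, tmul_zero, add_zero]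

/-- The comparison isomorphism. -/
noncomputable def QData.ΨE : D.L ⊗[K] Aw D.qform ≃ₐ[D.L] D.L[T;T⁻¹] :=
  AlgEquiv.ofBijective D.Ψ ⟨D.Ψ_injective, D.Ψ_surjective⟩

lemma QData.ΨE_apply (z : D.L ⊗[K] Aw D.qform) : D.ΨE z = D.Ψ z := rfl

/-- Induction principle for `L[T;T⁻¹]`: additive predicates holding on `λ · ι a` hold
everywhere. -/
lemma QData.B_induction {P : D.L[T;T⁻¹] → Prop} (hadd : ∀ p q, P p → P q → P (p + q))
    (hmul : ∀ (l : D.L) (x : Aw D.qform), P (LC l * D.ι x)) (p : D.L[T;T⁻¹]) : P p := by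
  obtain ⟨z, rfl⟩ := D.Ψ_surjective p
  induction z using TensorProduct.induction_on with
  | zero =>
    have := hmul 0 0
    rwa [map_zero, zero_mul] at this
  | tmul l x => rw [D.Ψ_tmul]; exact hmul l x
  | add z w hz hw => rw [map_add]; exact hadd _ _ hz hw

end Groth.Agent.H75.Conic
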