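import Mathlib

/-! Length over a local `k`-algebra with residue field `k` equals length over `k`. -/

set_option autoImplicit false
universe u v w

namespace Groth.Agent.H75.LenFin

section ThirdIso

variable {R : Type u} [Ring R] {B : Type v} [AddCommGroup B] [Module R B]

/-- the subquotient `C/(D ∩ C)` -/
abbrev SubQ (C D : Submodule R B) : Type v := ↥C ⧸ Submodule.comap C.subtype D

/-- `length(B/D) = length(C/D) + length(B/C)` for `D ≤ C`. -/
theorem length_quot_add (C D : Submodule R B) (h : D ≤ C) :
    Module.length R (B ⧸ D) =
      Module.length R (SubQ C D) + Module.length R (B ⧸ C) := by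
  let f : (↥C ⧸ Submodule.comap C.subtype D) →ₗ[R] (B ⧸ D) :=
    Submodule.mapQ _ _ C.subtype (le_refl _)
  let g : (B ⧸ D) →ₗ[R] (B ⧸ C) := Submodule.mapQ D C LinearMap.id (by simpa using h)
  have hf : Function.Injective f := by
    rw [← LinearMap.ker_eq_bot, LinearMap.ker_eq_bot']
    intro x hx
    obtain ⟨c, rfl⟩ := Submodule.Quotient.mk_surjective _ x
    have h1 : Submodule.Quotient.mk (p := D) (c : B) = 0 := hx
    rw [Submodule.Quotient.mk_eq_zero] at h1 ⊢
    exact h1
  have hg : Function.Surjective g := by
    intro y
    obtain ⟨b, rfl⟩ := Submodule.Quotient.mk_surjective _ y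
    exact ⟨Submodule.Quotient.mk b, rfl⟩
  have hex : Function.Exact f g := by
    intro x
    obtain ⟨b, rfl⟩ := Submodule.Quotient.mk_surjective _ x
    constructor
    · intro hx
      have h1 : Submodule.Quotient.mk (p := C) b = 0 := hx
      rw [Submodule.Quotient.mk_eq_zero] at h1
      exact ⟨Submodule.Quotient.mk ⟨b, h1⟩, rfl⟩
    · rintro ⟨y, hy⟩
      obtain ⟨c, rfl⟩ := Submodule.Quotient.mk_surjective _ y
      have h1 : Submodule.Quotient.mk (p := D) (c : B) = Submodule.Quotient.mk b := hy
      change Submodule.Quotient.mk (p := C) b = 0
      rw [Submodule.Quotient.mk_eq_zero]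
      have h2 := (Submodule.Quotient.eq D).mp h1
      have : b = (c : B) - ((c : B) - b) := by abel
      rw [this]
      exact C.sub_mem c.2 (h h2)
  exact Module.length_eq_add_of_exact f g hf hg hex

end ThirdIso

section Main

variable (k : Type u) (A : Type v) [Field k] [CommRing A] [Algebra k A] [IsLocalRing A]

theorem length_eq_length_aux
    (hres : Function.Surjective (algebraMap k (A ⧸ IsLocalRing.maximalIdeal A))) :
    ∀ (d : ℕ) (W : Type w) [AddCommGroup W] [Module A W] [Module k W] [IsScalarTower k A W],
      Module.length k W = (d : ℕ∞) → Module.length A W = (d : ℕ∞) := by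
  intro d
  induction d using Nat.strong_induction_on with
  | _ d ih =>
    intro W _ _ _ _ hd
    by_cases hW : Subsingleton W
    · rw [Module.length_eq_zero] at hd ⊢
      exact hd
    · rw [not_subsingleton_iff_nontrivial] at hW
      have hfl : IsFiniteLength k W := by
        rw [← Module.length_ne_top_iff, hd]
        exact ENat.coe_ne_top d
      haveI : IsNoetherian k W := (isFiniteLength_iff_isNoetherian_isArtinian.mp hfl).1
      haveI : IsNoetherian A W := isNoetherian_of_tower k inferInstance
      haveI : IsCoatomic (Submodule A W) := isCoatomic_of_orderTop_gt_wellFounded wellFounded_gt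
      obtain ⟨W', hW', -⟩ :=
        (eq_top_or_exists_le_coatom (⊥ : Submodule A W)).resolve_left bot_ne_top
      have hsimple : IsSimpleModule A (W ⧸ W') := isSimpleModule_iff_isCoatom.mpr hW'
      obtain ⟨I, hI, ⟨e⟩⟩ := isSimpleModule_iff_quot_maximal.mp hsimple
      have hIm : I = IsLocalRing.maximalIdeal A := IsLocalRing.eq_maximalIdeal hI
      subst hIm
      -- k-length of the simple quotient
      have h1 : Module.length k (W ⧸ W') = 1 := by
        have hbij : Function.Bijective (Algebra.linearMap k (A ⧸ IsLocalRing.maximalIdeal A)) :=
          ⟨(algebraMap k (A ⧸ IsLocalRing.maximalIdeal A)).injective, hres⟩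
        let e1 : k ≃ₗ[k] (A ⧸ IsLocalRing.maximalIdeal A) := LinearEquiv.ofBijective _ hbij
        rw [(e.restrictScalars k).length_eq, ← e1.length_eq]
        exact Module.length_eq_one k k
      have h2 : Module.length A (W ⧸ W') = 1 := Module.length_eq_one A _
      have hk : Module.length k W = Module.length k ↥W' + Module.length k (W ⧸ W') :=
        Module.length_eq_add_of_exact (W'.subtype.restrictScalars k) (W'.mkQ.restrictScalars k)
          (Submodule.subtype_injective W') (Submodule.mkQ_surjective W')
          (by
            intro x
            constructor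
            · intro hx
              have : x ∈ W' := (Submodule.Quotient.mk_eq_zero W').mp hx
              exact ⟨⟨x, this⟩, rfl⟩
            · rintro ⟨y, rfl⟩
              exact (Submodule.Quotient.mk_eq_zero W').mpr y.2)
      have hA : Module.length A W = Module.length A ↥W' + Module.length A (W ⧸ W') :=
        Module.length_eq_add_of_exact W'.subtype W'.mkQ
          (Submodule.subtype_injective W') (Submodule.mkQ_surjective W')
          (LinearMap.exact_subtype_mkQ W')
      rw [h1, hd] at hk
      rw [hA, h2]
      have hne : Module.length k ↥W' ≠ ⊤ := by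
        intro htop
        rw [htop, top_add] at hk
        exact ENat.coe_ne_top d hk
      obtain ⟨x, hx⟩ := ENat.ne_top_iff_exists.mp hne
      rw [← hx] at hk
      have hxd : d = x + 1 := by exact_mod_cast hk
      have := ih x (by omega) ↥W' hx.symm
      rw [this, hxd]
      rfl

theorem length_eq_length
    (hres : Function.Surjective (algebraMap k (A ⧸ IsLocalRing.maximalIdeal A)))
    (W : Type w) [AddCommGroup W] [Module A W] [Module k W] [IsScalarTower k A W]
    (hfin : Module.length k W ≠ ⊤) : Module.length A W = Module.length k W := by
  obtain ⟨d, hd⟩ := ENat.ne_top_iff_exists.mp hfin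
  rw [← hd]
  exact length_eq_length_aux k A hres d W hd.symm

end Main

end Groth.Agent.H75.LenFin
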