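import Mathlib
import Groth.Agent.H75.PSSubalg
import Groth.Agent.H75.PSGaps
import Groth.Agent.H75.LenFinrank

/-! Monomial submodules of `k⟦X⟧` over the cubical monomial ring `k + X^n k⟦X⟧`:
lengths of quotients are counted by gaps. -/

set_option autoImplicit false
universe u

namespace Groth.Agent.H75.CubMono

open PowerSeries

variable {k : Type u} [Field k]

/-- support condition -/
def SuppIn (S : Set ℕ) (f : PowerSeries k) : Prop := ∀ e, coeff e f ≠ 0 → e ∈ S

theorem suppIn_mul {S T U : Set ℕ} (hSTU : ∀ p ∈ S, ∀ q ∈ T, p + q ∈ U) {f g : PowerSeries k}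
    (hf : SuppIn S f) (hg : SuppIn T g) : SuppIn U (f * g) := by
  intro e he
  rw [coeff_mul] at he
  obtain ⟨⟨p, q⟩, hpq, hne⟩ := Finset.exists_ne_zero_of_sum_ne_zero he
  have hp : coeff p f ≠ 0 := left_ne_zero_of_mul hne
  have hq : coeff q g ≠ 0 := right_ne_zero_of_mul hne
  have hpq' : p + q = e := Finset.HasAntidiagonal.mem_antidiagonal.mp hpq
  rw [← hpq']
  exact hSTU p (hf p hp) q (hg q hq)

theorem suppIn_X_pow {S : Set ℕ} {e : ℕ} (he : e ∈ S) : SuppIn S ((X : PowerSeries k) ^ e) := by
  intro d hd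
  rw [coeff_X_pow] at hd
  split_ifs at hd with h
  · exact h ▸ he
  · exact absurd rfl hd

theorem suppIn_add {S : Set ℕ} {f g : PowerSeries k} (hf : SuppIn S f) (hg : SuppIn S g) :
    SuppIn S (f + g) := by
  intro e he
  by_contra hne
  apply he
  have h1 : coeff e f = 0 := by
    by_contra h
    exact hne (hf e h)
  have h2 : coeff e g = 0 := by
    by_contra h
    exact hne (hg e h)
  rw [map_add, h1, h2, add_zero]

theorem suppIn_zero {S : Set ℕ} : SuppIn S (0 : PowerSeries k) := by
  intro e he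
  exact absurd (map_zero _) he

theorem suppIn_mono {S T : Set ℕ} (h : S ⊆ T) {f : PowerSeries k} (hf : SuppIn S f) : SuppIn T f :=
  fun e he => h (hf e he)

/-- the value set of the cubical monomial ring -/
def Gam (n : ℕ) : Set ℕ := {m | m = 0 ∨ n ≤ m}

section Cub

variable (n : ℕ) (A : Subalgebra k (PowerSeries k))
  (hmono : ∀ f : PowerSeries k, f ∈ A ↔ ∀ m : ℕ, coeff m f ≠ 0 → (m = 0 ∨ n ≤ m))

include hmono

theorem mem_A_iff (f : PowerSeries k) : f ∈ A ↔ SuppIn (Gam n) f := hmono f

theorem suppIn_of_dvd {c : ℕ} {f : PowerSeries k} (h : (X : PowerSeries k) ^ c ∣ f) :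
    SuppIn (Set.Ici c) f := by
  intro e he
  by_contra hlt
  rw [Set.mem_Ici, not_le] at hlt
  exact he ((X_pow_dvd_iff.mp h) e hlt)

theorem dvd_of_suppIn {c : ℕ} {f : PowerSeries k} (h : SuppIn (Set.Ici c) f) :
    (X : PowerSeries k) ^ c ∣ f := by
  rw [X_pow_dvd_iff]
  intro m hm
  by_contra hne
  have := h m hne
  rw [Set.mem_Ici] at this
  omega

theorem mem_of_dvd {f : PowerSeries k} (h : (X : PowerSeries k) ^ n ∣ f) : f ∈ A := by
  rw [mem_A_iff n A hmono]
  exact suppIn_mono (fun e he => Or.inr he) (suppIn_of_dvd n A hmono h)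

theorem hcl (f : PowerSeries k)
    (hf : ∀ N : ℕ, ∃ g ∈ A, (N : ℕ∞) ≤ PowerSeries.order (f - g)) : f ∈ A := by
  rw [hmono]
  intro e he
  obtain ⟨g, hg, hord⟩ := hf (e + 1)
  have h1 : coeff e (f - g) = 0 := by
    apply PowerSeries.coeff_of_lt_order
    refine lt_of_lt_of_le ?_ hord
    exact_mod_cast Nat.lt_succ_self e
  have h2 : coeff e g = coeff e f := by
    rw [map_sub, sub_eq_zero] at h1
    exact h1.symm
  exact (hmono g).mp hg e (h2 ▸ he)

theorem isLocalRing : IsLocalRing ↥A := PSSub.isLocalRing A (hcl n A hmono)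

theorem mem_max_iff [IsLocalRing ↥A] (hn : 1 ≤ n) (a : ↥A) :
    a ∈ IsLocalRing.maximalIdeal ↥A ↔ (X : PowerSeries k) ^ n ∣ (a : PowerSeries k) := by
  rw [PSSub.mem_maximalIdeal_iff A (hcl n A hmono)]
  constructor
  · intro h0
    rw [X_pow_dvd_iff]
    intro m hm
    by_contra hne
    rcases (hmono a).mp a.2 m hne with h | h
    · subst h
      apply hne
      rw [coeff_zero_eq_constantCoeff_apply]
      exact h0
    · omega
  · intro h
    have := (X_pow_dvd_iff.mp h) 0 (by omega)
    rw [coeff_zero_eq_constantCoeff_apply] at this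
    exact this

theorem hres [IsLocalRing ↥A] :
    Function.Surjective (algebraMap k (↥A ⧸ IsLocalRing.maximalIdeal ↥A)) := by
  intro y
  obtain ⟨a, rfl⟩ := Ideal.Quotient.mk_surjective y
  refine ⟨constantCoeff (a : PowerSeries k), ?_⟩
  rw [IsScalarTower.algebraMap_apply k ↥A (↥A ⧸ IsLocalRing.maximalIdeal ↥A)]
  rw [Ideal.Quotient.algebraMap_eq, Ideal.Quotient.eq]
  rw [PSSub.mem_maximalIdeal_iff A (hcl n A hmono)]
  have : ((algebraMap k ↥A (constantCoeff (a : PowerSeries k)) - a : ↥A) : PowerSeries k) =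
      C (constantCoeff (a : PowerSeries k)) - (a : PowerSeries k) := rfl
  rw [this, map_sub, constantCoeff_C, sub_self]

/-- monomial submodule with support in `S` -/
def monoSub (S : Set ℕ) (hS : ∀ s ∈ S, ∀ e, n ≤ e → s + e ∈ S) :
    Submodule ↥A (PowerSeries k) where
  carrier := {f | SuppIn S f}
  add_mem' hf hg := suppIn_add hf hg
  zero_mem' := suppIn_zero
  smul_mem' a f hf := by
    change SuppIn S ((a : PowerSeries k) * f)
    refine suppIn_mul (S := Gam n) (T := S) ?_ ((mem_A_iff n A hmono _).mp a.2) hf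
    intro p hp q hq
    rcases hp with h | h
    · subst h
      rw [zero_add]
      exact hq
    · rw [add_comm]
      exact hS q hq p h

theorem mem_monoSub (S : Set ℕ) (hS : ∀ s ∈ S, ∀ e, n ≤ e → s + e ∈ S) (f : PowerSeries k) :
    f ∈ monoSub n A hmono S hS ↔ SuppIn S f := Iff.rfl

theorem length_quot_mono [IsLocalRing ↥A] (N : Submodule ↥A (PowerSeries k)) (S : Set ℕ) (c : ℕ)
    (hc : ∀ e, c ≤ e → e ∈ S) (hN : ∀ f, f ∈ N ↔ SuppIn S f) :
    Module.length ↥A (PowerSeries k ⧸ N) = (Sᶜ.ncard : ℕ∞) := by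
  set V : Submodule k (PowerSeries k) := N.restrictScalars k with hV
  have hVc : ∀ h : PowerSeries k, (c : ℕ∞) ≤ PowerSeries.order h → h ∈ V := by
    intro h hh
    rw [hV, Submodule.restrictScalars_mem, hN]
    intro e he
    apply hc
    have := PowerSeries.order_le e he
    exact_mod_cast le_trans hh this
  have hΓ : ∀ e, e ∈ S ↔ ∃ f ∈ V, PowerSeries.order f = e := by
    intro e
    constructor
    · intro he
      refine ⟨(X : PowerSeries k) ^ e, ?_, order_X_pow e⟩
      rw [hV, Submodule.restrictScalars_mem, hN]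
      exact suppIn_X_pow he
    · rintro ⟨f, hf, hfe⟩
      rw [hV, Submodule.restrictScalars_mem, hN] at hf
      apply hf
      have hf0 : f ≠ 0 := by
        rintro rfl
        rw [order_zero] at hfe
        exact ENat.top_ne_coe e hfe
      have := PowerSeries.coeff_order hf0
      rw [← PowerSeries.coe_toNat_order hf0] at hfe
      have h2 : f.order.toNat = e := by exact_mod_cast hfe
      rw [h2] at this
      exact this
  have hfr := finrank_quot_eq_ncard_gaps V c hVc S hΓ
  have hTN : PSSub.T A c ≤ N := by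
    intro f hf
    rw [PSSub.mem_T] at hf
    rw [hN]
    exact suppIn_mono (fun e he => hc e he) (suppIn_of_dvd n A hmono hf)
  haveI := PSSub.finite_quot_T A c
  haveI hfin : Module.Finite k (PowerSeries k ⧸ N) :=
    Module.Finite.of_surjective ((Submodule.mapQ (PSSub.T A c) N LinearMap.id
      (by simpa using hTN)).restrictScalars k) (by
        intro y
        obtain ⟨b, rfl⟩ := Submodule.Quotient.mk_surjective _ y
        exact ⟨Submodule.Quotient.mk b, rfl⟩)
  haveI : Module.Finite k (PowerSeries k ⧸ V) :=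
    Module.Finite.equiv (Submodule.Quotient.restrictScalarsEquiv k N).symm
  have hne : Module.length k (PowerSeries k ⧸ N) ≠ ⊤ := by
    rw [Module.length_eq_finrank]
    exact ENat.coe_ne_top _
  rw [LenFin.length_eq_length k ↥A (hres n A hmono) _ hne,
    ← (Submodule.Quotient.restrictScalarsEquiv k N).length_eq, Module.length_eq_finrank, hfr]

theorem length_subquot_mono [IsLocalRing ↥A] (N N' : Submodule ↥A (PowerSeries k)) (S S' : Set ℕ)
    (c : ℕ) (hc : ∀ e, c ≤ e → e ∈ S') (hSS' : S' ⊆ S) (hN : ∀ f, f ∈ N ↔ SuppIn S f)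
    (hN' : ∀ f, f ∈ N' ↔ SuppIn S' f) :
    Module.length ↥A (LenFin.SubQ N N') = ((S \ S').ncard : ℕ∞) := by
  have hle : N' ≤ N := by
    intro f hf
    rw [hN]
    rw [hN'] at hf
    exact suppIn_mono hSS' hf
  have h1 := LenFin.length_quot_add N N' hle
  rw [length_quot_mono n A hmono N' S' c hc hN',
    length_quot_mono n A hmono N S c (fun e he => hSS' (hc e he)) hN] at h1
  have hfinS' : S'ᶜ.Finite := by
    apply Set.Finite.subset (Set.finite_lt_nat c)
    intro e he
    by_contra hlt
    exact he (hc e (not_lt.mp hlt))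
  have hunion : S'ᶜ = (S \ S') ∪ Sᶜ := by
    ext e
    simp only [Set.mem_compl_iff, Set.mem_union, Set.mem_diff]
    constructor
    · intro h
      by_cases hs : e ∈ S
      · exact Or.inl ⟨hs, h⟩
      · exact Or.inr hs
    · rintro (⟨_, h⟩ | h)
      · exact h
      · exact fun h' => h (hSS' h')
  have hdisj : Disjoint (S \ S') Sᶜ := by
    rw [Set.disjoint_left]
    intro e he he'
    exact he' he.1
  have hcard : S'ᶜ.ncard = (S \ S').ncard + Sᶜ.ncard := by
    have hf1 : (S \ S').Finite := hfinS'.subset (by rw [hunion]; exact Set.subset_union_left)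
    have hf2 : Sᶜ.Finite := hfinS'.subset (by rw [hunion]; exact Set.subset_union_right)
    rw [hunion]
    exact Set.ncard_union_eq hdisj hf1 hf2
  rw [hcard] at h1
  push_cast at h1
  exact (WithTop.add_right_cancel (ENat.coe_ne_top _) h1.symm)

end Cub

end Groth.Agent.H75.CubMono
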