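import Mathlib
import Groth.Agent.H75.CanonIdeal

/-! Lengths of `Ext¹` modules computed from the (linear) long exact sequence. -/

set_option autoImplicit false
universe u

namespace Groth.Agent.H75.ExtLen

open CategoryTheory Abelian

variable {R : Type u} [CommRing R]

/-- precomposition with a morphism, as a linear map on `Ext` -/
noncomputable def precompL {X X' : ModuleCat.{u} R} (f : X ⟶ X') (Y : ModuleCat.{u} R) (n : ℕ) :
    Ext X' Y n →ₗ[R] Ext X Y n where
  toFun x := (Ext.mk₀ f).comp x (zero_add n)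
  map_add' x y := Ext.comp_add _ _ _ _
  map_smul' r x := by
    simp only [RingHom.id_apply]
    exact Ext.comp_smul _ _ _ _

theorem precompL_apply {X X' : ModuleCat.{u} R} (f : X ⟶ X') (Y : ModuleCat.{u} R) (n : ℕ)
    (x : Ext X' Y n) : precompL f Y n x = (Ext.mk₀ f).comp x (zero_add n) := rfl

/-- `Ext` modules only depend on the isomorphism class of the first argument (linear version) -/
noncomputable def extLEquivLeft {X X' Y : ModuleCat.{u} R} (a : X ≅ X') (n : ℕ) :
    Ext X Y n ≃ₗ[R] Ext X' Y n where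
  toFun x := (Ext.mk₀ a.inv).comp x (zero_add n)
  invFun x := (Ext.mk₀ a.hom).comp x (zero_add n)
  left_inv x := by
    simp
  right_inv x := by
    simp
  map_add' x y := by
    rw [Ext.comp_add]
  map_smul' r x := by
    simp only [RingHom.id_apply]
    exact Ext.comp_smul _ _ _ _

/-- `Ext` modules only depend on the isomorphism class of the second argument (linear version) -/
noncomputable def extLEquivRight {X Y Y' : ModuleCat.{u} R} (a : Y ≅ Y') (n : ℕ) :
    Ext X Y n ≃ₗ[R] Ext X Y' n where
  toFun x := x.comp (Ext.mk₀ a.hom) (add_zero n)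
  invFun x := x.comp (Ext.mk₀ a.inv) (add_zero n)
  left_inv x := by
    simp
  right_inv x := by
    simp
  map_add' x y := by
    rw [Ext.add_comp]
  map_smul' r x := by
    simp only [RingHom.id_apply]
    exact Ext.smul_comp _ _ _ _

theorem length_ext_congr {X X' Y Y' : ModuleCat.{u} R} (a : X ≅ X') (b : Y ≅ Y') (n : ℕ) :
    Module.length R (Ext X Y n) = Module.length R (Ext X' Y' n) := by
  rw [(extLEquivLeft (Y := Y) a n).length_eq, (extLEquivRight (X := X') b n).length_eq]

section L1

variable {M₁ M₂ M₃ Y : Type u} [AddCommGroup M₁] [Module R M₁] [AddCommGroup M₂] [Module R M₂]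
  [AddCommGroup M₃] [Module R M₃] [AddCommGroup Y] [Module R Y]

/-- the connecting map as a linear map -/
noncomputable def deltaL (i : M₁ →ₗ[R] M₂) (p : M₂ →ₗ[R] M₃) (hi : Function.Injective i)
    (hp : Function.Surjective p) (hip : Function.Exact i p) :
    (M₁ →ₗ[R] Y) →ₗ[R] Ext (ModuleCat.of R M₃) (ModuleCat.of R Y) 1 where
  toFun g := (Canon.shortExact_of i p hi hp hip).extClass.comp (Ext.mk₀ (ModuleCat.ofHom g))
    (show 1 + 0 = 1 from rfl)
  map_add' g g' := by
    rw [ModuleCat.ofHom_add, Ext.mk₀_add, Ext.comp_add]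
  map_smul' r g := by
    simp only [RingHom.id_apply]
    have : ModuleCat.ofHom (r • g) = r • ModuleCat.ofHom g := rfl
    rw [this, Ext.mk₀_smul, Ext.comp_smul]

theorem deltaL_apply (i : M₁ →ₗ[R] M₂) (p : M₂ →ₗ[R] M₃) (hi : Function.Injective i)
    (hp : Function.Surjective p) (hip : Function.Exact i p) (g : M₁ →ₗ[R] Y) :
    deltaL i p hi hp hip g =
      (Canon.shortExact_of i p hi hp hip).extClass.comp (Ext.mk₀ (ModuleCat.ofHom g))
        (show 1 + 0 = 1 from rfl) := rfl

theorem deltaL_eq_zero_iff (i : M₁ →ₗ[R] M₂) (p : M₂ →ₗ[R] M₃) (hi : Function.Injective i)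
    (hp : Function.Surjective p) (hip : Function.Exact i p) (g : M₁ →ₗ[R] Y) :
    deltaL i p hi hp hip g = 0 ↔ ∃ g' : M₂ →ₗ[R] Y, g' ∘ₗ i = g := by
  have hS := Canon.shortExact_of i p hi hp hip
  rw [deltaL_apply]
  constructor
  · intro h
    obtain ⟨x₂, hx₂⟩ := Ext.contravariant_sequence_exact₁ hS _ _ (show 1 + 0 = 1 from rfl) h
    obtain ⟨ψ, rfl⟩ := Canon.exists_mk₀ x₂
    rw [Ext.mk₀_comp_mk₀] at hx₂
    have h3 := (Ext.mk₀_bijective _ _).1 hx₂
    refine ⟨ψ.hom, ?_⟩
    have := congrArg ModuleCat.Hom.hom h3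
    simpa using this
  · rintro ⟨g', rfl⟩
    have : Ext.mk₀ (ModuleCat.ofHom (g' ∘ₗ i)) =
        (Ext.mk₀ (ModuleCat.ofHom i)).comp (Ext.mk₀ (ModuleCat.ofHom g')) (zero_add 0) := by
      rw [Ext.mk₀_comp_mk₀]
      rfl
    rw [this]
    exact hS.extClass_comp_assoc _

theorem length_ext_one (i : M₁ →ₗ[R] M₂) (p : M₂ →ₗ[R] M₃) (hi : Function.Injective i)
    (hp : Function.Surjective p) (hip : Function.Exact i p) :
    Module.length R (Ext (ModuleCat.of R M₃) (ModuleCat.of R Y) 1) =
      Module.length R ((M₁ →ₗ[R] Y) ⧸ LinearMap.range (LinearMap.lcomp R Y i)) +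
        Module.length R (LinearMap.range
          (precompL (ModuleCat.ofHom p) (ModuleCat.of R Y) 1)) := by
  have hS := Canon.shortExact_of i p hi hp hip
  set δ := deltaL (Y := Y) i p hi hp hip with hδ
  set π := precompL (ModuleCat.ofHom p) (ModuleCat.of R Y) 1 with hπ
  have hker : LinearMap.range (LinearMap.lcomp R Y i) ≤ LinearMap.ker δ := by
    rintro _ ⟨g, rfl⟩
    rw [LinearMap.mem_ker, hδ, deltaL_eq_zero_iff]
    exact ⟨g, rfl⟩
  let f := (LinearMap.range (LinearMap.lcomp R Y i)).liftQ δ hker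
  have hf : Function.Injective f := by
    rw [← LinearMap.ker_eq_bot, LinearMap.ker_eq_bot']
    intro x hx
    obtain ⟨g, rfl⟩ := Submodule.Quotient.mk_surjective _ x
    have h1 : δ g = 0 := hx
    rw [hδ, deltaL_eq_zero_iff] at h1
    obtain ⟨g', rfl⟩ := h1
    rw [Submodule.Quotient.mk_eq_zero]
    exact ⟨g', rfl⟩
  have hg : Function.Surjective π.rangeRestrict := LinearMap.surjective_rangeRestrict π
  have hex : Function.Exact f π.rangeRestrict := by
    intro x
    constructor
    · intro hx
      have h1 : π x = 0 := congrArg Subtype.val hx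
      rw [hπ, precompL_apply] at h1
      obtain ⟨x₁, hx₁⟩ := Ext.contravariant_sequence_exact₃ hS _ x h1 (show 1 + 0 = 1 from rfl)
      obtain ⟨g, rfl⟩ := Canon.exists_mk₀ x₁
      refine ⟨Submodule.Quotient.mk g.hom, ?_⟩
      exact hx₁
    · rintro ⟨y, rfl⟩
      obtain ⟨g, rfl⟩ := Submodule.Quotient.mk_surjective _ y
      apply Subtype.ext
      change π (δ g) = 0
      rw [hπ, precompL_apply, hδ, deltaL_apply]
      exact hS.comp_extClass_assoc _ _
  exact Module.length_eq_add_of_exact f π.rangeRestrict hf hg hex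

/-- if the middle term is projective, `Ext¹` is the cokernel of restriction -/
theorem length_ext_one_of_projective [Module.Projective R M₂] (i : M₁ →ₗ[R] M₂) (p : M₂ →ₗ[R] M₃)
    (hi : Function.Injective i) (hp : Function.Surjective p) (hip : Function.Exact i p) :
    Module.length R (Ext (ModuleCat.of R M₃) (ModuleCat.of R Y) 1) =
      Module.length R ((M₁ →ₗ[R] Y) ⧸ LinearMap.range (LinearMap.lcomp R Y i)) := by
  rw [length_ext_one (Y := Y) i p hi hp hip]
  have hproj : Projective (ModuleCat.of R M₂) :=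
    (IsProjective.iff_projective (R := R) (P := M₂)).mp inferInstance
  have : LinearMap.range (precompL (ModuleCat.ofHom p) (ModuleCat.of R Y) 1) = ⊥ := by
    rw [eq_bot_iff]
    rintro _ ⟨x, rfl⟩
    rw [Submodule.mem_bot]
    exact Ext.eq_zero_of_projective _
  rw [this, Module.length_bot, add_zero]

/-- if the sub term has vanishing `Ext¹` -/
theorem length_ext_one_of_vanish (i : M₁ →ₗ[R] M₂) (p : M₂ →ₗ[R] M₃)
    (hi : Function.Injective i) (hp : Function.Surjective p) (hip : Function.Exact i p)
    (hvan : ∀ x : Ext (ModuleCat.of R M₁) (ModuleCat.of R Y) 1, x = 0) :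
    Module.length R (Ext (ModuleCat.of R M₃) (ModuleCat.of R Y) 1) =
      Module.length R ((M₁ →ₗ[R] Y) ⧸ LinearMap.range (LinearMap.lcomp R Y i)) +
        Module.length R (Ext (ModuleCat.of R M₂) (ModuleCat.of R Y) 1) := by
  rw [length_ext_one (Y := Y) i p hi hp hip]
  have hS := Canon.shortExact_of i p hi hp hip
  have : LinearMap.range (precompL (ModuleCat.ofHom p) (ModuleCat.of R Y) 1) = ⊤ := by
    rw [eq_top_iff]
    intro x₂ _
    have h1 : (Ext.mk₀ (ModuleCat.ofHom i)).comp x₂ (zero_add 1) = 0 := hvan _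
    obtain ⟨x₃, hx₃⟩ := Ext.contravariant_sequence_exact₂ hS _ x₂ h1
    exact ⟨x₃, hx₃⟩
  rw [this, Module.length_top]

end L1

section L2

variable (m : Ideal R) [hm : m.IsMaximal] {Q Y : Type u} [AddCommGroup Q] [Module R Q]
  [Module.Finite R Q] [AddCommGroup Y] [Module R Y]

theorem exists_equiv_pi (hQ : ∀ a ∈ m, ∀ q : Q, a • q = 0) :
    ∃ i : ℕ, Nonempty (Q ≃ₗ[R] (Fin i → R ⧸ m)) := by
  have hQ' : Module.IsTorsionBySet R Q (m : Set R) := fun q a => hQ a a.2 q
  letI : Module (R ⧸ m) Q := hQ'.module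
  haveI : IsScalarTower R (R ⧸ m) Q := hQ'.isScalarTower
  letI : Field (R ⧸ m) := Ideal.Quotient.field m
  haveI : Module.Finite (R ⧸ m) Q := Module.Finite.of_restrictScalars_finite R (R ⧸ m) Q
  let b := Module.finBasis (R ⧸ m) Q
  exact ⟨_, ⟨b.equivFun.restrictScalars R⟩⟩

theorem length_quot_maximal : Module.length R (R ⧸ m) = 1 := by
  haveI : IsSimpleModule R (R ⧸ m) :=
    isSimpleModule_iff_quot_maximal.mpr ⟨m, hm, ⟨LinearEquiv.refl R _⟩⟩
  exact Module.length_eq_one R (R ⧸ m)

theorem length_ext_one_of_killed (hQ : ∀ a ∈ m, ∀ q : Q, a • q = 0) :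
    Module.length R (Ext (ModuleCat.of R Q) (ModuleCat.of R Y) 1) =
      Module.length R Q * Module.length R ((↥m →ₗ[R] Y) ⧸
        LinearMap.range (LinearMap.lcomp R Y (Submodule.subtype m))) := by
  classical
  obtain ⟨i, ⟨e⟩⟩ := exists_equiv_pi m hQ
  have hlenQ : Module.length R Q = (i : ℕ∞) := by
    rw [e.length_eq, Module.length_pi_of_fintype]
    simp only [length_quot_maximal m, Finset.sum_const, Finset.card_univ, Fintype.card_fin,
      nsmul_eq_mul, mul_one]
  let i' : (Fin i → ↥m) →ₗ[R] (Fin i → R) :=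
    LinearMap.pi fun j => (Submodule.subtype m) ∘ₗ LinearMap.proj j
  let p₀ : (Fin i → R) →ₗ[R] (Fin i → R ⧸ m) :=
    LinearMap.pi fun j => (Submodule.mkQ m) ∘ₗ LinearMap.proj j
  let p' : (Fin i → R) →ₗ[R] Q := e.symm.toLinearMap ∘ₗ p₀
  have hi' : Function.Injective i' := by
    intro x y hxy
    funext j
    apply Subtype.ext
    exact congrFun hxy j
  have hp₀ : Function.Surjective p₀ := by
    intro g
    choose x hx using fun j => Submodule.mkQ_surjective m (g j)
    exact ⟨x, funext hx⟩
  have hp' : Function.Surjective p' := e.symm.surjective.comp hp₀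
  have hex : Function.Exact i' p' := by
    intro x
    constructor
    · intro hx
      have h1 : p₀ x = 0 := by
        have : e.symm (p₀ x) = 0 := hx
        simpa using this
      have h2 : ∀ j, x j ∈ m := by
        intro j
        have := congrFun h1 j
        exact (Submodule.Quotient.mk_eq_zero m).mp this
      exact ⟨fun j => ⟨x j, h2 j⟩, rfl⟩
    · rintro ⟨y, rfl⟩
      have h1 : p₀ (i' y) = 0 := by
        funext j
        exact (Submodule.Quotient.mk_eq_zero m).mpr (y j).2
      change e.symm (p₀ (i' y)) = 0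
      rw [h1, map_zero]
  rw [length_ext_one_of_projective (Y := Y) i' p' hi' hp' hex, hlenQ]
  set P' := LinearMap.range (LinearMap.lcomp R Y (Submodule.subtype m)) with hP'
  let L := LinearMap.lsum R (fun _ : Fin i => ↥m) R (M := Y)
  have hclaim : Submodule.map L.symm.toLinearMap (LinearMap.range (LinearMap.lcomp R Y i')) =
      Submodule.pi Set.univ (fun _ : Fin i => P') := by
    ext g
    simp only [Submodule.mem_map, LinearMap.mem_range, Submodule.mem_pi, Set.mem_univ,
      forall_true_left, exists_exists_eq_and]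
    constructor
    · rintro ⟨G, rfl⟩ j
      refine ⟨G ∘ₗ LinearMap.single R (fun _ : Fin i => R) j, ?_⟩
      apply LinearMap.ext
      intro μ
      change G (Pi.single j (μ : R)) = G (i' (Pi.single j μ))
      congr 1
      funext l
      by_cases hl : l = j
      · subst hl
        simp [i']
      · simp [i', Pi.single_eq_of_ne hl]
    · intro h
      choose G hG using h
      refine ⟨LinearMap.lsum R (fun _ : Fin i => R) R G, ?_⟩
      apply L.injective
      rw [LinearEquiv.coe_coe, LinearEquiv.apply_symm_apply]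
      apply LinearMap.ext
      intro μ
      change (LinearMap.lsum R (fun _ : Fin i => R) R G) (i' μ) = L g μ
      rw [LinearMap.lsum_apply, LinearMap.lsum_apply]
      simp only [LinearMap.coe_sum, Finset.sum_apply, LinearMap.comp_apply, LinearMap.proj_apply]
      apply Finset.sum_congr rfl
      intro j _
      have := LinearMap.congr_fun (hG j) (μ j)
      exact this
  let E1 := Submodule.Quotient.equiv (LinearMap.range (LinearMap.lcomp R Y i'))
    (Submodule.pi Set.univ (fun _ : Fin i => P')) L.symm hclaim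
  let E2 := Submodule.quotientPi (fun _ : Fin i => P')
  rw [(E1.trans E2).length_eq, Module.length_pi_of_fintype]
  simp only [Finset.sum_const, Finset.card_univ, Fintype.card_fin, nsmul_eq_mul]

end L2

end Groth.Agent.H75.ExtLen
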