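import Mathlib
import Groth.Agent.H75.CubMono
import Groth.Agent.H75.ExtLen

/-! `Ext¹(N, N)` for monomial modules `N ⊇ A` over the cubical monomial ring `A = k + X^n k⟦X⟧`. -/

set_option autoImplicit false
set_option synthInstance.maxHeartbeats 200000
set_option maxHeartbeats 1000000
universe u v w

namespace Groth.Agent.H75.CubExt

open PowerSeries CategoryTheory Abelian

section Transport

variable {R : Type u} [Ring R] {M : Type v} {B : Type w} [AddCommGroup M] [Module R M]
  [AddCommGroup B] [Module R B]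

theorem length_quot_eq_subQ (Ψ : M →ₗ[R] B) (hΨ : Function.Injective Ψ) (P : Submodule R M)
    (C D : Submodule R B) (hC : LinearMap.range Ψ = C) (hD : Submodule.map Ψ P = D) :
    Module.length R (M ⧸ P) = Module.length R (LenFin.SubQ C D) := by
  subst hC hD
  let e := LinearEquiv.ofInjective Ψ hΨ
  have h : Submodule.map e.toLinearMap P =
      Submodule.comap (LinearMap.range Ψ).subtype (Submodule.map Ψ P) := by
    ext y
    simp only [Submodule.mem_map, Submodule.mem_comap, Submodule.subtype_apply]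
    constructor
    · rintro ⟨x, hx, rfl⟩
      exact ⟨x, hx, rfl⟩
    · rintro ⟨x, hx, hxy⟩
      exact ⟨x, hx, Subtype.ext hxy⟩
  exact (Submodule.Quotient.equiv P _ e h).length_eq

/-- the quotient map `C → C/(D ∩ C)` -/
def subQmk (C D : Submodule R B) : ↥C →ₗ[R] LenFin.SubQ C D := (Submodule.comap C.subtype D).mkQ

theorem subQmk_surjective (C D : Submodule R B) : Function.Surjective (subQmk C D) :=
  Submodule.mkQ_surjective _

theorem subQmk_eq_zero (C D : Submodule R B) (y : ↥C) : subQmk C D y = 0 ↔ (y : B) ∈ D :=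
  Submodule.Quotient.mk_eq_zero _

theorem subQ_killed (C D : Submodule R B) (I : Set R)
    (h : ∀ a ∈ I, ∀ y : ↥C, a • (y : B) ∈ D) : ∀ a ∈ I, ∀ q : LenFin.SubQ C D, a • q = 0 := by
  intro a ha q
  obtain ⟨y, rfl⟩ := subQmk_surjective C D q
  rw [← map_smul, subQmk_eq_zero]
  exact h a ha y

end Transport

section Sets

/-- exponents stabilising `S` -/
def SE (S : Set ℕ) : Set ℕ := {e | ∀ s ∈ S, e + s ∈ S}

/-- exponents whose whole upper ray lies in `S` -/
def SC (S : Set ℕ) : Set ℕ := {e | ∀ d, e + d ∈ S}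

/-- the shift `n + S` -/
def SD (n : ℕ) (S : Set ℕ) : Set ℕ := {e | n ≤ e ∧ e - n ∈ S}

variable {n : ℕ} {S : Set ℕ} (hSn : ∀ e, n ≤ e → e ∈ S)

include hSn

theorem closed_S : ∀ s ∈ S, ∀ e, n ≤ e → s + e ∈ S := fun s _ e he => hSn _ (by omega)

theorem closed_SE : ∀ s ∈ SE S, ∀ e, n ≤ e → s + e ∈ SE S :=
  fun s _ e he s' _ => hSn _ (by omega)

theorem closed_SC : ∀ s ∈ SC S, ∀ e, n ≤ e → s + e ∈ SC S :=
  fun s _ e he d => hSn _ (by omega)

theorem closed_SD : ∀ s ∈ SD n S, ∀ e, n ≤ e → s + e ∈ SD n S := by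
  intro s hs e he
  exact ⟨by have := hs.1; omega, hSn _ (by have := hs.1; omega)⟩

omit hSn in
theorem closed_Gam : ∀ s ∈ CubMono.Gam n, ∀ e, n ≤ e → s + e ∈ CubMono.Gam n :=
  fun s _ e he => Or.inr (by omega)

theorem SE_subset (h0 : 0 ∈ S) : SE S ⊆ S := fun e he => by simpa using he 0 h0

theorem Ici_subset_SE : ∀ e, n ≤ e → e ∈ SE S := fun e he s _ => hSn _ (by omega)

theorem Ici_subset_SD : ∀ e, 2 * n ≤ e → e ∈ SD n S := fun e he => ⟨by omega, hSn _ (by omega)⟩

theorem SD_subset_SC : SD n S ⊆ SC S := fun e he d => hSn _ (by have := he.1; omega)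

omit hSn in
theorem Gam_subset (h0 : 0 ∈ S) (hSn : ∀ e, n ≤ e → e ∈ S) : CubMono.Gam n ⊆ S := by
  rintro e (rfl | he)
  · exact h0
  · exact hSn e he

end Sets

section Main

variable {k : Type u} [Field k] (n : ℕ) (hn : 1 ≤ n) (A : Subalgebra k (PowerSeries k))
  (hmono : ∀ f : PowerSeries k, f ∈ A ↔ ∀ m : ℕ, coeff m f ≠ 0 → (m = 0 ∨ n ≤ m))
  (S : Set ℕ) (h0 : 0 ∈ S) (hSn : ∀ e, n ≤ e → e ∈ S)
  (N : Submodule ↥A (PowerSeries k)) (hN : ∀ f, f ∈ N ↔ CubMono.SuppIn S f)

/-- shortcut instance -/
noncomputable local instance shortcutRing : Ring ↥A := A.toRing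

/-- shortcut instance -/
noncomputable local instance shortcutACG (N : Submodule ↥A (PowerSeries k)) : AddCommGroup ↥N :=
  Submodule.addCommGroup N

/-- `X^n` as an element of `A` -/
noncomputable def tau : ↥A := ⟨(X : PowerSeries k) ^ n, CubMono.mem_of_dvd n A hmono (dvd_refl _)⟩

include h0 hN in
theorem one_mem : (1 : PowerSeries k) ∈ N := by
  rw [hN]
  have := CubMono.suppIn_X_pow (k := k) h0
  rwa [pow_zero] at this

/-- the unit of `N` -/
noncomputable def one : ↥N := ⟨1, one_mem A S h0 N hN⟩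

/-- the inclusion `A → N` -/
noncomputable def iota : ↥A →ₗ[↥A] ↥N := LinearMap.toSpanSingleton ↥A ↥N (one A S h0 N hN)

theorem iota_apply (a : ↥A) : ((iota A S h0 N hN a : ↥N) : PowerSeries k) = (a : PowerSeries k) := by
  change (a : PowerSeries k) * 1 = a
  rw [mul_one]

/-- evaluation at one, into the power series ring -/
noncomputable def PsiE : (↥A →ₗ[↥A] ↥N) →ₗ[↥A] PowerSeries k :=
  N.subtype ∘ₗ (LinearMap.ringLmapEquivSelf ↥A ↥A ↥N).toLinearMap

theorem PsiE_apply (g : ↥A →ₗ[↥A] ↥N) : PsiE A N g = ((g 1 : ↥N) : PowerSeries k) := rfl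

theorem PsiE_injective : Function.Injective (PsiE A N) := by
  intro g g' h
  apply (LinearMap.ringLmapEquivSelf ↥A ↥A ↥N).injective
  exact Subtype.ext h

theorem range_PsiE : LinearMap.range (PsiE A N) = N := by
  ext f
  constructor
  · rintro ⟨g, rfl⟩
    rw [PsiE_apply]
    exact (g 1).2
  · intro hf
    refine ⟨LinearMap.toSpanSingleton ↥A ↥N ⟨f, hf⟩, ?_⟩
    rw [PsiE_apply]
    change (1 : PowerSeries k) * f = f
    exact one_mul f

include hSn in
theorem map_PsiE :
    Submodule.map (PsiE A N) (LinearMap.range (LinearMap.lcomp ↥A ↥N (iota A S h0 N hN))) =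
      CubMono.monoSub n A hmono (SE S) (closed_SE hSn) := by
  ext f
  rw [CubMono.mem_monoSub]
  simp only [Submodule.mem_map, LinearMap.mem_range, exists_exists_eq_and]
  constructor
  · rintro ⟨φ, rfl⟩
    have hx : PsiE A N (LinearMap.lcomp ↥A ↥N (iota A S h0 N hN) φ) =
        ((φ (one A S h0 N hN) : ↥N) : PowerSeries k) := by
      rw [PsiE_apply]
      change ((φ (iota A S h0 N hN 1) : ↥N) : PowerSeries k) = _
      congr 2
      apply Subtype.ext
      rw [iota_apply]
      rfl
    rw [hx]
    set x : PowerSeries k := ((φ (one A S h0 N hN) : ↥N) : PowerSeries k) with hxdef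
    have key : ∀ y : ↥N, ((φ y : ↥N) : PowerSeries k) = x * (y : PowerSeries k) := by
      intro y
      let a : ↥A := ⟨(X : PowerSeries k) ^ n * (y : PowerSeries k),
        CubMono.mem_of_dvd n A hmono (dvd_mul_right _ _)⟩
      have h1 : tau n A hmono • y = a • one A S h0 N hN := by
        apply Subtype.ext
        change (X : PowerSeries k) ^ n * (y : PowerSeries k) =
          ((X : PowerSeries k) ^ n * (y : PowerSeries k)) * 1
        rw [mul_one]
      have h2 := congrArg φ h1
      rw [map_smul, map_smul] at h2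
      have h3 := congrArg (fun z : ↥N => (z : PowerSeries k)) h2
      change (X : PowerSeries k) ^ n * ((φ y : ↥N) : PowerSeries k) =
        ((X : PowerSeries k) ^ n * (y : PowerSeries k)) * x at h3
      have h4 : (X : PowerSeries k) ^ n * ((φ y : ↥N) : PowerSeries k) =
          (X : PowerSeries k) ^ n * (x * (y : PowerSeries k)) := by
        rw [h3]; ring
      exact mul_left_cancel₀ (pow_ne_zero n X_ne_zero) h4
    intro e he s hs
    let y : ↥N := ⟨(X : PowerSeries k) ^ s, (hN _).mpr (CubMono.suppIn_X_pow hs)⟩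
    have h5 : x * (X : PowerSeries k) ^ s ∈ N := by
      rw [← key y]
      exact (φ y).2
    rw [hN] at h5
    apply h5
    rw [coeff_mul_X_pow]
    exact he
  · intro hf
    have hmem : ∀ y : ↥N, f * (y : PowerSeries k) ∈ N := by
      intro y
      rw [hN]
      exact CubMono.suppIn_mul (S := SE S) (T := S) (U := S) (fun p hp q hq => hp q hq) hf
        ((hN _).mp y.2)
    let φ : ↥N →ₗ[↥A] ↥N :=
      { toFun := fun y => ⟨f * (y : PowerSeries k), hmem y⟩
        map_add' := fun y y' => by
          apply Subtype.ext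
          change f * ((y : PowerSeries k) + y') = f * y + f * y'
          ring
        map_smul' := fun a y => by
          apply Subtype.ext
          change f * ((a : PowerSeries k) * y) = (a : PowerSeries k) * (f * y)
          ring }
    refine ⟨φ, ?_⟩
    rw [PsiE_apply]
    change f * ((iota A S h0 N hN 1 : ↥N) : PowerSeries k) = f
    rw [iota_apply]
    change f * 1 = f
    rw [mul_one]

section Max

variable [IsLocalRing ↥A]

include hn in
theorem tau_mem : tau n A hmono ∈ IsLocalRing.maximalIdeal ↥A := by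
  rw [CubMono.mem_max_iff n A hmono hn]
  exact dvd_refl _

/-- `X^n` as an element of the maximal ideal -/
noncomputable def taum : ↥(IsLocalRing.maximalIdeal ↥A) := ⟨tau n A hmono, tau_mem n hn A hmono⟩

/-- evaluation at `X^n`, into the power series ring -/
noncomputable def PsiM : (↥(IsLocalRing.maximalIdeal ↥A) →ₗ[↥A] ↥N) →ₗ[↥A] PowerSeries k :=
  N.subtype ∘ₗ LinearMap.applyₗ (taum n hn A hmono)

theorem PsiM_apply (ψ : ↥(IsLocalRing.maximalIdeal ↥A) →ₗ[↥A] ↥N) :
    PsiM n hn A hmono N ψ = ((ψ (taum n hn A hmono) : ↥N) : PowerSeries k) := rfl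

/-- the basic relation: `X^n ψ(μ) = μ ψ(X^n)` -/
theorem PsiM_rel (ψ : ↥(IsLocalRing.maximalIdeal ↥A) →ₗ[↥A] ↥N)
    (μ : ↥(IsLocalRing.maximalIdeal ↥A)) :
    (X : PowerSeries k) ^ n * ((ψ μ : ↥N) : PowerSeries k) =
      ((μ : ↥A) : PowerSeries k) * PsiM n hn A hmono N ψ := by
  have h1 : tau n A hmono • μ = (μ : ↥A) • taum n hn A hmono := by
    apply Subtype.ext
    change tau n A hmono * (μ : ↥A) = (μ : ↥A) * tau n A hmono
    exact mul_comm _ _
  have h2 := congrArg ψ h1
  rw [map_smul, map_smul] at h2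
  exact congrArg (fun z : ↥N => (z : PowerSeries k)) h2

theorem PsiM_injective : Function.Injective (PsiM n hn A hmono N) := by
  intro ψ ψ' hψ
  apply LinearMap.ext
  intro μ
  have h := PsiM_rel n hn A hmono N ψ μ
  have h' := PsiM_rel n hn A hmono N ψ' μ
  rw [hψ, ← h'] at h
  apply Subtype.ext
  exact mul_left_cancel₀ (pow_ne_zero n X_ne_zero) h

include hSn hN in
theorem range_PsiM :
    LinearMap.range (PsiM n hn A hmono N) = CubMono.monoSub n A hmono (SC S) (closed_SC hSn) := by
  ext x
  rw [CubMono.mem_monoSub]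
  constructor
  · rintro ⟨ψ, rfl⟩
    set x := PsiM n hn A hmono N ψ with hx
    have key : ∀ b : PowerSeries k, x * b ∈ N := by
      intro b
      have hb : (X : PowerSeries k) ^ n * b ∈ A := CubMono.mem_of_dvd n A hmono (dvd_mul_right _ _)
      let μ : ↥(IsLocalRing.maximalIdeal ↥A) := ⟨⟨_, hb⟩, by
        rw [CubMono.mem_max_iff n A hmono hn]
        exact dvd_mul_right _ _⟩
      have h := PsiM_rel n hn A hmono N ψ μ
      change (X : PowerSeries k) ^ n * ((ψ μ : ↥N) : PowerSeries k) =
        ((X : PowerSeries k) ^ n * b) * x at h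
      have h4 : (X : PowerSeries k) ^ n * ((ψ μ : ↥N) : PowerSeries k) =
          (X : PowerSeries k) ^ n * (x * b) := by
        rw [h]; ring
      have h5 := mul_left_cancel₀ (pow_ne_zero n X_ne_zero) h4
      rw [← h5]
      exact (ψ μ).2
    intro e he d
    have h6 := key ((X : PowerSeries k) ^ d)
    rw [hN] at h6
    apply h6
    rw [coeff_mul_X_pow]
    exact he
  · intro hx
    have hmem : ∀ b : PowerSeries k, x * b ∈ N := by
      intro b
      rw [hN]
      refine CubMono.suppIn_mul (S := SC S) (T := Set.univ) (U := S) (fun p hp q _ => hp q) hx ?_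
      intro e _
      trivial
    -- the shift of an element of the maximal ideal
    let sh : PowerSeries k → PowerSeries k := fun f => PowerSeries.mk fun i => coeff (i + n) f
    have hsh : ∀ f : PowerSeries k, (X : PowerSeries k) ^ n ∣ f → (X : PowerSeries k) ^ n * sh f = f := by
      intro f hf
      have h1 := f.eq_X_pow_mul_shift_add_trunc n
      have h2 : (f.trunc n : PowerSeries k) = 0 := by
        ext i
        rw [Polynomial.coeff_coe, coeff_trunc, map_zero]
        split_ifs with hi
        · exact (X_pow_dvd_iff.mp hf) i hi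
        · rfl
      rw [h2, add_zero] at h1
      exact h1.symm
    have hdvd : ∀ μ : ↥(IsLocalRing.maximalIdeal ↥A), (X : PowerSeries k) ^ n ∣ ((μ : ↥A) : PowerSeries k) :=
      fun μ => (CubMono.mem_max_iff n A hmono hn _).mp μ.2
    let ψ : ↥(IsLocalRing.maximalIdeal ↥A) →ₗ[↥A] ↥N :=
      { toFun := fun μ => ⟨x * sh ((μ : ↥A) : PowerSeries k), hmem _⟩
        map_add' := fun μ μ' => by
          apply Subtype.ext
          change x * sh (((μ : ↥A) : PowerSeries k) + ((μ' : ↥A) : PowerSeries k)) =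
            x * sh ((μ : ↥A) : PowerSeries k) + x * sh ((μ' : ↥A) : PowerSeries k)
          rw [← mul_add]
          congr 1
        map_smul' := fun a μ => by
          apply Subtype.ext
          change x * sh ((a : PowerSeries k) * ((μ : ↥A) : PowerSeries k)) =
            (a : PowerSeries k) * (x * sh ((μ : ↥A) : PowerSeries k))
          rw [mul_left_comm]
          congr 1
          apply mul_left_cancel₀ (pow_ne_zero n (X_ne_zero (R := k)))
          rw [hsh _ (Dvd.dvd.mul_left (hdvd μ) _), mul_left_comm, hsh _ (hdvd μ)] }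
    refine ⟨ψ, ?_⟩
    rw [PsiM_apply]
    change x * sh ((X : PowerSeries k) ^ n) = x
    have : sh ((X : PowerSeries k) ^ n) = 1 := by
      apply mul_left_cancel₀ (pow_ne_zero n (X_ne_zero (R := k)))
      rw [hsh _ (dvd_refl _), mul_one]
    rw [this, mul_one]

include hSn hN in
theorem map_PsiM :
    Submodule.map (PsiM n hn A hmono N)
        (LinearMap.range (LinearMap.lcomp ↥A ↥N (Submodule.subtype (IsLocalRing.maximalIdeal ↥A)))) =
      CubMono.monoSub n A hmono (SD n S) (closed_SD hSn) := by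
  ext f
  rw [CubMono.mem_monoSub]
  simp only [Submodule.mem_map, LinearMap.mem_range, exists_exists_eq_and]
  constructor
  · rintro ⟨g, rfl⟩
    have h1 : PsiM n hn A hmono N
        (LinearMap.lcomp ↥A ↥N (Submodule.subtype (IsLocalRing.maximalIdeal ↥A)) g) =
        (X : PowerSeries k) ^ n * ((g 1 : ↥N) : PowerSeries k) := by
      rw [PsiM_apply]
      change ((g (tau n A hmono) : ↥N) : PowerSeries k) = _
      have : g (tau n A hmono) = tau n A hmono • g 1 := by
        rw [← map_smul, smul_eq_mul, mul_one]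
      rw [this]
      rfl
    rw [h1]
    intro e he
    rw [coeff_X_pow_mul'] at he
    split_ifs at he with hle
    · exact ⟨hle, (hN _).mp (g 1).2 _ he⟩
    · exact absurd rfl he
  · intro hf
    have hdvd : (X : PowerSeries k) ^ n ∣ f := by
      rw [X_pow_dvd_iff]
      intro m hm
      by_contra hne
      have := (hf m hne).1
      omega
    obtain ⟨y, rfl⟩ := hdvd
    have hy : y ∈ N := by
      rw [hN]
      intro e he
      have h2 : coeff (e + n) ((X : PowerSeries k) ^ n * y) ≠ 0 := by
        rw [coeff_X_pow_mul' y n (e + n), if_pos (Nat.le_add_left n e), Nat.add_sub_cancel]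
        exact he
      have := (hf _ h2).2
      rwa [Nat.add_sub_cancel] at this
    refine ⟨LinearMap.toSpanSingleton ↥A ↥N ⟨y, hy⟩, ?_⟩
    rw [PsiM_apply]
    rfl

end Max

include hn hmono h0 hSn hN in
theorem main :
    Module.length ↥A (Ext (ModuleCat.of ↥A ↥N) (ModuleCat.of ↥A ↥N) 1) + ((S \ SE S).ncard : ℕ∞) =
      ((S \ CubMono.Gam n).ncard : ℕ∞) * ((SC S \ SD n S).ncard : ℕ∞) := by
  haveI := CubMono.isLocalRing n A hmono
  let A' := CubMono.monoSub n A hmono (CubMono.Gam n) closed_Gam
  let ι := iota A S h0 N hN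
  let p : ↥N →ₗ[↥A] LenFin.SubQ N A' := subQmk N A'
  have hι : Function.Injective ι := by
    intro a a' h
    apply Subtype.ext
    have := congrArg (fun z : ↥N => (z : PowerSeries k)) h
    simpa [ι, iota_apply] using this
  have hp : Function.Surjective p := subQmk_surjective N A'
  have hex : Function.Exact ι p := by
    intro y
    constructor
    · intro hy
      have h1 : (y : PowerSeries k) ∈ A' := (subQmk_eq_zero N A' y).mp hy
      have h2 : (y : PowerSeries k) ∈ A := (CubMono.mem_A_iff n A hmono _).mpr h1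
      refine ⟨⟨_, h2⟩, ?_⟩
      apply Subtype.ext
      rw [iota_apply]
    · rintro ⟨a, rfl⟩
      apply (subQmk_eq_zero N A' _).mpr
      change ((ι a : ↥N) : PowerSeries k) ∈ A'
      rw [iota_apply]
      exact (CubMono.mem_A_iff n A hmono _).mp a.2
  have hvan : ∀ x : Ext (ModuleCat.of ↥A ↥A) (ModuleCat.of ↥A ↥N) 1, x = 0 := by
    intro x
    have hproj : Projective (ModuleCat.of ↥A ↥A) :=
      (IsProjective.iff_projective (R := ↥A) (P := ↥A)).mp inferInstance
    exact Ext.eq_zero_of_projective _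
  have E1 := ExtLen.length_ext_one_of_vanish (R := ↥A) (M₁ := ↥A) (M₂ := ↥N)
    (M₃ := LenFin.SubQ N A') (Y := ↥N) ι p hι hp hex hvan
  have lenQ : Module.length ↥A (LenFin.SubQ N A') = ((S \ CubMono.Gam n).ncard : ℕ∞) :=
    CubMono.length_subquot_mono n A hmono N A' S (CubMono.Gam n) n (fun e he => Or.inr he)
      (Gam_subset h0 hSn) hN (fun f => Iff.rfl)
  haveI : Module.Finite ↥A (LenFin.SubQ N A') := by
    have hfl : IsFiniteLength ↥A (LenFin.SubQ N A') := by
      rw [← Module.length_ne_top_iff, lenQ]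
      exact ENat.coe_ne_top _
    haveI := (isFiniteLength_iff_isNoetherian_isArtinian.mp hfl).1
    infer_instance
  have hQ : ∀ a ∈ IsLocalRing.maximalIdeal ↥A, ∀ q : LenFin.SubQ N A', a • q = 0 := by
    refine subQ_killed N A' _ ?_
    intro a ha y
    change (a : PowerSeries k) * (y : PowerSeries k) ∈ A'
    have hdvd := (CubMono.mem_max_iff n A hmono hn a).mp ha
    exact (CubMono.mem_A_iff n A hmono _).mp
      (CubMono.mem_of_dvd n A hmono (Dvd.dvd.mul_right hdvd _))
  have E2 := ExtLen.length_ext_one_of_killed (IsLocalRing.maximalIdeal ↥A)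
    (Q := LenFin.SubQ N A') (Y := ↥N) hQ
  have F1 := length_quot_eq_subQ (R := ↥A) (M := ↥A →ₗ[↥A] ↥N) (B := PowerSeries k)
    (PsiE A N) (PsiE_injective A N) (LinearMap.range (LinearMap.lcomp ↥A ↥N ι)) N
    (CubMono.monoSub n A hmono (SE S) (closed_SE hSn)) (range_PsiE A N)
    (map_PsiE n A hmono S h0 hSn N hN)
  have F1' := CubMono.length_subquot_mono n A hmono N
    (CubMono.monoSub n A hmono (SE S) (closed_SE hSn)) S (SE S) n (Ici_subset_SE hSn)
    (SE_subset hSn h0) hN (fun f => Iff.rfl)
  have F2 := length_quot_eq_subQ (R := ↥A) (M := ↥(IsLocalRing.maximalIdeal ↥A) →ₗ[↥A] ↥N)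
    (B := PowerSeries k) (PsiM n hn A hmono N) (PsiM_injective n hn A hmono N)
    (LinearMap.range (LinearMap.lcomp ↥A ↥N (Submodule.subtype (IsLocalRing.maximalIdeal ↥A))))
    (CubMono.monoSub n A hmono (SC S) (closed_SC hSn))
    (CubMono.monoSub n A hmono (SD n S) (closed_SD hSn))
    (range_PsiM n hn A hmono S hSn N hN) (map_PsiM n hn A hmono S hSn N hN)
  have F2' := CubMono.length_subquot_mono n A hmono
    (CubMono.monoSub n A hmono (SC S) (closed_SC hSn))
    (CubMono.monoSub n A hmono (SD n S) (closed_SD hSn)) (SC S) (SD n S) (2 * n)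
    (Ici_subset_SD hSn) (SD_subset_SC hSn) (fun f => Iff.rfl) (fun f => Iff.rfl)
  rw [F1'] at F1
  rw [F2'] at F2
  rw [E2, lenQ, F2, F1] at E1
  rw [E1, add_comm]

end Main

end Groth.Agent.H75.CubExt
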