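import Mathlib
import Groth.Agent.H75.CubMono

/-! Spans of monomials over the cubical monomial ring are monomial modules. -/

set_option autoImplicit false
universe u

namespace Groth.Agent.H75.CubMono

open PowerSeries

variable {k : Type u} [Field k] (n : ℕ) (A : Subalgebra k (PowerSeries k))
  (hmono : ∀ f : PowerSeries k, f ∈ A ↔ ∀ m : ℕ, coeff m f ≠ 0 → (m = 0 ∨ n ≤ m))

include hmono in
theorem mem_span_iff (G : Set ℕ) (hG0 : 0 ∈ G) (f : PowerSeries k) :
    f ∈ Submodule.span ↥A ((fun a : ℕ => (X : PowerSeries k) ^ a) '' G) ↔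
      SuppIn (G ∪ Set.Ici n) f := by
  classical
  constructor
  · intro hf
    induction hf using Submodule.span_induction with
    | mem x hx =>
      obtain ⟨g, hg, rfl⟩ := hx
      exact suppIn_X_pow (Or.inl hg)
    | zero => exact suppIn_zero
    | add x y _ _ hx hy => exact suppIn_add hx hy
    | smul a x _ hx =>
      change SuppIn _ ((a : PowerSeries k) * x)
      refine suppIn_mul (S := Gam n) (T := G ∪ Set.Ici n) (U := G ∪ Set.Ici n) ?_
        ((mem_A_iff n A hmono _).mp a.2) hx
      intro p hp q hq
      rcases hp with h | h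
      · subst h
        rwa [zero_add]
      · exact Or.inr (by rw [Set.mem_Ici]; omega)
  · intro hf
    set F := (Finset.range n).filter (· ∈ G) with hF
    set P : PowerSeries k := ∑ g ∈ F, C (coeff g f) * (X : PowerSeries k) ^ g with hP
    have hPmem : P ∈ Submodule.span ↥A ((fun a : ℕ => (X : PowerSeries k) ^ a) '' G) := by
      apply Submodule.sum_mem
      intro g hg
      have hgG : g ∈ G := (Finset.mem_filter.mp hg).2
      have : C (coeff g f) * (X : PowerSeries k) ^ g =
          (algebraMap k ↥A (coeff g f)) • ((X : PowerSeries k) ^ g) := rfl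
      rw [this]
      exact Submodule.smul_mem _ _ (Submodule.subset_span ⟨g, hgG, rfl⟩)
    have hcoeff : ∀ m, coeff m P = if m ∈ F then coeff m f else 0 := by
      intro m
      rw [hP, map_sum]
      simp only [coeff_C_mul_X_pow]
      rw [Finset.sum_ite_eq]
    have hr : (X : PowerSeries k) ^ n ∣ f - P := by
      rw [X_pow_dvd_iff]
      intro m hm
      rw [map_sub, hcoeff]
      by_cases hmF : m ∈ F
      · rw [if_pos hmF, sub_self]
      · rw [if_neg hmF, sub_zero]
        by_contra hne
        rcases hf m hne with h | h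
        · exact hmF (Finset.mem_filter.mpr ⟨Finset.mem_range.mpr hm, h⟩)
        · rw [Set.mem_Ici] at h
          omega
    have hrA : f - P ∈ A := mem_of_dvd n A hmono hr
    have hrmem : f - P ∈ Submodule.span ↥A ((fun a : ℕ => (X : PowerSeries k) ^ a) '' G) := by
      have : f - P = (⟨f - P, hrA⟩ : ↥A) • ((X : PowerSeries k) ^ 0) := by
        change f - P = (f - P) * (X : PowerSeries k) ^ 0
        rw [pow_zero, mul_one]
      rw [this]
      exact Submodule.smul_mem _ _ (Submodule.subset_span ⟨0, hG0, rfl⟩)
    have : f = P + (f - P) := by ring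
    rw [this]
    exact Submodule.add_mem _ hPmem hrmem

end Groth.Agent.H75.CubMono
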