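import Mathlib

/-! The affine curve `Spec A` attached to a curve singularity ring `R ⊆ k⟦x⟧^s`:
`A = R ∩ k[x]^s`. -/

set_option autoImplicit false
universe u

namespace Groth.Agent.H75.CurveFromSing

open Polynomial

/-- `k[x]^s` is a `k`-algebra of finite type -/
theorem finiteType_pi (k : Type u) [Field k] (s : ℕ) :
    Algebra.FiniteType k (Fin s → Polynomial k) := by
  classical
  refine ⟨⟨Finset.image (fun i : Fin s => (Pi.single i 1 : Fin s → Polynomial k)) Finset.univ ∪
    Finset.image (fun i : Fin s => (Pi.single i X : Fin s → Polynomial k)) Finset.univ, ?_⟩⟩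
  rw [eq_top_iff]
  intro p _
  set G : Set (Fin s → Polynomial k) :=
    ↑(Finset.image (fun i : Fin s => (Pi.single i 1 : Fin s → Polynomial k)) Finset.univ ∪
    Finset.image (fun i : Fin s => (Pi.single i X : Fin s → Polynomial k)) Finset.univ) with hG
  have h1 : ∀ i : Fin s, (Pi.single i 1 : Fin s → Polynomial k) ∈ Algebra.adjoin k G := by
    intro i
    apply Algebra.subset_adjoin
    rw [hG]
    simp
  have hX : ∀ i : Fin s, (Pi.single i X : Fin s → Polynomial k) ∈ Algebra.adjoin k G := by
    intro i
    apply Algebra.subset_adjoin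
    rw [hG]
    simp
  have hsingle : ∀ (i : Fin s) (q : Polynomial k),
      (Pi.single i q : Fin s → Polynomial k) ∈ Algebra.adjoin k G := by
    intro i q
    induction q using Polynomial.induction_on' with
    | add q₁ q₂ h₁ h₂ =>
      rw [Pi.single_add]
      exact Subalgebra.add_mem _ h₁ h₂
    | monomial n a =>
      have : (Pi.single i (monomial n a) : Fin s → Polynomial k) =
          a • ((Pi.single i X : Fin s → Polynomial k) ^ n * Pi.single i 1) := by
        funext j
        by_cases hj : j = i
        · subst hj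
          simp only [Pi.single_eq_same, Pi.smul_apply, Pi.mul_apply, Pi.pow_apply, mul_one]
          rw [← C_mul_X_pow_eq_monomial, Polynomial.smul_eq_C_mul]
        · simp only [Pi.single_eq_of_ne hj, Pi.smul_apply, Pi.mul_apply, Pi.pow_apply, mul_zero,
            smul_zero]
      rw [this]
      exact Subalgebra.smul_mem _ (Subalgebra.mul_mem _ (Subalgebra.pow_mem _ (hX i) n) (h1 i)) a
  have hp : p = ∑ i : Fin s, (Pi.single i (p i) : Fin s → Polynomial k) := by
    funext j
    rw [Finset.sum_apply]
    simp [Pi.single_apply]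
  rw [hp]
  exact Subalgebra.sum_mem _ (fun i _ => hsingle i (p i))

section Main

variable {k : Type u} [Field k] {s : ℕ}
  (R : Subalgebra k (Fin s → PowerSeries k))
  (c : Fin s → ℕ)
  (hc : ∀ f : Fin s → PowerSeries k,
    (∀ g : Fin s → PowerSeries k, g * f ∈ R) ↔ ∀ i, ((c i : ℕ) : ℕ∞) ≤ (f i).order)
  (A : Subalgebra k (Fin s → Polynomial k))
  (hA : ∀ g : Fin s → Polynomial k, g ∈ A ↔ (fun i => ((g i : Polynomial k) : PowerSeries k)) ∈ R)

include hc in
/-- tuples of power series of high order lie in `R` -/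
theorem mem_R_of_order (f : Fin s → PowerSeries k)
    (hf : ∀ i, ((c i : ℕ) : ℕ∞) ≤ (f i).order) : f ∈ R := by
  have := (hc f).mpr hf 1
  rwa [one_mul] at this

/-- the bound `M₀` -/
def M0 (c : Fin s → ℕ) : ℕ := (∑ i, c i) + 1

theorem c_le_M0 (i : Fin s) : c i ≤ M0 c := by
  have : c i ≤ ∑ j, c j := Finset.single_le_sum (f := c) (fun _ _ => Nat.zero_le _) (Finset.mem_univ i)
  unfold M0
  omega

theorem M0_pos : 0 < M0 c := Nat.succ_pos _

include hc hA in
/-- tuples of polynomials divisible by `x^{c_i}` lie in `A` -/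
theorem mem_A_of_dvd (g : Fin s → Polynomial k) (hg : ∀ i, (X : Polynomial k) ^ (c i) ∣ g i) :
    g ∈ A := by
  rw [hA]
  apply mem_R_of_order R c hc
  intro i
  apply PowerSeries.nat_le_order
  intro n hn
  rw [Polynomial.coeff_coe]
  exact (Polynomial.X_pow_dvd_iff.mp (hg i)) n hn

include hc hA in
theorem mem_A_of_dvd_M0 (n : ℕ) (hn : M0 c ≤ n) (g : Fin s → Polynomial k)
    (hg : ∀ i, (X : Polynomial k) ^ n ∣ g i) : g ∈ A :=
  mem_A_of_dvd R c hc A hA g (fun i => dvd_trans (pow_dvd_pow _ (le_trans (c_le_M0 c i) hn)) (hg i))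

include hc hA in
/-- `k[x]^s` is a finite `A`-module -/
theorem finite_pi : Module.Finite ↥A (Fin s → Polynomial k) := by
  classical
  refine ⟨⟨insert (1 : Fin s → Polynomial k)
    (Finset.image (fun ij : Fin s × Fin (M0 c) =>
      (Pi.single ij.1 (X ^ (ij.2 : ℕ)) : Fin s → Polynomial k)) Finset.univ), ?_⟩⟩
  rw [eq_top_iff]
  intro p _
  set G : Set (Fin s → Polynomial k) := ↑(insert (1 : Fin s → Polynomial k)
    (Finset.image (fun ij : Fin s × Fin (M0 c) =>
      (Pi.single ij.1 (X ^ (ij.2 : ℕ)) : Fin s → Polynomial k)) Finset.univ)) with hG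
  have h1 : (1 : Fin s → Polynomial k) ∈ Submodule.span ↥A G := by
    apply Submodule.subset_span
    rw [hG]
    simp
  have hX : ∀ (i : Fin s) (j : Fin (M0 c)),
      (Pi.single i (X ^ (j : ℕ)) : Fin s → Polynomial k) ∈ Submodule.span ↥A G := by
    intro i j
    apply Submodule.subset_span
    rw [hG]
    simp only [Finset.coe_insert, Finset.coe_image, Finset.coe_univ, Set.image_univ,
      Set.mem_insert_iff, Set.mem_range, Prod.exists]
    right
    exact ⟨i, j, rfl⟩
  -- the low-degree part
  set r : Fin s → Polynomial k := ∑ i : Fin s, ∑ j : Fin (M0 c),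
    (algebraMap k ↥A ((p i).coeff (j : ℕ))) • (Pi.single i (X ^ (j : ℕ)) : Fin s → Polynomial k)
    with hr
  have hrmem : r ∈ Submodule.span ↥A G :=
    Submodule.sum_mem _ (fun i _ => Submodule.sum_mem _ (fun j _ => Submodule.smul_mem _ _ (hX i j)))
  have hrapp : ∀ i : Fin s, r i = ∑ j : Fin (M0 c), C ((p i).coeff (j : ℕ)) * X ^ (j : ℕ) := by
    intro i
    rw [hr, Finset.sum_apply]
    rw [Finset.sum_eq_single i]
    · rw [Finset.sum_apply]
      apply Finset.sum_congr rfl
      intro j _
      change (algebraMap k (Fin s → Polynomial k) ((p i).coeff (j : ℕ)) *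
        (Pi.single i (X ^ (j : ℕ)) : Fin s → Polynomial k)) i = _
      rw [Pi.mul_apply, Pi.single_eq_same]
      rfl
    · intro i' _ hi'
      rw [Finset.sum_apply]
      apply Finset.sum_eq_zero
      intro j _
      change (algebraMap k (Fin s → Polynomial k) ((p i').coeff (j : ℕ)) *
        (Pi.single i' (X ^ (j : ℕ)) : Fin s → Polynomial k)) i = _
      rw [Pi.mul_apply, Pi.single_eq_of_ne (Ne.symm hi'), mul_zero]
    · intro h
      exact absurd (Finset.mem_univ i) h
  -- the high-degree part lies in `A`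
  have hhigh : p - r ∈ A := by
    apply mem_A_of_dvd_M0 R c hc A hA (M0 c) le_rfl
    intro i
    rw [Polynomial.X_pow_dvd_iff]
    intro d hd
    rw [Pi.sub_apply, hrapp i, Polynomial.coeff_sub, Polynomial.finsetSum_coeff]
    rw [Finset.sum_eq_single (⟨d, hd⟩ : Fin (M0 c))]
    · simp
    · intro j _ hj
      rw [Polynomial.coeff_C_mul, Polynomial.coeff_X_pow, if_neg, mul_zero]
      intro hdj
      apply hj
      apply Fin.ext
      exact hdj.symm
    · intro h
      exact absurd (Finset.mem_univ _) h
  have hsplit : p = (⟨p - r, hhigh⟩ : ↥A) • (1 : Fin s → Polynomial k) + r := by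
    change p = (p - r) * 1 + r
    rw [mul_one, sub_add_cancel]
  rw [hsplit]
  exact Submodule.add_mem _ (Submodule.smul_mem _ _ h1) hrmem

include hc hA in
/-- `A` is of finite type over `k` (Artin–Tate) -/
theorem finiteType_A : Algebra.FiniteType k ↥A := by
  refine ⟨fg_of_fg_of_fg k ↥A (Fin s → Polynomial k) (finiteType_pi k s).out
    (finite_pi R c hc A hA).fg_top ?_⟩
  exact Subtype.val_injective

include hA in
/-- `A` has no idempotents besides `0` and `1` -/
theorem idem
    (hloc : ∀ f ∈ R, ∀ i j : Fin s,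
      PowerSeries.constantCoeff (f i) = PowerSeries.constantCoeff (f j))
    (e : Fin s → Polynomial k) (he : e ∈ A) (hee : e * e = e) : e = 0 ∨ e = 1 := by
  have hcomp : ∀ i, e i = 0 ∨ e i = 1 := by
    intro i
    have h := congrFun hee i
    rw [Pi.mul_apply] at h
    have h' : e i * (e i - 1) = 0 := by rw [mul_sub, h, mul_one, sub_self]
    rcases mul_eq_zero.mp h' with h0 | h1
    · exact Or.inl h0
    · exact Or.inr (sub_eq_zero.mp h1)
  have hconst : ∀ i j, (e i).coeff 0 = (e j).coeff 0 := by
    intro i j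
    have := hloc _ ((hA e).mp he) i j
    rwa [Polynomial.constantCoeff_coe, Polynomial.constantCoeff_coe] at this
  by_cases h0 : ∀ i, e i = 0
  · left
    funext i
    exact h0 i
  · right
    rw [not_forall] at h0
    obtain ⟨i₀, hi₀⟩ := h0
    have h1 : e i₀ = 1 := (hcomp i₀).resolve_left hi₀
    funext j
    rcases hcomp j with hj | hj
    · exfalso
      have := hconst i₀ j
      rw [h1, hj] at this
      simp at this
    · exact hj

include hc hA in
/-- products of `M₀` elements with zero constant terms multiply everything into `A` -/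
theorem prod_mem (g : Fin (M0 c) → (Fin s → Polynomial k))
    (hg : ∀ n, g n ∈ A ∧ ∀ i, (g n i).coeff 0 = 0) (p : Fin s → Polynomial k) :
    p * ∏ n, g n ∈ A := by
  apply mem_A_of_dvd_M0 R c hc A hA (M0 c) le_rfl
  intro i
  rw [Pi.mul_apply, Finset.prod_apply]
  apply Dvd.dvd.mul_left
  have h1 : ∏ _n : Fin (M0 c), (X : Polynomial k) ∣ ∏ n, g n i :=
    Finset.prod_dvd_prod_of_dvd _ _ (fun n _ => Polynomial.X_dvd_iff.mpr ((hg n).2 i))
  rwa [Finset.prod_const, Finset.card_univ, Fintype.card_fin] at h1

include hc hA in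
/-- elements of `R` are approximated by elements of `A` -/
theorem approx (f : Fin s → PowerSeries k) (hf : f ∈ R) (N : ℕ) :
    ∃ g ∈ A, ∀ i : Fin s,
      (N : ℕ∞) ≤ (f i - ((g i : Polynomial k) : PowerSeries k)).order := by
  set g : Fin s → Polynomial k := fun i => PowerSeries.trunc (N + M0 c) (f i) with hg
  have hord : ∀ i, ((N + M0 c : ℕ) : ℕ∞) ≤
      (f i - ((g i : Polynomial k) : PowerSeries k)).order := by
    intro i
    apply PowerSeries.nat_le_order
    intro n hn
    rw [map_sub, Polynomial.coeff_coe, hg]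
    simp only [PowerSeries.coeff_trunc, if_pos hn, sub_self]
  have hdiff : (fun i => f i - ((g i : Polynomial k) : PowerSeries k)) ∈ R := by
    apply mem_R_of_order R c hc
    intro i
    refine le_trans ?_ (hord i)
    exact_mod_cast le_trans (c_le_M0 c i) (Nat.le_add_left _ _)
  refine ⟨g, ?_, ?_⟩
  · rw [hA]
    have := R.sub_mem hf hdiff
    have heq : f - (fun i => f i - ((g i : Polynomial k) : PowerSeries k)) =
        fun i => ((g i : Polynomial k) : PowerSeries k) := by
      funext i
      simp
    rwa [heq] at this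
  · intro i
    refine le_trans ?_ (hord i)
    exact_mod_cast Nat.le_add_right _ _

include hc hA in
/-- elements of `A` divisible by a high power of `x` lie in a high power of `m₀` -/
theorem mem_pow (N : ℕ) : ∀ g : ↥A,
    (∀ i : Fin s, (X : Polynomial k) ^ (N * M0 c) ∣ (g : Fin s → Polynomial k) i) →
    g ∈ (Ideal.span {h : ↥A | ∀ i : Fin s, ((h : Fin s → Polynomial k) i).coeff 0 = 0}) ^ N := by
  induction N with
  | zero =>
    intro g _
    rw [pow_zero, Ideal.one_eq_top]
    trivial
  | succ N ih =>
    intro g hg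
    choose q hq using hg
    -- the element `u = (x^{M₀}, …, x^{M₀})`
    have hu : (fun _ : Fin s => (X : Polynomial k) ^ (M0 c)) ∈ A :=
      mem_A_of_dvd_M0 R c hc A hA (M0 c) le_rfl _ (fun _ => dvd_refl _)
    have hum : (⟨_, hu⟩ : ↥A) ∈
        Ideal.span {h : ↥A | ∀ i : Fin s, ((h : Fin s → Polynomial k) i).coeff 0 = 0} := by
      apply Ideal.subset_span
      intro i
      change ((X : Polynomial k) ^ (M0 c)).coeff 0 = 0
      rw [Polynomial.coeff_X_pow, if_neg]
      exact (M0_pos c).ne
    by_cases hN : N = 0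
    · subst hN
      rw [zero_add, pow_one]
      apply Ideal.subset_span
      intro i
      rw [hq i]
      rw [Polynomial.mul_coeff_zero, Polynomial.coeff_X_pow, if_neg, zero_mul]
      have := M0_pos c
      omega
    · -- `h = (x^{N M₀} q_i)`
      have hh : (fun i : Fin s => (X : Polynomial k) ^ (N * M0 c) * q i) ∈ A := by
        apply mem_A_of_dvd_M0 R c hc A hA (N * M0 c)
        · have : 1 ≤ N := Nat.one_le_iff_ne_zero.mpr hN
          calc M0 c = 1 * M0 c := (one_mul _).symm
            _ ≤ N * M0 c := Nat.mul_le_mul_right _ this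
        · intro i
          exact dvd_mul_right _ _
      have hhm := ih ⟨_, hh⟩ (fun i => dvd_mul_right _ _)
      have hgeq : g = (⟨_, hu⟩ : ↥A) * ⟨_, hh⟩ := by
        apply Subtype.ext
        funext i
        change (g : Fin s → Polynomial k) i =
          (X : Polynomial k) ^ (M0 c) * ((X : Polynomial k) ^ (N * M0 c) * q i)
        rw [hq i, ← mul_assoc, ← pow_add]
        congr 2
        ring
      rw [hgeq, pow_succ']
      exact Ideal.mul_mem_mul hum hhm

end Main

end Groth.Agent.H75.CurveFromSing
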