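import Mathlib

set_option autoImplicit false
universe u

namespace Groth.Agent.H75

open MvPowerSeries

section

variable {k : Type u} [Field k] {σ : Type}

/-- coefficientwise application of a `k`-algebra map, as a map of `k[[z]]`-algebras -/
noncomputable def mapAlg {B C : Type u} [CommRing B] [CommRing C] [Algebra k B] [Algebra k C]
    (h : B →ₐ[k] C) : MvPowerSeries σ B →ₐ[MvPowerSeries σ k] MvPowerSeries σ C :=
  { MvPowerSeries.map (σ := σ) (h : B →+* C) with
    commutes' := by
      intro l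
      show MvPowerSeries.map (σ := σ) (h : B →+* C) (MvPowerSeries.map (algebraMap k B) l)
        = MvPowerSeries.map (algebraMap k C) l
      rw [← RingHom.comp_apply, ← MvPowerSeries.map_comp]
      congr 2
      exact h.comp_algebraMap }

theorem mapAlg_apply {B C : Type u} [CommRing B] [CommRing C] [Algebra k B] [Algebra k C]
    (h : B →ₐ[k] C) (f : MvPowerSeries σ B) :
    mapAlg (σ := σ) h f = MvPowerSeries.map (h : B →+* C) f := rfl

variable {R : Type u} [CommRing R] [Algebra (MvPowerSeries σ k) R] (S : Set R)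

/-- the generic power series attached to a generator -/
noncomputable def genSeries (s : S) : MvPowerSeries σ (MvPolynomial (S × (σ →₀ ℕ)) k) :=
  fun α => MvPolynomial.X (s, α)

theorem coeff_genSeries (s : S) (α : σ →₀ ℕ) :
    MvPowerSeries.coeff α (genSeries (k := k) S s) = MvPolynomial.X (s, α) := rfl

/-- the generic map on the polynomial ring over `k[[z]]` -/
noncomputable def Psi0 : MvPolynomial S (MvPowerSeries σ k) →ₐ[MvPowerSeries σ k]
    MvPowerSeries σ (MvPolynomial (S × (σ →₀ ℕ)) k) :=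
  MvPolynomial.aeval (genSeries S)

/-- the presentation of `R` -/
noncomputable def piR : MvPolynomial S (MvPowerSeries σ k) →ₐ[MvPowerSeries σ k] R :=
  MvPolynomial.aeval (fun s : S => (s : R))

theorem piR_surjective (hS : Algebra.adjoin (MvPowerSeries σ k) S = ⊤) :
    Function.Surjective (piR (k := k) (σ := σ) S) := by
  rw [← AlgHom.range_eq_top, piR, ← Algebra.adjoin_range_eq_range_aeval, Subtype.range_coe, hS]

/-- the relations -/
noncomputable def relIdeal : Ideal (MvPolynomial (S × (σ →₀ ℕ)) k) :=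
  Ideal.span {p | ∃ j ∈ RingHom.ker (piR (k := k) (σ := σ) S), ∃ α : σ →₀ ℕ,
    p = MvPowerSeries.coeff α (Psi0 S j)}

/-- the corepresenting algebra -/
abbrev PAlg : Type u := MvPolynomial (S × (σ →₀ ℕ)) k ⧸ relIdeal (k := k) (σ := σ) S

/-- the generic map to `P[[z]]` -/
noncomputable def Psi : MvPolynomial S (MvPowerSeries σ k) →ₐ[MvPowerSeries σ k]
    MvPowerSeries σ (PAlg (k := k) (σ := σ) S) :=
  (mapAlg (Ideal.Quotient.mkₐ k (relIdeal (k := k) (σ := σ) S))).comp (Psi0 S)

theorem Psi_ker (j : MvPolynomial S (MvPowerSeries σ k))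
    (hj : j ∈ RingHom.ker (piR (k := k) (σ := σ) S)) : Psi S j = 0 := by
  ext α
  rw [Psi, AlgHom.comp_apply, mapAlg_apply, MvPowerSeries.coeff_map, map_zero]
  show Ideal.Quotient.mk _ _ = 0
  rw [Ideal.Quotient.eq_zero_iff_mem]
  exact Ideal.subset_span ⟨j, hj, α, rfl⟩

/-- the universal family -/
noncomputable def univMap (hS : Algebra.adjoin (MvPowerSeries σ k) S = ⊤) :
    R →ₐ[MvPowerSeries σ k] MvPowerSeries σ (PAlg (k := k) (σ := σ) S) :=
  AlgHom.liftOfSurjective (piR S) (piR_surjective S hS) (Psi S) (fun j hj => Psi_ker S j hj)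

theorem univMap_piR (hS : Algebra.adjoin (MvPowerSeries σ k) S = ⊤)
    (t : MvPolynomial S (MvPowerSeries σ k)) : univMap S hS (piR S t) = Psi S t :=
  AlgHom.liftOfSurjective_apply _ _ _ _ t

theorem coeff_univMap_gen (hS : Algebra.adjoin (MvPowerSeries σ k) S = ⊤) (s : S)
    (α : σ →₀ ℕ) :
    MvPowerSeries.coeff α (univMap S hS (s : R))
      = Ideal.Quotient.mk (relIdeal (k := k) (σ := σ) S) (MvPolynomial.X (s, α)) := by
  have h1 : (s : R) = piR (k := k) (σ := σ) S (MvPolynomial.X s) := by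
    rw [piR, MvPolynomial.aeval_X]
  rw [h1, univMap_piR, Psi, AlgHom.comp_apply, Psi0, MvPolynomial.aeval_X, mapAlg_apply,
    MvPowerSeries.coeff_map, coeff_genSeries]
  rfl

/-- the classifying map on the polynomial ring -/
noncomputable def classify0 {Q : Type u} [CommRing Q] [Algebra k Q]
    (f : R →ₐ[MvPowerSeries σ k] MvPowerSeries σ Q) :
    MvPolynomial (S × (σ →₀ ℕ)) k →ₐ[k] Q :=
  MvPolynomial.aeval (fun p : S × (σ →₀ ℕ) => MvPowerSeries.coeff p.2 (f (p.1 : R)))

theorem mapAlg_classify0_comp {Q : Type u} [CommRing Q] [Algebra k Q]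
    (f : R →ₐ[MvPowerSeries σ k] MvPowerSeries σ Q) :
    (mapAlg (σ := σ) (classify0 S f)).comp (Psi0 S) = f.comp (piR S) := by
  apply MvPolynomial.algHom_ext
  intro s
  rw [AlgHom.comp_apply, AlgHom.comp_apply, Psi0, piR, MvPolynomial.aeval_X, MvPolynomial.aeval_X]
  ext α
  rw [mapAlg_apply, MvPowerSeries.coeff_map, coeff_genSeries]
  show classify0 S f (MvPolynomial.X (s, α)) = _
  rw [classify0, MvPolynomial.aeval_X]

theorem classify0_relIdeal {Q : Type u} [CommRing Q] [Algebra k Q]
    (f : R →ₐ[MvPowerSeries σ k] MvPowerSeries σ Q) :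
    ∀ p ∈ relIdeal (k := k) (σ := σ) S, classify0 S f p = 0 := by
  intro p hp
  have hle : relIdeal (k := k) (σ := σ) S ≤ RingHom.ker (classify0 S f : _ →+* Q) := by
    rw [relIdeal, Ideal.span_le]
    rintro _ ⟨j, hj, α, rfl⟩
    rw [SetLike.mem_coe, RingHom.mem_ker]
    show classify0 S f (MvPowerSeries.coeff α (Psi0 S j)) = 0
    have h1 : classify0 S f (MvPowerSeries.coeff α (Psi0 S j))
        = MvPowerSeries.coeff α (mapAlg (σ := σ) (classify0 S f) (Psi0 S j)) := by
      rw [mapAlg_apply, MvPowerSeries.coeff_map]; rfl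
    have h2 := AlgHom.congr_fun (mapAlg_classify0_comp S f) j
    rw [AlgHom.comp_apply, AlgHom.comp_apply] at h2
    rw [h1, h2, RingHom.mem_ker.mp hj, map_zero, map_zero]
  exact hle hp

/-- the classifying map -/
noncomputable def classify {Q : Type u} [CommRing Q] [Algebra k Q]
    (f : R →ₐ[MvPowerSeries σ k] MvPowerSeries σ Q) : PAlg (k := k) (σ := σ) S →ₐ[k] Q :=
  Ideal.Quotient.liftₐ (relIdeal S) (classify0 S f) (classify0_relIdeal S f)

theorem classify_mk {Q : Type u} [CommRing Q] [Algebra k Q]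
    (f : R →ₐ[MvPowerSeries σ k] MvPowerSeries σ Q) (p : MvPolynomial (S × (σ →₀ ℕ)) k) :
    classify S f (Ideal.Quotient.mk _ p) = classify0 S f p := rfl

theorem map_classify_univMap (hS : Algebra.adjoin (MvPowerSeries σ k) S = ⊤)
    {Q : Type u} [CommRing Q] [Algebra k Q]
    (f : R →ₐ[MvPowerSeries σ k] MvPowerSeries σ Q) (r : R) :
    MvPowerSeries.map (σ := σ) (classify S f : PAlg (k := k) (σ := σ) S →+* Q) (univMap S hS r)
      = f r := by
  obtain ⟨t, rfl⟩ := piR_surjective S hS r
  rw [univMap_piR, Psi, AlgHom.comp_apply, mapAlg_apply, ← RingHom.comp_apply,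
    ← MvPowerSeries.map_comp]
  have h2 := AlgHom.congr_fun (mapAlg_classify0_comp S f) t
  rw [AlgHom.comp_apply, AlgHom.comp_apply, mapAlg_apply] at h2
  rw [← h2]
  rfl

theorem classify_unique (hS : Algebra.adjoin (MvPowerSeries σ k) S = ⊤)
    {Q : Type u} [CommRing Q] [Algebra k Q]
    (f : R →ₐ[MvPowerSeries σ k] MvPowerSeries σ Q)
    (g' : PAlg (k := k) (σ := σ) S →ₐ[k] Q)
    (hg' : ∀ r : R, MvPowerSeries.map (σ := σ) (g' : PAlg (k := k) (σ := σ) S →+* Q)
      (univMap S hS r) = f r) : g' = classify S f := by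
  apply Ideal.Quotient.algHom_ext
  apply MvPolynomial.algHom_ext
  rintro ⟨s, α⟩
  show g' (Ideal.Quotient.mk _ (MvPolynomial.X (s, α)))
    = classify S f (Ideal.Quotient.mk _ (MvPolynomial.X (s, α)))
  rw [classify_mk, classify0, MvPolynomial.aeval_X, ← coeff_univMap_gen S hS s α]
  have := congrArg (MvPowerSeries.coeff α) (hg' (s : R))
  rw [MvPowerSeries.coeff_map] at this
  exact this

theorem exists_countable_gen [Countable σ] (hc : S.Countable) :
    ∃ t : Set (PAlg (k := k) (σ := σ) S), t.Countable ∧ Algebra.adjoin k t = ⊤ := by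
  have : Countable S := hc.to_subtype
  refine ⟨Set.range (fun p : S × (σ →₀ ℕ) =>
    Ideal.Quotient.mkₐ k (relIdeal (k := k) (σ := σ) S) (MvPolynomial.X p)),
    Set.countable_range _, ?_⟩
  have h1 : Set.range (fun p : S × (σ →₀ ℕ) =>
      Ideal.Quotient.mkₐ k (relIdeal (k := k) (σ := σ) S) (MvPolynomial.X p))
      = (Ideal.Quotient.mkₐ k (relIdeal (k := k) (σ := σ) S)) ''
        (Set.range (MvPolynomial.X : S × (σ →₀ ℕ) → MvPolynomial (S × (σ →₀ ℕ)) k)) := by
    rw [← Set.range_comp]; rfl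
  rw [h1, ← AlgHom.map_adjoin, MvPolynomial.adjoin_range_X, Algebra.map_top,
    AlgHom.range_eq_top]
  exact Ideal.Quotient.mkₐ_surjective k _

theorem corepresentable_of_gen [Countable σ] (hS : Algebra.adjoin (MvPowerSeries σ k) S = ⊤) :
    ∃ (P : Type u) (_ : CommRing P) (_ : Algebra k P)
      (u : R →ₐ[MvPowerSeries σ k] MvPowerSeries σ P),
      (∀ (Q : Type u) [CommRing Q] [Algebra k Q]
          (f : R →ₐ[MvPowerSeries σ k] MvPowerSeries σ Q),
          ∃! g : P →ₐ[k] Q,
            (MvPowerSeries.map (σ := σ) (g : P →+* Q)).comp (u : R →+* MvPowerSeries σ P) =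
              (f : R →+* MvPowerSeries σ Q)) ∧
      (S.Countable → ∃ t : Set P, t.Countable ∧ Algebra.adjoin k t = ⊤) := by
  refine ⟨PAlg (k := k) (σ := σ) S, inferInstance, inferInstance, univMap S hS, ?_, ?_⟩
  · intro Q _ _ f
    refine ⟨classify S f, ?_, ?_⟩
    · ext r : 1
      exact map_classify_univMap S hS f r
    · intro g' hg'
      apply classify_unique S hS f g'
      intro r
      exact RingHom.congr_fun hg' r
  · exact exists_countable_gen S

end

end Groth.Agent.H75
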