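import Mathlib

set_option autoImplicit false
universe u

namespace Groth.Agent.H75

open TensorProduct

/-- a non-torsion element of a finitely generated module over a domain is detected by a
linear form -/
theorem exists_dual_ne_zero {A : Type u} [CommRing A] [IsDomain A] {Q : Type u} [AddCommGroup Q]
    [Module A Q] [Module.Finite A Q] (q : Q) (hq : q ∉ Submodule.torsion A Q) :
    ∃ ψ : Q →ₗ[A] A, ψ q ≠ 0 := by
  classical
  let K := FractionRing A
  let f : Q →ₗ[A] K ⊗[A] Q := TensorProduct.mk A K Q 1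
  have hfq : f q ≠ 0 := by
    intro h0
    obtain ⟨s, hs⟩ := (IsLocalizedModule.eq_zero_iff (nonZeroDivisors A) f).mp h0
    exact hq ((Submodule.mem_torsion_iff q).mpr ⟨s, hs⟩)
  obtain ⟨l, hl⟩ : ∃ l : Module.Dual K (K ⊗[A] Q), l (f q) ≠ 0 := by
    by_contra hno
    push Not at hno
    exact hfq ((Module.forall_dual_apply_eq_zero_iff K (f q)).mp hno)
  obtain ⟨S, hS⟩ := (Module.finite_def.mp (inferInstance : Module.Finite A Q))
  obtain ⟨b, hb⟩ := IsLocalization.exist_integer_multiples_of_finset (nonZeroDivisors A)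
    (S.image (fun x => l (f x)))
  let ψ₀ : Q →ₗ[A] K := (b : A) • ((l.restrictScalars A) ∘ₗ f)
  have hψ₀ : ∀ x, ψ₀ x = (b : A) • l (f x) := fun x => rfl
  have hrange : ∀ x : Q, ψ₀ x ∈ LinearMap.range (Algebra.linearMap A K) := by
    intro x
    have hx : x ∈ Submodule.span A (S : Set Q) := by rw [hS]; trivial
    induction hx using Submodule.span_induction with
    | mem y hy =>
      obtain ⟨c, hc⟩ := hb (l (f y)) (Finset.mem_image_of_mem _ hy)
      exact ⟨c, by rw [hψ₀]; exact hc⟩
    | zero => simp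
    | add y z _ _ hy hz => rw [map_add]; exact Submodule.add_mem _ hy hz
    | smul r y _ hy => rw [map_smul]; exact Submodule.smul_mem _ r hy
  have hinj : Function.Injective (Algebra.linearMap A K) := IsFractionRing.injective A K
  let e := LinearEquiv.ofInjective (Algebra.linearMap A K) hinj
  let ψ : Q →ₗ[A] A := e.symm.toLinearMap ∘ₗ (ψ₀.codRestrict _ hrange)
  refine ⟨ψ, ?_⟩
  intro h0
  have h1 : Algebra.linearMap A K (ψ q) = ψ₀ q := by
    have : e (ψ q) = ψ₀.codRestrict _ hrange q := by
      simp [ψ]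
    have h2 := congrArg Subtype.val this
    simpa [e] using h2
  rw [h0, map_zero, hψ₀] at h1
  have hb0 : (b : A) ≠ 0 := nonZeroDivisors.ne_zero b.2
  have : (b : A) • l (f q) ≠ 0 := by
    rw [Algebra.smul_def]
    exact mul_ne_zero (fun h => hb0 (hinj (by rw [Algebra.linearMap_apply, h, map_zero]))) hl
  exact this h1.symm

end Groth.Agent.H75
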