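import Mathlib
import Groth.Agent.H75.ExtLen

/-! Length inequalities for `Ext¹` from the long exact sequence. -/

set_option autoImplicit false
universe u

namespace Groth.Agent.H75.ExtLen

open CategoryTheory Abelian

variable {R : Type u} [CommRing R]
  {M₁ M₂ M₃ Y : Type u} [AddCommGroup M₁] [Module R M₁] [AddCommGroup M₂] [Module R M₂]
  [AddCommGroup M₃] [Module R M₃] [AddCommGroup Y] [Module R Y]

/-- `len Ext¹(M₂) ≤ len Ext¹(M₃) + len Ext¹(M₁)` -/
theorem length_ext_one_le (i : M₁ →ₗ[R] M₂) (p : M₂ →ₗ[R] M₃) (hi : Function.Injective i)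
    (hp : Function.Surjective p) (hip : Function.Exact i p) :
    Module.length R (Ext (ModuleCat.of R M₂) (ModuleCat.of R Y) 1) ≤
      Module.length R (Ext (ModuleCat.of R M₃) (ModuleCat.of R Y) 1) +
        Module.length R (Ext (ModuleCat.of R M₁) (ModuleCat.of R Y) 1) := by
  have hS := Canon.shortExact_of i p hi hp hip
  set π := precompL (ModuleCat.ofHom p) (ModuleCat.of R Y) 1 with hπ
  set ρ := precompL (ModuleCat.ofHom i) (ModuleCat.of R Y) 1 with hρ
  have hker : LinearMap.ker ρ ≤ LinearMap.range π := by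
    intro x₂ hx₂
    have h1 : (Ext.mk₀ (ModuleCat.ofHom i)).comp x₂ (zero_add 1) = 0 := hx₂
    obtain ⟨x₃, hx₃⟩ := Ext.contravariant_sequence_exact₂ hS _ x₂ h1
    exact ⟨x₃, hx₃⟩
  have h1 : Module.length R (Ext (ModuleCat.of R M₂) (ModuleCat.of R Y) 1) =
      Module.length R (LinearMap.ker ρ) + Module.length R (LinearMap.range ρ) :=
    Module.length_eq_add_of_exact (LinearMap.ker ρ).subtype ρ.rangeRestrict
      (Submodule.subtype_injective _) (LinearMap.surjective_rangeRestrict ρ) (by
        intro x
        constructor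
        · intro hx
          have : ρ x = 0 := congrArg Subtype.val hx
          exact ⟨⟨x, this⟩, rfl⟩
        · rintro ⟨y, rfl⟩
          apply Subtype.ext
          exact y.2)
  rw [h1]
  refine add_le_add ?_ ?_
  · calc Module.length R (LinearMap.ker ρ) ≤ Module.length R (LinearMap.range π) :=
        Module.length_le_of_injective (Submodule.inclusion hker) (Submodule.inclusion_injective hker)
      _ ≤ _ := Module.length_le_of_surjective π.rangeRestrict (LinearMap.surjective_rangeRestrict π)
  · exact Module.length_le_of_injective (LinearMap.range ρ).subtype (Submodule.subtype_injective _)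

/-- if every map `M₁ → Y` extends to `M₂`, then `len Ext¹(M₃) ≤ len Ext¹(M₂)` -/
theorem length_ext_one_ge (i : M₁ →ₗ[R] M₂) (p : M₂ →ₗ[R] M₃) (hi : Function.Injective i)
    (hp : Function.Surjective p) (hip : Function.Exact i p)
    (hext : ∀ φ : M₁ →ₗ[R] Y, ∃ ψ : M₂ →ₗ[R] Y, ψ ∘ₗ i = φ) :
    Module.length R (Ext (ModuleCat.of R M₃) (ModuleCat.of R Y) 1) ≤
      Module.length R (Ext (ModuleCat.of R M₂) (ModuleCat.of R Y) 1) := by
  rw [length_ext_one (Y := Y) i p hi hp hip]
  have h0 : Module.length R ((M₁ →ₗ[R] Y) ⧸ LinearMap.range (LinearMap.lcomp R Y i)) = 0 := by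
    rw [Module.length_eq_zero_iff]
    have htop : LinearMap.range (LinearMap.lcomp R Y i) = ⊤ := by
      rw [eq_top_iff]
      intro φ _
      obtain ⟨ψ, hψ⟩ := hext φ
      exact ⟨ψ, hψ⟩
    rw [htop]
    infer_instance
  rw [h0, zero_add]
  exact Module.length_le_of_injective (LinearMap.range _).subtype (Submodule.subtype_injective _)

end Groth.Agent.H75.ExtLen
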