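import Mathlib
import Groth.Agent.H75.MonoRing
import Groth.Agent.H75.CubExt

/-! `Ext¹(N, Y)` for a two-generated module `N = A + A X^d` and a monomial module `Y`
over a monomial subalgebra `A` of `k⟦X⟧`. -/

set_option autoImplicit false
set_option synthInstance.maxHeartbeats 200000
set_option maxHeartbeats 1000000
universe u

namespace Groth.Agent.H75.TwoGen

open PowerSeries CategoryTheory Abelian
open Groth.Agent.H75.CubMono (SuppIn suppIn_mul suppIn_X_pow suppIn_add suppIn_zero suppIn_mono)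

section Sets

/-- exponents `q ∈ Γ` with `q + d ∈ Γ` -/
def VI (Γ : Set ℕ) (d : ℕ) : Set ℕ := {q | q ∈ Γ ∧ q + d ∈ Γ}

/-- the shift `t + T` -/
def Sh (t : ℕ) (T : Set ℕ) : Set ℕ := {e | t ≤ e ∧ e - t ∈ T}

/-- exponents `e` with `e + VI ⊆ t₀ + T` -/
def UU (Γ : Set ℕ) (d t₀ : ℕ) (T : Set ℕ) : Set ℕ := {e | ∀ q ∈ VI Γ d, e + q ∈ Sh t₀ T}

/-- `(t₀ + d + T) ∪ (t₀ + T)` -/
def WW (d t₀ : ℕ) (T : Set ℕ) : Set ℕ := Sh (t₀ + d) T ∪ Sh t₀ T

end Sets

section Main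

variable {k : Type u} [Field k] (Γ : Set ℕ) (A : Subalgebra k (PowerSeries k))
  (hmono : ∀ f : PowerSeries k, f ∈ A ↔ SuppIn Γ f)

/-- shortcut instance -/
noncomputable local instance shortcutRing : Ring ↥A := A.toRing

/-- shortcut instance -/
noncomputable local instance shortcutACG (N : Submodule ↥A (PowerSeries k)) : AddCommGroup ↥N :=
  Submodule.addCommGroup N

/-- the shift of a power series -/
noncomputable def sh (t : ℕ) (f : PowerSeries k) : PowerSeries k :=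
  PowerSeries.mk fun i => coeff (i + t) f

theorem coeff_sh (t : ℕ) (f : PowerSeries k) (i : ℕ) : coeff i (sh t f) = coeff (i + t) f :=
  coeff_mk _ _

theorem X_pow_mul_sh (t : ℕ) (f : PowerSeries k) (hf : (X : PowerSeries k) ^ t ∣ f) :
    (X : PowerSeries k) ^ t * sh t f = f := by
  have h1 := f.eq_X_pow_mul_shift_add_trunc t
  have h2 : (f.trunc t : PowerSeries k) = 0 := by
    ext i
    rw [Polynomial.coeff_coe, coeff_trunc, map_zero]
    split_ifs with hi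
    · exact (X_pow_dvd_iff.mp hf) i hi
    · rfl
  rw [h2, add_zero] at h1
  exact h1.symm

theorem suppIn_sh {t : ℕ} {T : Set ℕ} {f : PowerSeries k} (hf : SuppIn (Sh t T) f) :
    SuppIn T (sh t f) := by
  intro e he
  rw [coeff_sh] at he
  have := (hf _ he).2
  rwa [Nat.add_sub_cancel] at this

theorem suppIn_X_pow_mul {t : ℕ} {T : Set ℕ} {f : PowerSeries k} (hf : SuppIn T f) :
    SuppIn (Sh t T) ((X : PowerSeries k) ^ t * f) := by
  intro e he
  rw [coeff_X_pow_mul'] at he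
  split_ifs at he with hle
  · exact ⟨hle, hf _ he⟩
  · exact absurd rfl he

theorem dvd_of_suppIn_Sh {t : ℕ} {T : Set ℕ} {f : PowerSeries k} (hf : SuppIn (Sh t T) f) :
    (X : PowerSeries k) ^ t ∣ f :=
  MonoRing.dvd_of_suppIn (suppIn_mono (fun e he => he.1) hf)

section Two

variable (d t₀ : ℕ)

/-- the ideal `(A : X^d) ∩ A` -/
def II : Submodule ↥A ↥A where
  carrier := {b | (b : PowerSeries k) * X ^ d ∈ A}
  add_mem' {a b} ha hb := by
    change ((a : PowerSeries k) + (b : PowerSeries k)) * X ^ d ∈ A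
    rw [add_mul]
    exact A.add_mem ha hb
  zero_mem' := by
    change (0 : PowerSeries k) * X ^ d ∈ A
    rw [zero_mul]
    exact A.zero_mem
  smul_mem' a b hb := by
    change ((a : PowerSeries k) * (b : PowerSeries k)) * X ^ d ∈ A
    rw [mul_assoc]
    exact A.mul_mem a.2 hb

theorem mem_II (b : ↥A) : b ∈ II A d ↔ (b : PowerSeries k) * X ^ d ∈ A := Iff.rfl

include hmono in
theorem suppIn_II (b : ↥A) (hb : b ∈ II A d) : SuppIn (VI Γ d) (b : PowerSeries k) := by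
  intro e he
  refine ⟨(hmono _).mp b.2 e he, ?_⟩
  apply (hmono _).mp hb (e + d)
  rw [coeff_mul_X_pow]
  exact he

include hmono in
theorem X_pow_mem (q : ℕ) (hq : q ∈ VI Γ d) :
    ∃ b : ↥A, b ∈ II A d ∧ (b : PowerSeries k) = X ^ q := by
  have h1 : (X : PowerSeries k) ^ q ∈ A := (MonoRing.mem_Γ_iff Γ A hmono q).mp hq.1
  refine ⟨⟨_, h1⟩, ?_, rfl⟩
  change (X : PowerSeries k) ^ q * X ^ d ∈ A
  rw [← pow_add]
  exact (MonoRing.mem_Γ_iff Γ A hmono _).mp hq.2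

variable (N Y : Submodule ↥A (PowerSeries k)) (hN1 : (1 : PowerSeries k) ∈ N)
  (hNd : (X : PowerSeries k) ^ d ∈ N)
  (hNgen : ∀ f ∈ N, ∃ a b : ↥A, f = (a : PowerSeries k) + (b : PowerSeries k) * X ^ d)

/-- the syzygy map -/
noncomputable def syz : ↥(II A d) →ₗ[↥A] (↥A × ↥A) where
  toFun b := (-(⟨((b : ↥A) : PowerSeries k) * X ^ d, b.2⟩ : ↥A), (b : ↥A))
  map_add' b b' := by
    apply Prod.ext
    · apply Subtype.ext
      change -((((b : ↥A) : PowerSeries k) + ((b' : ↥A) : PowerSeries k)) * X ^ d) =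
        -(((b : ↥A) : PowerSeries k) * X ^ d) + -(((b' : ↥A) : PowerSeries k) * X ^ d)
      ring
    · rfl
  map_smul' a b := by
    apply Prod.ext
    · apply Subtype.ext
      change -(((a : PowerSeries k) * ((b : ↥A) : PowerSeries k)) * X ^ d) =
        (a : PowerSeries k) * -(((b : ↥A) : PowerSeries k) * X ^ d)
      ring
    · rfl

/-- the presentation map -/
noncomputable def pres : (↥A × ↥A) →ₗ[↥A] ↥N :=
  (LinearMap.toSpanSingleton ↥A ↥N ⟨1, hN1⟩).coprod (LinearMap.toSpanSingleton ↥A ↥N ⟨X ^ d, hNd⟩)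

theorem pres_apply (x : ↥A × ↥A) :
    ((pres A d N hN1 hNd x : ↥N) : PowerSeries k) =
      (x.1 : PowerSeries k) + (x.2 : PowerSeries k) * X ^ d := by
  change (x.1 : PowerSeries k) * 1 + (x.2 : PowerSeries k) * X ^ d = _
  rw [mul_one]

theorem syz_injective : Function.Injective (syz A d) := by
  intro b b' h
  apply Subtype.ext
  exact congrArg Prod.snd h

include hNgen in
theorem pres_surjective : Function.Surjective (pres A d N hN1 hNd) := by
  intro y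
  obtain ⟨a, b, hab⟩ := hNgen y y.2
  refine ⟨(a, b), ?_⟩
  apply Subtype.ext
  rw [pres_apply, hab]

theorem exact_syz_pres : Function.Exact (syz A d) (pres A d N hN1 hNd) := by
  intro x
  constructor
  · intro hx
    have h1 : (x.1 : PowerSeries k) + (x.2 : PowerSeries k) * X ^ d = 0 := by
      rw [← pres_apply A d N hN1 hNd x, hx]
      rfl
    have h2 : (x.2 : PowerSeries k) * X ^ d = -(x.1 : PowerSeries k) := by
      rw [← add_eq_zero_iff_eq_neg']
      exact h1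
    have h3 : x.2 ∈ II A d := by
      rw [mem_II, h2]
      exact A.neg_mem x.1.2
    refine ⟨⟨x.2, h3⟩, ?_⟩
    apply Prod.ext
    · apply Subtype.ext
      change -((x.2 : PowerSeries k) * X ^ d) = (x.1 : PowerSeries k)
      rw [h2, neg_neg]
    · rfl
  · rintro ⟨b, rfl⟩
    apply Subtype.ext
    rw [pres_apply]
    change -(((b : ↥A) : PowerSeries k) * X ^ d) + ((b : ↥A) : PowerSeries k) * X ^ d = 0
    ring

end Two

section Psi

variable (d t₀ : ℕ) (ht₀ : t₀ ∈ VI Γ d)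
  (T : Set ℕ) (Y : Submodule ↥A (PowerSeries k)) (hY : ∀ f, f ∈ Y ↔ SuppIn T f)

include hmono ht₀ in
theorem tau_mem : (X : PowerSeries k) ^ t₀ ∈ A := (MonoRing.mem_Γ_iff Γ A hmono t₀).mp ht₀.1

include hmono ht₀ in
theorem tau_mem_II : (⟨(X : PowerSeries k) ^ t₀, tau_mem Γ A hmono d t₀ ht₀⟩ : ↥A) ∈ II A d := by
  change (X : PowerSeries k) ^ t₀ * X ^ d ∈ A
  rw [← pow_add]
  exact (MonoRing.mem_Γ_iff Γ A hmono _).mp ht₀.2

/-- `X^t₀` as an element of the ideal -/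
noncomputable def tauI : ↥(II A d) :=
  ⟨⟨(X : PowerSeries k) ^ t₀, tau_mem Γ A hmono d t₀ ht₀⟩, tau_mem_II Γ A hmono d t₀ ht₀⟩

/-- evaluation at `X^t₀` -/
noncomputable def Psi : (↥(II A d) →ₗ[↥A] ↥Y) →ₗ[↥A] PowerSeries k :=
  Y.subtype ∘ₗ LinearMap.applyₗ (tauI Γ A hmono d t₀ ht₀)

theorem Psi_apply (φ : ↥(II A d) →ₗ[↥A] ↥Y) :
    Psi Γ A hmono d t₀ ht₀ Y φ = ((φ (tauI Γ A hmono d t₀ ht₀) : ↥Y) : PowerSeries k) := rfl

theorem Psi_rel (φ : ↥(II A d) →ₗ[↥A] ↥Y) (b : ↥(II A d)) :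
    (X : PowerSeries k) ^ t₀ * ((φ b : ↥Y) : PowerSeries k) =
      ((b : ↥A) : PowerSeries k) * Psi Γ A hmono d t₀ ht₀ Y φ := by
  have h1 : ((tauI Γ A hmono d t₀ ht₀ : ↥(II A d)) : ↥A) • b = (b : ↥A) • tauI Γ A hmono d t₀ ht₀ := by
    apply Subtype.ext
    change ((tauI Γ A hmono d t₀ ht₀ : ↥(II A d)) : ↥A) * (b : ↥A) =
      (b : ↥A) * ((tauI Γ A hmono d t₀ ht₀ : ↥(II A d)) : ↥A)
    exact mul_comm _ _
  have h2 := congrArg φ h1
  rw [map_smul, map_smul] at h2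
  exact congrArg (fun z : ↥Y => (z : PowerSeries k)) h2

theorem Psi_injective : Function.Injective (Psi Γ A hmono d t₀ ht₀ Y) := by
  intro φ φ' hφ
  apply LinearMap.ext
  intro b
  have h := Psi_rel Γ A hmono d t₀ ht₀ Y φ b
  have h' := Psi_rel Γ A hmono d t₀ ht₀ Y φ' b
  rw [hφ, ← h'] at h
  apply Subtype.ext
  exact mul_left_cancel₀ (pow_ne_zero t₀ X_ne_zero) h

theorem closed_UU (hΓadd : ∀ a ∈ Γ, ∀ b ∈ Γ, a + b ∈ Γ) :
    ∀ s ∈ UU Γ d t₀ T, ∀ e ∈ Γ, s + e ∈ UU Γ d t₀ T := by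
  intro s hs e he q hq
  have hq' : e + q ∈ VI Γ d := by
    refine ⟨hΓadd e he q hq.1, ?_⟩
    rw [add_assoc]
    exact hΓadd e he _ hq.2
  have := hs (e + q) hq'
  rwa [← add_assoc] at this

theorem closed_Sh (t : ℕ) (hT : ∀ s ∈ T, ∀ e ∈ Γ, s + e ∈ T) :
    ∀ s ∈ Sh t T, ∀ e ∈ Γ, s + e ∈ Sh t T := by
  intro s hs e he
  refine ⟨by have := hs.1; omega, ?_⟩
  have h1 : s + e - t = (s - t) + e := by have := hs.1; omega
  rw [h1]
  exact hT _ hs.2 e he

theorem closed_WW (hT : ∀ s ∈ T, ∀ e ∈ Γ, s + e ∈ T) :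
    ∀ s ∈ WW d t₀ T, ∀ e ∈ Γ, s + e ∈ WW d t₀ T := by
  intro s hs e he
  rcases hs with h | h
  · exact Or.inl (closed_Sh Γ T _ hT s h e he)
  · exact Or.inr (closed_Sh Γ T _ hT s h e he)

include hY in
theorem range_Psi (hΓadd : ∀ a ∈ Γ, ∀ b ∈ Γ, a + b ∈ Γ) :
    LinearMap.range (Psi Γ A hmono d t₀ ht₀ Y) =
      MonoRing.monoSub Γ A hmono (UU Γ d t₀ T) (closed_UU Γ d t₀ T hΓadd) := by
  ext z
  rw [MonoRing.mem_monoSub]
  constructor
  · rintro ⟨φ, rfl⟩
    intro e he q hq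
    obtain ⟨b, hbI, hbq⟩ := X_pow_mem Γ A hmono d q hq
    have h := Psi_rel Γ A hmono d t₀ ht₀ Y φ ⟨b, hbI⟩
    change (X : PowerSeries k) ^ t₀ * ((φ ⟨b, hbI⟩ : ↥Y) : PowerSeries k) =
      (b : PowerSeries k) * Psi Γ A hmono d t₀ ht₀ Y φ at h
    rw [hbq] at h
    have h2 : coeff (e + q) ((X : PowerSeries k) ^ t₀ * ((φ ⟨b, hbI⟩ : ↥Y) : PowerSeries k)) ≠ 0 := by
      rw [h, mul_comm, coeff_mul_X_pow]
      exact he
    exact suppIn_X_pow_mul ((hY _).mp (φ ⟨b, hbI⟩).2) _ h2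
  · intro hz
    have hzb : ∀ b : ↥(II A d), SuppIn (Sh t₀ T) (z * ((b : ↥A) : PowerSeries k)) := by
      intro b
      exact suppIn_mul (S := UU Γ d t₀ T) (T := VI Γ d) (U := Sh t₀ T) (fun p hp q hq => hp q hq) hz
        (suppIn_II Γ A hmono d b b.2)
    let φ : ↥(II A d) →ₗ[↥A] ↥Y :=
      { toFun := fun b => ⟨sh t₀ (z * ((b : ↥A) : PowerSeries k)), (hY _).mpr (suppIn_sh (hzb b))⟩
        map_add' := fun b b' => by
          apply Subtype.ext
          apply mul_left_cancel₀ (pow_ne_zero t₀ (X_ne_zero (R := k)))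
          change (X : PowerSeries k) ^ t₀ * sh t₀ (z * (((b + b' : ↥(II A d)) : ↥A) : PowerSeries k)) =
            (X : PowerSeries k) ^ t₀ * (sh t₀ (z * ((b : ↥A) : PowerSeries k)) +
              sh t₀ (z * ((b' : ↥A) : PowerSeries k)))
          rw [mul_add, X_pow_mul_sh _ _ (dvd_of_suppIn_Sh (hzb b)),
            X_pow_mul_sh _ _ (dvd_of_suppIn_Sh (hzb b')),
            X_pow_mul_sh _ _ (dvd_of_suppIn_Sh (hzb (b + b')))]
          change z * (((b : ↥A) : PowerSeries k) + ((b' : ↥A) : PowerSeries k)) = _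
          ring
        map_smul' := fun a b => by
          apply Subtype.ext
          apply mul_left_cancel₀ (pow_ne_zero t₀ (X_ne_zero (R := k)))
          change (X : PowerSeries k) ^ t₀ * sh t₀ (z * (((a • b : ↥(II A d)) : ↥A) : PowerSeries k)) =
            (X : PowerSeries k) ^ t₀ * ((a : PowerSeries k) * sh t₀ (z * ((b : ↥A) : PowerSeries k)))
          rw [mul_left_comm, X_pow_mul_sh _ _ (dvd_of_suppIn_Sh (hzb b)),
            X_pow_mul_sh _ _ (dvd_of_suppIn_Sh (hzb (a • b)))]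
          change z * ((a : PowerSeries k) * ((b : ↥A) : PowerSeries k)) = _
          ring }
    refine ⟨φ, ?_⟩
    rw [Psi_apply]
    change sh t₀ (z * (X : PowerSeries k) ^ t₀) = z
    apply mul_left_cancel₀ (pow_ne_zero t₀ (X_ne_zero (R := k)))
    rw [X_pow_mul_sh _ _ (Dvd.intro_left z rfl), mul_comm]

end Psi

section Img

variable (d t₀ : ℕ) (ht₀ : t₀ ∈ VI Γ d)
  (T : Set ℕ) (hT : ∀ s ∈ T, ∀ e ∈ Γ, s + e ∈ T) (Y : Submodule ↥A (PowerSeries k))
  (hY : ∀ f, f ∈ Y ↔ SuppIn T f)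

theorem suppIn_neg {S : Set ℕ} {f : PowerSeries k} (hf : SuppIn S f) : SuppIn S (-f) := by
  intro e he
  apply hf e
  intro h0
  apply he
  rw [map_neg, h0, neg_zero]

include hY in
theorem map_Psi :
    Submodule.map (Psi Γ A hmono d t₀ ht₀ Y)
        (LinearMap.range (LinearMap.lcomp ↥A ↥Y (syz A d))) =
      MonoRing.monoSub Γ A hmono (WW d t₀ T) (closed_WW Γ d t₀ T hT) := by
  classical
  ext f
  rw [MonoRing.mem_monoSub]
  simp only [Submodule.mem_map, LinearMap.mem_range, exists_exists_eq_and]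
  constructor
  · rintro ⟨G, rfl⟩
    set y₁ : ↥Y := G (1, 0) with hy₁
    set y₂ : ↥Y := G (0, 1) with hy₂
    have hG : ∀ x : ↥A × ↥A, G x = x.1 • y₁ + x.2 • y₂ := by
      intro x
      have : x = x.1 • ((1, 0) : ↥A × ↥A) + x.2 • ((0, 1) : ↥A × ↥A) := by
        apply Prod.ext <;> simp
      conv_lhs => rw [this]
      rw [map_add, map_smul, map_smul]
    have h1 : Psi Γ A hmono d t₀ ht₀ Y (LinearMap.lcomp ↥A ↥Y (syz A d) G) =
        -((X : PowerSeries k) ^ (t₀ + d) * (y₁ : PowerSeries k)) +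
          (X : PowerSeries k) ^ t₀ * (y₂ : PowerSeries k) := by
      rw [Psi_apply]
      change ((G (syz A d (tauI Γ A hmono d t₀ ht₀)) : ↥Y) : PowerSeries k) = _
      rw [hG]
      change -((X : PowerSeries k) ^ t₀ * X ^ d) * (y₁ : PowerSeries k) +
        (X : PowerSeries k) ^ t₀ * (y₂ : PowerSeries k) = _
      rw [pow_add]
      ring
    rw [h1]
    apply suppIn_add
    · apply suppIn_neg
      exact suppIn_mono (fun e he => Or.inl he) (suppIn_X_pow_mul ((hY _).mp y₁.2))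
    · exact suppIn_mono (fun e he => Or.inr he) (suppIn_X_pow_mul ((hY _).mp y₂.2))
  · intro hf
    set f₁ : PowerSeries k :=
      PowerSeries.mk fun e => if e ∈ Sh (t₀ + d) T then coeff e f else 0 with hf₁
    set f₂ : PowerSeries k :=
      PowerSeries.mk fun e => if e ∈ Sh (t₀ + d) T then 0 else coeff e f with hf₂
    have hsum : f = f₁ + f₂ := by
      ext e
      rw [map_add, hf₁, hf₂, coeff_mk, coeff_mk]
      split_ifs <;> simp
    have hs1 : SuppIn (Sh (t₀ + d) T) f₁ := by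
      intro e he
      rw [hf₁, coeff_mk] at he
      by_contra hne
      exact he (if_neg hne)
    have hs2 : SuppIn (Sh t₀ T) f₂ := by
      intro e he
      rw [hf₂, coeff_mk] at he
      by_cases hmem : e ∈ Sh (t₀ + d) T
      · exact absurd (if_pos hmem) he
      · rw [if_neg hmem] at he
        rcases hf e he with h | h
        · exact absurd h hmem
        · exact h
    let y₁ : ↥Y := ⟨sh (t₀ + d) f₁, (hY _).mpr (suppIn_sh hs1)⟩
    let y₂ : ↥Y := ⟨sh t₀ f₂, (hY _).mpr (suppIn_sh hs2)⟩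
    refine ⟨(LinearMap.toSpanSingleton ↥A ↥Y (-y₁)).coprod (LinearMap.toSpanSingleton ↥A ↥Y y₂), ?_⟩
    rw [Psi_apply]
    change -((X : PowerSeries k) ^ t₀ * X ^ d) * -(sh (t₀ + d) f₁) +
      (X : PowerSeries k) ^ t₀ * sh t₀ f₂ = f
    rw [neg_mul_neg, ← pow_add, X_pow_mul_sh _ _ (dvd_of_suppIn_Sh hs1),
      X_pow_mul_sh _ _ (dvd_of_suppIn_Sh hs2), ← hsum]

variable (N : Submodule ↥A (PowerSeries k)) (hN1 : (1 : PowerSeries k) ∈ N)
  (hNd : (X : PowerSeries k) ^ d ∈ N)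
  (hNgen : ∀ f ∈ N, ∃ a b : ↥A, f = (a : PowerSeries k) + (b : PowerSeries k) * X ^ d)
  (c' : ℕ) (hc' : ∀ e, c' ≤ e → e ∈ T)

include hmono ht₀ hT hY hN1 hNd hNgen hc' in
theorem main :
    Module.length ↥A (Ext (ModuleCat.of ↥A ↥N) (ModuleCat.of ↥A ↥Y) 1) =
      ((UU Γ d t₀ T \ WW d t₀ T).ncard : ℕ∞) := by
  haveI := MonoRing.isLocalRing Γ A hmono
  have hΓadd : ∀ a ∈ Γ, ∀ b ∈ Γ, a + b ∈ Γ := fun a ha b hb => MonoRing.Γ_add Γ A hmono ha hb
  have E := ExtLen.length_ext_one_of_projective (R := ↥A) (M₁ := ↥(II A d)) (M₂ := ↥A × ↥A)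
    (M₃ := ↥N) (Y := ↥Y) (syz A d) (pres A d N hN1 hNd) (syz_injective A d)
    (pres_surjective A d N hN1 hNd hNgen) (exact_syz_pres A d N hN1 hNd)
  have hR := range_Psi Γ A hmono d t₀ ht₀ T Y hY hΓadd
  have hM := map_Psi Γ A hmono d t₀ ht₀ T hT Y hY
  have F := CubExt.length_quot_eq_subQ (R := ↥A) (M := ↥(II A d) →ₗ[↥A] ↥Y) (B := PowerSeries k)
    (Psi Γ A hmono d t₀ ht₀ Y) (Psi_injective Γ A hmono d t₀ ht₀ Y)
    (LinearMap.range (LinearMap.lcomp ↥A ↥Y (syz A d)))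
    (MonoRing.monoSub Γ A hmono (UU Γ d t₀ T) (closed_UU Γ d t₀ T hΓadd))
    (MonoRing.monoSub Γ A hmono (WW d t₀ T) (closed_WW Γ d t₀ T hT)) hR hM
  have hWU : WW d t₀ T ⊆ UU Γ d t₀ T := by
    intro e he
    have h1 : (X : PowerSeries k) ^ e ∈ MonoRing.monoSub Γ A hmono (WW d t₀ T)
        (closed_WW Γ d t₀ T hT) := suppIn_X_pow he
    rw [← hM] at h1
    have h2 : (X : PowerSeries k) ^ e ∈ LinearMap.range (Psi Γ A hmono d t₀ ht₀ Y) := by
      obtain ⟨φ, -, hφ⟩ := h1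
      exact ⟨φ, hφ⟩
    rw [hR] at h2
    apply h2 e
    rw [coeff_X_pow, if_pos rfl]
    exact one_ne_zero
  have hcW : ∀ e, t₀ + c' ≤ e → e ∈ WW d t₀ T :=
    fun e he => Or.inr ⟨by omega, hc' _ (by omega)⟩
  have F' := MonoRing.length_subquot_mono Γ A hmono
    (MonoRing.monoSub Γ A hmono (UU Γ d t₀ T) (closed_UU Γ d t₀ T hΓadd))
    (MonoRing.monoSub Γ A hmono (WW d t₀ T) (closed_WW Γ d t₀ T hT))
    (UU Γ d t₀ T) (WW d t₀ T) (t₀ + c') hcW hWU (fun f => Iff.rfl) (fun f => Iff.rfl)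
  rw [E, F, F']

end Img

end Main

end Groth.Agent.H75.TwoGen
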