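import Mathlib
import Groth.Agent.H75.TwoGen

/-! The span of `1` and a monomial over a monomial subalgebra is a monomial module. -/

set_option autoImplicit false
universe u

namespace Groth.Agent.H75.SpanPair

open PowerSeries
open Groth.Agent.H75.CubMono (SuppIn suppIn_mul suppIn_X_pow suppIn_add suppIn_zero suppIn_mono)

variable {k : Type u} [Field k] (Γ : Set ℕ) (A : Subalgebra k (PowerSeries k))
  (hmono : ∀ f : PowerSeries k, f ∈ A ↔ SuppIn Γ f)

theorem span_pair_gen (d : ℕ) (f : PowerSeries k)
    (hf : f ∈ Submodule.span ↥A ({1, (X : PowerSeries k) ^ d} : Set (PowerSeries k))) :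
    ∃ a b : ↥A, f = (a : PowerSeries k) + (b : PowerSeries k) * X ^ d := by
  obtain ⟨r, s, rfl⟩ := Submodule.mem_span_pair.mp hf
  refine ⟨r, s, ?_⟩
  change (r : PowerSeries k) * 1 + (s : PowerSeries k) * X ^ d = _
  rw [mul_one]

include hmono in
theorem span_pair_iff (d : ℕ) (T : Set ℕ) (hΓT : Γ ⊆ T) (hdT : ∀ γ ∈ Γ, γ + d ∈ T)
    (hTΓ : ∀ e ∈ T, e ∉ Γ → d ≤ e ∧ e - d ∈ Γ) (f : PowerSeries k) :
    f ∈ Submodule.span ↥A ({1, (X : PowerSeries k) ^ d} : Set (PowerSeries k)) ↔ SuppIn T f := by
  classical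
  constructor
  · intro hf
    obtain ⟨r, s, rfl⟩ := span_pair_gen A d f hf
    apply suppIn_add
    · exact suppIn_mono hΓT ((hmono _).mp r.2)
    · refine suppIn_mul (S := Γ) (T := {d}) ?_ ((hmono _).mp s.2) ?_
      · intro p hp q hq
        rw [Set.mem_singleton_iff] at hq
        rw [hq]
        exact hdT p hp
      · intro e he
        rw [coeff_X_pow] at he
        split_ifs at he with h
        · exact h
        · exact absurd rfl he
  · intro hf
    set r : PowerSeries k := PowerSeries.mk fun e => if e ∈ Γ then coeff e f else 0 with hr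
    set g : PowerSeries k := PowerSeries.mk fun e => if e ∈ Γ then 0 else coeff e f with hg
    have hsum : f = r + g := by
      ext e
      rw [map_add, hr, hg, coeff_mk, coeff_mk]
      split_ifs <;> simp
    have hrA : r ∈ A := by
      rw [hmono]
      intro e he
      rw [hr, coeff_mk] at he
      by_contra hne
      exact he (if_neg hne)
    have hgs : SuppIn (TwoGen.Sh d Γ) g := by
      intro e he
      rw [hg, coeff_mk] at he
      by_cases hmem : e ∈ Γ
      · exact absurd (if_pos hmem) he
      · rw [if_neg hmem] at he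
        exact hTΓ e (hf e he) hmem
    have hsA : TwoGen.sh d g ∈ A := by
      rw [hmono]
      exact TwoGen.suppIn_sh hgs
    have hg2 := TwoGen.X_pow_mul_sh _ g (TwoGen.dvd_of_suppIn_Sh hgs)
    rw [hsum]
    refine Submodule.mem_span_pair.mpr ⟨⟨r, hrA⟩, ⟨_, hsA⟩, ?_⟩
    change r * 1 + TwoGen.sh d g * (X : PowerSeries k) ^ d = r + g
    rw [mul_one, mul_comm, hg2]

end Groth.Agent.H75.SpanPair
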