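import Mathlib
import Groth.Agent.H75.TwoGen

/-! `Ext¹(Q, Y)` for a module `Q` killed by the (maximal) ideal `(A : X^d) ∩ A`. -/

set_option autoImplicit false
set_option synthInstance.maxHeartbeats 200000
set_option maxHeartbeats 1000000
universe u

namespace Groth.Agent.H75.TwoGen2

open PowerSeries CategoryTheory Abelian
open Groth.Agent.H75.CubMono (SuppIn suppIn_mul suppIn_X_pow suppIn_add suppIn_zero suppIn_mono)
open Groth.Agent.H75.TwoGen

variable {k : Type u} [Field k] (Γ : Set ℕ) (A : Subalgebra k (PowerSeries k))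
  (hmono : ∀ f : PowerSeries k, f ∈ A ↔ SuppIn Γ f)

/-- shortcut instance -/
noncomputable local instance shortcutRing' : Ring ↥A := A.toRing

/-- shortcut instance -/
noncomputable local instance shortcutACG' (N : Submodule ↥A (PowerSeries k)) : AddCommGroup ↥N :=
  Submodule.addCommGroup N

variable (d t₀ : ℕ) (ht₀ : t₀ ∈ VI Γ d)
  (T : Set ℕ) (hT : ∀ s ∈ T, ∀ e ∈ Γ, s + e ∈ T) (Y : Submodule ↥A (PowerSeries k))
  (hY : ∀ f, f ∈ Y ↔ SuppIn T f)

include hY in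
theorem map_Psi_res :
    Submodule.map (Psi Γ A hmono d t₀ ht₀ Y)
        (LinearMap.range (LinearMap.lcomp ↥A ↥Y (Submodule.subtype (II A d)))) =
      MonoRing.monoSub Γ A hmono (Sh t₀ T) (closed_Sh Γ T t₀ hT) := by
  ext f
  rw [MonoRing.mem_monoSub]
  simp only [Submodule.mem_map, LinearMap.mem_range, exists_exists_eq_and]
  constructor
  · rintro ⟨g, rfl⟩
    have h1 : Psi Γ A hmono d t₀ ht₀ Y (LinearMap.lcomp ↥A ↥Y (Submodule.subtype (II A d)) g) =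
        (X : PowerSeries k) ^ t₀ * ((g 1 : ↥Y) : PowerSeries k) := by
      rw [Psi_apply]
      change ((g ((tauI Γ A hmono d t₀ ht₀ : ↥(II A d)) : ↥A) : ↥Y) : PowerSeries k) = _
      have : g ((tauI Γ A hmono d t₀ ht₀ : ↥(II A d)) : ↥A) =
          ((tauI Γ A hmono d t₀ ht₀ : ↥(II A d)) : ↥A) • g 1 := by
        rw [← map_smul, smul_eq_mul, mul_one]
      rw [this]
      rfl
    rw [h1]
    exact suppIn_X_pow_mul ((hY _).mp (g 1).2)
  · intro hf
    refine ⟨LinearMap.toSpanSingleton ↥A ↥Y ⟨sh t₀ f, (hY _).mpr (suppIn_sh hf)⟩, ?_⟩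
    rw [Psi_apply]
    change (X : PowerSeries k) ^ t₀ * sh t₀ f = f
    exact X_pow_mul_sh _ _ (dvd_of_suppIn_Sh hf)

variable (c' : ℕ) (hc' : ∀ e, c' ≤ e → e ∈ T)
  (Q : Type u) [AddCommGroup Q] [Module ↥A Q] [Module.Finite ↥A Q]

include hmono ht₀ hT hY hc' in
theorem length_ext_killed (hmax : Ideal.IsMaximal (II A d : Ideal ↥A)) (hQ : ∀ a ∈ II A d, ∀ q : Q, a • q = 0) :
    Module.length ↥A (Ext (ModuleCat.of ↥A Q) (ModuleCat.of ↥A ↥Y) 1) =
      Module.length ↥A Q * ((UU Γ d t₀ T \ Sh t₀ T).ncard : ℕ∞) := by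
  haveI := MonoRing.isLocalRing Γ A hmono
  have hΓadd : ∀ a ∈ Γ, ∀ b ∈ Γ, a + b ∈ Γ := fun a ha b hb => MonoRing.Γ_add Γ A hmono ha hb
  haveI := hmax
  have E := ExtLen.length_ext_one_of_killed (R := ↥A) (II A d : Ideal ↥A) (Q := Q) (Y := ↥Y) hQ
  have hR := range_Psi Γ A hmono d t₀ ht₀ T Y hY hΓadd
  have hM := map_Psi_res Γ A hmono d t₀ ht₀ T hT Y hY
  have F := CubExt.length_quot_eq_subQ (R := ↥A) (M := ↥(II A d) →ₗ[↥A] ↥Y) (B := PowerSeries k)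
    (Psi Γ A hmono d t₀ ht₀ Y) (Psi_injective Γ A hmono d t₀ ht₀ Y)
    (LinearMap.range (LinearMap.lcomp ↥A ↥Y (Submodule.subtype (II A d))))
    (MonoRing.monoSub Γ A hmono (UU Γ d t₀ T) (closed_UU Γ d t₀ T hΓadd))
    (MonoRing.monoSub Γ A hmono (Sh t₀ T) (closed_Sh Γ T t₀ hT)) hR hM
  have hSU : Sh t₀ T ⊆ UU Γ d t₀ T := by
    intro e he q hq
    exact closed_Sh Γ T t₀ hT e he q hq.1
  have hcS : ∀ e, t₀ + c' ≤ e → e ∈ Sh t₀ T := fun e he => ⟨by omega, hc' _ (by omega)⟩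
  have F' := MonoRing.length_subquot_mono Γ A hmono
    (MonoRing.monoSub Γ A hmono (UU Γ d t₀ T) (closed_UU Γ d t₀ T hΓadd))
    (MonoRing.monoSub Γ A hmono (Sh t₀ T) (closed_Sh Γ T t₀ hT))
    (UU Γ d t₀ T) (Sh t₀ T) (t₀ + c') hcS hSU (fun f => Iff.rfl) (fun f => Iff.rfl)
  rw [E, F, F']

end Groth.Agent.H75.TwoGen2
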