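import Mathlib
import Groth.Agent.H75.TwoGen2
import Groth.Agent.H75.SpanPair
import Groth.Agent.H75.ExtLen2

/-! `Ext¹` lengths over the `E₆` monomial ring `k⟦X³, X⁴⟧`. -/

set_option autoImplicit false
set_option synthInstance.maxHeartbeats 200000
set_option maxHeartbeats 1000000
universe u

namespace Groth.Agent.H75.E6

open PowerSeries CategoryTheory Abelian
open Groth.Agent.H75.CubMono (SuppIn suppIn_mul suppIn_X_pow suppIn_add suppIn_zero suppIn_mono)
open Groth.Agent.H75.TwoGen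

/-- the value semigroup of `E₆` -/
def Γ6 : Set ℕ := ((AddSubmonoid.closure ({3, 4} : Set ℕ) : AddSubmonoid ℕ) : Set ℕ)

theorem mem_Γ6 (e : ℕ) : e ∈ Γ6 ↔ e = 0 ∨ e = 3 ∨ e = 4 ∨ 6 ≤ e := by
  constructor
  · intro he
    have he' : e ∈ AddSubmonoid.closure ({3, 4} : Set ℕ) := he
    clear he
    induction he' using AddSubmonoid.closure_induction with
    | mem x hx =>
      rcases hx with rfl | rfl
      · right; left; rfl
      · right; right; left; rfl
    | zero => left; rfl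
    | add x y _ _ hx hy => omega
  · intro h
    have h3 : (3 : ℕ) ∈ AddSubmonoid.closure ({3, 4} : Set ℕ) :=
      AddSubmonoid.subset_closure (by simp)
    have h4 : (4 : ℕ) ∈ AddSubmonoid.closure ({3, 4} : Set ℕ) :=
      AddSubmonoid.subset_closure (by simp)
    change e ∈ AddSubmonoid.closure ({3, 4} : Set ℕ)
    rcases h with rfl | rfl | rfl | h
    · exact AddSubmonoid.zero_mem _
    · exact h3
    · exact h4
    · have hmod : e % 3 = 0 ∨ e % 3 = 1 ∨ e % 3 = 2 := by omega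
      rcases hmod with hm | hm | hm
      · have := AddSubmonoid.nsmul_mem _ h3 (e / 3)
        have he : (e / 3) • 3 = e := by rw [smul_eq_mul]; omega
        rwa [he] at this
      · have := AddSubmonoid.add_mem _ h4 (AddSubmonoid.nsmul_mem _ h3 ((e - 4) / 3))
        have he : 4 + ((e - 4) / 3) • 3 = e := by rw [smul_eq_mul]; omega
        rwa [he] at this
      · have := AddSubmonoid.add_mem _ (AddSubmonoid.add_mem _ h4 h4)
          (AddSubmonoid.nsmul_mem _ h3 ((e - 8) / 3))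
        have he : 4 + 4 + ((e - 8) / 3) • 3 = e := by rw [smul_eq_mul]; omega
        rwa [he] at this

variable {k : Type u} [Field k] (A : Subalgebra k (PowerSeries k))
  (hmono : ∀ f : PowerSeries k, f ∈ A ↔ SuppIn Γ6 f)

/-- value sets of the three two-generated modules -/
def T5 : Set ℕ := {e | e = 0 ∨ 3 ≤ e}
def T1 : Set ℕ := {e | e ≤ 1 ∨ 3 ≤ e}
def T2 : Set ℕ := {e | e = 0 ∨ 2 ≤ e}

include hmono in
theorem span5 (f : PowerSeries k) :
    f ∈ Submodule.span ↥A ({1, (X : PowerSeries k) ^ 5} : Set (PowerSeries k)) ↔ SuppIn T5 f := by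
  apply SpanPair.span_pair_iff Γ6 A hmono 5 T5
  · intro e he
    rw [mem_Γ6] at he
    change e = 0 ∨ 3 ≤ e
    omega
  · intro γ hγ
    change γ + 5 = 0 ∨ 3 ≤ γ + 5
    omega
  · intro e he hne
    rw [mem_Γ6] at hne ⊢
    change e = 0 ∨ 3 ≤ e at he
    omega

include hmono in
theorem span1 (f : PowerSeries k) :
    f ∈ Submodule.span ↥A ({1, (X : PowerSeries k) ^ 1} : Set (PowerSeries k)) ↔ SuppIn T1 f := by
  apply SpanPair.span_pair_iff Γ6 A hmono 1 T1
  · intro e he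
    rw [mem_Γ6] at he
    change e ≤ 1 ∨ 3 ≤ e
    omega
  · intro γ hγ
    rw [mem_Γ6] at hγ
    change γ + 1 ≤ 1 ∨ 3 ≤ γ + 1
    omega
  · intro e he hne
    rw [mem_Γ6] at hne ⊢
    change e ≤ 1 ∨ 3 ≤ e at he
    omega

include hmono in
theorem span2 (f : PowerSeries k) :
    f ∈ Submodule.span ↥A ({1, (X : PowerSeries k) ^ 2} : Set (PowerSeries k)) ↔ SuppIn T2 f := by
  apply SpanPair.span_pair_iff Γ6 A hmono 2 T2
  · intro e he
    rw [mem_Γ6] at he
    change e = 0 ∨ 2 ≤ e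
    omega
  · intro γ hγ
    change γ + 2 = 0 ∨ 2 ≤ γ + 2
    omega
  · intro e he hne
    rw [mem_Γ6] at hne ⊢
    change e = 0 ∨ 2 ≤ e at he
    omega

theorem mem_VI (d q : ℕ) : q ∈ VI Γ6 d ↔
    (q = 0 ∨ q = 3 ∨ q = 4 ∨ 6 ≤ q) ∧ (q + d = 0 ∨ q + d = 3 ∨ q + d = 4 ∨ 6 ≤ q + d) := by
  change (q ∈ Γ6 ∧ q + d ∈ Γ6) ↔ _
  rw [mem_Γ6, mem_Γ6]

include hmono in
theorem ext_pair (d t₀ : ℕ) (ht₀ : t₀ ∈ VI Γ6 d) (T : Set ℕ)
    (hTcl : ∀ s ∈ T, ∀ e ∈ Γ6, s + e ∈ T) (hc' : ∀ e, 6 ≤ e → e ∈ T)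
    (Y : Submodule ↥A (PowerSeries k)) (hY : ∀ f, f ∈ Y ↔ SuppIn T f)
    (D : Finset ℕ) (hD : UU Γ6 d t₀ T \ WW d t₀ T = ↑D) :
    Module.length ↥A (Ext (ModuleCat.of ↥A ↥(Submodule.span ↥A
      ({1, (X : PowerSeries k) ^ d} : Set (PowerSeries k)))) (ModuleCat.of ↥A ↥Y) 1) =
      (D.card : ℕ∞) := by
  have hN1 : (1 : PowerSeries k) ∈ Submodule.span ↥A
      ({1, (X : PowerSeries k) ^ d} : Set (PowerSeries k)) := Submodule.subset_span (by simp)
  have hNd : (X : PowerSeries k) ^ d ∈ Submodule.span ↥A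
      ({1, (X : PowerSeries k) ^ d} : Set (PowerSeries k)) := Submodule.subset_span (by simp)
  rw [TwoGen.main Γ6 A hmono d t₀ ht₀ T hTcl Y hY _ hN1 hNd (SpanPair.span_pair_gen A d) 6 hc',
    hD, Set.ncard_coe_finset]

theorem mem_Sh (t : ℕ) (T : Set ℕ) (x : ℕ) : x ∈ Sh t T ↔ t ≤ x ∧ x - t ∈ T := Iff.rfl

theorem mem_WW (d t₀ : ℕ) (T : Set ℕ) (x : ℕ) :
    x ∈ WW d t₀ T ↔ (t₀ + d ≤ x ∧ x - (t₀ + d) ∈ T) ∨ (t₀ ≤ x ∧ x - t₀ ∈ T) := Iff.rfl

theorem closed_T5 : ∀ s ∈ T5, ∀ e ∈ Γ6, s + e ∈ T5 := by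
  intro s hs e he
  rw [mem_Γ6] at he
  change s = 0 ∨ 3 ≤ s at hs
  change s + e = 0 ∨ 3 ≤ s + e
  omega

theorem closed_T1 : ∀ s ∈ T1, ∀ e ∈ Γ6, s + e ∈ T1 := by
  intro s hs e he
  rw [mem_Γ6] at he
  change s ≤ 1 ∨ 3 ≤ s at hs
  change s + e ≤ 1 ∨ 3 ≤ s + e
  omega

theorem closed_T2 : ∀ s ∈ T2, ∀ e ∈ Γ6, s + e ∈ T2 := by
  intro s hs e he
  rw [mem_Γ6] at he
  change s = 0 ∨ 2 ≤ s at hs
  change s + e = 0 ∨ 2 ≤ s + e
  omega

include hmono in
theorem ext5 :
    Module.length ↥A (Ext (ModuleCat.of ↥A ↥(Submodule.span ↥A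
      ({1, (X : PowerSeries k) ^ 5} : Set (PowerSeries k)))) (ModuleCat.of ↥A ↥(Submodule.span ↥A
      ({1, (X : PowerSeries k) ^ 5} : Set (PowerSeries k)))) 1) = 2 := by
  have ht₀ : 3 ∈ VI Γ6 5 := by rw [mem_VI]; omega
  have hUU : ∀ e, e ∈ UU Γ6 5 3 T5 ↔ 3 ≤ e := by
    intro e
    constructor
    · intro h
      have h1 := (mem_Sh _ _ _).mp (h 3 ((mem_VI 5 3).mpr (by omega)))
      have h2 := (mem_Sh _ _ _).mp (h 4 ((mem_VI 5 4).mpr (by omega)))
      have h1' : e + 3 - 3 = 0 ∨ 3 ≤ e + 3 - 3 := h1.2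
      have h2' : e + 4 - 3 = 0 ∨ 3 ≤ e + 4 - 3 := h2.2
      omega
    · intro h q hq
      rw [mem_VI] at hq
      rw [mem_Sh]
      refine ⟨by omega, ?_⟩
      change e + q - 3 = 0 ∨ 3 ≤ e + q - 3
      omega
  have hD : UU Γ6 5 3 T5 \ WW 5 3 T5 = ↑({4, 5} : Finset ℕ) := by
    ext e
    rw [Set.mem_diff, hUU, mem_WW]
    simp only [T5, Set.mem_setOf_eq, Finset.coe_insert, Finset.coe_singleton, Set.mem_insert_iff,
      Set.mem_singleton_iff]
    omega
  have := ext_pair A hmono 5 3 ht₀ T5 closed_T5 (fun e he => Or.inr (by omega)) _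
    (span5 A hmono) {4, 5} hD
  rw [this]
  rfl

include hmono in
theorem ext1 :
    Module.length ↥A (Ext (ModuleCat.of ↥A ↥(Submodule.span ↥A
      ({1, (X : PowerSeries k) ^ 1} : Set (PowerSeries k)))) (ModuleCat.of ↥A ↥(Submodule.span ↥A
      ({1, (X : PowerSeries k) ^ 1} : Set (PowerSeries k)))) 1) = 2 := by
  have ht₀ : 3 ∈ VI Γ6 1 := by rw [mem_VI]; omega
  have hUU : ∀ e, e ∈ UU Γ6 1 3 T1 ↔ (e ≤ 1 ∨ 3 ≤ e) := by
    intro e
    constructor
    · intro h
      have h1 := (mem_Sh _ _ _).mp (h 3 ((mem_VI 1 3).mpr (by omega)))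
      have h1' : e + 3 - 3 ≤ 1 ∨ 3 ≤ e + 3 - 3 := h1.2
      omega
    · intro h q hq
      rw [mem_VI] at hq
      rw [mem_Sh]
      refine ⟨by omega, ?_⟩
      change e + q - 3 ≤ 1 ∨ 3 ≤ e + q - 3
      omega
  have hD : UU Γ6 1 3 T1 \ WW 1 3 T1 = ↑({0, 1} : Finset ℕ) := by
    ext e
    rw [Set.mem_diff, hUU, mem_WW]
    simp only [T1, Set.mem_setOf_eq, Finset.coe_insert, Finset.coe_singleton, Set.mem_insert_iff,
      Set.mem_singleton_iff]
    omega
  have := ext_pair A hmono 1 3 ht₀ T1 closed_T1 (fun e he => Or.inr (by omega)) _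
    (span1 A hmono) {0, 1} hD
  rw [this]
  rfl

include hmono in
theorem ext2 :
    Module.length ↥A (Ext (ModuleCat.of ↥A ↥(Submodule.span ↥A
      ({1, (X : PowerSeries k) ^ 2} : Set (PowerSeries k)))) (ModuleCat.of ↥A ↥(Submodule.span ↥A
      ({1, (X : PowerSeries k) ^ 2} : Set (PowerSeries k)))) 1) = 4 := by
  have ht₀ : 4 ∈ VI Γ6 2 := by rw [mem_VI]; omega
  have hUU : ∀ e, e ∈ UU Γ6 2 4 T2 ↔ (e = 0 ∨ 2 ≤ e) := by
    intro e
    constructor
    · intro h
      have h1 := (mem_Sh _ _ _).mp (h 4 ((mem_VI 2 4).mpr (by omega)))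
      have h1' : e + 4 - 4 = 0 ∨ 2 ≤ e + 4 - 4 := h1.2
      omega
    · intro h q hq
      rw [mem_VI] at hq
      rw [mem_Sh]
      refine ⟨by omega, ?_⟩
      change e + q - 4 = 0 ∨ 2 ≤ e + q - 4
      omega
  have hD : UU Γ6 2 4 T2 \ WW 2 4 T2 = ↑({0, 2, 3, 5} : Finset ℕ) := by
    ext e
    rw [Set.mem_diff, hUU, mem_WW]
    simp only [T2, Set.mem_setOf_eq, Finset.coe_insert, Finset.coe_singleton, Set.mem_insert_iff,
      Set.mem_singleton_iff]
    omega
  have := ext_pair A hmono 2 4 ht₀ T2 closed_T2 (fun e he => Or.inr (by omega)) _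
    (span2 A hmono) {0, 2, 3, 5} hD
  rw [this]
  rfl

section Norm

/-- shortcut instance -/
noncomputable local instance shortcutRing6 : Ring ↥A := A.toRing

/-- shortcut instance -/
noncomputable local instance shortcutACG6 (N : Submodule ↥A (PowerSeries k)) : AddCommGroup ↥N :=
  Submodule.addCommGroup N

theorem hTop (f : PowerSeries k) :
    f ∈ (⊤ : Submodule ↥A (PowerSeries k)) ↔ SuppIn Set.univ f :=
  ⟨fun _ _ _ => trivial, fun _ => trivial⟩

theorem closed_univ : ∀ s ∈ (Set.univ : Set ℕ), ∀ e ∈ Γ6, s + e ∈ (Set.univ : Set ℕ) :=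
  fun _ _ _ _ => trivial

include hmono in
theorem II5_eq [IsLocalRing ↥A] : (II A 5 : Ideal ↥A) = IsLocalRing.maximalIdeal ↥A := by
  ext b
  rw [mem_II, MonoRing.mem_max_iff Γ6 A hmono]
  constructor
  · intro h
    by_contra hne
    have h5 : (5 : ℕ) ∈ Γ6 := by
      apply (hmono _).mp h 5
      rw [coeff_mul_X_pow', if_pos (le_refl 5), Nat.sub_self, coeff_zero_eq_constantCoeff_apply]
      exact hne
    rw [mem_Γ6] at h5
    omega
  · intro h
    rw [hmono]
    intro e he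
    rw [coeff_mul_X_pow'] at he
    split_ifs at he with hle
    · have h1 := (hmono _).mp b.2 _ he
      rw [mem_Γ6] at h1 ⊢
      have h2 : e - 5 ≠ 0 := by
        intro h0
        rw [h0, coeff_zero_eq_constantCoeff_apply] at he
        exact he h
      omega
    · exact absurd rfl he

include hmono in
theorem dvd_of_mem_II5 (a : ↥A) (ha : a ∈ II A 5) : (X : PowerSeries k) ^ 3 ∣ (a : PowerSeries k) := by
  apply MonoRing.dvd_of_suppIn
  refine suppIn_mono ?_ (suppIn_II Γ6 A hmono 5 a ha)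
  intro q hq
  rw [mem_VI] at hq
  rw [Set.mem_Ici]
  omega

theorem UU5_univ : UU Γ6 5 3 Set.univ \ Sh 3 Set.univ = ↑({0, 1, 2} : Finset ℕ) := by
  ext e
  have hUU : e ∈ UU Γ6 5 3 Set.univ := by
    intro q hq
    rw [mem_VI] at hq
    exact ⟨by omega, trivial⟩
  simp only [Set.mem_diff, hUU, true_and, mem_Sh, Set.mem_univ, and_true, Finset.coe_insert,
    Finset.coe_singleton, Set.mem_insert_iff, Set.mem_singleton_iff]
  omega

include hmono in
/-- `Ext¹` of a quotient of `k⟦X⟧` killed by the maximal ideal -/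
theorem ext_subQ [IsLocalRing ↥A] (N : Submodule ↥A (PowerSeries k)) (T : Set ℕ)
    (hN : ∀ f, f ∈ N ↔ SuppIn T f) (hT3 : ∀ e, 3 ≤ e → e ∈ T) :
    Module.length ↥A (Ext (ModuleCat.of ↥A (LenFin.SubQ (⊤ : Submodule ↥A (PowerSeries k)) N))
      (ModuleCat.of ↥A ↥(⊤ : Submodule ↥A (PowerSeries k))) 1) =
      ((Set.univ \ T).ncard : ℕ∞) * 3 := by
  have hlen := MonoRing.length_subquot_mono Γ6 A hmono ⊤ N Set.univ T 3 hT3 (Set.subset_univ _)
    (hTop A) hN
  haveI : Module.Finite ↥A (LenFin.SubQ (⊤ : Submodule ↥A (PowerSeries k)) N) := by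
    have hfl : IsFiniteLength ↥A (LenFin.SubQ (⊤ : Submodule ↥A (PowerSeries k)) N) := by
      rw [← Module.length_ne_top_iff, hlen]
      exact ENat.coe_ne_top _
    haveI := (isFiniteLength_iff_isNoetherian_isArtinian.mp hfl).1
    infer_instance
  have hmax : Ideal.IsMaximal (II A 5 : Ideal ↥A) := by
    rw [II5_eq A hmono]
    infer_instance
  have hQ : ∀ a ∈ II A 5, ∀ q : LenFin.SubQ (⊤ : Submodule ↥A (PowerSeries k)) N, a • q = 0 := by
    refine CubExt.subQ_killed ⊤ N _ ?_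
    intro a ha y
    change (a : PowerSeries k) * (y : PowerSeries k) ∈ N
    rw [hN]
    have hdvd : (X : PowerSeries k) ^ 3 ∣ (a : PowerSeries k) * (y : PowerSeries k) :=
      Dvd.dvd.mul_right (dvd_of_mem_II5 A hmono a ha) _
    exact suppIn_mono (fun e he => hT3 e he) (MonoRing.suppIn_of_dvd hdvd)
  have ht₀ : 3 ∈ VI Γ6 5 := by rw [mem_VI]; omega
  rw [TwoGen2.length_ext_killed Γ6 A hmono 5 3 ht₀ Set.univ closed_univ ⊤ (hTop A) 0
    (fun _ _ => trivial) _ hmax hQ, hlen, UU5_univ, Set.ncard_coe_finset]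
  rfl

/-- inclusion into the top submodule -/
noncomputable def inclTop (N : Submodule ↥A (PowerSeries k)) :
    ↥N →ₗ[↥A] ↥(⊤ : Submodule ↥A (PowerSeries k)) := Submodule.inclusion le_top

theorem inclTop_injective (N : Submodule ↥A (PowerSeries k)) : Function.Injective (inclTop A N) :=
  Submodule.inclusion_injective _

theorem exact_inclTop (N : Submodule ↥A (PowerSeries k)) :
    Function.Exact (inclTop A N) (CubExt.subQmk (⊤ : Submodule ↥A (PowerSeries k)) N) := by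
  intro x
  rw [CubExt.subQmk_eq_zero]
  constructor
  · intro hx
    exact ⟨⟨x, hx⟩, rfl⟩
  · rintro ⟨y, rfl⟩
    exact y.2

include hmono in
theorem ext_N1_top :
    Module.length ↥A (Ext (ModuleCat.of ↥A ↥(Submodule.span ↥A
      ({1, (X : PowerSeries k) ^ 1} : Set (PowerSeries k))))
      (ModuleCat.of ↥A ↥(⊤ : Submodule ↥A (PowerSeries k))) 1) = 3 := by
  have ht₀ : 3 ∈ VI Γ6 1 := by rw [mem_VI]; omega
  have hD : UU Γ6 1 3 Set.univ \ WW 1 3 Set.univ = ↑({0, 1, 2} : Finset ℕ) := by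
    ext e
    have hUU : e ∈ UU Γ6 1 3 Set.univ := by
      intro q hq
      rw [mem_VI] at hq
      exact ⟨by omega, trivial⟩
    simp only [Set.mem_diff, hUU, true_and, mem_WW, Set.mem_univ, and_true, Finset.coe_insert,
      Finset.coe_singleton, Set.mem_insert_iff, Set.mem_singleton_iff]
    omega
  have := ext_pair A hmono 1 3 ht₀ Set.univ closed_univ (fun _ _ => trivial) ⊤ (hTop A)
    {0, 1, 2} hD
  rw [this]
  rfl

include hmono in
/-- every `A`-linear map from `A + A X⁵` to `k⟦X⟧` extends to `k⟦X⟧` -/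
theorem extend_N5 (φ : ↥(Submodule.span ↥A ({1, (X : PowerSeries k) ^ 5} : Set (PowerSeries k)))
      →ₗ[↥A] ↥(⊤ : Submodule ↥A (PowerSeries k))) :
    ∃ ψ : ↥(⊤ : Submodule ↥A (PowerSeries k)) →ₗ[↥A] ↥(⊤ : Submodule ↥A (PowerSeries k)),
      ψ ∘ₗ inclTop A _ = φ := by
  have h1N : (1 : PowerSeries k) ∈
      Submodule.span ↥A ({1, (X : PowerSeries k) ^ 5} : Set (PowerSeries k)) :=
    Submodule.subset_span (by simp)
  set x : PowerSeries k := ((φ ⟨1, h1N⟩ : ↥(⊤ : Submodule ↥A (PowerSeries k))) : PowerSeries k)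
    with hx
  have h6 : ∀ f : PowerSeries k, (X : PowerSeries k) ^ 6 * f ∈ A := by
    intro f
    rw [hmono]
    refine suppIn_mono ?_ (MonoRing.suppIn_of_dvd (dvd_mul_right _ f))
    intro e he
    rw [Set.mem_Ici] at he
    rw [mem_Γ6]
    omega
  have key : ∀ y : ↥(Submodule.span ↥A ({1, (X : PowerSeries k) ^ 5} : Set (PowerSeries k))),
      ((φ y : ↥(⊤ : Submodule ↥A (PowerSeries k))) : PowerSeries k) =
      x * (y : PowerSeries k) := by
    intro y
    let τ : ↥A := ⟨(X : PowerSeries k) ^ 6, by simpa using h6 1⟩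
    let a : ↥A := ⟨(X : PowerSeries k) ^ 6 * (y : PowerSeries k), h6 _⟩
    have h1 : τ • y = a • (⟨1, h1N⟩ :
        ↥(Submodule.span ↥A ({1, (X : PowerSeries k) ^ 5} : Set (PowerSeries k)))) := by
      apply Subtype.ext
      change (X : PowerSeries k) ^ 6 * (y : PowerSeries k) =
        ((X : PowerSeries k) ^ 6 * (y : PowerSeries k)) * 1
      rw [mul_one]
    have h2 := congrArg φ h1
    rw [map_smul, map_smul] at h2
    have h3 := congrArg (fun z : ↥(⊤ : Submodule ↥A (PowerSeries k)) => (z : PowerSeries k)) h2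
    change (X : PowerSeries k) ^ 6 * ((φ y : ↥(⊤ : Submodule ↥A (PowerSeries k))) : PowerSeries k) =
      ((X : PowerSeries k) ^ 6 * (y : PowerSeries k)) * x at h3
    have h4 : (X : PowerSeries k) ^ 6 * ((φ y : ↥(⊤ : Submodule ↥A (PowerSeries k))) : PowerSeries k) =
        (X : PowerSeries k) ^ 6 * (x * (y : PowerSeries k)) := by
      rw [h3]; ring
    exact mul_left_cancel₀ (pow_ne_zero 6 X_ne_zero) h4
  let ψ : ↥(⊤ : Submodule ↥A (PowerSeries k)) →ₗ[↥A] ↥(⊤ : Submodule ↥A (PowerSeries k)) :=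
    { toFun := fun b => ⟨x * (b : PowerSeries k), trivial⟩
      map_add' := fun b b' => by
        apply Subtype.ext
        change x * ((b : PowerSeries k) + b') = x * b + x * b'
        ring
      map_smul' := fun a b => by
        apply Subtype.ext
        change x * ((a : PowerSeries k) * b) = (a : PowerSeries k) * (x * b)
        ring }
  refine ⟨ψ, ?_⟩
  apply LinearMap.ext
  intro y
  apply Subtype.ext
  change x * (y : PowerSeries k) = _
  exact (key y).symm

include hmono in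
theorem ext_top :
    Module.length ↥A (Ext (ModuleCat.of ↥A ↥(⊤ : Submodule ↥A (PowerSeries k)))
      (ModuleCat.of ↥A ↥(⊤ : Submodule ↥A (PowerSeries k))) 1) = 6 := by
  haveI := MonoRing.isLocalRing Γ6 A hmono
  set N₁ := Submodule.span ↥A ({1, (X : PowerSeries k) ^ 1} : Set (PowerSeries k)) with hN₁
  set N₅ := Submodule.span ↥A ({1, (X : PowerSeries k) ^ 5} : Set (PowerSeries k)) with hN₅
  apply le_antisymm
  · have hle := ExtLen.length_ext_one_le (R := ↥A) (M₁ := ↥N₁)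
      (M₂ := ↥(⊤ : Submodule ↥A (PowerSeries k)))
      (M₃ := LenFin.SubQ (⊤ : Submodule ↥A (PowerSeries k)) N₁)
      (Y := ↥(⊤ : Submodule ↥A (PowerSeries k))) (inclTop A N₁) (CubExt.subQmk ⊤ N₁)
      (inclTop_injective A N₁) (CubExt.subQmk_surjective ⊤ N₁) (exact_inclTop A N₁)
    rw [ext_subQ A hmono N₁ T1 (span1 A hmono) (fun e he => Or.inr he), ext_N1_top A hmono] at hle
    have hc : (Set.univ \ T1 : Set ℕ) = ↑({2} : Finset ℕ) := by
      ext e
      simp only [T1, Set.mem_diff, Set.mem_univ, true_and, Set.mem_setOf_eq, Finset.coe_singleton,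
        Set.mem_singleton_iff]
      omega
    rw [hc, Set.ncard_coe_finset] at hle
    refine le_trans hle (le_of_eq ?_)
    rfl
  · have hge := ExtLen.length_ext_one_ge (R := ↥A) (M₁ := ↥N₅)
      (M₂ := ↥(⊤ : Submodule ↥A (PowerSeries k)))
      (M₃ := LenFin.SubQ (⊤ : Submodule ↥A (PowerSeries k)) N₅)
      (Y := ↥(⊤ : Submodule ↥A (PowerSeries k))) (inclTop A N₅) (CubExt.subQmk ⊤ N₅)
      (inclTop_injective A N₅) (CubExt.subQmk_surjective ⊤ N₅) (exact_inclTop A N₅)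
      (extend_N5 A hmono)
    rw [ext_subQ A hmono N₅ T5 (span5 A hmono) (fun e he => Or.inr he)] at hge
    have hc : (Set.univ \ T5 : Set ℕ) = ↑({1, 2} : Finset ℕ) := by
      ext e
      simp only [T5, Set.mem_diff, Set.mem_univ, true_and, Set.mem_setOf_eq, Finset.coe_insert,
        Finset.coe_singleton, Set.mem_insert_iff, Set.mem_singleton_iff]
      omega
    rw [hc, Set.ncard_coe_finset] at hge
    refine le_trans (le_of_eq ?_) hge
    rfl

include hmono in
/-- `A + A X + A X² = k⟦X⟧` -/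
theorem span_top :
    Submodule.span ↥A ({1, (X : PowerSeries k), (X : PowerSeries k) ^ 2} : Set (PowerSeries k)) =
      ⊤ := by
  rw [eq_top_iff]
  intro f _
  have h1 : SuppIn T1 (f - C (coeff 2 f) * (X : PowerSeries k) ^ 2) := by
    intro n hn
    by_contra hnot
    have hn2 : n = 2 := by
      change ¬ (n ≤ 1 ∨ 3 ≤ n) at hnot
      omega
    subst hn2
    apply hn
    rw [map_sub, coeff_C_mul, coeff_X_pow, if_pos rfl, mul_one, sub_self]
  have h2 := (span1 A hmono _).mpr h1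
  have h3 : Submodule.span ↥A ({1, (X : PowerSeries k) ^ 1} : Set (PowerSeries k)) ≤
      Submodule.span ↥A ({1, (X : PowerSeries k), (X : PowerSeries k) ^ 2} :
        Set (PowerSeries k)) := by
    apply Submodule.span_mono
    intro z hz
    rcases hz with rfl | hz
    · simp
    · rw [Set.mem_singleton_iff] at hz
      subst hz
      rw [pow_one]
      simp
  have hC : (C (coeff 2 f) : PowerSeries k) ∈ A := A.algebraMap_mem (coeff 2 f)
  have h4 : C (coeff 2 f) * (X : PowerSeries k) ^ 2 ∈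
      Submodule.span ↥A ({1, (X : PowerSeries k), (X : PowerSeries k) ^ 2} :
        Set (PowerSeries k)) := by
    have hX : (X : PowerSeries k) ^ 2 ∈
        Submodule.span ↥A ({1, (X : PowerSeries k), (X : PowerSeries k) ^ 2} :
          Set (PowerSeries k)) := Submodule.subset_span (by simp)
    exact Submodule.smul_mem _ (⟨C (coeff 2 f), hC⟩ : ↥A) hX
  have h5 := Submodule.add_mem _ (h3 h2) h4
  rwa [sub_add_cancel] at h5

include hmono in
theorem ext_span_top :
    Module.length ↥A (Ext (ModuleCat.of ↥A ↥(Submodule.span ↥A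
        ({1, (X : PowerSeries k), (X : PowerSeries k) ^ 2} : Set (PowerSeries k))))
      (ModuleCat.of ↥A ↥(Submodule.span ↥A
        ({1, (X : PowerSeries k), (X : PowerSeries k) ^ 2} : Set (PowerSeries k)))) 1) = 6 := by
  rw [span_top A hmono]
  exact ext_top A hmono

include hmono in
theorem ext1' :
    Module.length ↥A (Ext (ModuleCat.of ↥A ↥(Submodule.span ↥A
        ({1, (X : PowerSeries k)} : Set (PowerSeries k))))
      (ModuleCat.of ↥A ↥(Submodule.span ↥A
        ({1, (X : PowerSeries k)} : Set (PowerSeries k)))) 1) = 2 := by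
  have := ext1 A hmono
  rwa [pow_one] at this

end Norm

end Groth.Agent.H75.E6
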