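import Groth.Agent.H91.Attr

/-! Equivariant maps out of a monoid scheme with schematically dense unit group. -/

set_option autoImplicit false
set_option maxHeartbeats 1000000
universe u

open CategoryTheory CategoryTheory.Limits MonoidalCategory CartesianMonoidalCategory MonObj
  AlgebraicGeometry Opposite

namespace Groth.Agent.H75.EqvUnits

variable {S : Scheme.{u}}

theorem isPullback_whiskerRight_fst {G M : Over S} (i : G ⟶ M) (T : Over S) :
    IsPullback (pullback.fst G.hom T.hom) (i ▷ T).left i.left (pullback.fst M.hom T.hom) := by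
  have hR : IsPullback (pullback.snd M.hom T.hom) (pullback.fst M.hom T.hom) T.hom M.hom :=
    (IsPullback.of_hasPullback M.hom T.hom).flip
  have hO : IsPullback ((i ▷ T).left ≫ pullback.snd M.hom T.hom) (pullback.fst G.hom T.hom) T.hom
      (i.left ≫ M.hom) := by
    rw [Over.whiskerRight_left_snd, Over.w]
    exact (IsPullback.of_hasPullback G.hom T.hom).flip
  exact (IsPullback.of_right hO (Over.whiskerRight_left_fst i) hR).flip

theorem dominant_whiskerRight {G M : Over S} (i : G ⟶ M) [IsSchemeTheoreticallyDominant i.left]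
    [QuasiCompact i.left] (T : Over S) [Flat T.hom] :
    IsSchemeTheoreticallyDominant (i ▷ T).left := by
  have : Flat (pullback.fst M.hom T.hom) := inferInstance
  exact IsSchemeTheoreticallyDominant.of_isPullback (isPullback_whiskerRight_fst i T)

theorem mono_of_isClosedImmersion {Z X : Over S} (j : Z ⟶ X) [IsClosedImmersion j.left] : Mono j := by
  have : Mono ((Over.forget S).map j) := by
    change Mono j.left
    infer_instance
  exact (Over.forget S).mono_of_mono_map this

/-- factoring a morphism through a closed immersion, given a factorisation on a schematically dense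
part -/
theorem exists_factor_over {P' P Y Z : Over S} (u : P' ⟶ P) [IsSchemeTheoreticallyDominant u.left]
    (φ : P ⟶ Y) (f : Z ⟶ Y) [IsClosedImmersion f.left] (ζ : P' ⟶ Z) (h : u ≫ φ = ζ ≫ f) :
    ∃ ψ : P ⟶ Z, ψ ≫ f = φ := by
  obtain ⟨ψ', hψ'⟩ := Groth.Agent.H91.exists_factor_of_isSchemeTheoreticallyDominant u.left φ.left
    f.left ζ.left (by rw [← Over.comp_left, h, Over.comp_left])
  refine ⟨Over.homMk ψ' (by rw [← Over.w f, ← Category.assoc, hψ', Over.w]), ?_⟩
  ext
  exact hψ'

/-- a closed subscheme stable under the (dense) unit group is stable under the monoid -/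
theorem exists_monAct_of_closed {M G X Z : Over S} [MonObj M] [GrpObj G] (i : G ⟶ M) [IsMonHom i]
    [QuasiCompact i.left] [IsSchemeTheoreticallyDominant i.left] [Flat Z.hom]
    (a : Magnet.MonAct M X) (b : AlgGrp.Action G Z) (j : Z ⟶ X) [IsClosedImmersion j.left]
    (hj : Magnet.MonAct.IsEquivariant (Magnet.MonAct.ofAction b) (a.restrict i) j) :
    ∃ c : Magnet.MonAct M Z, Magnet.MonAct.IsEquivariant c a j ∧
      c.restrict i = Magnet.MonAct.ofAction b := by
  have hmono := mono_of_isClosedImmersion j
  have hdom := dominant_whiskerRight i Z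
  have hj' : b.act ≫ j = (G ◁ j) ≫ (i ▷ X) ≫ a.act := hj
  have hcomm : (i ▷ Z) ≫ ((M ◁ j) ≫ a.act) = b.act ≫ j := by
    rw [hj', ← Category.assoc, ← Category.assoc, whisker_exchange]
  obtain ⟨cAct, hc⟩ := exists_factor_over (i ▷ Z) ((M ◁ j) ≫ a.act) j b.act hcomm
  have hpt : ∀ {T : Over S} (g : T ⟶ M) (x : T ⟶ Z),
      (lift g x ≫ cAct) ≫ j = lift g (x ≫ j) ≫ a.act := by
    intro T g x
    rw [Category.assoc, hc, lift_whiskerLeft_assoc]
  let c : Magnet.MonAct M Z := Magnet.MonAct.mk' cAct
    (fun T x => by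
      rw [← cancel_mono j, hpt, a.lift_one_act])
    (fun T g h x => by
      rw [← cancel_mono j, hpt, hpt, hpt, a.lift_mul_act])
  refine ⟨c, ?_, ?_⟩
  · change cAct ≫ j = (M ◁ j) ≫ a.act
    exact hc
  · apply Magnet.MonAct.ext'
    change (i ▷ Z) ≫ cAct = b.act
    rw [← cancel_mono j, Category.assoc, hc, hcomm]

end Groth.Agent.H75.EqvUnits
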