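import Groth.Agent.H75.EqvUnits

/-! Equivariant maps out of a monoid scheme with schematically dense unit group: the square for a
closed immersion is cartesian. -/

set_option autoImplicit false
set_option maxHeartbeats 1000000
universe u

open CategoryTheory CategoryTheory.Limits MonoidalCategory CartesianMonoidalCategory MonObj
  AlgebraicGeometry Opposite

namespace Groth.Agent.H75.EqvUnits

variable {S : Scheme.{u}}

/-- On points: `φ (i g, t) = g • φ (1, t)`. -/
theorem lift_whiskerRight_eqv {M G X : Over S} [MonObj M] [MonObj G] (i : G ⟶ M) [IsMonHom i]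
    (a : Magnet.MonAct G X) {T : Over S}
    (φ : (Magnet.MonAct.eqvHom ((Magnet.MonAct.regular M).restrict i) a).obj (op T)) {T' : Over S}
    (g : T' ⟶ G) (t : T' ⟶ T) :
    lift g t ≫ (i ▷ T) ≫ φ.1 = lift g (t ≫ lift (toUnit T ≫ η[M]) (𝟙 T) ≫ φ.1) ≫ a.act := by
  have hφeq := (Magnet.MonAct.mem_eqvHom_iff φ.1).mp φ.2 T' g (1 : T' ⟶ M) t
  have h1 : lift g (1 : T' ⟶ M) ≫ ((Magnet.MonAct.regular M).restrict i).act = g ≫ i := by
    rw [Magnet.MonAct.lift_restrict_act, Magnet.MonAct.lift_regular_act, _root_.mul_one]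
  have h2 : t ≫ lift (toUnit T ≫ η[M]) (𝟙 T) = lift (1 : T' ⟶ M) t := by
    rw [comp_lift, Category.comp_id, ← Category.assoc, toUnit_unique (t ≫ toUnit T) (toUnit T'),
      Hom.one_def]
  rw [lift_whiskerRight_assoc, ← h1, hφeq, ← Category.assoc t, h2]

theorem whiskerRight_eqv_eq {M G X : Over S} [MonObj M] [MonObj G] (i : G ⟶ M) [IsMonHom i]
    (a : Magnet.MonAct G X) {T : Over S}
    (φ : (Magnet.MonAct.eqvHom ((Magnet.MonAct.regular M).restrict i) a).obj (op T)) :
    (i ▷ T) ≫ φ.1 = (G ◁ (lift (toUnit T ≫ η[M]) (𝟙 T) ≫ φ.1)) ≫ a.act := by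
  apply Magnet.hom_ext_lift₂
  intro T' m t
  rw [lift_whiskerRight_eqv, lift_whiskerLeft_assoc]

theorem eqv_isPullback_of_isClosedImmersion {M G X Z : Over S} [MonObj M] [MonObj G] (i : G ⟶ M)
    [IsMonHom i] [QuasiCompact i.left] [IsSchemeTheoreticallyDominant i.left]
    (hflat : ∀ T : Over S, Flat T.hom)
    (aX : Magnet.MonAct G X) (aZ : Magnet.MonAct G Z) (j : Z ⟶ X) [IsClosedImmersion j.left]
    (hj : Magnet.MonAct.IsEquivariant aZ aX j) :
    IsPullback
      (Magnet.MonAct.eqvHom.postcomp ((Magnet.MonAct.regular M).restrict i) j hj)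
      (Magnet.MonAct.eqvHom.evalAt ((Magnet.MonAct.regular M).restrict i) aZ η[M])
      (Magnet.MonAct.eqvHom.evalAt ((Magnet.MonAct.regular M).restrict i) aX η[M])
      (yoneda.map j) := by
  have hmono : Mono j := mono_of_isClosedImmersion j
  apply IsPullback.of_forall_isPullback_app
  intro T
  rw [Limits.Types.isPullback_iff]
  refine ⟨?_, ?_, ?_⟩
  · ext ψ
    change lift (toUnit (unop T) ≫ η[M]) (𝟙 (unop T)) ≫ (ψ.1 ≫ j) =
      (lift (toUnit (unop T) ≫ η[M]) (𝟙 (unop T)) ≫ ψ.1) ≫ j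
    rw [Category.assoc]
  · rintro ψ₁ ψ₂ ⟨h1, -⟩
    have h1' : ψ₁.1 ≫ j = ψ₂.1 ≫ j := congrArg Subtype.val h1
    apply Subtype.ext
    exact (cancel_mono j).mp h1'
  · intro φ z h
    have h' : lift (toUnit (unop T) ≫ η[M]) (𝟙 (unop T)) ≫ φ.1 = z ≫ j := h
    have hcomm : (i ▷ unop T) ≫ φ.1 = ((G ◁ z) ≫ aZ.act) ≫ j := by
      rw [whiskerRight_eqv_eq i aX φ, h', Category.assoc, hj,
        MonoidalCategory.whiskerLeft_comp, Category.assoc]
    have := hflat (unop T)
    have := dominant_whiskerRight i (unop T)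
    obtain ⟨ψ, hψf⟩ := exists_factor_over (i ▷ unop T) φ.1 j ((G ◁ z) ≫ aZ.act) hcomm
    have hψeq : Magnet.MonAct.IsEquivariant
        (((Magnet.MonAct.regular M).restrict i).prod (Magnet.MonAct.trivial _ (unop T))) aZ ψ := by
      unfold Magnet.MonAct.IsEquivariant
      rw [← cancel_mono j, Category.assoc, hψf, Category.assoc, hj, ← Category.assoc,
        ← MonoidalCategory.whiskerLeft_comp, hψf]
      exact φ.2
    refine ⟨⟨ψ, hψeq⟩, ?_, ?_⟩
    · apply Subtype.ext
      exact hψf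
    · change lift (toUnit (unop T) ≫ η[M]) (𝟙 (unop T)) ≫ ψ = z
      rw [← cancel_mono j, Category.assoc, hψf, h']

end Groth.Agent.H75.EqvUnits
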