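import Groth.Agent.H75.EqvUnits2

/-! Equivariant maps out of a monoid scheme with a zero: the square for an open immersion (evaluation
at the zero section) is cartesian. -/

set_option autoImplicit false
set_option maxHeartbeats 1000000
universe u

open CategoryTheory CategoryTheory.Limits MonoidalCategory CartesianMonoidalCategory MonObj
  AlgebraicGeometry Opposite

namespace Groth.Agent.H75.EqvUnits

variable {S : Scheme.{u}}

theorem left_comp_apply {A B C : Over S} (f : A ⟶ B) (g : B ⟶ C) (q : A.left) :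
    (f ≫ g).left q = g.left (f.left q) := rfl

theorem isPullback_whiskerLeft_snd (M : Over S) {T' T : Over S} (t : T' ⟶ T) :
    IsPullback (M ◁ t).left (pullback.snd M.hom T'.hom) (pullback.snd M.hom T.hom) t.left := by
  have hR : IsPullback (pullback.fst M.hom T.hom) (pullback.snd M.hom T.hom) M.hom T.hom :=
    IsPullback.of_hasPullback M.hom T.hom
  have hO : IsPullback ((M ◁ t).left ≫ pullback.fst M.hom T.hom) (pullback.snd M.hom T'.hom) M.hom
      (t.left ≫ T.hom) := by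
    rw [Over.whiskerLeft_left_fst, Over.w]
    exact IsPullback.of_hasPullback M.hom T'.hom
  exact IsPullback.of_right hO (Over.whiskerLeft_left_snd t) hR

/-- the preimage of a stable open under an equivariant map is stable -/
theorem stable_preimage {M G X U T : Over S} [MonObj M] [MonObj G] (ρ : Magnet.MonAct G M)
    (aX : Magnet.MonAct G X) (aU : Magnet.MonAct G U) (j : U ⟶ X) [IsOpenImmersion j.left]
    (hj : Magnet.MonAct.IsEquivariant aU aX j)
    (φ : (Magnet.MonAct.eqvHom ρ aX).obj (op T)) :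
    (snd G (M ⊗ T)).left ⁻¹ᵁ (φ.1.left ⁻¹ᵁ j.left.opensRange) ≤
      ((ρ.prod (Magnet.MonAct.trivial G T)).act).left ⁻¹ᵁ (φ.1.left ⁻¹ᵁ j.left.opensRange) := by
  intro q hq
  have hq' : φ.1.left ((snd G (M ⊗ T)).left q) ∈ Set.range j.left := hq
  change φ.1.left (((ρ.prod (Magnet.MonAct.trivial G T)).act).left q) ∈ Set.range j.left
  have hφ : (ρ.prod (Magnet.MonAct.trivial G T)).act ≫ φ.1 = (G ◁ φ.1) ≫ aX.act := φ.2
  rw [← left_comp_apply, hφ, left_comp_apply]
  have h1 : (snd G X).left ((G ◁ φ.1).left q) ∈ Set.range j.left := by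
    rw [← left_comp_apply, whiskerLeft_snd, left_comp_apply]
    exact hq'
  obtain ⟨u, hu⟩ := h1
  obtain ⟨q', hq1, -⟩ := Scheme.exists_preimage_of_isPullback (isPullback_whiskerLeft_snd G j)
    ((G ◁ φ.1).left q) u hu.symm
  rw [← hq1, ← left_comp_apply]
  have hj' : aU.act ≫ j = (G ◁ j) ≫ aX.act := hj
  rw [← hj', left_comp_apply]
  exact ⟨_, rfl⟩

theorem preimage_range_eq_top {M G X U : Over S} [MonObj M] [MonObj G] (ρ : Magnet.MonAct G M)
    (o : 𝟙_ (Over S) ⟶ M)
    (hM : ∀ (T : Over S) (K : Type u) [Field K] (_ : T.left ≅ Spec (CommRingCat.of K))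
      (W : (M ⊗ T).left.Opens),
      (snd G (M ⊗ T)).left ⁻¹ᵁ W ≤ ((ρ.prod (Magnet.MonAct.trivial G T)).act).left ⁻¹ᵁ W →
      (lift (toUnit T ≫ o) (𝟙 T)).left ⁻¹ᵁ W = ⊤ → W = ⊤)
    (aX : Magnet.MonAct G X) (aU : Magnet.MonAct G U) (j : U ⟶ X) [IsOpenImmersion j.left]
    (hj : Magnet.MonAct.IsEquivariant aU aX j) {T : Over S}
    (φ : (Magnet.MonAct.eqvHom ρ aX).obj (op T)) (z : T ⟶ U)
    (h : lift (toUnit T ≫ o) (𝟙 T) ≫ φ.1 = z ≫ j) :
    φ.1.left ⁻¹ᵁ j.left.opensRange = ⊤ := by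
  apply le_antisymm le_top
  intro p _
  let y : T.left := (snd M T).left p
  let Ty : Over S := Over.mk (T.left.fromSpecResidueField y ≫ T.hom)
  let iy : Ty ⟶ T := Over.homMk (T.left.fromSpecResidueField y) rfl
  let φy : (Magnet.MonAct.eqvHom ρ aX).obj (op Ty) := (Magnet.MonAct.eqvHom ρ aX).map iy.op φ
  have hφy : φy.1 = (M ◁ iy) ≫ φ.1 := rfl
  have hstab := stable_preimage ρ aX aU j hj φy
  have hzero : (lift (toUnit Ty ≫ o) (𝟙 Ty)).left ⁻¹ᵁ (φy.1.left ⁻¹ᵁ j.left.opensRange) = ⊤ := by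
    apply le_antisymm le_top
    intro q _
    change φy.1.left ((lift (toUnit Ty ≫ o) (𝟙 Ty)).left q) ∈ Set.range j.left
    have e : lift (toUnit Ty ≫ o) iy = iy ≫ lift (toUnit T ≫ o) (𝟙 T) := by
      rw [comp_lift, Category.comp_id, ← Category.assoc, toUnit_unique (iy ≫ toUnit T) (toUnit Ty)]
    rw [← left_comp_apply, hφy, lift_whiskerLeft_assoc, Category.id_comp, e, Category.assoc, h,
      left_comp_apply, left_comp_apply]
    exact ⟨_, rfl⟩
  have htop := hM Ty (T.left.residueField y) (Iso.refl _) _ hstab hzero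
  obtain ⟨s⟩ : Nonempty (Spec (T.left.residueField y)) := inferInstance
  obtain ⟨p', hp1, -⟩ := Scheme.exists_preimage_of_isPullback (isPullback_whiskerLeft_snd M iy) p s
    (by
      change y = T.left.fromSpecResidueField y s
      rw [Scheme.fromSpecResidueField_apply])
  have hp' : p' ∈ φy.1.left ⁻¹ᵁ j.left.opensRange := by
    rw [htop]
    trivial
  change φ.1.left p ∈ Set.range j.left
  rw [← hp1, ← left_comp_apply, ← hφy]
  exact hp'

theorem eqv_isPullback_of_isOpenImmersion {M G X U : Over S} [MonObj M] [MonObj G]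
    (ρ : Magnet.MonAct G M) (o : 𝟙_ (Over S) ⟶ M)
    (hM : ∀ (T : Over S) (K : Type u) [Field K] (_ : T.left ≅ Spec (CommRingCat.of K))
      (W : (M ⊗ T).left.Opens),
      (snd G (M ⊗ T)).left ⁻¹ᵁ W ≤ ((ρ.prod (Magnet.MonAct.trivial G T)).act).left ⁻¹ᵁ W →
      (lift (toUnit T ≫ o) (𝟙 T)).left ⁻¹ᵁ W = ⊤ → W = ⊤)
    (aX : Magnet.MonAct G X) (aU : Magnet.MonAct G U) (j : U ⟶ X) [IsOpenImmersion j.left]
    (hj : Magnet.MonAct.IsEquivariant aU aX j) :
    IsPullback (Magnet.MonAct.eqvHom.postcomp ρ j hj) (Magnet.MonAct.eqvHom.evalAt ρ aU o)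
      (Magnet.MonAct.eqvHom.evalAt ρ aX o) (yoneda.map j) := by
  have hmono : Mono j := by
    have : Mono ((Over.forget S).map j) := by
      change Mono j.left
      infer_instance
    exact (Over.forget S).mono_of_mono_map this
  apply IsPullback.of_forall_isPullback_app
  intro T
  rw [Limits.Types.isPullback_iff]
  refine ⟨?_, ?_, ?_⟩
  · ext ψ
    change lift (toUnit (unop T) ≫ o) (𝟙 (unop T)) ≫ (ψ.1 ≫ j) =
      (lift (toUnit (unop T) ≫ o) (𝟙 (unop T)) ≫ ψ.1) ≫ j
    rw [Category.assoc]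
  · rintro ψ₁ ψ₂ ⟨h1, -⟩
    have h1' : ψ₁.1 ≫ j = ψ₂.1 ≫ j := congrArg Subtype.val h1
    apply Subtype.ext
    exact (cancel_mono j).mp h1'
  · intro φ z h
    have h' : lift (toUnit (unop T) ≫ o) (𝟙 (unop T)) ≫ φ.1 = z ≫ j := h
    have htop := preimage_range_eq_top ρ o hM aX aU j hj φ z h'
    have hrange : Set.range φ.1.left ⊆ Set.range j.left := by
      rintro _ ⟨p, rfl⟩
      have : p ∈ φ.1.left ⁻¹ᵁ j.left.opensRange := by
        rw [htop]
        trivial
      exact this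
    have hψ' : IsOpenImmersion.lift j.left φ.1.left hrange ≫ j.left = φ.1.left :=
      IsOpenImmersion.lift_fac _ _ _
    let ψ : M ⊗ unop T ⟶ U := Over.homMk (IsOpenImmersion.lift j.left φ.1.left hrange) (by
      rw [← Over.w j, ← Category.assoc, hψ', Over.w])
    have hψf : ψ ≫ j = φ.1 := by
      ext
      exact hψ'
    have hψeq : Magnet.MonAct.IsEquivariant (ρ.prod (Magnet.MonAct.trivial _ (unop T))) aU ψ := by
      unfold Magnet.MonAct.IsEquivariant
      rw [← cancel_mono j, Category.assoc, hψf, Category.assoc, hj, ← Category.assoc,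
        ← MonoidalCategory.whiskerLeft_comp, hψf]
      exact φ.2
    refine ⟨⟨ψ, hψeq⟩, ?_, ?_⟩
    · apply Subtype.ext
      exact hψf
    · change lift (toUnit (unop T) ≫ o) (𝟙 (unop T)) ≫ ψ = z
      rw [← cancel_mono j, Category.assoc, hψf, h']

end Groth.Agent.H75.EqvUnits
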