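import Mathlib
import Groth.Agent.H75.CanonIdeal

/-! Duality of `Ext` groups with respect to a module `W`:
`Ext^k(M, Hom(Y, W)) ≃ Ext^k(Y, Hom(M, W))` by dimension shifting. -/

set_option autoImplicit false
universe u

namespace Groth.Agent.H75.ExtDual

open CategoryTheory Abelian

theorem nonempty_addEquiv_of_surjective {A A' E E' : Type*} [AddCommGroup A] [AddCommGroup A']
    [AddCommGroup E] [AddCommGroup E']
    (δ : A →+ E) (δ' : A' →+ E') (hδ : Function.Surjective δ) (hδ' : Function.Surjective δ')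
    (e : A ≃+ A') (hker : ∀ a, δ a = 0 ↔ δ' (e a) = 0) : Nonempty (E ≃+ E') := by
  have e1 := QuotientAddGroup.quotientKerEquivOfSurjective δ hδ
  have e2 := QuotientAddGroup.quotientKerEquivOfSurjective δ' hδ'
  have e3 : A ⧸ δ.ker ≃+ A' ⧸ δ'.ker := QuotientAddGroup.congr δ.ker δ'.ker e (by
    ext a'
    constructor
    · rintro ⟨a, ha, rfl⟩
      exact (hker a).mp ha
    · intro ha'
      refine ⟨e.symm a', ?_, by simp⟩
      rw [SetLike.mem_coe, AddMonoidHom.mem_ker, hker]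
      simpa using ha')
  exact ⟨e1.symm.trans (e3.trans e2)⟩

variable {R : Type u} [CommRing R]

section LES

variable {S : ShortComplex (ModuleCat.{u} R)} (hS : S.ShortExact)

theorem precomp_extClass_bijective (T : ModuleCat.{u} R) {n₀ n₁ : ℕ} (h : 1 + n₀ = n₁)
    (h0 : ∀ x : Ext S.X₂ T n₀, x = 0) (h1 : ∀ x : Ext S.X₂ T n₁, x = 0) :
    Function.Bijective (hS.extClass.precomp T h) := by
  constructor
  · rw [injective_iff_map_eq_zero]
    intro x hx
    obtain ⟨x₂, hx₂⟩ := Ext.contravariant_sequence_exact₁ hS T x h hx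
    rw [← hx₂, h0 x₂, Ext.comp_zero]
  · intro x₃
    obtain ⟨x₁, hx₁⟩ := Ext.contravariant_sequence_exact₃ hS T x₃ (h1 _) h
    exact ⟨x₁, hx₁⟩

theorem postcomp_extClass_bijective (X : ModuleCat.{u} R) {n₀ n₁ : ℕ} (h : n₀ + 1 = n₁)
    (h0 : ∀ x : Ext X S.X₂ n₀, x = 0) (h1 : ∀ x : Ext X S.X₂ n₁, x = 0) :
    Function.Bijective (hS.extClass.postcomp X h) := by
  constructor
  · rw [injective_iff_map_eq_zero]
    intro x hx
    obtain ⟨x₂, hx₂⟩ := Ext.covariant_sequence_exact₃ X hS x h hx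
    rw [← hx₂, h0 x₂, Ext.zero_comp]
  · intro x₁
    obtain ⟨x₃, hx₃⟩ := Ext.covariant_sequence_exact₁ X hS x₁ (h1 _) h
    exact ⟨x₃, hx₃⟩

end LES


section One

variable {W : Type u} [AddCommGroup W] [Module R W]
  {Z F M Y : Type u} [AddCommGroup Z] [Module R Z] [AddCommGroup F] [Module R F]
  [AddCommGroup M] [Module R M] [AddCommGroup Y] [Module R Y]

/-- the flip equivalence -/
def flipEquiv : (Z →ₗ[R] (Y →ₗ[R] W)) ≃+ (Y →ₗ[R] (Z →ₗ[R] W)) where
  toFun g := g.flip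
  invFun g := g.flip
  left_inv g := by ext; rfl
  right_inv g := by ext; rfl
  map_add' g g' := by ext; rfl

theorem flipEquiv_apply (g : Z →ₗ[R] (Y →ₗ[R] W)) (y : Y) (z : Z) :
    flipEquiv g y z = g z y := rfl

/-- dual of a short exact sequence -/
theorem dual_shortExact (i : Z →ₗ[R] F) (p : F →ₗ[R] M)
    (hp : Function.Surjective p) (hip : Function.Exact i p)
    (hext : ∀ φ : Z →ₗ[R] W, ∃ ψ : F →ₗ[R] W, ψ ∘ₗ i = φ) :
    (ShortComplex.mk (ModuleCat.ofHom (LinearMap.lcomp R W p)) (ModuleCat.ofHom (LinearMap.lcomp R W i)) (by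
      apply ModuleCat.hom_ext
      apply LinearMap.ext
      intro x
      exact (LinearMap.exact_lcomp_of_exact_of_surjective W hip hp).apply_apply_eq_zero x)).ShortExact := by
  apply Canon.shortExact_of
  · intro φ φ' h
    ext m
    obtain ⟨f, rfl⟩ := hp m
    exact LinearMap.congr_fun h f
  · intro φ
    obtain ⟨ψ, hψ⟩ := hext φ
    exact ⟨ψ, hψ⟩
  · exact LinearMap.exact_lcomp_of_exact_of_surjective W hip hp

theorem ext_one_dual [Module.Projective R F] (i : Z →ₗ[R] F) (p : F →ₗ[R] M) (hi : Function.Injective i)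
    (hp : Function.Surjective p) (hip : Function.Exact i p)
    (hext : ∀ φ : Z →ₗ[R] W, ∃ ψ : F →ₗ[R] W, ψ ∘ₗ i = φ)
    (hacyc : ∀ x : Ext (ModuleCat.of R Y) (ModuleCat.of R (F →ₗ[R] W)) 1, x = 0) :
    Nonempty (Ext (ModuleCat.of R M) (ModuleCat.of R (Y →ₗ[R] W)) 1 ≃+
      Ext (ModuleCat.of R Y) (ModuleCat.of R (M →ₗ[R] W)) 1) := by
  have hS := Canon.shortExact_of i p hi hp hip
  have hS' := dual_shortExact (W := W) i p hp hip hext
  have hproj : Projective (ModuleCat.of R F) :=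
    (IsProjective.iff_projective (R := R) (P := F)).mp inferInstance
  let δ : (Z →ₗ[R] (Y →ₗ[R] W)) →+ Ext (ModuleCat.of R M) (ModuleCat.of R (Y →ₗ[R] W)) 1 :=
    AddMonoidHom.mk' (fun g => hS.extClass.comp (Ext.mk₀ (ModuleCat.ofHom g)) (show 1 + 0 = 1 from rfl))
      (by
        intro g g'
        rw [ModuleCat.ofHom_add, Ext.mk₀_add, Ext.comp_add])
  let δ' : (Y →ₗ[R] (Z →ₗ[R] W)) →+ Ext (ModuleCat.of R Y) (ModuleCat.of R (M →ₗ[R] W)) 1 :=
    AddMonoidHom.mk' (fun g => (Ext.mk₀ (ModuleCat.ofHom g)).comp hS'.extClass (show 0 + 1 = 1 from rfl))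
      (by
        intro g g'
        rw [ModuleCat.ofHom_add, Ext.mk₀_add, Ext.add_comp])
  have hδ : Function.Surjective δ := by
    intro x₃
    have h1 : (Ext.mk₀ (ModuleCat.ofHom p)).comp x₃ (zero_add 1) = 0 := Ext.eq_zero_of_projective _
    obtain ⟨x₁, hx₁⟩ := Ext.contravariant_sequence_exact₃ hS _ x₃ h1 (show 1 + 0 = 1 from rfl)
    obtain ⟨g, rfl⟩ := Canon.exists_mk₀ x₁
    exact ⟨g.hom, hx₁⟩
  have hδ' : Function.Surjective δ' := by
    intro x₁
    have h1 : x₁.comp (Ext.mk₀ (ModuleCat.ofHom (LinearMap.lcomp R W p))) (add_zero 1) = 0 := hacyc _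
    obtain ⟨x₃, hx₃⟩ := Ext.covariant_sequence_exact₁ _ hS' x₁ h1 (show 0 + 1 = 1 from rfl)
    obtain ⟨g, rfl⟩ := Canon.exists_mk₀ x₃
    exact ⟨g.hom, hx₃⟩
  have hker : ∀ g, δ g = 0 ↔ ∃ g' : F →ₗ[R] (Y →ₗ[R] W), g' ∘ₗ i = g := by
    intro g
    constructor
    · intro h
      obtain ⟨x₂, hx₂⟩ := Ext.contravariant_sequence_exact₁ hS _ _ (show 1 + 0 = 1 from rfl) h
      obtain ⟨ψ, rfl⟩ := Canon.exists_mk₀ x₂
      rw [Ext.mk₀_comp_mk₀] at hx₂
      have h3 := (Ext.mk₀_bijective _ _).1 hx₂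
      refine ⟨ψ.hom, ?_⟩
      have := congrArg ModuleCat.Hom.hom h3
      simpa using this
    · rintro ⟨g', rfl⟩
      have : Ext.mk₀ (ModuleCat.ofHom (g' ∘ₗ i)) =
          (Ext.mk₀ (ModuleCat.ofHom i)).comp (Ext.mk₀ (ModuleCat.ofHom g')) (zero_add 0) := by
        rw [Ext.mk₀_comp_mk₀]
        rfl
      change hS.extClass.comp (Ext.mk₀ (ModuleCat.ofHom (g' ∘ₗ i))) (show 1 + 0 = 1 from rfl) = 0
      rw [this]
      exact hS.extClass_comp_assoc _
  have hker' : ∀ g, δ' g = 0 ↔ ∃ g' : Y →ₗ[R] (F →ₗ[R] W), (LinearMap.lcomp R W i) ∘ₗ g' = g := by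
    intro g
    constructor
    · intro h
      obtain ⟨x₂, hx₂⟩ := Ext.covariant_sequence_exact₃ _ hS' _ (show 0 + 1 = 1 from rfl) h
      obtain ⟨ψ, rfl⟩ := Canon.exists_mk₀ x₂
      rw [Ext.mk₀_comp_mk₀] at hx₂
      have h3 := (Ext.mk₀_bijective _ _).1 hx₂
      refine ⟨ψ.hom, ?_⟩
      have := congrArg ModuleCat.Hom.hom h3
      simpa using this
    · rintro ⟨g', rfl⟩
      have : Ext.mk₀ (ModuleCat.ofHom ((LinearMap.lcomp R W i) ∘ₗ g')) =
          (Ext.mk₀ (ModuleCat.ofHom g')).comp (Ext.mk₀ (ModuleCat.ofHom (LinearMap.lcomp R W i))) (zero_add 0) := by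
        rw [Ext.mk₀_comp_mk₀]
        rfl
      change (Ext.mk₀ (ModuleCat.ofHom ((LinearMap.lcomp R W i) ∘ₗ g'))).comp hS'.extClass (show 0 + 1 = 1 from rfl) = 0
      rw [this, Ext.comp_assoc_of_second_deg_zero]
      rw [hS'.comp_extClass, Ext.comp_zero]
  refine nonempty_addEquiv_of_surjective δ δ' hδ hδ' flipEquiv ?_
  intro g
  rw [hker, hker']
  constructor
  · rintro ⟨g', rfl⟩
    refine ⟨flipEquiv g', ?_⟩
    ext y z
    rfl
  · rintro ⟨g', hg'⟩
    refine ⟨flipEquiv.symm g', ?_⟩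
    ext z y
    have := LinearMap.congr_fun (LinearMap.congr_fun hg' y) z
    exact this


theorem ext_succ_dual (k : ℕ) (hk : 1 ≤ k) [Module.Projective R F] (i : Z →ₗ[R] F) (p : F →ₗ[R] M)
    (hi : Function.Injective i) (hp : Function.Surjective p) (hip : Function.Exact i p)
    (hext : ∀ φ : Z →ₗ[R] W, ∃ ψ : F →ₗ[R] W, ψ ∘ₗ i = φ)
    (hacyc : ∀ j : ℕ, 1 ≤ j → ∀ x : Ext (ModuleCat.of R Y) (ModuleCat.of R (F →ₗ[R] W)) j, x = 0)
    (IH : Nonempty (Ext (ModuleCat.of R Z) (ModuleCat.of R (Y →ₗ[R] W)) k ≃+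
      Ext (ModuleCat.of R Y) (ModuleCat.of R (Z →ₗ[R] W)) k)) :
    Nonempty (Ext (ModuleCat.of R M) (ModuleCat.of R (Y →ₗ[R] W)) (k + 1) ≃+
      Ext (ModuleCat.of R Y) (ModuleCat.of R (M →ₗ[R] W)) (k + 1)) := by
  have hS := Canon.shortExact_of i p hi hp hip
  have hS' := dual_shortExact (W := W) i p hp hip hext
  have hproj : Projective (ModuleCat.of R F) :=
    (IsProjective.iff_projective (R := R) (P := F)).mp inferInstance
  obtain ⟨e⟩ := IH
  obtain ⟨k', rfl⟩ : ∃ k', k = k' + 1 := ⟨k - 1, by omega⟩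
  have e1 := AddEquiv.ofBijective _ (precomp_extClass_bijective hS (ModuleCat.of R (Y →ₗ[R] W))
    (show 1 + (k' + 1) = k' + 1 + 1 by omega) (fun x => Ext.eq_zero_of_projective x)
    (fun x => Ext.eq_zero_of_projective x))
  have e2 := AddEquiv.ofBijective _ (postcomp_extClass_bijective hS' (ModuleCat.of R Y)
    (show (k' + 1) + 1 = k' + 1 + 1 from rfl) (fun x => hacyc _ (by omega) x)
    (fun x => hacyc _ (by omega) x))
  exact ⟨e1.symm.trans (e.trans e2)⟩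

end One

end Groth.Agent.H75.ExtDual
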