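import Mathlib
import Groth.Agent.H75.ExtDual
import Groth.Agent.H75.TFEmbed

set_option autoImplicit false
universe u

namespace Groth.Agent.H75.ExtDual

open CategoryTheory Abelian

variable {R : Type u} [CommRing R]

theorem ext_eq_zero_of_iso_right {X Y Y' : ModuleCat.{u} R} (a : Y ≅ Y') (n : ℕ)
    (h : ∀ x : Ext X Y n, x = 0) : ∀ x : Ext X Y' n, x = 0 := by
  intro z
  have h1 : z.comp (Ext.mk₀ a.inv) (add_zero n) = 0 := h _
  have h2 := congrArg (fun t => t.comp (Ext.mk₀ a.hom) (add_zero n)) h1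
  simpa using h2

theorem ext_eq_zero_of_subsingleton_right {T W : Type u} [AddCommGroup T] [Module R T] [AddCommGroup W]
    [Module R W] [Subsingleton W] (n : ℕ) (x : Ext (ModuleCat.of R T) (ModuleCat.of R W) n) :
    x = 0 := by
  have hz : Limits.IsZero (ModuleCat.of R W) := ModuleCat.isZero_of_subsingleton _
  rw [← Ext.comp_mk₀_id x, hz.eq_of_src (𝟙 _) 0, Ext.mk₀_zero, Ext.comp_zero]

section

variable {W : Type u} [AddCommGroup W] [Module R W]

/-- vanishing into finite powers -/
theorem ext_pi_eq_zero {Y : Type u} [AddCommGroup Y] [Module R Y] (j : ℕ)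
    (h : ∀ x : Ext (ModuleCat.of R Y) (ModuleCat.of R W) j, x = 0) (n : ℕ) :
    ∀ x : Ext (ModuleCat.of R Y) (ModuleCat.of R (Fin n → W)) j, x = 0 := by
  induction n with
  | zero => intro x; exact ext_eq_zero_of_subsingleton_right j x
  | succ n ih =>
    intro x
    let f : W →ₗ[R] (Fin (n + 1) → W) := LinearMap.single R (fun _ : Fin (n + 1) => W) 0
    let g : (Fin (n + 1) → W) →ₗ[R] (Fin n → W) := LinearMap.funLeft R W Fin.succ
    have hf : Function.Injective f := Pi.single_injective (M := fun _ : Fin (n + 1) => W) 0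
    have hg : Function.Surjective g := by
      intro v
      refine ⟨Fin.cons 0 v, ?_⟩
      ext i
      simp [g, LinearMap.funLeft_apply]
    have hfg : Function.Exact f g := by
      intro v
      constructor
      · intro hv
        refine ⟨v 0, ?_⟩
        ext i
        induction i using Fin.cases with
        | zero => simp [f]
        | succ i =>
          have := congrFun hv i
          simp only [g, LinearMap.funLeft_apply, Pi.zero_apply] at this
          simp [f, this]
      · rintro ⟨w, rfl⟩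
        ext i
        simp [f, g, LinearMap.funLeft_apply]
    have hS := Canon.shortExact_of f g hf hg hfg
    obtain ⟨x₁, hx₁⟩ := Ext.covariant_sequence_exact₂ _ hS x (ih _)
    rw [← hx₁, h x₁, Ext.zero_comp]

end

section Main

variable [IsDomain R] [IsNoetherianRing R] {W : Type u} [AddCommGroup W] [Module R W]
  [HasInjectiveDimensionLT (ModuleCat.of R W) 2]

/-- `Ext^j(X, W) = 0` for `j ≥ 1` and `X` finitely generated torsion-free -/
theorem ext_eq_zero_of_torsionFree (X : Type u) [AddCommGroup X] [Module R X] [Module.Finite R X]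
    [NoZeroSMulDivisors R X] (j : ℕ) (hj : 1 ≤ j)
    (x : Ext (ModuleCat.of R X) (ModuleCat.of R W) j) : x = 0 := by
  rcases Nat.lt_or_ge j 2 with h | h
  · obtain rfl : j = 1 := by omega
    obtain ⟨n, ι, hι⟩ := exists_embedding_free (A := R) (Q := X)
    exact Canon.ext_one_eq_zero_of_injective_to_projective ι hι x
  · exact Ext.eq_zero_of_hasInjectiveDimensionLT _ 2 h

/-- extension of maps to `W` across a torsion-free quotient -/
theorem exists_extension {Z F M : Type u} [AddCommGroup Z] [Module R Z] [AddCommGroup F] [Module R F]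
    [AddCommGroup M] [Module R M] [Module.Finite R M] [NoZeroSMulDivisors R M]
    (i : Z →ₗ[R] F) (p : F →ₗ[R] M) (hi : Function.Injective i)
    (hp : Function.Surjective p) (hip : Function.Exact i p) (φ : Z →ₗ[R] W) :
    ∃ ψ : F →ₗ[R] W, ψ ∘ₗ i = φ := by
  have hS := Canon.shortExact_of i p hi hp hip
  have h1 : hS.extClass.comp (Ext.mk₀ (ModuleCat.ofHom φ)) (show 1 + 0 = 1 from rfl) = 0 :=
    ext_eq_zero_of_torsionFree M 1 le_rfl _
  obtain ⟨x₂, hx₂⟩ := Ext.contravariant_sequence_exact₁ hS _ _ rfl h1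
  obtain ⟨ψ, rfl⟩ := Canon.exists_mk₀ x₂
  rw [Ext.mk₀_comp_mk₀] at hx₂
  have h3 := (Ext.mk₀_bijective _ _).1 hx₂
  refine ⟨ψ.hom, ?_⟩
  have := congrArg ModuleCat.Hom.hom h3
  simpa using this

theorem ext_dual (k : ℕ) : ∀ (M Y : Type u) [AddCommGroup M] [Module R M] [Module.Finite R M]
    [NoZeroSMulDivisors R M] [AddCommGroup Y] [Module R Y] [Module.Finite R Y]
    [NoZeroSMulDivisors R Y],
    Nonempty (Ext (ModuleCat.of R M) (ModuleCat.of R (Y →ₗ[R] W)) k ≃+
      Ext (ModuleCat.of R Y) (ModuleCat.of R (M →ₗ[R] W)) k) := by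
  induction k with
  | zero =>
    intro M Y _ _ _ _ _ _ _ _
    have e1 : Ext (ModuleCat.of R M) (ModuleCat.of R (Y →ₗ[R] W)) 0 ≃+ (M →ₗ[R] (Y →ₗ[R] W)) :=
      Ext.addEquiv₀.trans ModuleCat.homAddEquiv
    have e2 : Ext (ModuleCat.of R Y) (ModuleCat.of R (M →ₗ[R] W)) 0 ≃+ (Y →ₗ[R] (M →ₗ[R] W)) :=
      Ext.addEquiv₀.trans ModuleCat.homAddEquiv
    exact ⟨e1.trans (flipEquiv.trans e2.symm)⟩
  | succ k ih =>
    intro M Y _ _ _ _ _ _ _ _
    obtain ⟨n, p, hp⟩ := Module.Finite.exists_fin' R M
    let Z := LinearMap.ker p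
    have hi : Function.Injective Z.subtype := Submodule.subtype_injective _
    have : NoZeroSMulDivisors R ↥Z :=
      Function.Injective.noZeroSMulDivisors Z.subtype hi (map_zero _) (fun c x => map_smul _ c x)
    have hip : Function.Exact Z.subtype p := LinearMap.exact_subtype_ker_map p
    have hext : ∀ φ : ↥Z →ₗ[R] W, ∃ ψ : (Fin n → R) →ₗ[R] W, ψ ∘ₗ Z.subtype = φ :=
      fun φ => exists_extension Z.subtype p hi hp hip φ
    have hacyc : ∀ j : ℕ, 1 ≤ j →
        ∀ x : Ext (ModuleCat.of R Y) (ModuleCat.of R ((Fin n → R) →ₗ[R] W)) j, x = 0 := by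
      intro j hj
      have h1 := ext_pi_eq_zero (R := R) (W := W) (Y := Y) j
        (fun x => ext_eq_zero_of_torsionFree (R := R) Y j hj x) n
      exact ext_eq_zero_of_iso_right (Module.piEquiv (Fin n) R W).toModuleIso j h1
    rcases Nat.eq_zero_or_pos k with hk | hk
    · subst hk
      exact ext_one_dual Z.subtype p hi hp hip hext (hacyc 1 le_rfl)
    · exact ext_succ_dual k hk Z.subtype p hi hp hip hext hacyc (ih ↥Z Y)

end Main

end Groth.Agent.H75.ExtDual
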