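import Mathlib
import Groth.Agent.H75.ExtDual2
import Groth.Agent.H75.CanonRefl
import Groth.Agent.H75.OneDimLattice

set_option autoImplicit false
universe u

namespace Groth.Agent.H75.Canon

open CategoryTheory Abelian

/-- `Ext` groups only depend on the isomorphism class of the second argument -/
noncomputable def extAddEquivOfIsoRight {R : Type u} [CommRing R] {X Y Y' : ModuleCat.{u} R}
    (a : Y ≅ Y') (n : ℕ) : Ext X Y n ≃+ Ext X Y' n where
  toFun x := x.comp (Ext.mk₀ a.hom) (add_zero n)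
  invFun x := x.comp (Ext.mk₀ a.inv) (add_zero n)
  left_inv x := by
    simp
  right_inv x := by
    simp
  map_add' x y := by
    rw [Ext.add_comp]

theorem ext_self_dual {O : Type u} [CommRing O] [IsDomain O] [IsNoetherianRing O] [IsLocalRing O]
    (hdim : ringKrullDim O = 1) {K : Type u} [Field K] [Algebra O K] [IsFractionRing O K]
    (ω : Submodule O K) (hω0 : ω ≠ ⊥) (hωfg : ω.FG)
    (hωinj : HasInjectiveDimensionLT (ModuleCat.of O ↥ω) 2)
    (M : Type u) [AddCommGroup M] [Module O M] [Module.Finite O M] [NoZeroSMulDivisors O M]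
    (i : ℕ) :
    Nonempty (Ext (ModuleCat.of O M) (ModuleCat.of O M) i ≃+
      Ext (ModuleCat.of O (M →ₗ[O] ↥ω)) (ModuleCat.of O (M →ₗ[O] ↥ω)) i) := by
  have := hωinj
  have hKD : Ring.KrullDimLE 1 O := Ring.krullDimLE_iff.mpr (by simp [hdim])
  obtain ⟨a, ham, ha0⟩ := OneDim.exists_ne_zero_mem_maximalIdeal O hdim
  have : Module.Finite O ↥ω := Module.Finite.iff_fg.mpr hωfg
  have : Nontrivial ↥ω := Submodule.nontrivial_iff_ne_bot.mpr hω0
  have : NoZeroSMulDivisors O K := ⟨fun {c x} h => by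
    rw [Algebra.smul_def] at h
    rcases mul_eq_zero.mp h with h1 | h1
    · left
      exact IsFractionRing.injective O K (by rw [h1, map_zero])
    · exact Or.inr h1⟩
  have : NoZeroSMulDivisors O ↥ω :=
    Function.Injective.noZeroSMulDivisors ω.subtype (Submodule.subtype_injective _) (map_zero _)
      (fun c x => map_smul _ c x)
  have hW := exists_smul_eq ω hωfg hω0 a ham ha0
  have hrefl := reflexive (W := ↥ω) hW a ham ha0 M
  let e : M ≃ₗ[O] ((M →ₗ[O] ↥ω) →ₗ[O] ↥ω) := LinearEquiv.ofBijective _ hrefl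
  have : NoZeroSMulDivisors O (M →ₗ[O] ↥ω) := noZeroSMulDivisors_linearMap
  obtain ⟨e2⟩ := ExtDual.ext_dual (R := O) (W := ↥ω) i M (M →ₗ[O] ↥ω)
  have e1 : Ext (ModuleCat.of O M) (ModuleCat.of O M) i ≃+
      Ext (ModuleCat.of O M) (ModuleCat.of O ((M →ₗ[O] ↥ω) →ₗ[O] ↥ω)) i :=
    extAddEquivOfIsoRight e.toModuleIso i
  exact ⟨e1.trans e2⟩

end Groth.Agent.H75.Canon
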