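import Groth.Agent.H75.FEtRestrict

/-!
# Restriction of finite étale covers along a closed immersion inducing a bijection on `π₀`
(scheme-level lemmas: fullness)
-/

set_option autoImplicit false
set_option linter.style.haveILetI false
universe u

open CategoryTheory CategoryTheory.Limits AlgebraicGeometry

namespace Groth.Agent.H75.FEtRestrict

/-- A section of an étale morphism is an open immersion. -/
theorem sec_isOpenImmersion {P X : Scheme.{u}} (p : P ⟶ X) [Etale p] (σ : X ⟶ P)
    (hσ : σ ≫ p = 𝟙 X) : IsOpenImmersion σ := by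
  haveI h1 : Etale σ := MorphismProperty.of_postcomp (W := @Etale) (W' := @Etale) σ p
    inferInstance (by rw [hσ]; infer_instance)
  haveI : Mono σ := (SplitMono.mk p hσ).mono
  exact IsOpenImmersion.of_flat_of_mono σ

/-- The range of a section of a separated morphism is closed. -/
theorem sec_isClosed_range {P X : Scheme.{u}} (p : P ⟶ X) [IsSeparated p] (σ : X ⟶ P)
    (hσ : σ ≫ p = 𝟙 X) : IsClosed (Set.range σ) := by
  haveI : IsClosedImmersion (σ ≫ p) := by rw [hσ]; infer_instance
  haveI : IsClosedImmersion σ := IsClosedImmersion.of_comp σ p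
  exact σ.isClosedEmbedding.isClosed_range

/-- in a Noetherian space, the union of the connected components of a family of points is
clopen. -/
theorem isClopen_iUnion_connectedComponent {W : Type u} [TopologicalSpace W]
    [TopologicalSpace.NoetherianSpace W] {ι : Type u} (g : ι → W) :
    IsClopen (⋃ a, connectedComponent (g a)) := by
  constructor
  · rw [← isOpen_compl_iff]
    have : (⋃ a, connectedComponent (g a))ᶜ =
        ⋃ w ∈ (⋃ a, connectedComponent (g a))ᶜ, connectedComponent w := by
      ext w
      constructor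
      · intro hw
        exact Set.mem_biUnion hw mem_connectedComponent
      · intro hw
        simp only [Set.mem_iUnion, exists_prop] at hw
        obtain ⟨w', hw', hww'⟩ := hw
        intro hcon
        apply hw'
        simp only [Set.mem_iUnion] at hcon ⊢
        obtain ⟨a, ha⟩ := hcon
        refine ⟨a, ?_⟩
        rw [connectedComponent_eq ha, ← connectedComponent_eq hww']
        exact mem_connectedComponent
    rw [this]
    exact isOpen_biUnion fun w _ => Groth.Agent.H12.isOpen_connectedComponent_of_noetherian w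
  · exact isOpen_iUnion fun a => Groth.Agent.H12.isOpen_connectedComponent_of_noetherian _

/-- fullness. -/
theorem exists_lift_of_pi0 {X X₀ Y Z : Scheme.{u}} [IsNoetherian X] (i : X₀ ⟶ X)
    (fY : Y ⟶ X) (fZ : Z ⟶ X) [IsFinite fY] [Etale fY] [IsFinite fZ] [Etale fZ]
    (hsurjY : Function.Surjective (pullback.fst fY i).continuous.connectedComponentsMap)
    (hinjW : Function.Injective
      (pullback.fst (pullback.fst fY fZ ≫ fY) i).continuous.connectedComponentsMap)
    (c0 : pullback fY i ⟶ pullback fZ i) (hc0 : c0 ≫ pullback.snd fZ i = pullback.snd fY i) :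
    ∃ φ : Y ⟶ Z, φ ≫ fZ = fY ∧ pullback.fst fY i ≫ φ = c0 ≫ pullback.fst fZ i := by
  let W : Scheme.{u} := pullback fY fZ
  let prY : W ⟶ Y := pullback.fst fY fZ
  let prZ : W ⟶ Z := pullback.snd fY fZ
  let fW : W ⟶ X := prY ≫ fY
  let Y₀ : Scheme.{u} := pullback fY i
  let pY : Y₀ ⟶ Y := pullback.fst fY i
  let sY : Y₀ ⟶ X₀ := pullback.snd fY i
  let pZ : pullback fZ i ⟶ Z := pullback.fst fZ i
  let W₀ : Scheme.{u} := pullback fW i
  let pW : W₀ ⟶ W := pullback.fst fW i
  let sW : W₀ ⟶ X₀ := pullback.snd fW i
  have hprYZ : prY ≫ fY = prZ ≫ fZ := pullback.condition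
  -- the graph of `c0`
  have hγ : pY ≫ fY = (c0 ≫ pZ) ≫ fZ := by
    have h1 : pY ≫ fY = sY ≫ i := pullback.condition
    have h2 : pZ ≫ fZ = pullback.snd fZ i ≫ i := pullback.condition
    rw [Category.assoc, h2, ← Category.assoc, hc0, h1]
  let γ : Y₀ ⟶ W := pullback.lift pY (c0 ≫ pZ) hγ
  have hγY : γ ≫ prY = pY := pullback.lift_fst _ _ _
  have hγZ : γ ≫ prZ = c0 ≫ pZ := pullback.lift_snd _ _ _
  have hΓ : γ ≫ fW = sY ≫ i := by
    rw [← Category.assoc, hγY]
    exact pullback.condition
  let Γ : Y₀ ⟶ W₀ := pullback.lift γ sY hΓ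
  have hΓp : Γ ≫ pW = γ := pullback.lift_fst _ _ _
  have hΓs : Γ ≫ sW = sY := pullback.lift_snd _ _ _
  have hr0 : (pW ≫ prY) ≫ fY = sW ≫ i := by
    rw [Category.assoc]
    exact pullback.condition
  let r : W₀ ⟶ Y₀ := pullback.lift (pW ≫ prY) sW hr0
  have hrp : r ≫ pY = pW ≫ prY := pullback.lift_fst _ _ _
  have hrs : r ≫ sY = sW := pullback.lift_snd _ _ _
  have hΓr : Γ ≫ r = 𝟙 Y₀ := by
    apply pullback.hom_ext
    · rw [Category.assoc, hrp, ← Category.assoc, hΓp, hγY, Category.id_comp]
    · rw [Category.assoc, hrs, hΓs, Category.id_comp]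
  -- `r` is finite étale
  haveI : IsFinite fW := inferInstance
  haveI : Etale fW := inferInstance
  haveI : Etale r := MorphismProperty.of_postcomp (W := @Etale) (W' := @Etale) r sY
    inferInstance (by rw [hrs]; infer_instance)
  haveI : IsSeparated r := by
    haveI : IsSeparated (r ≫ sY) := by rw [hrs]; infer_instance
    exact IsSeparated.of_comp r sY
  haveI hΓo : IsOpenImmersion Γ := sec_isOpenImmersion r Γ hΓr
  have hΓc : IsClopen (Set.range Γ) :=
    ⟨sec_isClosed_range r Γ hΓr, Γ.isOpenEmbedding.isOpen_range⟩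
  -- `W` is Noetherian
  haveI : IsLocallyNoetherian W := LocallyOfFiniteType.isLocallyNoetherian fW
  haveI : CompactSpace W := QuasiCompact.compactSpace_of_compactSpace fW
  haveI : IsNoetherian W := {}
  -- the clopen subscheme `T` of `W`
  have hTc : IsClopen (⋃ a : Y₀, connectedComponent (γ a)) :=
    isClopen_iUnion_connectedComponent (fun a : Y₀ => γ a)
  let T : W.Opens := ⟨⋃ a : Y₀, connectedComponent (γ a), hTc.2⟩
  have hγT : Set.range γ ⊆ Set.range T.ι := by
    rw [Scheme.Opens.range_ι]
    rintro _ ⟨a, rfl⟩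
    exact Set.mem_iUnion.mpr ⟨a, mem_connectedComponent⟩
  let γT : Y₀ ⟶ T := IsOpenImmersion.lift T.ι γ hγT
  have hγTι : γT ≫ T.ι = γ := IsOpenImmersion.lift_fac _ _ _
  haveI : IsClosedImmersion T.ι := by
    apply IsClosedImmersion.of_isPreimmersion
    rw [Scheme.Opens.range_ι]
    exact hTc.1
  let q : (T : Scheme.{u}) ⟶ Y := T.ι ≫ prY
  have hγq : γT ≫ q = pY := by
    rw [← Category.assoc, hγTι, hγY]
  haveI : IsFinite q := inferInstance
  haveI : Etale q := inferInstance
  -- the degree of `q` is one over the image of `Y₀`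
  have hdeg : ∀ a : Y₀, q.finrank (pY a) = 1 := by
    intro a
    let g : pullback q pY ⟶ Y₀ := pullback.snd q pY
    let σ : Y₀ ⟶ pullback q pY := pullback.lift γT (𝟙 _) (by rw [hγq, Category.id_comp])
    have hσg : σ ≫ g = 𝟙 _ := pullback.lift_snd _ _ _
    have hσf : σ ≫ pullback.fst q pY = γT := pullback.lift_fst _ _ _
    haveI : IsOpenImmersion σ := sec_isOpenImmersion g σ hσg
    have hκ0 : (pullback.fst q pY ≫ T.ι) ≫ fW = (g ≫ sY) ≫ i := by
      have h1 : pullback.fst q pY ≫ q = g ≫ pY := pullback.condition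
      calc (pullback.fst q pY ≫ T.ι) ≫ fW = (pullback.fst q pY ≫ q) ≫ fY := by
            simp only [Category.assoc, q, fW]
        _ = (g ≫ pY) ≫ fY := by rw [h1]
        _ = (g ≫ sY) ≫ i := by
            rw [Category.assoc, Category.assoc]
            congr 1
            exact pullback.condition
    let κ : pullback q pY ⟶ W₀ := pullback.lift (pullback.fst q pY ≫ T.ι) (g ≫ sY) hκ0
    have hκp : κ ≫ pW = pullback.fst q pY ≫ T.ι := pullback.lift_fst _ _ _
    have hκs : κ ≫ sW = g ≫ sY := pullback.lift_snd _ _ _
    have hσκ : σ ≫ κ = Γ := by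
      apply pullback.hom_ext
      · rw [Category.assoc, hκp, ← Category.assoc, hσf, hγTι, hΓp]
      · rw [Category.assoc, hκs, ← Category.assoc, hσg, Category.id_comp, hΓs]
    haveI : Mono κ := by
      constructor
      intro A a b hab
      have e1 : a ≫ pullback.fst q pY = b ≫ pullback.fst q pY := by
        have := congrArg (· ≫ pW) hab
        simp only [Category.assoc, hκp] at this
        rw [← Category.assoc, ← Category.assoc] at this
        exact (cancel_mono T.ι).mp this
      have e2 : a ≫ g = b ≫ g := by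
        apply pullback.hom_ext
        · have h1 : pullback.fst q pY ≫ q = g ≫ pY := pullback.condition
          calc (a ≫ g) ≫ pY = (a ≫ pullback.fst q pY) ≫ q := by
                rw [Category.assoc, Category.assoc, h1]
            _ = (b ≫ pullback.fst q pY) ≫ q := by rw [e1]
            _ = (b ≫ g) ≫ pY := by rw [Category.assoc, Category.assoc, h1]
        · have := congrArg (· ≫ sW) hab
          simp only [Category.assoc, hκs] at this
          rw [Category.assoc, Category.assoc]
          exact this
      exact pullback.hom_ext e1 e2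
    have hσsurj : Function.Surjective σ := by
      intro x
      have hx : pW (κ x) ∈ (T : Set W) := by
        rw [← Scheme.Hom.comp_apply, hκp, Scheme.Hom.comp_apply]
        have : T.ι (pullback.fst q pY x) ∈ Set.range T.ι := ⟨_, rfl⟩
        rw [Scheme.Opens.range_ι] at this
        exact this
      obtain ⟨a', ha'⟩ := Set.mem_iUnion.mp hx
      have h1 : (ConnectedComponents.mk (pW (κ x)) : _root_.ConnectedComponents W) =
          ConnectedComponents.mk (pW (Γ a')) := by
        rw [ConnectedComponents.coe_eq_coe, ← Scheme.Hom.comp_apply Γ pW, hΓp]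
        exact (connectedComponent_eq ha').symm
      have h2 : (ConnectedComponents.mk (κ x) : _root_.ConnectedComponents W₀) =
          ConnectedComponents.mk (Γ a') := hinjW h1
      rw [ConnectedComponents.coe_eq_coe] at h2
      have h3 : κ x ∈ Set.range Γ := by
        apply hΓc.connectedComponent_subset ⟨a', rfl⟩
        rw [← h2]
        exact mem_connectedComponent
      obtain ⟨a'', ha''⟩ := h3
      refine ⟨a'', ?_⟩
      apply κ.injective
      rw [← Scheme.Hom.comp_apply, hσκ, ha'']
    have hepi : Epi σ.base := (TopCat.epi_iff_surjective _).mpr hσsurj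
    haveI hiso : IsIso σ := (isIso_iff_isOpenImmersion_and_epi_base σ).mpr ⟨inferInstance, hepi⟩
    haveI : IsIso g := by
      have : g = inv σ := by
        rw [← cancel_epi σ, hσg, IsIso.hom_inv_id]
      rw [this]
      infer_instance
    rw [← Scheme.Hom.finrank_pullback_snd q pY a, Scheme.Hom.finrank_eq_one_of_isIso]
    rfl
  -- hence everywhere
  have hdeg1 : q.finrank = 1 := by
    have hlc := q.isLocallyConstant_finrank
    have hS : IsClopen {y : Y | q.finrank y = 1} := hlc.isClopen_fiber 1
    have huniv := eq_univ_of_surjective pY hsurjY _ hS (by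
      rintro _ ⟨a, rfl⟩
      exact hdeg a)
    ext y
    have : y ∈ {y : Y | q.finrank y = 1} := by rw [huniv]; trivial
    exact this
  haveI : IsIso q := (Scheme.Hom.isIso_iff_finrank_eq q).mpr hdeg1
  refine ⟨inv q ≫ T.ι ≫ prZ, ?_, ?_⟩
  · rw [Category.assoc, Category.assoc, ← hprYZ, IsIso.inv_comp_eq]
    simp only [q, Category.assoc]
  · have h1 : pY ≫ inv q = γT := by
      rw [IsIso.comp_inv_eq, hγq]
    show pY ≫ inv q ≫ T.ι ≫ prZ = c0 ≫ pZ
    rw [← Category.assoc, h1, ← Category.assoc, hγTι, hγZ]

end Groth.Agent.H75.FEtRestrict
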