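import Mathlib
import Groth.Agent.H21.FEtFiber

/-!
# Multiplicativity of the degree for composites of finite étale morphisms of constant degree
-/

set_option autoImplicit false
set_option linter.style.haveILetI false
universe u

open CategoryTheory CategoryTheory.Limits AlgebraicGeometry

namespace Groth.Agent.H75.FinrankComp

/-- Every point of a scheme is the image of a geometric point. -/
theorem exists_geomPt {S : Scheme.{u}} (s : S) :
    ∃ (Ω : Type u) (_ : Field Ω) (_ : IsAlgClosed Ω) (ξ : Spec (CommRingCat.of Ω) ⟶ S),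
      ∀ w, ξ w = s := by
  refine ⟨AlgebraicClosure (S.residueField s), inferInstance, inferInstance,
    Spec.map (CommRingCat.ofHom (algebraMap (S.residueField s)
      (AlgebraicClosure (S.residueField s)))) ≫ S.fromSpecResidueField s, fun w => ?_⟩
  rw [Scheme.Hom.comp_apply, Scheme.fromSpecResidueField_apply]

/-- The number of geometric points of a finite étale scheme over a geometric point. -/
theorem card_fiber {X : Scheme.{u}} {Ω : Type u} [Field Ω] [IsAlgClosed Ω]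
    (ξ : Spec (CommRingCat.of Ω) ⟶ X) {Y : Scheme.{u}} (g : Y ⟶ X) [IsFinite g] [Etale g] :
    Finite {t : Spec (CommRingCat.of Ω) ⟶ Y // t ≫ g = ξ} ∧
      Nat.card {t : Spec (CommRingCat.of Ω) ⟶ Y // t ≫ g = ξ} = g.finrank (ξ default) := by
  obtain ⟨e⟩ := Groth.Agent.H21.FEtFiber.fiber_equiv ξ
    (MorphismProperty.Over.mk ⊤ g ⟨inferInstance, inferInstance⟩ : FEt.Cat X)
  change Fin (g.finrank (ξ default)) ≃ {t : Spec (CommRingCat.of Ω) ⟶ Y // t ≫ g = ξ} at e
  refine ⟨Finite.of_equiv _ e, ?_⟩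
  rw [← Nat.card_congr e, Nat.card_fin]

/-- The degree of a composite of finite étale morphisms, the first of constant degree. -/
theorem finrank_comp_of_const {Y X S : Scheme.{u}} (ψ : Y ⟶ X) (φ : X ⟶ S) [IsFinite ψ] [Etale ψ]
    [IsFinite φ] [Etale φ] (a : ℕ) (ha : ∀ x, ψ.finrank x = a) (s : S) :
    (ψ ≫ φ).finrank s = a * φ.finrank s := by
  obtain ⟨Ω, _, _, ξ, hξ⟩ := exists_geomPt s
  obtain ⟨hfin1, hc1⟩ := card_fiber ξ (ψ ≫ φ)
  obtain ⟨hfin2, hc2⟩ := card_fiber ξ φ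
  rw [hξ] at hc1 hc2
  rw [← hc1, ← hc2]
  let E : {t : Spec (CommRingCat.of Ω) ⟶ Y // t ≫ ψ ≫ φ = ξ} ≃
      Σ x : {x : Spec (CommRingCat.of Ω) ⟶ X // x ≫ φ = ξ},
        {t : Spec (CommRingCat.of Ω) ⟶ Y // t ≫ ψ = x.1} :=
    { toFun := fun t => ⟨⟨t.1 ≫ ψ, by rw [Category.assoc]; exact t.2⟩, ⟨t.1, rfl⟩⟩
      invFun := fun p => ⟨p.2.1, by rw [← Category.assoc, p.2.2]; exact p.1.2⟩
      left_inv := fun t => rfl
      right_inv := fun p => by
        obtain ⟨⟨x, hx⟩, ⟨t, ht⟩⟩ := p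
        change t ≫ ψ = x at ht
        subst ht
        rfl }
  rw [Nat.card_congr E]
  haveI : Fintype {x : Spec (CommRingCat.of Ω) ⟶ X // x ≫ φ = ξ} := Fintype.ofFinite _
  haveI : ∀ x : {x : Spec (CommRingCat.of Ω) ⟶ X // x ≫ φ = ξ},
      Finite {t : Spec (CommRingCat.of Ω) ⟶ Y // t ≫ ψ = x.1} := fun x => (card_fiber x.1 ψ).1
  rw [Nat.card_sigma]
  have : ∀ x : {x : Spec (CommRingCat.of Ω) ⟶ X // x ≫ φ = ξ},
      Nat.card {t : Spec (CommRingCat.of Ω) ⟶ Y // t ≫ ψ = x.1} = a := fun x => by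
    rw [(card_fiber x.1 ψ).2, ha]
  simp_rw [this]
  rw [Finset.sum_const, Finset.card_univ, smul_eq_mul, Nat.card_eq_fintype_card, Nat.mul_comm]

end Groth.Agent.H75.FinrankComp
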