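import Mathlib
import Groth.Agent.H75.FinrankComp
import Groth.Agent.H21.FEtSplitProps

/-!
# Sections of a finite étale morphism over a connected base
-/

set_option autoImplicit false
set_option linter.style.haveILetI false
universe u

open CategoryTheory CategoryTheory.Limits AlgebraicGeometry
open Groth.Agent.H21.FEtSplit

namespace Groth.Agent.H75.FEtSections

variable {P X : Scheme.{u}} (p : P ⟶ X)

/-- A section of an étale morphism is an open immersion. -/
theorem isOpenImmersion_section [Etale p] (σ : X ⟶ P) (hσ : σ ≫ p = 𝟙 X) :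
    IsOpenImmersion σ := by
  haveI h1 : Etale σ := MorphismProperty.of_postcomp (W := @Etale) (W' := @Etale) σ p
    inferInstance (by rw [hσ]; infer_instance)
  haveI : Mono σ := (SplitMono.mk p hσ).mono
  exact IsOpenImmersion.of_flat_of_mono σ

/-- The range of a section of a separated morphism is closed. -/
theorem isClosed_range_section [IsSeparated p] (σ : X ⟶ P) (hσ : σ ≫ p = 𝟙 X) :
    IsClosed (Set.range σ) := by
  haveI : IsClosedImmersion (σ ≫ p) := by rw [hσ]; infer_instance
  haveI : IsClosedImmersion σ := IsClosedImmersion.of_comp σ p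
  exact σ.isClosedEmbedding.isClosed_range

/-- A section which is an open immersion is determined by its range. -/
theorem section_eq_of_range_eq (σ τ : X ⟶ P) (hσ : σ ≫ p = 𝟙 X) (hτ : τ ≫ p = 𝟙 X)
    [IsOpenImmersion σ] (h : Set.range τ ⊆ Set.range σ) : σ = τ := by
  have e1 : IsOpenImmersion.lift σ τ h ≫ σ = τ := IsOpenImmersion.lift_fac _ _ _
  have e2 : IsOpenImmersion.lift σ τ h = 𝟙 X := by
    have := congrArg (· ≫ p) e1
    simp only [Category.assoc, hσ, Category.comp_id, hτ] at this
    exact this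
  rw [← e1, e2, Category.id_comp]

variable [IsFinite p] [Etale p]

/-- Two sections of a finite étale morphism over a connected base which agree at a point are
equal. -/
theorem section_ext [ConnectedSpace X] (σ τ : X ⟶ P) (hσ : σ ≫ p = 𝟙 X) (hτ : τ ≫ p = 𝟙 X)
    (x : X) (h : σ x = τ x) : σ = τ := by
  haveI := isOpenImmersion_section p σ hσ
  refine section_eq_of_range_eq p σ τ hσ hτ ?_
  have hclopen : IsClopen (Set.range σ) :=
    ⟨isClosed_range_section p σ hσ, σ.isOpenEmbedding.isOpen_range⟩
  have hconn : _root_.IsPreconnected (Set.range τ) := isPreconnected_range τ.continuous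
  exact hconn.subset_isClopen hclopen ⟨τ x, ⟨x, rfl⟩, ⟨x, h⟩⟩

/-- The type of sections. -/
abbrev Sec : Type u := {σ : X ⟶ P // σ ≫ p = 𝟙 X}

/-- Evaluation of sections at a geometric point. -/
noncomputable def evalSec {Ω : Type u} [Field Ω] (ξ : Spec (CommRingCat.of Ω) ⟶ X) (σ : Sec p) :
    {t : Spec (CommRingCat.of Ω) ⟶ P // t ≫ p = ξ} :=
  ⟨ξ ≫ σ.1, by rw [Category.assoc, σ.2, Category.comp_id]⟩

theorem evalSec_injective [ConnectedSpace X] {Ω : Type u} [Field Ω]
    (ξ : Spec (CommRingCat.of Ω) ⟶ X) : Function.Injective (evalSec p ξ) := by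
  intro σ τ h
  have h1 : ξ ≫ σ.1 = ξ ≫ τ.1 := congrArg Subtype.val h
  refine Subtype.ext (section_ext p σ.1 τ.1 σ.2 τ.2 (ξ default) ?_)
  have := congr($(h1) default)
  exact this

/-- There are at most `n` sections of a finite étale morphism of degree `n` over a nonempty
connected base. -/
theorem finite_sec_and_card_le [ConnectedSpace X] (n : ℕ) (hn : ∀ x, p.finrank x = n) :
    Finite (Sec p) ∧ Nat.card (Sec p) ≤ n := by
  obtain ⟨x₀⟩ : Nonempty X := inferInstance
  obtain ⟨Ω, _, _, ξ, hξ⟩ := Groth.Agent.H75.FinrankComp.exists_geomPt x₀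
  obtain ⟨hfin, hcard⟩ := Groth.Agent.H75.FinrankComp.card_fiber ξ p
  have hinj := evalSec_injective p ξ
  haveI := hfin
  refine ⟨Finite.of_injective _ hinj, ?_⟩
  rw [← hn (ξ default), ← hcard]
  exact Nat.card_le_card_of_injective _ hinj

/-- If there are `n` sections then the cover is split. -/
theorem isSplit_of_card_eq [ConnectedSpace X] (n : ℕ) (hn : ∀ x, p.finrank x = n)
    (hc : Nat.card (Sec p) = n) : IsSplit n p := by
  haveI := (finite_sec_and_card_le p n hn).1
  let e : Fin n ≃ Sec p := (Finite.equivFinOfCardEq hc).symm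
  refine ⟨fun i => (e i).1, fun i => (e i).2, fun i => isOpenImmersion_section p _ (e i).2,
    fun i j hij => ?_, ?_⟩
  · rw [Set.disjoint_left]
    rintro z ⟨a, rfl⟩ ⟨b, hb⟩
    apply hij
    have hab : b = a := by
      have h1 := congrArg p.base hb
      rw [← Scheme.Hom.comp_apply, ← Scheme.Hom.comp_apply, (e i).2, (e j).2] at h1
      exact h1
    subst hab
    have := section_ext p (e i).1 (e j).1 (e i).2 (e j).2 b hb.symm
    exact e.injective (Subtype.ext this)
  · rw [Set.eq_univ_iff_forall]
    intro z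
    obtain ⟨Ω, _, _, ζ, hζ⟩ := Groth.Agent.H75.FinrankComp.exists_geomPt z
    obtain ⟨hfin, hcard⟩ := Groth.Agent.H75.FinrankComp.card_fiber (ζ ≫ p) p
    haveI := hfin
    have hinj := evalSec_injective p (ζ ≫ p)
    have hbij : Function.Bijective (evalSec p (ζ ≫ p)) := by
      refine hinj.bijective_of_nat_card_le ?_
      rw [hcard, hn, hc]
    obtain ⟨σ, hσ⟩ := hbij.2 ⟨ζ, rfl⟩
    have h1 : (ζ ≫ p) ≫ σ.1 = ζ := congrArg Subtype.val hσ
    refine Set.mem_iUnion.mpr ⟨e.symm σ, ?_⟩
    change z ∈ Set.range ⇑(e (e.symm σ)).1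
    rw [Equiv.apply_symm_apply]
    refine ⟨(ζ ≫ p) default, ?_⟩
    rw [← Scheme.Hom.comp_apply, h1, hζ]

omit [IsFinite p] [Etale p] in
/-- A split cover of degree `n` of a nonempty base has at least `n` sections. -/
theorem le_card_of_isSplit [Nonempty X] (n : ℕ) (h : IsSplit n p) [Finite (Sec p)] :
    n ≤ Nat.card (Sec p) := by
  obtain ⟨σ, hsec, -, hdisj, -⟩ := h
  obtain ⟨x₀⟩ : Nonempty X := inferInstance
  have hinj : Function.Injective (fun i : Fin n => (⟨σ i, hsec i⟩ : Sec p)) := by
    intro i j hij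
    by_contra hne
    have h1 : σ i = σ j := congrArg Subtype.val hij
    exact Set.disjoint_left.mp (hdisj i j hne) ⟨x₀, rfl⟩ ⟨x₀, by rw [h1]⟩
  have := Nat.card_le_card_of_injective _ hinj
  rwa [Nat.card_fin] at this

end Groth.Agent.H75.FEtSections
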