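import Mathlib
import Groth.Agent.H65.FormalIFT

set_option autoImplicit false
universe u

namespace Groth.Agent.H75

open MvPowerSeries

variable {R : Type u} [CommRing R]

theorem fg_order_sub (F : FormalGroup R) :
    2 ≤ (F.toPowerSeries - (X 0 + X 1) : MvPowerSeries (Fin 2) R).order := by
  refine le_order fun d hd => ?_
  have hd' : Finsupp.degree d < 2 := by exact_mod_cast hd
  rw [map_sub, map_add]
  have hdeg : Finsupp.degree d = d 0 + d 1 := by
    simp [Finsupp.degree_eq_sum, Fin.sum_univ_two]
  have h1 : d = 0 ∨ d = Finsupp.single 0 1 ∨ d = Finsupp.single 1 1 := by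
    rcases Nat.lt_succ_iff.1 hd' with h
    have h0 : d 0 + d 1 ≤ 1 := by omega
    by_cases h00 : d 0 = 0
    · by_cases h01 : d 1 = 0
      · left; ext i; fin_cases i <;> simp [h00, h01]
      · right; right; ext i; fin_cases i
        · simp [h00]
        · simp; omega
    · right; left; ext i; fin_cases i
      · simp; omega
      · simp; omega
  have e01 : (Finsupp.single (0 : Fin 2) 1 : Fin 2 →₀ ℕ) ≠ Finsupp.single 1 1 := by
    intro h
    have := DFunLike.congr_fun h 0
    simp at this
  rcases h1 with rfl | rfl | rfl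
  · have := F.zero_constantCoeff
    rw [← MvPowerSeries.coeff_zero_eq_constantCoeff_apply] at this
    rw [this, coeff_zero_X, coeff_zero_X]; simp
  · rw [F.lin_coeff_X, coeff_X, coeff_X, if_pos rfl, if_neg e01]; simp
  · rw [F.lin_coeff_Y, coeff_X, coeff_X, if_pos rfl, if_neg e01.symm]; simp

theorem fg_exists_b (F : FormalGroup R) :
    ∃ b1 : MvPowerSeries (Fin 2) R, constantCoeff b1 = 0 ∧
      subst ![X 0, b1] F.toPowerSeries = (X 1 : MvPowerSeries (Fin 2) R) := by
  let a : Fin 2 → MvPowerSeries (Fin 2) R := ![X 0, F.toPowerSeries]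
  let ℓ : Fin 2 → MvPowerSeries (Fin 2) R := ![X 0, X 0 + X 1]
  let ℓ' : Fin 2 → MvPowerSeries (Fin 2) R := ![X 0, X 1 - X 0]
  have ha : ∀ i, constantCoeff (a i) = 0 := by
    intro i; fin_cases i <;> simp [a, F.zero_constantCoeff]
  have hℓ : ∀ i, constantCoeff (ℓ i) = 0 := by
    intro i; fin_cases i <;> simp [ℓ]
  have hℓ' : ∀ i, constantCoeff (ℓ' i) = 0 := by
    intro i; fin_cases i <;> simp [ℓ']
  have hsℓ := hasSubst_of_constantCoeff_zero hℓ
  have hsℓ' := hasSubst_of_constantCoeff_zero hℓ'
  have h1 : ∀ i, subst ℓ (ℓ' i) = X i := by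
    intro i; fin_cases i
    · simp [ℓ', subst_X hsℓ, ℓ]
    · simp [ℓ', subst_sub hsℓ, subst_X hsℓ, ℓ]
  have h2 : ∀ i, subst ℓ' (ℓ i) = X i := by
    intro i; fin_cases i
    · simp [ℓ', subst_X hsℓ', ℓ]
    · simp [ℓ', subst_add hsℓ', subst_X hsℓ', ℓ]
  have hr : ∀ i, 2 ≤ (a i - ℓ i).order := by
    intro i; fin_cases i
    · simp [a, ℓ]
    · simpa [a, ℓ] using fg_order_sub F
  obtain ⟨b, hb0, hb1, hb2⟩ := H65.ift_exists_inverse ha hℓ hℓ' h1 h2 hr
  have hsb := hasSubst_of_constantCoeff_zero hb0
  have e0 : b 0 = X 0 := by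
    have := hb2 0
    simpa [a, subst_X hsb] using this
  refine ⟨b 1, hb0 1, ?_⟩
  have h3 := hb2 1
  have eb : b = ![X 0, b 1] := by
    ext i : 1; fin_cases i <;> simp [e0]
  rw [eb] at h3
  simpa [a] using h3

theorem fg_exists_right_inv (F : FormalGroup R) :
    ∃ g : PowerSeries R, g.constantCoeff = 0 ∧
      F.toPowerSeries.subst ![PowerSeries.X, g] = (0 : PowerSeries R) := by
  obtain ⟨b1, hb0, hb⟩ := fg_exists_b F
  let c : Fin 2 → PowerSeries R := ![PowerSeries.X, 0]
  have hc : HasSubst c := HasSubst.X_zero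
  have hc0 : ∀ i, constantCoeff (c i) = 0 := by
    intro i; fin_cases i
    · simp [c, PowerSeries.X]
    · simp [c]
  have hg0 : constantCoeff (subst c b1) = 0 := constantCoeff_subst_eq_zero hc hc0 hb0
  refine ⟨subst c b1, hg0, ?_⟩
  have hs : HasSubst ![X 0, b1] := by
    refine hasSubst_of_constantCoeff_zero ?_
    intro i; fin_cases i <;> simp [hb0]
  have := congrArg (subst c) hb
  rw [subst_comp_subst_apply hs hc, subst_X hc] at this
  have e : (fun s => subst c (![X 0, b1] s)) = ![PowerSeries.X, subst c b1] := by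
    ext s : 1; fin_cases s
    · simp [subst_X hc, c]
    · simp
  rw [e] at this
  simpa [c] using this

theorem fg_point_right_inv (F : FormalGroup R) (g : PowerSeries R) (hg0 : g.constantCoeff = 0)
    (hg : F.toPowerSeries.subst ![PowerSeries.X, g] = (0 : PowerSeries R))
    (p : F.Point Unit) : ∃ q : F.Point Unit, p + q = 0 := by
  have hp : PowerSeries.HasSubst p.val := p.prop
  have hq : PowerSeries.HasSubst (PowerSeries.subst p.val g) := by
    have := IsNilpotent_subst hp.const (f := g) (hg0 ▸ IsNilpotent.zero)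
    exact this
  refine ⟨⟨PowerSeries.subst p.val g, hq⟩, Subtype.ext ?_⟩
  change F.toPowerSeries.subst ![p.val, PowerSeries.subst p.val g] = 0
  have hs : HasSubst ![PowerSeries.X, g] := by
    refine hasSubst_of_constantCoeff_zero ?_
    intro i; fin_cases i
    · simp [PowerSeries.X]
    · exact hg0
  have := congrArg (PowerSeries.subst p.val) hg
  rw [PowerSeries.subst, subst_comp_subst_apply hs hp.const] at this
  have e : (fun s => subst (fun _ : Unit => p.val) (![PowerSeries.X, g] s)) =
      ![p.val, PowerSeries.subst p.val g] := by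
    ext s : 1; fin_cases s
    · simp [PowerSeries.X, subst_X hp.const]
    · simp [PowerSeries.subst]
  rw [e] at this
  rw [this, ← PowerSeries.coe_substAlgHom hp, map_zero]

theorem fg_inverse (F : FormalGroup R) :
    ∃ g : PowerSeries R, g.constantCoeff = 0 ∧
      F.toPowerSeries.subst ![PowerSeries.X, g] = (0 : PowerSeries R) ∧
      F.toPowerSeries.subst ![g, PowerSeries.X] = (0 : PowerSeries R) ∧
      ∀ k : PowerSeries R, k.constantCoeff = 0 →
        (F.toPowerSeries.subst ![PowerSeries.X, k] = (0 : PowerSeries R) ∨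
          F.toPowerSeries.subst ![k, PowerSeries.X] = (0 : PowerSeries R)) → k = g := by
  obtain ⟨g, hg0, hg⟩ := fg_exists_right_inv F
  have hX : PowerSeries.HasSubst (PowerSeries.X : PowerSeries R) := PowerSeries.HasSubst.X'
  have hgs : PowerSeries.HasSubst g := PowerSeries.HasSubst.of_constantCoeff_zero' hg0
  let x : F.Point Unit := ⟨PowerSeries.X, hX⟩
  let y : F.Point Unit := ⟨g, hgs⟩
  have hxy : x + y = 0 := Subtype.ext hg
  obtain ⟨z, hz⟩ := fg_point_right_inv F g hg0 hg y
  have hxz : x = z := by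
    calc x = x + (y + z) := by rw [hz, add_zero]
      _ = (x + y) + z := (add_assoc _ _ _).symm
      _ = z := by rw [hxy, zero_add]
  have hyx : y + x = 0 := by rw [hxz]; exact hz
  refine ⟨g, hg0, hg, congrArg Subtype.val hyx, ?_⟩
  intro k hk0 hk
  have hks : PowerSeries.HasSubst k := PowerSeries.HasSubst.of_constantCoeff_zero' hk0
  let w : F.Point Unit := ⟨k, hks⟩
  rcases hk with hk | hk
  · have hxw : x + w = 0 := Subtype.ext hk
    have : w = y := by
      calc w = (y + x) + w := by rw [hyx, zero_add]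
        _ = y + (x + w) := add_assoc _ _ _
        _ = y := by rw [hxw, add_zero]
    exact congrArg Subtype.val this
  · have hwx : w + x = 0 := Subtype.ext hk
    have : w = y := by
      calc w = w + (x + y) := by rw [hxy, add_zero]
        _ = (w + x) + y := (add_assoc _ _ _).symm
        _ = y := by rw [hwx, zero_add]
    exact congrArg Subtype.val this

end Groth.Agent.H75
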