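import Mathlib

/-!
# Counting the points of a fibre of a finite flat unramified algebra over a closed point

Pure algebra: for a finitely generated domain `A` over an algebraically closed field `k`, a
finite flat formally unramified `A`-algebra `B` and a maximal ideal `m` of `A`, the number of
primes of `B` over `m` is `Module.finrank A B`.
-/

set_option autoImplicit false
set_option linter.style.haveILetI false
universe u

open TensorProduct

namespace Groth.Agent.H75.FibreCount

/-- A finite formally unramified algebra over a separably closed field has as many primes as its
dimension. -/
theorem card_primeSpectrum_eq_finrank (K E : Type u) [Field K] [IsSepClosed K] [CommRing E]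
    [Algebra K E] [Module.Finite K E] [Algebra.FormallyUnramified K E] :
    Nat.card (PrimeSpectrum E) = Module.finrank K E := by
  haveI : Algebra.FormallyEtale K E := Algebra.FormallyEtale.of_formallyUnramified_of_field K E
  haveI : IsArtinianRing E := isArtinian_of_tower K inferInstance
  haveI : Finite (PrimeSpectrum E) := inferInstance
  letI : Fintype (PrimeSpectrum E) := Fintype.ofFinite _
  have e := Algebra.FormallyEtale.equivPiOfIsSepClosed K E
  rw [e.toLinearEquiv.finrank_eq, Module.finrank_fintype_fun_eq_card, Nat.card_eq_fintype_card]

/-- The residue field at a maximal ideal of a finitely generated algebra over an algebraically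
closed field is algebraically closed. -/
theorem isAlgClosed_residueField (k A : Type u) [Field k] [IsAlgClosed k] [CommRing A]
    [Algebra k A] [Algebra.FiniteType k A] (m : Ideal A) [m.IsMaximal] :
    IsAlgClosed m.ResidueField := by
  haveI : Algebra.FiniteType k m.ResidueField :=
    Algebra.FiniteType.of_surjective (IsScalarTower.toAlgHom k A m.ResidueField)
      (Ideal.algebraMap_residueField_surjective m)
  haveI : Module.Finite k m.ResidueField := finite_of_finite_type_of_isJacobsonRing k _
  haveI : Algebra.IsIntegral k m.ResidueField := Algebra.IsIntegral.of_finite k _
  have hb : Function.Bijective (algebraMap k m.ResidueField) :=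
    IsAlgClosed.algebraMap_bijective_of_isIntegral
  exact IsAlgClosed.of_ringEquiv k m.ResidueField (RingEquiv.ofBijective _ hb)

/-- The number of primes over a maximal ideal in a finite flat unramified algebra over a finitely
generated domain over an algebraically closed field is the rank. -/
theorem card_fibre_eq_finrank (k A B : Type u) [Field k] [IsAlgClosed k] [CommRing A] [IsDomain A]
    [Algebra k A] [Algebra.FiniteType k A] [CommRing B] [Algebra A B] [Module.Finite A B]
    [Module.Flat A B] [Algebra.FormallyUnramified A B] (m : PrimeSpectrum A)
    (hm : m.asIdeal.IsMaximal) :
    Nat.card (PrimeSpectrum.comap (algebraMap A B) ⁻¹' {m}) = Module.finrank A B := by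
  haveI := hm
  haveI : IsAlgClosed m.asIdeal.ResidueField := isAlgClosed_residueField k A m.asIdeal
  rw [Nat.card_congr (PrimeSpectrum.preimageEquivFiber A B m),
    card_primeSpectrum_eq_finrank m.asIdeal.ResidueField (m.asIdeal.Fiber B),
    Ideal.finrank_fiber_eq_finrank]

end Groth.Agent.H75.FibreCount
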