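import Mathlib
import Groth.Agent.H75.FibreCount

/-!
# Fibres of an affine morphism over a point of an affine open, as primes lying over
-/

set_option autoImplicit false
set_option linter.style.haveILetI false
universe u

open CategoryTheory CategoryTheory.Limits AlgebraicGeometry TopologicalSpace

namespace Groth.Agent.H75.FibreCountSch

/-- The points of `Y` over a point `p` of an affine open `U` of `X` with affine preimage are the
primes of `Γ(Y, π⁻¹U)` over the prime of `p`. -/
theorem card_fibre_eq {X Y : Scheme.{u}} (π : Y ⟶ X) {U : X.Opens} (hU : IsAffineOpen U)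
    (hV : IsAffineOpen (π ⁻¹ᵁ U)) (p : X) (hpU : p ∈ U) :
    Nat.card {q : Y // π.base q = p} =
      Nat.card (PrimeSpectrum.comap (π.app U).hom ⁻¹' {hU.primeIdealOf ⟨p, hpU⟩}) := by
  have hsq : Spec.map (π.app U) ≫ hU.fromSpec = hV.fromSpec ≫ π := by
    have := IsAffineOpen.SpecMap_appLE_fromSpec π hU hV le_rfl
    rwa [Scheme.Hom.appLE_eq_app] at this
  have hinjU : Function.Injective hU.fromSpec := hU.fromSpec.isOpenEmbedding.injective
  have hinjV : Function.Injective hV.fromSpec := hV.fromSpec.isOpenEmbedding.injective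
  have key : ∀ Q : PrimeSpectrum Γ(Y, π ⁻¹ᵁ U),
      π (hV.fromSpec Q) = hU.fromSpec (PrimeSpectrum.comap (π.app U).hom Q) := by
    intro Q
    have := congr($(hsq) Q)
    exact this.symm
  symm
  refine Nat.card_congr (Equiv.ofBijective
    (fun Q => ⟨hV.fromSpec Q.1, ?_⟩) ⟨?_, ?_⟩)
  · have hQ : PrimeSpectrum.comap (π.app U).hom Q.1 = hU.primeIdealOf ⟨p, hpU⟩ := Q.2
    change π (hV.fromSpec Q.1) = p
    rw [key, hQ, hU.fromSpec_primeIdealOf]
  · intro Q Q' h
    apply Subtype.ext
    apply hinjV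
    exact congr($(h).1)
  · rintro ⟨q, hq⟩
    have hqV : q ∈ π ⁻¹ᵁ U := by
      change π q ∈ U
      rw [show π q = p from hq]
      exact hpU
    refine ⟨⟨hV.primeIdealOf ⟨q, hqV⟩, ?_⟩, ?_⟩
    · change PrimeSpectrum.comap (π.app U).hom (hV.primeIdealOf ⟨q, hqV⟩) = _
      apply hinjU
      rw [← key, hV.fromSpec_primeIdealOf, hU.fromSpec_primeIdealOf]
      exact hq
    · apply Subtype.ext
      exact hV.fromSpec_primeIdealOf ⟨q, hqV⟩

end Groth.Agent.H75.FibreCountSch
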