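import Mathlib
import Groth.Agent.H75.FibreCountSch

/-!
# Closed fibres of a finite flat unramified morphism of integral schemes over an algebraically
closed field have as many points as the degree of the function field extension
-/

set_option autoImplicit false
set_option linter.style.haveILetI false
universe u

open CategoryTheory CategoryTheory.Limits AlgebraicGeometry TopologicalSpace

namespace Groth.Agent.H75.FibreDegree

/-- The ring homomorphism of function fields induced by a morphism of integral schemes preserving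
the generic point. -/
noncomputable def ffHom {X Y : Scheme.{u}} [IsIntegral X] [IsIntegral Y] (π : Y ⟶ X)
    (e : π.base (genericPoint Y) = genericPoint X) : X.functionField →+* Y.functionField :=
  (X.presheaf.stalkSpecializes (specializes_of_eq e) ≫ π.stalkMap (genericPoint Y)).hom

/-- `ffHom` on germs. -/
theorem ffHom_germ {X Y : Scheme.{u}} [IsIntegral X] [IsIntegral Y] (π : Y ⟶ X)
    (e : π.base (genericPoint Y) = genericPoint X) (U : X.Opens) [Nonempty U]
    [Nonempty (π ⁻¹ᵁ U)] :
    (ffHom π e).comp (X.germToFunctionField U).hom =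
      (Y.germToFunctionField (π ⁻¹ᵁ U)).hom.comp (π.app U).hom := by
  change ((X.presheaf.stalkSpecializes (specializes_of_eq e) ≫
    π.stalkMap (genericPoint Y)).hom).comp (X.germToFunctionField U).hom =
      (Y.germToFunctionField (π ⁻¹ᵁ U)).hom.comp (π.app U).hom
  rw [← CommRingCat.hom_comp, ← CommRingCat.hom_comp]
  congr 1
  unfold Scheme.germToFunctionField
  rw [← Category.assoc, TopCat.Presheaf.germ_stalkSpecializes, Scheme.Hom.germ_stalkMap]

theorem card_fibre_eq_finrank (k : Type u) [Field k] [IsAlgClosed k] {X Y : Scheme.{u}}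
    [IsIntegral X] [IsIntegral Y] (s : X ⟶ Spec (CommRingCat.of k)) [LocallyOfFiniteType s]
    (π : Y ⟶ X) [IsFinite π] [Flat π] [FormallyUnramified π]
    (e : π.base (genericPoint Y) = genericPoint X) (p : X) (hp : IsClosed ({p} : Set X)) :
    Nat.card {q : Y // π.base q = p} =
      (letI := (ffHom π e).toAlgebra; Module.finrank X.functionField Y.functionField) := by
  obtain ⟨_, ⟨U, hU, rfl⟩, hpU, -⟩ :=
    X.isBasis_affineOpens.exists_subset_of_mem_open (Set.mem_univ p) isOpen_univ
  have hU' : IsAffineOpen U := hU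
  have hV : IsAffineOpen (π ⁻¹ᵁ U) := hU'.preimage π
  rw [Groth.Agent.H75.FibreCountSch.card_fibre_eq π hU' hV p hpU]
  haveI : Nonempty U := ⟨⟨p, hpU⟩⟩
  haveI : Nonempty (π ⁻¹ᵁ U) := by
    refine ⟨⟨genericPoint Y, ?_⟩⟩
    change π.base (genericPoint Y) ∈ U
    rw [e]
    exact ((genericPoint_spec X).mem_open_set_iff U.isOpen).mpr ⟨p, trivial, hpU⟩
  have hfin : (π.app U).hom.Finite := IsFinite.finite_app π U hU'
  have hflat : (π.app U).hom.Flat := by
    have := π.flat_appLE hU' hV le_rfl
    rwa [Scheme.Hom.appLE_eq_app] at this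
  have hunr : (π.app U).hom.FormallyUnramified := by
    have := π.formallyUnramified_appLE hU' hV le_rfl
    rwa [Scheme.Hom.appLE_eq_app] at this
  algebraize [(π.app U).hom]
  let φk : k →+* Γ(X, U) := ((Scheme.ΓSpecIso (CommRingCat.of k)).inv ≫
    s.appLE ⊤ U le_top).hom
  have hφk : φk.FiniteType := by
    have h1 := s.finiteType_appLE (isAffineOpen_top _) hU' le_top
    have h2 : (Scheme.ΓSpecIso (CommRingCat.of k)).inv.hom.FiniteType :=
      RingHom.FiniteType.of_surjective _
        (ConcreteCategory.bijective_of_isIso (Scheme.ΓSpecIso (CommRingCat.of k)).inv).surjective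
    exact h1.comp h2
  letI : Algebra k Γ(X, U) := φk.toAlgebra
  haveI : Algebra.FiniteType k Γ(X, U) := hφk
  have hm : (hU'.primeIdealOf ⟨p, hpU⟩).asIdeal.IsMaximal :=
    hU'.primeIdealOf_isMaximal_of_isClosed ⟨p, hpU⟩ hp
  have hcount := Groth.Agent.H75.FibreCount.card_fibre_eq_finrank k Γ(X, U) Γ(Y, π ⁻¹ᵁ U)
    (hU'.primeIdealOf ⟨p, hpU⟩) hm
  refine hcount.trans ?_
  letI algKL : Algebra X.functionField Y.functionField := (ffHom π e).toAlgebra
  letI : Algebra Γ(X, U) Y.functionField :=
    ((algebraMap X.functionField Y.functionField).comp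
      (algebraMap Γ(X, U) X.functionField)).toAlgebra
  haveI : IsScalarTower Γ(X, U) X.functionField Y.functionField :=
    IsScalarTower.of_algebraMap_eq' rfl
  haveI : IsScalarTower Γ(X, U) Γ(Y, π ⁻¹ᵁ U) Y.functionField := by
    refine IsScalarTower.of_algebraMap_eq' ?_
    exact ffHom_germ π e U
  haveI := functionField_isFractionRing_of_isAffineOpen X U hU'
  haveI := functionField_isFractionRing_of_isAffineOpen Y (π ⁻¹ᵁ U) hV
  exact (IsFractionRing.finrank_eq Γ(X, U) X.functionField Γ(Y, π ⁻¹ᵁ U) Y.functionField).symm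

end Groth.Agent.H75.FibreDegree
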