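import Mathlib

/-! Helper library for S15153: constructibility of the fibrewise dimension of the span of
multiplication operators on a finite flat module over a Noetherian ring. -/

set_option autoImplicit false

namespace Groth.Agent.H75.FibreSpan

open PrimeSpectrum TensorProduct

variable {A : Type*} [CommRing A]

/-- Clearing denominators of a finite family in a residue field of a prime. -/
theorem exists_clear {J : Type*} [Finite J] (p : PrimeSpectrum A)
    (b : J → p.asIdeal.ResidueField) :
    ∃ d : A, d ∉ p.asIdeal ∧ ∀ j, ∃ a : A,
      algebraMap A p.asIdeal.ResidueField a = algebraMap A p.asIdeal.ResidueField d * b j := by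
  have hsurj := IsLocalRing.residue_surjective (R := Localization.AtPrime p.asIdeal)
  choose z hz using fun j => hsurj (b j)
  obtain ⟨d, hd⟩ := IsLocalization.exist_integer_multiples_of_finite p.asIdeal.primeCompl z
  refine ⟨d.1, d.2, fun j => ?_⟩
  obtain ⟨a, ha⟩ := hd j
  refine ⟨a, ?_⟩
  have h1 : ∀ a : A, algebraMap A p.asIdeal.ResidueField a =
      IsLocalRing.residue _ (algebraMap A (Localization.AtPrime p.asIdeal) a) := fun _ => rfl
  rw [h1, h1, ha, Algebra.smul_def, map_mul, hz]

theorem isOpen_linearIndependent_vec {ι : Type*} [Fintype ι] [DecidableEq ι] {n : ℕ}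
    (v : Fin n → ι → A) :
    IsOpen {p : PrimeSpectrum A | LinearIndependent p.asIdeal.ResidueField
      (fun j : Fin n => fun x : ι => algebraMap A p.asIdeal.ResidueField (v j x))} := by
  classical
  have key : {p : PrimeSpectrum A | LinearIndependent p.asIdeal.ResidueField
      (fun j : Fin n => fun x : ι => algebraMap A p.asIdeal.ResidueField (v j x))} =
      ⋃ B : Fin n → ι → A, (PrimeSpectrum.basicOpen
        (Matrix.det (Matrix.of fun i j => ∑ x, B i x * v j x)) : Set (PrimeSpectrum A)) := by
    ext p
    simp only [Set.mem_setOf_eq, Set.mem_iUnion, SetLike.mem_coe, PrimeSpectrum.mem_basicOpen]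
    constructor
    · intro hli
      let vb : Fin n → ι → p.asIdeal.ResidueField :=
        fun j x => algebraMap A p.asIdeal.ResidueField (v j x)
      let L : (Fin n → p.asIdeal.ResidueField) →ₗ[p.asIdeal.ResidueField]
          (ι → p.asIdeal.ResidueField) := Fintype.linearCombination p.asIdeal.ResidueField vb
      have hL : LinearMap.ker L = ⊥ :=
        LinearMap.ker_eq_bot.2 (linearIndependent_iff_injective_fintypeLinearCombination.1 hli)
      obtain ⟨g, hg⟩ := L.exists_leftInverse_of_injective hL
      let b : Fin n → ι → p.asIdeal.ResidueField :=
        fun i x => g (fun y => if x = y then 1 else 0) i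
      have hb : ∀ i j, ∑ x, vb j x * b i x = if j = i then 1 else 0 := by
        intro i j
        have h1 : g (vb j) = Pi.single j 1 := by
          have : vb j = L (Pi.single j 1) := by
            simp [L, Fintype.linearCombination_apply_single]
          rw [this]
          exact LinearMap.congr_fun hg (Pi.single j 1)
        have h2 := LinearMap.pi_apply_eq_sum_univ g (vb j)
        have h3 := congrFun h2 i
        rw [h1, Finset.sum_apply] at h3
        rw [Pi.single_apply] at h3
        simp only [Pi.smul_apply, smul_eq_mul] at h3
        rw [← h3]
        by_cases hij : i = j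
        · simp [hij]
        · simp [hij, Ne.symm hij]
      obtain ⟨d, hd, hB⟩ := exists_clear p (fun ix : Fin n × ι => b ix.1 ix.2)
      choose B hB using hB
      refine ⟨fun i x => B (i, x), ?_⟩
      intro hmem
      have h0 : algebraMap A p.asIdeal.ResidueField
          (Matrix.det (Matrix.of fun i j => ∑ x, B (i, x) * v j x)) = 0 :=
        Ideal.algebraMap_residueField_eq_zero.2 hmem
      rw [RingHom.map_det] at h0
      have hG : (algebraMap A p.asIdeal.ResidueField).mapMatrix
          (Matrix.of fun i j => ∑ x, B (i, x) * v j x) =
          (algebraMap A p.asIdeal.ResidueField d) • (1 : Matrix (Fin n) (Fin n) _) := by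
        ext i j
        simp only [RingHom.mapMatrix_apply, Matrix.map_apply, Matrix.of_apply, map_sum, map_mul,
          Matrix.smul_apply, smul_eq_mul, Matrix.one_apply]
        have : ∀ x, algebraMap A p.asIdeal.ResidueField (B (i, x)) *
            algebraMap A p.asIdeal.ResidueField (v j x) =
            algebraMap A p.asIdeal.ResidueField d * (vb j x * b i x) := by
          intro x
          rw [hB (i, x)]
          simp only [vb]
          ring
        rw [Finset.sum_congr rfl fun x _ => this x, ← Finset.mul_sum, hb i j]
        by_cases hij : i = j
        · simp [hij]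
        · simp [hij, Ne.symm hij]
      rw [hG, Matrix.det_smul, Matrix.det_one, mul_one] at h0
      have hd0 : algebraMap A p.asIdeal.ResidueField d ≠ 0 := fun h =>
        hd (Ideal.algebraMap_residueField_eq_zero.1 h)
      exact (pow_ne_zero _ hd0) h0
    · rintro ⟨B, hB⟩
      have hdet : ((algebraMap A p.asIdeal.ResidueField).mapMatrix
          (Matrix.of fun i j => ∑ x, B i x * v j x)).det ≠ 0 := by
        rw [← RingHom.map_det]
        intro h0
        exact hB (Ideal.algebraMap_residueField_eq_zero.1 h0)
      rw [Fintype.linearIndependent_iff]
      intro c hc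
      have hx : ∀ x, ∑ j, c j * algebraMap A p.asIdeal.ResidueField (v j x) = 0 := fun x => by
        have := congrFun hc x
        simpa [Finset.sum_apply, Pi.smul_apply, smul_eq_mul] using this
      have hmv : ((algebraMap A p.asIdeal.ResidueField).mapMatrix
          (Matrix.of fun i j => ∑ x, B i x * v j x)).mulVec c = 0 := by
        funext i
        simp only [Matrix.mulVec, dotProduct, RingHom.mapMatrix_apply, Matrix.map_apply,
          Matrix.of_apply, map_sum, map_mul, Pi.zero_apply]
        calc ∑ j, (∑ x, algebraMap A p.asIdeal.ResidueField (B i x) *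
              algebraMap A p.asIdeal.ResidueField (v j x)) * c j
            = ∑ x, algebraMap A p.asIdeal.ResidueField (B i x) *
                ∑ j, c j * algebraMap A p.asIdeal.ResidueField (v j x) := by
              simp_rw [Finset.sum_mul, Finset.mul_sum]
              rw [Finset.sum_comm]
              refine Finset.sum_congr rfl fun x _ => Finset.sum_congr rfl fun j _ => by ring
          _ = 0 := by simp [hx]
      have hc0 := Matrix.eq_zero_of_mulVec_eq_zero hdet hmv
      exact fun j => congrFun hc0 j
  rw [key]
  exact isOpen_iUnion fun B => (PrimeSpectrum.basicOpen _).isOpen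

/-- Openness of fibrewise linear independence of finitely many endomorphisms of a finite
projective module. -/
theorem isOpen_linearIndependent_baseChange {Q : Type*} [AddCommGroup Q] [Module A Q]
    [Module.Finite A Q] [Module.Projective A Q] {n : ℕ} (T : Fin n → (Q →ₗ[A] Q)) :
    IsOpen {p : PrimeSpectrum A | LinearIndependent p.asIdeal.ResidueField
      (fun j : Fin n => LinearMap.baseChange p.asIdeal.ResidueField (T j))} := by
  classical
  obtain ⟨N, r, i, -, -, hri⟩ := Module.Finite.exists_comp_eq_id_of_projective A Q
  let q : Fin N → Q := fun k => r (fun y => if k = y then 1 else 0)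
  let ψ : Fin N → (Q →ₗ[A] A) := fun l => (LinearMap.proj l) ∘ₗ i
  have hdual : ∀ x : Q, x = ∑ k, ψ k x • q k := by
    intro x
    have h1 : x = r (i x) := (LinearMap.congr_fun hri x).symm
    have h2 := LinearMap.pi_apply_eq_sum_univ r (i x)
    rw [← h1] at h2
    exact h2
  let v : Fin n → (Fin N × Fin N) → A := fun j lk => ψ lk.1 (T j (q lk.2))
  have key : {p : PrimeSpectrum A | LinearIndependent p.asIdeal.ResidueField
      (fun j : Fin n => LinearMap.baseChange p.asIdeal.ResidueField (T j))} =
      {p : PrimeSpectrum A | LinearIndependent p.asIdeal.ResidueField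
      (fun j : Fin n => fun x : Fin N × Fin N => algebraMap A p.asIdeal.ResidueField (v j x))} := by
    ext p
    simp only [Set.mem_setOf_eq]
    -- coordinate functionals over the residue field
    let ψb : Fin N → (p.asIdeal.ResidueField ⊗[A] Q →ₗ[p.asIdeal.ResidueField]
        p.asIdeal.ResidueField) := fun l =>
      LinearMap.liftBaseChange p.asIdeal.ResidueField
        ((Algebra.linearMap A p.asIdeal.ResidueField) ∘ₗ ψ l)
    have hψb : ∀ l (c : p.asIdeal.ResidueField) (x : Q),
        ψb l (c ⊗ₜ x) = c * algebraMap A p.asIdeal.ResidueField (ψ l x) := by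
      intro l c x
      simp [ψb, LinearMap.liftBaseChange_tmul]
    have hdualb : ∀ y : p.asIdeal.ResidueField ⊗[A] Q,
        y = ∑ k, ψb k y • ((1 : p.asIdeal.ResidueField) ⊗ₜ[A] q k) := by
      intro y
      induction y using TensorProduct.induction_on with
      | zero => simp
      | tmul c x =>
        have : ∀ k, ψb k (c ⊗ₜ x) • ((1 : p.asIdeal.ResidueField) ⊗ₜ[A] q k) =
            c ⊗ₜ[A] (ψ k x • q k) := by
          intro k
          rw [hψb, TensorProduct.smul_tmul', smul_eq_mul, mul_one, TensorProduct.tmul_smul,
            TensorProduct.smul_tmul', Algebra.smul_def, mul_comm]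
        rw [Finset.sum_congr rfl fun k _ => this k, ← TensorProduct.tmul_sum, ← hdual x]
      | add y z hy hz =>
        simp only [map_add, add_smul, Finset.sum_add_distrib]
        rw [← hy, ← hz]
    have hzero : ∀ X : (p.asIdeal.ResidueField ⊗[A] Q) →ₗ[p.asIdeal.ResidueField]
        (p.asIdeal.ResidueField ⊗[A] Q),
        (∀ l k, ψb l (X ((1 : p.asIdeal.ResidueField) ⊗ₜ[A] q k)) = 0) → X = 0 := by
      intro X hX
      have h1 : ∀ k, X ((1 : p.asIdeal.ResidueField) ⊗ₜ[A] q k) = 0 := by
        intro k
        rw [hdualb (X ((1 : p.asIdeal.ResidueField) ⊗ₜ[A] q k))]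
        refine Finset.sum_eq_zero fun l _ => ?_
        rw [hX l k, zero_smul]
      apply LinearMap.ext
      intro y
      rw [hdualb y, map_sum]
      refine Finset.sum_eq_zero fun k _ => ?_
      rw [map_smul, h1 k, smul_zero]
    have hcomp : ∀ (c : Fin n → p.asIdeal.ResidueField) (l k : Fin N),
        ψb l ((∑ j, c j • LinearMap.baseChange p.asIdeal.ResidueField (T j))
          ((1 : p.asIdeal.ResidueField) ⊗ₜ[A] q k)) =
        (∑ j, c j • (fun x : Fin N × Fin N =>
          algebraMap A p.asIdeal.ResidueField (v j x))) (l, k) := by
      intro c l k
      rw [LinearMap.sum_apply, map_sum, Finset.sum_apply]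
      refine Finset.sum_congr rfl fun j _ => ?_
      rw [LinearMap.smul_apply, map_smul, LinearMap.baseChange_tmul, hψb, one_mul,
        Pi.smul_apply]
    have hE := Fintype.linearIndependent_iff (R := p.asIdeal.ResidueField)
      (M := (p.asIdeal.ResidueField ⊗[A] Q) →ₗ[p.asIdeal.ResidueField]
        (p.asIdeal.ResidueField ⊗[A] Q))
      (v := fun j : Fin n => LinearMap.baseChange p.asIdeal.ResidueField (T j))
    have hV := Fintype.linearIndependent_iff (R := p.asIdeal.ResidueField)
      (M := Fin N × Fin N → p.asIdeal.ResidueField)
      (v := fun j : Fin n => fun x : Fin N × Fin N =>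
        algebraMap A p.asIdeal.ResidueField (v j x))
    constructor
    · intro h
      refine hV.2 ?_
      intro c hc
      have hX : ∑ j, c j • LinearMap.baseChange p.asIdeal.ResidueField (T j) = 0 := by
        apply hzero
        intro l k
        rw [hcomp, hc, Pi.zero_apply]
      exact hE.1 h c hX
    · intro h
      refine hE.2 ?_
      intro c hc
      have hX : ∑ j, c j • (fun x : Fin N × Fin N =>
          algebraMap A p.asIdeal.ResidueField (v j x)) = 0 := by
        funext lk
        rw [← hcomp c lk.1 lk.2, hc, LinearMap.zero_apply, map_zero, Pi.zero_apply]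
      exact hV.1 h c hX
  rw [key]
  exact isOpen_linearIndependent_vec v

/-- A span of a family in a finite-dimensional space has dimension at least `n` iff `n` members
of the family are linearly independent. -/
theorem le_finrank_span_range_iff {K : Type*} {V : Type*} [Field K] [AddCommGroup V] [Module K V]
    [FiniteDimensional K V] {S : Type*} (g : S → V) (n : ℕ) :
    n ≤ Module.finrank K (Submodule.span K (Set.range g)) ↔
      ∃ t : Fin n → S, LinearIndependent K (fun j => g (t j)) := by
  classical
  constructor
  · intro hn
    obtain ⟨κ', a, -, hsp, hli⟩ := exists_linearIndependent' K g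
    have hfin : Finite κ' := hli.finite
    have := Fintype.ofFinite κ'
    have hcard : Module.finrank K (Submodule.span K (Set.range g)) = Fintype.card κ' := by
      rw [← hsp]
      exact finrank_span_eq_card hli
    rw [hcard] at hn
    let e : Fin n → κ' := fun j => (Fintype.equivFin κ').symm (Fin.castLE hn j)
    have he : Function.Injective e := by
      intro j j' h
      have := (Fintype.equivFin κ').symm.injective h
      exact Fin.castLE_injective hn this
    exact ⟨fun j => a (e j), hli.comp e he⟩
  · rintro ⟨t, ht⟩
    have h1 : Module.finrank K (Submodule.span K (Set.range fun j => g (t j))) = n := by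
      rw [finrank_span_eq_card ht, Fintype.card_fin]
    rw [← h1]
    refine Submodule.finrank_mono (Submodule.span_mono ?_)
    rintro _ ⟨j, rfl⟩
    exact ⟨t j, rfl⟩

theorem isConstructible_fibreSpan (A : Type*) [CommRing A] [IsNoetherianRing A]
    (S : Type*) [CommRing S] [Algebra A S]
    (Q : Type*) [AddCommGroup Q] [Module A Q] [Module S Q] [IsScalarTower A S Q]
    [Module.Finite A Q] [Module.Flat A Q] (n : ℕ) :
    Topology.IsConstructible {p : PrimeSpectrum A |
      Module.finrank p.asIdeal.ResidueField
        (Submodule.span p.asIdeal.ResidueField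
          (Set.range fun s : S =>
            LinearMap.baseChange p.asIdeal.ResidueField (DistribSMul.toLinearMap A Q s))) = n} := by
  have hfp : Module.FinitePresentation A Q := Module.finitePresentation_of_finite A Q
  have hproj : Module.Projective A Q := Module.Flat.projective_of_finitePresentation
  have hopen : ∀ m : ℕ, IsOpen {p : PrimeSpectrum A |
      m ≤ Module.finrank p.asIdeal.ResidueField
        (Submodule.span p.asIdeal.ResidueField
          (Set.range fun s : S =>
            LinearMap.baseChange p.asIdeal.ResidueField (DistribSMul.toLinearMap A Q s)))} := by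
    intro m
    have : {p : PrimeSpectrum A |
      m ≤ Module.finrank p.asIdeal.ResidueField
        (Submodule.span p.asIdeal.ResidueField
          (Set.range fun s : S =>
            LinearMap.baseChange p.asIdeal.ResidueField (DistribSMul.toLinearMap A Q s)))} =
        ⋃ t : Fin m → S, {p : PrimeSpectrum A | LinearIndependent p.asIdeal.ResidueField
          (fun j : Fin m => LinearMap.baseChange p.asIdeal.ResidueField
            (DistribSMul.toLinearMap A Q (t j)))} := by
      ext p
      simp only [Set.mem_setOf_eq, Set.mem_iUnion]
      exact le_finrank_span_range_iff (K := p.asIdeal.ResidueField)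
        (fun s : S => LinearMap.baseChange p.asIdeal.ResidueField
          (DistribSMul.toLinearMap A Q s)) m
    rw [this]
    exact isOpen_iUnion fun t => isOpen_linearIndependent_baseChange _
  have hcons : ∀ m : ℕ, Topology.IsConstructible {p : PrimeSpectrum A |
      m ≤ Module.finrank p.asIdeal.ResidueField
        (Submodule.span p.asIdeal.ResidueField
          (Set.range fun s : S =>
            LinearMap.baseChange p.asIdeal.ResidueField (DistribSMul.toLinearMap A Q s)))} :=
    fun m => (TopologicalSpace.NoetherianSpace.isCompact _).isConstructible (hopen m)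
  have hsd : {p : PrimeSpectrum A |
      Module.finrank p.asIdeal.ResidueField
        (Submodule.span p.asIdeal.ResidueField
          (Set.range fun s : S =>
            LinearMap.baseChange p.asIdeal.ResidueField (DistribSMul.toLinearMap A Q s))) = n} =
      {p : PrimeSpectrum A |
      n ≤ Module.finrank p.asIdeal.ResidueField
        (Submodule.span p.asIdeal.ResidueField
          (Set.range fun s : S =>
            LinearMap.baseChange p.asIdeal.ResidueField (DistribSMul.toLinearMap A Q s)))} \
      {p : PrimeSpectrum A |
      n + 1 ≤ Module.finrank p.asIdeal.ResidueField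
        (Submodule.span p.asIdeal.ResidueField
          (Set.range fun s : S =>
            LinearMap.baseChange p.asIdeal.ResidueField (DistribSMul.toLinearMap A Q s)))} := by
    ext p
    simp only [Set.mem_setOf_eq, Set.mem_diff]
    omega
  rw [hsd]
  exact (hcons n).sdiff (hcons (n + 1))

end Groth.Agent.H75.FibreSpan
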