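import Mathlib

/-! Helper for S15173: a subgroup generated over a commuting family with bounded exponent
modulo a base subgroup has finite relative index over that base subgroup. -/

set_option autoImplicit false

namespace Groth.Agent.H75.FinIndexComm

open Subgroup

theorem exists_subgroup_relIndex {G : Type*} [Group G] (Z : Subgroup G) (p : ℕ) (hp : 0 < p)
    (T : Finset G)
    (hcomm : ∀ x ∈ (Z : Set G) ∪ (T : Set G), ∀ y ∈ (Z : Set G) ∪ (T : Set G), x * y = y * x)
    (hpow : ∀ t ∈ T, t ^ p ∈ Z)
    (hinj : ∀ s ∈ T, ∀ t ∈ T, s⁻¹ * t ∈ Z → s = t) :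
    ∃ H : Subgroup G, Z ≤ H ∧ T.card ≤ Z.relIndex H ∧ Z.relIndex H ≠ 0 := by
  classical
  set S : Set G := (Z : Set G) ∪ (T : Set G) with hS
  let H : Subgroup G := Subgroup.closure S
  letI cg : CommGroup H := Subgroup.closureCommGroupOfComm hcomm
  have hZH : Z ≤ H := fun z hz => Subgroup.subset_closure (Or.inl hz)
  have hTH : ∀ t ∈ T, t ∈ H := fun t ht => Subgroup.subset_closure (Or.inr (Finset.mem_coe.2 ht))
  -- every element of H has p-th power in Z
  have hpowH : ∀ x ∈ H, x ^ p ∈ Z := by
    intro x hx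
    induction hx using Subgroup.closure_induction with
    | mem x hx =>
      rcases hx with hx | hx
      · exact Z.pow_mem hx p
      · exact hpow x (Finset.mem_coe.1 hx)
    | one => rw [one_pow]; exact Z.one_mem
    | mul x y hx hy ihx ihy =>
      have hc : x * y = y * x := congrArg Subtype.val (mul_comm (⟨x, hx⟩ : H) ⟨y, hy⟩)
      have : Commute x y := hc
      rw [this.mul_pow]
      exact Z.mul_mem ihx ihy
    | inv x hx ihx =>
      rw [inv_pow]
      exact Z.inv_mem ihx
  let Z' : Subgroup H := Z.subgroupOf H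
  have hnorm : Z'.Normal := Subgroup.normal_of_comm Z'
  -- the quotient is torsion
  have htors : IsMulTorsion (H ⧸ Z') := by
    intro q
    induction q using QuotientGroup.induction_on with
    | H h =>
      rw [isOfFinOrder_iff_pow_eq_one]
      refine ⟨p, hp, ?_⟩
      rw [← QuotientGroup.mk_pow, QuotientGroup.eq_one_iff]
      change ((h ^ p : H) : G) ∈ Z
      rw [Subgroup.coe_pow]
      exact hpowH h.1 h.2
  -- the quotient is finitely generated
  have hfg : Group.FG (H ⧸ Z') := by
    rw [Group.fg_iff]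
    refine ⟨(QuotientGroup.mk' Z') '' (((↑) : H → G) ⁻¹' S), ?_, ?_⟩
    · rw [← MonoidHom.map_closure, Subgroup.closure_closure_coe_preimage,
        Subgroup.map_top_of_surjective _ (QuotientGroup.mk'_surjective Z')]
    · have : (((↑) : H → G) ⁻¹' S) = (((↑) : H → G) ⁻¹' (Z : Set G)) ∪ (((↑) : H → G) ⁻¹' (T : Set G)) := by
        rw [hS, Set.preimage_union]
      rw [this, Set.image_union]
      refine Set.Finite.union ?_ ?_
      · refine (Set.finite_singleton (1 : H ⧸ Z')).subset ?_
        rintro _ ⟨x, hx, rfl⟩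
        rw [Set.mem_singleton_iff]
        exact (QuotientGroup.eq_one_iff x).2 hx
      · refine Set.Finite.image _ ?_
        exact Set.Finite.preimage (Subtype.val_injective.injOn) T.finite_toSet
  have hfin : Finite (H ⧸ Z') := CommGroup.finite_of_fg_isMulTorsion _ htors
  refine ⟨H, hZH, ?_, ?_⟩
  · change T.card ≤ Z'.index
    rw [Subgroup.index_eq_card]
    let f : T → H ⧸ Z' := fun t => QuotientGroup.mk' Z' ⟨t.1, hTH t.1 t.2⟩
    have hf : Function.Injective f := by
      intro s t hst
      have h1 : (⟨s.1, hTH s.1 s.2⟩ : H)⁻¹ * ⟨t.1, hTH t.1 t.2⟩ ∈ Z' := QuotientGroup.eq.1 hst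
      have h2 : (s.1)⁻¹ * t.1 ∈ Z := h1
      exact Subtype.ext (hinj s.1 s.2 t.1 t.2 h2)
    have := Nat.card_le_card_of_injective f hf
    rwa [Nat.card_eq_fintype_card, Fintype.card_coe] at this
  · change Z'.index ≠ 0
    exact Subgroup.index_ne_zero_of_finite

end Groth.Agent.H75.FinIndexComm
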