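import Mathlib
import Groth.Agent.H75.FlatClosure
import Groth.Prelude.Def_Red

/-!
# The flat schematic closure of a closed subgroup of the generic fibre is a subgroup scheme
-/

universe v u
open AlgebraicGeometry CategoryTheory CategoryTheory.Limits TopologicalSpace
open MonoidalCategory CartesianMonoidalCategory MonObj GrpObj
open Groth.Agent.H75.FlatClosure

namespace Groth.Agent.H75.FlatClosureGrp

section Mono
variable {D : Type u} [Category.{v} D] [CartesianMonoidalCategory D]

/-- A mono into a group object through which unit, multiplication and inverse factor carries a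
group structure. (Same construction as helper30's `grpObjOfMono` / helper90's `grpObjOfMono'`;
repeated here to keep the import chain light.) -/
@[instance_reducible]
noncomputable def grpObjOfMono {K G : D} [GrpObj G] (j : K ⟶ G) [Mono j] (e : 𝟙_ D ⟶ K)
    (he : e ≫ j = η[G]) (m : K ⊗ K ⟶ K) (hm : m ≫ j = (j ⊗ₘ j) ≫ μ[G]) (i : K ⟶ K)
    (hi : i ≫ j = j ≫ ι[G]) : GrpObj K where
  one := e
  mul := m
  one_mul := by
    rw [← cancel_mono j, Category.assoc, hm, ← tensorHom_id, tensorHom_comp_tensorHom_assoc, he,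
      Category.id_comp, tensorHom_def', Category.assoc, MonObj.one_mul, leftUnitor_naturality]
  mul_one := by
    rw [← cancel_mono j, Category.assoc, hm, ← id_tensorHom, tensorHom_comp_tensorHom_assoc, he,
      Category.id_comp, MonoidalCategory.tensorHom_def, Category.assoc, MonObj.mul_one,
      rightUnitor_naturality]
  mul_assoc := by
    rw [← cancel_mono j]
    have e1 : m ▷ K ≫ m ≫ j = ((j ⊗ₘ j) ⊗ₘ j) ≫ (μ[G] ▷ G) ≫ μ[G] := by
      rw [hm, ← tensorHom_id, tensorHom_comp_tensorHom_assoc, hm, ← tensorHom_id,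
        tensorHom_comp_tensorHom_assoc]
      simp
    have e2 : K ◁ m ≫ m ≫ j = (j ⊗ₘ (j ⊗ₘ j)) ≫ (G ◁ μ[G]) ≫ μ[G] := by
      rw [hm, ← id_tensorHom, tensorHom_comp_tensorHom_assoc, hm, ← id_tensorHom,
        tensorHom_comp_tensorHom_assoc]
      simp
    rw [Category.assoc, e1, Category.assoc, Category.assoc, e2, MonObj.mul_assoc,
      associator_naturality_assoc]
  inv := i
  left_inv := by
    rw [← cancel_mono j, Category.assoc, hm]
    have : lift i (𝟙 K) ≫ (j ⊗ₘ j) = j ≫ lift ι[G] (𝟙 G) := by
      ext <;> simp [hi]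
    rw [reassoc_of% this, GrpObj.left_inv, Category.assoc, he]
    simp
  right_inv := by
    rw [← cancel_mono j, Category.assoc, hm]
    have : lift (𝟙 K) i ≫ (j ⊗ₘ j) = j ≫ lift (𝟙 G) ι[G] := by
      ext <;> simp [hi]
    rw [reassoc_of% this, GrpObj.right_inv, Category.assoc, he]
    simp

end Mono

variable {S SK : Scheme.{u}} (e0 : SK ⟶ S)

/-- The projection `X ×_S SK ⟶ X` is natural in `X`. -/
theorem pullback_map_left_fst {X Y : Over S} (u : X ⟶ Y) :
    ((Over.pullback e0).map u).left ≫ pullback.fst Y.hom e0 = pullback.fst X.hom e0 ≫ u.left := by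
  simp only [Over.pullback_map_left, pullback.lift_fst]

/-- Over a base `S` whose local rings are valuation rings, with `e0 : SK ⟶ S` a flat quasi-compact
schematically dominant monomorphism onto the generic point: the schematic closure in `G` of a
closed subgroup scheme of `G_K` is a flat closed subgroup scheme of `G` with generic fibre the
given subgroup. -/
theorem exists_closure_subgroup [IsIntegral S] (hS : ∀ y : S, ValuationRing (S.presheaf.stalk y))
    [Flat e0] [QuasiCompact e0] [Mono e0] [IsSchemeTheoreticallyDominant e0]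
    (hgen : ∀ x : SK, e0.base x = genericPoint S)
    (G : Over S) [GrpObj G] (HK : Over SK) [GrpObj HK]
    (i : HK ⟶ Red.bc e0 G) [IsMonHom i] [IsClosedImmersion i.left] :
    ∃ (H : Over S) (_ : GrpObj H) (j : H ⟶ G) (φ : HK.left ⟶ H.left),
      IsMonHom j ∧ IsClosedImmersion j.left ∧ Flat H.hom ∧
      IsPullback φ HK.hom H.hom e0 ∧
      φ ≫ j.left = i.left ≫ pullback.fst G.hom e0 ∧
      φ.ker = ⊥ := by
  have hcl : IsClosedImmersion (i.left : HK.left ⟶ pullback G.hom e0) := ‹IsClosedImmersion i.left›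
  obtain ⟨hflat, hpb, hsd, hqc⟩ := closure_spec hS e0 hgen G.hom
    (i.left : HK.left ⟶ pullback G.hom e0)
  set c : HK.left ⟶ G.left := (i.left : HK.left ⟶ pullback G.hom e0) ≫ pullback.fst G.hom e0 with hc
  let H : Over S := Over.mk (c.imageι ≫ G.hom)
  let j : H ⟶ G := Over.homMk c.imageι rfl
  let φ : HK.left ⟶ H.left := c.toImage
  have hφj : φ ≫ j.left = c := c.toImage_imageι
  have hcj : IsClosedImmersion j.left := inferInstanceAs (IsClosedImmersion c.imageι)
  have hmonoL : Mono j.left := inferInstance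
  have hmono : Mono j := (Over.forget _).mono_of_mono_map hmonoL
  have hflatH : Flat H.hom := hflat
  have hsdφ : IsSchemeTheoreticallyDominant φ := hsd
  -- the generic fibre of `H`
  have hw : (i.left : HK.left ⟶ pullback G.hom e0) ≫ pullback.snd G.hom e0 = HK.hom := Over.w i
  have hpbH : IsPullback φ HK.hom H.hom e0 := by
    have := hpb.paste_vert (IsPullback.of_hasPullback G.hom e0)
    rw [hw] at this
    exact this
  let ψ : HK ≅ (Over.pullback e0).obj H := Over.isoMk hpbH.isoPullback (by
    simp only [Over.pullback_obj_hom]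
    exact hpbH.isoPullback_hom_snd)
  have hψ : ψ.hom.left ≫ pullback.fst H.hom e0 = φ := hpbH.isoPullback_hom_fst
  have hψj : ψ.hom ≫ (Over.pullback e0).map j = i := by
    ext1
    apply pullback.hom_ext
    · rw [Over.comp_left, Category.assoc, pullback_map_left_fst, reassoc_of% hψ, hφj]
    · have h1 := Over.w (ψ.hom ≫ (Over.pullback e0).map j)
      have h2 := Over.w i
      simp only [Over.pullback_obj_hom] at h1 h2
      rw [h1, h2]
  -- multiplication
  have hflatHH : Flat (H ⊗ H).hom := by rw [Over.tensorObj_hom]; infer_instance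
  let dm : (HK ⊗ HK).left ⟶ (H ⊗ H).left :=
    ((ψ.hom ⊗ₘ ψ.hom) ≫ Functor.LaxMonoidal.μ (Over.pullback e0) H H).left ≫
      pullback.fst (H ⊗ H).hom e0
  have hisom : IsIso ((ψ.hom ⊗ₘ ψ.hom) ≫
      Functor.LaxMonoidal.μ (Over.pullback e0) H H).left :=
    (Over.forget _).map_isIso ((ψ.hom ⊗ₘ ψ.hom) ≫ Functor.LaxMonoidal.μ (Over.pullback e0) H H)
  have hsdHH : IsSchemeTheoreticallyDominant (pullback.fst (H ⊗ H).hom e0) := inferInstance
  have hdm : IsSchemeTheoreticallyDominant dm := inferInstance
  have hkey : ((ψ.hom ⊗ₘ ψ.hom) ≫ Functor.LaxMonoidal.μ (Over.pullback e0) H H) ≫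
      (Over.pullback e0).map ((j ⊗ₘ j) ≫ μ[G]) = μ[HK] ≫ i := by
    rw [Functor.map_comp, Category.assoc, ← Functor.LaxMonoidal.μ_natural_assoc,
      tensorHom_comp_tensorHom_assoc, hψj, IsMonHom.mul_hom (f := i)]
    rfl
  have em : dm ≫ ((j ⊗ₘ j) ≫ μ[G]).left = (μ[HK].left ≫ φ) ≫ j.left := by
    have h1 := pullback_map_left_fst e0 ((j ⊗ₘ j) ≫ μ[G])
    have h2 := congrArg (fun t => t.left ≫ pullback.fst G.hom e0) hkey
    calc dm ≫ ((j ⊗ₘ j) ≫ μ[G]).left
        = ((ψ.hom ⊗ₘ ψ.hom) ≫ Functor.LaxMonoidal.μ (Over.pullback e0) H H).left ≫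
            (pullback.fst (H ⊗ H).hom e0 ≫ ((j ⊗ₘ j) ≫ μ[G]).left) := Category.assoc _ _ _
      _ = ((ψ.hom ⊗ₘ ψ.hom) ≫ Functor.LaxMonoidal.μ (Over.pullback e0) H H).left ≫
            (((Over.pullback e0).map ((j ⊗ₘ j) ≫ μ[G])).left ≫ pullback.fst G.hom e0) := by
          rw [h1]
      _ = (((ψ.hom ⊗ₘ ψ.hom) ≫ Functor.LaxMonoidal.μ (Over.pullback e0) H H) ≫
            (Over.pullback e0).map ((j ⊗ₘ j) ≫ μ[G])).left ≫ pullback.fst G.hom e0 := by
          simp only [Over.comp_left, Category.assoc]
      _ = (μ[HK] ≫ i).left ≫ pullback.fst G.hom e0 := h2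
      _ = (μ[HK].left ≫ φ) ≫ j.left := by
          rw [Over.comp_left, Category.assoc, Category.assoc, hφj]
  have km := ker_le_of_dominant_fac dm _ j.left _ em
  let m0 : (H ⊗ H).left ⟶ H.left := IsClosedImmersion.lift j.left _ km
  have hm0 : m0 ≫ j.left = ((j ⊗ₘ j) ≫ μ[G]).left := IsClosedImmersion.lift_fac _ _ _
  let m : H ⊗ H ⟶ H := Over.homMk m0 (by rw [← Over.w j, reassoc_of% hm0, Over.w])
  have hm : m ≫ j = (j ⊗ₘ j) ≫ μ[G] := by ext1; exact hm0
  -- inverse
  have hkeyi : i ≫ (Over.pullback e0).map ι[G] = ι[HK] ≫ i := by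
    have := GrpObj.inv_hom (f := i)
    rw [this]
    rfl
  have ei : φ ≫ (j ≫ ι[G]).left = (ι[HK].left ≫ φ) ≫ j.left := by
    have h1 := pullback_map_left_fst e0 ι[G]
    have h2 := congrArg (fun t => t.left ≫ pullback.fst G.hom e0) hkeyi
    calc φ ≫ (j ≫ ι[G]).left = (φ ≫ j.left) ≫ ι[G].left := by
          rw [Over.comp_left, Category.assoc]
      _ = i.left ≫ (pullback.fst G.hom e0 ≫ ι[G].left) := by rw [hφj, hc, Category.assoc]
      _ = i.left ≫ (((Over.pullback e0).map ι[G]).left ≫ pullback.fst G.hom e0) := by rw [h1]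
      _ = (i ≫ (Over.pullback e0).map ι[G]).left ≫ pullback.fst G.hom e0 := by
          simp only [Over.comp_left, Category.assoc]
      _ = (ι[HK] ≫ i).left ≫ pullback.fst G.hom e0 := h2
      _ = (ι[HK].left ≫ φ) ≫ j.left := by
          rw [Over.comp_left, Category.assoc, Category.assoc, hφj]
  have ki := ker_le_of_dominant_fac φ _ j.left _ ei
  let i0 : H.left ⟶ H.left := IsClosedImmersion.lift j.left _ ki
  have hi0 : i0 ≫ j.left = (j ≫ ι[G]).left := IsClosedImmersion.lift_fac _ _ _
  let inv' : H ⟶ H := Over.homMk i0 (by rw [← Over.w j, reassoc_of% hi0, Over.w, Over.w])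
  have hinv : inv' ≫ j = j ≫ ι[G] := by ext1; exact hi0
  -- unit
  have hkeyu : Functor.LaxMonoidal.ε (Over.pullback e0) ≫ (Over.pullback e0).map η[G] =
      η[HK] ≫ i := by
    rw [IsMonHom.one_hom (f := i)]
    rfl
  have hε : (Functor.LaxMonoidal.ε (Over.pullback e0)).left ≫
      pullback.fst (𝟙_ (Over S)).hom e0 = e0 := by
    have h1 := Over.w (Functor.LaxMonoidal.ε (Over.pullback e0))
    simp only [Over.pullback_obj_hom] at h1
    have h2 : pullback.fst (𝟙_ (Over S)).hom e0 = pullback.snd (𝟙_ (Over S)).hom e0 ≫ e0 := by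
      have := pullback.condition (f := (𝟙_ (Over S)).hom) (g := e0)
      rw [← this]
      exact (Category.comp_id _).symm
    rw [h2, reassoc_of% h1]
    exact Category.id_comp _
  have eu : e0 ≫ η[G].left = (η[HK].left ≫ φ) ≫ j.left := by
    have h1 := pullback_map_left_fst e0 η[G]
    have h2 := congrArg (fun t => t.left ≫ pullback.fst G.hom e0) hkeyu
    calc e0 ≫ η[G].left
        = (Functor.LaxMonoidal.ε (Over.pullback e0)).left ≫
            (pullback.fst (𝟙_ (Over S)).hom e0 ≫ η[G].left) := by
          rw [← Category.assoc, hε]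
      _ = (Functor.LaxMonoidal.ε (Over.pullback e0)).left ≫
            (((Over.pullback e0).map η[G]).left ≫ pullback.fst G.hom e0) := by rw [h1]
      _ = (Functor.LaxMonoidal.ε (Over.pullback e0) ≫ (Over.pullback e0).map η[G]).left ≫
            pullback.fst G.hom e0 := by
          simp only [Over.comp_left, Category.assoc]
      _ = (η[HK] ≫ i).left ≫ pullback.fst G.hom e0 := h2
      _ = (η[HK].left ≫ φ) ≫ j.left := by
          rw [Over.comp_left, Category.assoc, Category.assoc, hφj]
  have ku := ker_le_of_dominant_fac e0 _ j.left _ eu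
  let u0 : (𝟙_ (Over S)).left ⟶ H.left := IsClosedImmersion.lift j.left _ ku
  have hu0 : u0 ≫ j.left = η[G].left := IsClosedImmersion.lift_fac _ _ _
  let u : 𝟙_ (Over S) ⟶ H := Over.homMk u0 (by rw [← Over.w j, reassoc_of% hu0, Over.w])
  have hu : u ≫ j = η[G] := by ext1; exact hu0
  let inst : GrpObj H := grpObjOfMono j u hu m hm inv' hinv
  refine ⟨H, inst, j, φ, ⟨hu, hm⟩, hcj, hflatH, hpbH, ?_, hsdφ.ker_eq_bot⟩
  rw [hφj, hc]


section Dedekind

variable (R : Type u) [CommRing R]

/-- The generic point `Spec K ⟶ Spec R`. -/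
noncomputable abbrev genPt [IsDomain R] :
    Spec (CommRingCat.of (FractionRing R)) ⟶ Spec (CommRingCat.of R) :=
  Spec.map (CommRingCat.ofHom (algebraMap R (FractionRing R)))

section
variable [IsDedekindDomain R]
theorem preVal (y : PrimeSpectrum R) :
    PreValuationRing ((structurePresheafInCommRingCat R).stalk y) := by
  let _ : Algebra R ((structurePresheafInCommRingCat R).stalk y) := StructureSheaf.stalkAlgebra R y
  let e : Localization.AtPrime y.asIdeal ≃ₐ[R] ((structurePresheafInCommRingCat R).stalk y) :=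
    StructureSheaf.stalkIso R y
  exact Function.Surjective.preValuationRing (R := Localization.AtPrime y.asIdeal)
    ((e.toRingEquiv.toRingHom : Localization.AtPrime y.asIdeal →* _).toMulHom) e.surjective

theorem valuationRing_stalk_Spec (y : Spec (CommRingCat.of R)) :
    ValuationRing ((Spec (CommRingCat.of R)).presheaf.stalk y) := by
  have : PreValuationRing ((Spec (CommRingCat.of R)).presheaf.stalk y) := preVal R y
  exact ValuationRing.mk

end

section
variable [IsDomain R]
theorem flat_genPt : Flat (genPt R) := by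
  rw [HasRingHomProperty.Spec_iff (P := @Flat)]
  show (algebraMap R (FractionRing R)).Flat
  rw [RingHom.flat_algebraMap_iff]
  exact IsLocalization.flat (FractionRing R) (nonZeroDivisors R)

theorem quasiCompact_genPt : QuasiCompact (genPt R) := inferInstance

theorem mono_genPt : Mono (genPt R) := by
  have : IsPreimmersion (genPt R) := IsPreimmersion.of_isLocalization (nonZeroDivisors R)
  infer_instance

theorem genPt_apply (x : Spec (CommRingCat.of (FractionRing R))) :
    (genPt R).base x = genericPoint (Spec (CommRingCat.of R)) := by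
  rw [genericPoint_eq_bot_of_affine]
  apply PrimeSpectrum.ext
  show Ideal.comap (algebraMap R (FractionRing R)) x.asIdeal = ⊥
  have hx : x.asIdeal = ⊥ := by
    have := Ideal.eq_bot_or_top x.asIdeal
    rcases this with h | h
    · exact h
    · exact absurd h x.2.ne_top
  rw [hx]
  exact (RingHom.injective_iff_ker_eq_bot _).mp (IsFractionRing.injective R (FractionRing R))

theorem schDominant_genPt : IsSchemeTheoreticallyDominant (genPt R) := by
  have hdom : IsDominant (genPt R) := by
    rw [isDominant_iff]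
    have hmem : genericPoint (Spec (CommRingCat.of R)) ∈ Set.range (genPt R).base := by
      let x : Spec (CommRingCat.of (FractionRing R)) := ⟨⊥, Ideal.isPrime_bot⟩
      exact ⟨x, genPt_apply R x⟩
    have hd : Dense ({genericPoint (Spec (CommRingCat.of R))} : Set (Spec (CommRingCat.of R))) :=
      dense_iff_closure_eq.mpr (genericPoint_spec _)
    exact hd.mono (Set.singleton_subset_iff.mpr hmem)
  exact IsSchemeTheoreticallyDominant.of_isDominant _
end

end Dedekind

end Groth.Agent.H75.FlatClosureGrp
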