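import Mathlib
import Groth.Agent.H75.FlatClosureGrp

/-!
# Subgroup structure on a flat closed subscheme with schematically dense generic fibre
-/

universe v u
open AlgebraicGeometry CategoryTheory CategoryTheory.Limits TopologicalSpace
open MonoidalCategory CartesianMonoidalCategory MonObj GrpObj
open Groth.Agent.H75.FlatClosure Groth.Agent.H75.FlatClosureGrp

namespace Groth.Agent.H75.FlatClosureGrp2

variable {S SK : Scheme.{u}} (e0 : SK ⟶ S)

/-- Abstract form: a flat closed subscheme `H` of a group scheme `G` over `S`, in which a closed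
subgroup scheme `HK` of the generic fibre `G_K` is schematically dense, is a subgroup scheme of `G`
with generic fibre `HK`. -/
theorem grpObj_of_schDominant
    [Flat e0] [QuasiCompact e0] [Mono e0] [IsSchemeTheoreticallyDominant e0]
    (G : Over S) [GrpObj G] (HK : Over SK) [GrpObj HK]
    (i : HK ⟶ Red.bc e0 G) [IsMonHom i] [IsClosedImmersion i.left]
    (H : Over S) (j : H ⟶ G) [hcj : IsClosedImmersion j.left] [hflatH : Flat H.hom]
    (φ : HK.left ⟶ H.left) [hsdφ : IsSchemeTheoreticallyDominant φ]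
    (hφj' : φ ≫ j.left = i.left ≫ pullback.fst G.hom e0) :
    ∃ (_ : GrpObj H), IsMonHom j ∧ IsPullback φ HK.hom H.hom e0 := by
  have hcl : IsClosedImmersion (i.left : HK.left ⟶ pullback G.hom e0) := ‹IsClosedImmersion i.left›
  set c : HK.left ⟶ G.left := (i.left : HK.left ⟶ pullback G.hom e0) ≫ pullback.fst G.hom e0 with hc
  have hφj : φ ≫ j.left = c := hφj'
  have hpb : IsPullback φ (i.left : HK.left ⟶ pullback G.hom e0) j.left (pullback.fst G.hom e0) :=
    isPullback_of_schDominant G.hom e0 j.left (i.left : HK.left ⟶ pullback G.hom e0) φ hφj'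
  have hmonoL : Mono j.left := inferInstance
  have hmono : Mono j := (Over.forget _).mono_of_mono_map hmonoL
  have hw : (i.left : HK.left ⟶ pullback G.hom e0) ≫ pullback.snd G.hom e0 = HK.hom := Over.w i
  have hpbH : IsPullback φ HK.hom H.hom e0 := by
    have := hpb.paste_vert (IsPullback.of_hasPullback G.hom e0)
    rw [hw, Over.w j] at this
    exact this
  let ψ : HK ≅ (Over.pullback e0).obj H := Over.isoMk hpbH.isoPullback (by
    simp only [Over.pullback_obj_hom]
    exact hpbH.isoPullback_hom_snd)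
  have hψ : ψ.hom.left ≫ pullback.fst H.hom e0 = φ := hpbH.isoPullback_hom_fst
  have hψj : ψ.hom ≫ (Over.pullback e0).map j = i := by
    ext1
    apply pullback.hom_ext
    · rw [Over.comp_left, Category.assoc, pullback_map_left_fst, reassoc_of% hψ, hφj]
    · have h1 := Over.w (ψ.hom ≫ (Over.pullback e0).map j)
      have h2 := Over.w i
      simp only [Over.pullback_obj_hom] at h1 h2
      rw [h1, h2]
  -- multiplication
  have hflatHH : Flat (H ⊗ H).hom := by rw [Over.tensorObj_hom]; infer_instance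
  let dm : (HK ⊗ HK).left ⟶ (H ⊗ H).left :=
    ((ψ.hom ⊗ₘ ψ.hom) ≫ Functor.LaxMonoidal.μ (Over.pullback e0) H H).left ≫
      pullback.fst (H ⊗ H).hom e0
  have hisom : IsIso ((ψ.hom ⊗ₘ ψ.hom) ≫
      Functor.LaxMonoidal.μ (Over.pullback e0) H H).left :=
    (Over.forget _).map_isIso ((ψ.hom ⊗ₘ ψ.hom) ≫ Functor.LaxMonoidal.μ (Over.pullback e0) H H)
  have hsdHH : IsSchemeTheoreticallyDominant (pullback.fst (H ⊗ H).hom e0) := inferInstance
  have hdm : IsSchemeTheoreticallyDominant dm := inferInstance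
  have hkey : ((ψ.hom ⊗ₘ ψ.hom) ≫ Functor.LaxMonoidal.μ (Over.pullback e0) H H) ≫
      (Over.pullback e0).map ((j ⊗ₘ j) ≫ μ[G]) = μ[HK] ≫ i := by
    rw [Functor.map_comp, Category.assoc, ← Functor.LaxMonoidal.μ_natural_assoc,
      tensorHom_comp_tensorHom_assoc, hψj, IsMonHom.mul_hom (f := i)]
    rfl
  have em : dm ≫ ((j ⊗ₘ j) ≫ μ[G]).left = (μ[HK].left ≫ φ) ≫ j.left := by
    have h1 := pullback_map_left_fst e0 ((j ⊗ₘ j) ≫ μ[G])
    have h2 := congrArg (fun t => t.left ≫ pullback.fst G.hom e0) hkey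
    calc dm ≫ ((j ⊗ₘ j) ≫ μ[G]).left
        = ((ψ.hom ⊗ₘ ψ.hom) ≫ Functor.LaxMonoidal.μ (Over.pullback e0) H H).left ≫
            (pullback.fst (H ⊗ H).hom e0 ≫ ((j ⊗ₘ j) ≫ μ[G]).left) := Category.assoc _ _ _
      _ = ((ψ.hom ⊗ₘ ψ.hom) ≫ Functor.LaxMonoidal.μ (Over.pullback e0) H H).left ≫
            (((Over.pullback e0).map ((j ⊗ₘ j) ≫ μ[G])).left ≫ pullback.fst G.hom e0) := by
          rw [h1]
      _ = (((ψ.hom ⊗ₘ ψ.hom) ≫ Functor.LaxMonoidal.μ (Over.pullback e0) H H) ≫
            (Over.pullback e0).map ((j ⊗ₘ j) ≫ μ[G])).left ≫ pullback.fst G.hom e0 := by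
          simp only [Over.comp_left, Category.assoc]
      _ = (μ[HK] ≫ i).left ≫ pullback.fst G.hom e0 := h2
      _ = (μ[HK].left ≫ φ) ≫ j.left := by
          rw [Over.comp_left, Category.assoc, Category.assoc, hφj]
  have km := ker_le_of_dominant_fac dm _ j.left _ em
  let m0 : (H ⊗ H).left ⟶ H.left := IsClosedImmersion.lift j.left _ km
  have hm0 : m0 ≫ j.left = ((j ⊗ₘ j) ≫ μ[G]).left := IsClosedImmersion.lift_fac _ _ _
  let m : H ⊗ H ⟶ H := Over.homMk m0 (by rw [← Over.w j, reassoc_of% hm0, Over.w])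
  have hm : m ≫ j = (j ⊗ₘ j) ≫ μ[G] := by ext1; exact hm0
  -- inverse
  have hkeyi : i ≫ (Over.pullback e0).map ι[G] = ι[HK] ≫ i := by
    have := GrpObj.inv_hom (f := i)
    rw [this]
    rfl
  have ei : φ ≫ (j ≫ ι[G]).left = (ι[HK].left ≫ φ) ≫ j.left := by
    have h1 := pullback_map_left_fst e0 ι[G]
    have h2 := congrArg (fun t => t.left ≫ pullback.fst G.hom e0) hkeyi
    calc φ ≫ (j ≫ ι[G]).left = (φ ≫ j.left) ≫ ι[G].left := by
          rw [Over.comp_left, Category.assoc]
      _ = i.left ≫ (pullback.fst G.hom e0 ≫ ι[G].left) := by rw [hφj, hc, Category.assoc]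
      _ = i.left ≫ (((Over.pullback e0).map ι[G]).left ≫ pullback.fst G.hom e0) := by rw [h1]
      _ = (i ≫ (Over.pullback e0).map ι[G]).left ≫ pullback.fst G.hom e0 := by
          simp only [Over.comp_left, Category.assoc]
      _ = (ι[HK] ≫ i).left ≫ pullback.fst G.hom e0 := h2
      _ = (ι[HK].left ≫ φ) ≫ j.left := by
          rw [Over.comp_left, Category.assoc, Category.assoc, hφj]
  have ki := ker_le_of_dominant_fac φ _ j.left _ ei
  let i0 : H.left ⟶ H.left := IsClosedImmersion.lift j.left _ ki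
  have hi0 : i0 ≫ j.left = (j ≫ ι[G]).left := IsClosedImmersion.lift_fac _ _ _
  let inv' : H ⟶ H := Over.homMk i0 (by rw [← Over.w j, reassoc_of% hi0, Over.w, Over.w])
  have hinv : inv' ≫ j = j ≫ ι[G] := by ext1; exact hi0
  -- unit
  have hkeyu : Functor.LaxMonoidal.ε (Over.pullback e0) ≫ (Over.pullback e0).map η[G] =
      η[HK] ≫ i := by
    rw [IsMonHom.one_hom (f := i)]
    rfl
  have hε : (Functor.LaxMonoidal.ε (Over.pullback e0)).left ≫
      pullback.fst (𝟙_ (Over S)).hom e0 = e0 := by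
    have h1 := Over.w (Functor.LaxMonoidal.ε (Over.pullback e0))
    simp only [Over.pullback_obj_hom] at h1
    have h2 : pullback.fst (𝟙_ (Over S)).hom e0 = pullback.snd (𝟙_ (Over S)).hom e0 ≫ e0 := by
      have := pullback.condition (f := (𝟙_ (Over S)).hom) (g := e0)
      rw [← this]
      exact (Category.comp_id _).symm
    rw [h2, reassoc_of% h1]
    exact Category.id_comp _
  have eu : e0 ≫ η[G].left = (η[HK].left ≫ φ) ≫ j.left := by
    have h1 := pullback_map_left_fst e0 η[G]
    have h2 := congrArg (fun t => t.left ≫ pullback.fst G.hom e0) hkeyu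
    calc e0 ≫ η[G].left
        = (Functor.LaxMonoidal.ε (Over.pullback e0)).left ≫
            (pullback.fst (𝟙_ (Over S)).hom e0 ≫ η[G].left) := by
          rw [← Category.assoc, hε]
      _ = (Functor.LaxMonoidal.ε (Over.pullback e0)).left ≫
            (((Over.pullback e0).map η[G]).left ≫ pullback.fst G.hom e0) := by rw [h1]
      _ = (Functor.LaxMonoidal.ε (Over.pullback e0) ≫ (Over.pullback e0).map η[G]).left ≫
            pullback.fst G.hom e0 := by
          simp only [Over.comp_left, Category.assoc]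
      _ = (η[HK] ≫ i).left ≫ pullback.fst G.hom e0 := h2
      _ = (η[HK].left ≫ φ) ≫ j.left := by
          rw [Over.comp_left, Category.assoc, Category.assoc, hφj]
  have ku := ker_le_of_dominant_fac e0 _ j.left _ eu
  let u0 : (𝟙_ (Over S)).left ⟶ H.left := IsClosedImmersion.lift j.left _ ku
  have hu0 : u0 ≫ j.left = η[G].left := IsClosedImmersion.lift_fac _ _ _
  let u : 𝟙_ (Over S) ⟶ H := Over.homMk u0 (by rw [← Over.w j, reassoc_of% hu0, Over.w])
  have hu : u ≫ j = η[G] := by ext1; exact hu0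
  let inst : GrpObj H := grpObjOfMono j u hu m hm inv' hinv
  exact ⟨inst, ⟨hu, hm⟩, hpbH⟩


end Groth.Agent.H75.FlatClosureGrp2
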