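import Mathlib

set_option autoImplicit false

open CategoryTheory CategoryTheory.Limits AlgebraicGeometry Opposite TopologicalSpace

namespace Groth.Agent.H75.FlatDVRDense

universe u

/-- Restriction from an affine open `U` to any open `V ≤ U` containing `U ⊓ D(ϖ)` is injective
when `ϖ|_U` is a regular element. -/
lemma res_injective_of_regular {X : Scheme.{u}} (ϖ : Γ(X, ⊤)) {U : X.Opens} (hU : IsAffineOpen U)
    (hreg : IsSMulRegular Γ(X, U) (X.presheaf.map (homOfLE (le_top : U ≤ ⊤)).op ϖ))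
    (V : X.Opens) (hVU : V ≤ U) (hV : U ⊓ X.basicOpen ϖ ≤ V) :
    Function.Injective (X.presheaf.map (homOfLE hVU).op) := by
  set r : Γ(X, U) := X.presheaf.map (homOfLE (le_top : U ≤ ⊤)).op ϖ with hr
  have hW : X.basicOpen r = U ⊓ X.basicOpen ϖ := X.basicOpen_res _ _
  have hWV : X.basicOpen r ≤ V := hW.le.trans hV
  have hloc := hU.isLocalization_basicOpen r
  have hinj : Function.Injective (algebraMap Γ(X, U) Γ(X, X.basicOpen r)) := by
    apply IsLocalization.injective (M := Submonoid.powers r)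
    intro y hy
    obtain ⟨n, rfl⟩ := hy
    apply pow_mem
    rw [mem_nonZeroDivisors_iff_right]
    intro z hz
    apply hreg
    simpa [mul_comm] using hz
  have hcomp : (algebraMap Γ(X, U) Γ(X, X.basicOpen r) : Γ(X, U) → Γ(X, X.basicOpen r)) =
      (X.presheaf.map (homOfLE hWV).op) ∘ (X.presheaf.map (homOfLE hVU).op) := by
    ext z
    simp only [Function.comp_apply]
    rw [← CommRingCat.comp_apply, ← Functor.map_comp]
    rfl
  rw [hcomp] at hinj
  exact Function.Injective.of_comp hinj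

/-- The basic open of a section that is regular on every affine open is schematically dense. -/
lemma ker_basicOpen_ι_eq_bot {X : Scheme.{u}} (ϖ : Γ(X, ⊤))
    (hreg : ∀ U : X.affineOpens,
      IsSMulRegular Γ(X, U.1) (X.presheaf.map (homOfLE (le_top : U.1 ≤ ⊤)).op ϖ)) :
    (X.basicOpen ϖ).ι.ker = ⊥ := by
  ext U : 2
  rw [Scheme.Hom.ker_apply, Scheme.IdealSheafData.ideal_bot, Pi.bot_apply,
    ← RingHom.injective_iff_ker_eq_bot, Scheme.Opens.ι_app]
  refine res_injective_of_regular ϖ U.2 (hreg U) _ _ ?_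
  rw [Scheme.Hom.image_preimage_eq_opensRange_inf, Scheme.Opens.opensRange_ι, inf_comm]

/-- If `j : T ⟶ X` is schematically dominant and `j ≫ τ` factors through a closed immersion `γ`,
then so does `τ`. -/
lemma exists_lift_of_ker_eq_bot {X V Z T : Scheme.{u}} (γ : Z ⟶ V) [IsClosedImmersion γ]
    (τ : X ⟶ V) (j : T ⟶ X) (hj : j.ker = ⊥) (c : T ⟶ Z) (hc : c ≫ γ = j ≫ τ) :
    ∃ m : X ⟶ Z, m ≫ γ = τ := by
  have hcl : IsClosedImmersion (pullback.snd γ τ) := inferInstance
  have hl : pullback.lift c j hc ≫ pullback.snd γ τ = j := pullback.lift_snd _ _ _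
  have hker : (pullback.snd γ τ).ker = ⊥ := by
    apply le_bot_iff.mp
    calc (pullback.snd γ τ).ker ≤ (pullback.lift c j hc ≫ pullback.snd γ τ).ker :=
          Scheme.Hom.le_ker_comp _ _
      _ = ⊥ := by rw [hl, hj]
  have hiso : IsIso (pullback.snd γ τ) := IsClosedImmersion.isIso_iff_ker_eq_bot.mpr hker
  exact ⟨inv (pullback.snd γ τ) ≫ pullback.fst γ τ, by
    rw [Category.assoc, pullback.condition, IsIso.inv_hom_id_assoc]⟩

section dvr

variable {R : Type u} [CommRing R] {X : Scheme.{u}} (x : X ⟶ Spec (CommRingCat.of R))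

/-- The global section of `X` pulled back from `π : R`. -/
noncomputable def sec (π : R) : Γ(X, ⊤) :=
  x.appTop ((Scheme.ΓSpecIso (CommRingCat.of R)).inv π)

lemma sec_regular [Flat x] {π : R} (hπ : IsSMulRegular R π) (U : X.affineOpens) :
    IsSMulRegular Γ(X, U.1) (X.presheaf.map (homOfLE (le_top : U.1 ≤ ⊤)).op (sec x π)) := by
  have hle : U.1 ≤ x ⁻¹ᵁ ⊤ := fun _ _ => trivial
  have hfl : RingHom.Flat (x.appLE ⊤ U.1 hle).hom :=
    HasRingHomProperty.appLE (P := @Flat) (f := x) ‹Flat x› ⟨⊤, isAffineOpen_top _⟩ U hle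
  have hreg' : IsSMulRegular Γ(Spec (CommRingCat.of R), ⊤)
      ((Scheme.ΓSpecIso (CommRingCat.of R)).inv π) := by
    intro a b hab
    have h1 := congrArg (Scheme.ΓSpecIso (CommRingCat.of R)).hom hab
    simp only [smul_eq_mul, map_mul] at h1
    have h2 : (Scheme.ΓSpecIso (CommRingCat.of R)).hom
        ((Scheme.ΓSpecIso (CommRingCat.of R)).inv π) = π := by
      rw [← CommRingCat.comp_apply, Iso.inv_hom_id]; rfl
    rw [h2] at h1
    have h3 := hπ h1
    have h4 := congrArg (Scheme.ΓSpecIso (CommRingCat.of R)).inv h3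
    rw [← CommRingCat.comp_apply, ← CommRingCat.comp_apply, Iso.hom_inv_id] at h4
    exact h4
  let alg := (x.appLE ⊤ U.1 hle).hom.toAlgebra
  have hfl' : Module.Flat Γ(Spec (CommRingCat.of R), ⊤) Γ(X, U.1) := hfl
  have h5 := IsSMulRegular.of_flat (S := Γ(X, U.1)) hreg'
  exact h5

end dvr

section toK

variable {R K : Type u} [CommRing R] [IsDomain R] [IsDiscreteValuationRing R] [Field K]
  [Algebra R K] [IsFractionRing R K] {X : Scheme.{u}} (x : X ⟶ Spec (CommRingCat.of R))

/-- The structure morphism of the basic open of a uniformizer factors through `Spec K`. -/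
lemma exists_toSpecK {π : R} (hπ : Irreducible π) :
    ∃ s : (X.basicOpen (sec x π) : Scheme.{u}) ⟶ Spec (CommRingCat.of K),
      (X.basicOpen (sec x π)).ι ≫ x = s ≫ Spec.map (CommRingCat.ofHom (algebraMap R K)) := by
  set T := X.basicOpen (sec x π) with hT
  let y : (T : Scheme.{u}) ⟶ Spec (CommRingCat.of R) := T.ι ≫ x
  let φ : R →+* Γ(T, ⊤) := y.appTop.hom.comp (Scheme.ΓSpecIso (CommRingCat.of R)).inv.hom
  have hφπ : IsUnit (φ π) := by
    have h1 : φ π = T.ι.appTop (sec x π) := by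
      simp only [φ, y, RingHom.comp_apply, sec]
      rw [Scheme.Hom.comp_appTop]
      rfl
    rw [h1, Scheme.Opens.ι_appTop]
    have h2 := X.toRingedSpace.isUnit_res_basicOpen (sec x π)
    have hle : T.ι ''ᵁ ⊤ ≤ X.basicOpen (sec x π) := by
      rw [Scheme.Opens.ι_image_top]
    have h3 := h2.map (X.presheaf.map (homOfLE hle).op).hom
    have h4 : (X.presheaf.map (homOfLE (x := T.ι ''ᵁ ⊤) le_top).op) (sec x π) =
        (X.presheaf.map (homOfLE hle).op).hom
          ((X.presheaf.map (homOfLE (X.basicOpen_le (sec x π))).op) (sec x π)) := by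
      change _ = (X.presheaf.map (homOfLE (X.basicOpen_le (sec x π))).op ≫
        X.presheaf.map (homOfLE hle).op) (sec x π)
      rw [← Functor.map_comp]
      rfl
    change IsUnit ((X.presheaf.map (homOfLE (x := T.ι ''ᵁ ⊤) le_top).op) (sec x π))
    rw [h4]
    exact h3
  have hφ : ∀ r : nonZeroDivisors R, IsUnit (φ r) := by
    intro r
    have hr : (r : R) ≠ 0 := nonZeroDivisors.ne_zero r.2
    obtain ⟨n, u, hu⟩ := IsDiscreteValuationRing.eq_unit_mul_pow_irreducible hr hπ
    rw [hu, map_mul, map_pow]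
    exact (u.isUnit.map φ).mul (hφπ.pow n)
  let ψ : K →+* Γ(T, ⊤) := IsLocalization.lift hφ
  have hψ : ψ.comp (algebraMap R K) = φ := IsLocalization.lift_comp hφ
  refine ⟨T.toScheme.toSpecΓ ≫ Spec.map (CommRingCat.ofHom ψ), ?_⟩
  apply ext_of_isAffine
  have e1 : (Spec.map (CommRingCat.ofHom ψ)).appTop ≫ (Scheme.ΓSpecIso Γ(T, ⊤)).hom =
      (Scheme.ΓSpecIso (CommRingCat.of K)).hom ≫ CommRingCat.ofHom ψ :=
    Scheme.ΓSpecIso_naturality (CommRingCat.ofHom ψ)
  rw [Scheme.Hom.comp_appTop, Scheme.Hom.comp_appTop, Scheme.Hom.comp_appTop,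
    Scheme.toSpecΓ_appTop]
  refine Eq.trans ?_ (congrArg
    (fun z => (Spec.map (CommRingCat.ofHom (algebraMap R K))).appTop ≫ z) e1).symm
  rw [Scheme.ΓSpecIso_naturality_assoc, ← Iso.inv_comp_eq]
  ext r
  have h5 : ψ (algebraMap R K r) = φ r := by rw [← hψ]; rfl
  exact h5.symm

end toK

section main

variable {R K : Type u} [CommRing R] [IsDomain R] [IsDiscreteValuationRing R] [Field K]
  [Algebra R K] [IsFractionRing R K]

/-- Let `X` be flat over a DVR `R` with fraction field `K`. A morphism `τ : X ⟶ V` factors through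
a closed immersion `γ : Z ⟶ V` as soon as it does so on all test schemes over `Spec K`. -/
theorem exists_lift_of_generic {X V Z : Scheme.{u}} (x : X ⟶ Spec (CommRingCat.of R)) [Flat x]
    (γ : Z ⟶ V) [IsClosedImmersion γ] (τ : X ⟶ V)
    (H : ∀ (T : Scheme.{u}) (j : T ⟶ X) (s : T ⟶ Spec (CommRingCat.of K)),
      j ≫ x = s ≫ Spec.map (CommRingCat.ofHom (algebraMap R K)) → ∃ c : T ⟶ Z, c ≫ γ = j ≫ τ) :
    ∃ m : X ⟶ Z, m ≫ γ = τ := by
  obtain ⟨π, hπ⟩ := IsDiscreteValuationRing.exists_irreducible R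
  obtain ⟨s, hs⟩ := exists_toSpecK (K := K) x hπ
  obtain ⟨c, hc⟩ := H _ (X.basicOpen (sec x π)).ι s hs
  have hreg : IsSMulRegular R π := (IsRegular.of_ne_zero hπ.ne_zero).left.isSMulRegular
  exact exists_lift_of_ker_eq_bot γ τ _
    (ker_basicOpen_ι_eq_bot _ (sec_regular x hreg)) c hc

end main

end Groth.Agent.H75.FlatDVRDense
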