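import Mathlib

set_option autoImplicit false
universe u

namespace Groth.Agent.H75

open AlgebraicGeometry CategoryTheory TopologicalSpace

/-- Over a Bezout domain, flatness of `R → B` follows from flatness of the composites with a
jointly injective family of ring maps out of `B`. -/
theorem ringHom_flat_of_jointly_injective {R B : Type u} [CommRing R] [IsDomain R] [IsBezout R]
    [CommRing B] (φ : R →+* B) {ι : Type*} (C : ι → Type u) [∀ i, CommRing (C i)]
    (ρ : ∀ i, B →+* C i) (hflat : ∀ i, ((ρ i).comp φ).Flat)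
    (hinj : ∀ b : B, (∀ i, ρ i b = 0) → b = 0) : φ.Flat := by
  let _ : Algebra R B := φ.toAlgebra
  show Module.Flat R B
  rw [Module.Flat.flat_iff_torsion_eq_bot_of_isBezout, eq_bot_iff]
  rintro b ⟨⟨r, hr⟩, h⟩
  rw [Submodule.mem_bot]
  apply hinj
  intro i
  have hfi := hflat i
  let _ : Algebra R (C i) := ((ρ i).comp φ).toAlgebra
  have hfi' : Module.Flat R (C i) := hfi
  have htf := Module.Flat.torsion_eq_bot (R := R) (M := C i)
  have hmem : ρ i b ∈ Submodule.torsion R (C i) := by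
    refine ⟨⟨r, hr⟩, ?_⟩
    have h' : φ r * b = 0 := h
    show ((ρ i).comp φ) r * ρ i b = 0
    rw [RingHom.comp_apply, ← map_mul, h', map_zero]
  rw [htf] at hmem
  exact hmem

/-- a section vanishing on all affine opens inside `U` vanishes -/
theorem section_eq_zero_of_affine {X : Scheme.{u}} (U : X.Opens) (s : Γ(X, U))
    (h : ∀ (W : X.affineOpens) (hW : W.1 ≤ U), X.presheaf.map (homOfLE hW).op s = 0) : s = 0 := by
  refine X.sheaf.eq_of_locally_eq' (ι := {W : X.affineOpens // W.1 ≤ U}) (fun W => W.1.1) U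
    (fun W => homOfLE W.2) ?_ s 0 ?_
  · intro x hx
    obtain ⟨_, ⟨W, hW, rfl⟩, hxW, hWU⟩ :=
      X.isBasis_affineOpens.exists_subset_of_mem_open hx U.isOpen
    exact Opens.mem_iSup.mpr ⟨⟨⟨W, hW⟩, hWU⟩, hxW⟩
  · intro W
    rw [map_zero]
    exact h W.1 W.2

theorem flat_of_ker_eq_bot (k : Type u) [Field k]
    (X Y : Scheme.{u}) (f : X ⟶ Y) (g : Y ⟶ Spec (CommRingCat.of (Polynomial k)))
    [QuasiCompact f] (hker : f.ker = ⊥) [Flat (f ≫ g)] : Flat g := by
  apply HasRingHomProperty.of_iSup_eq_top (P := @Flat) (fun V : Y.affineOpens => V)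
    (iSup_affineOpens_eq_top Y)
  intro V
  let e : Γ(Spec (CommRingCat.of (Polynomial k)), ⊤) ≃+* Polynomial k :=
    (Scheme.ΓSpecIso (CommRingCat.of (Polynomial k))).commRingCatIsoToRingEquiv
  have : IsDomain Γ(Spec (CommRingCat.of (Polynomial k)), ⊤) := e.toMulEquiv.isDomain
  have : IsPrincipalIdealRing Γ(Spec (CommRingCat.of (Polynomial k)), ⊤) :=
    IsPrincipalIdealRing.of_surjective e.symm.toRingHom e.symm.surjective
  refine ringHom_flat_of_jointly_injective (g.appLE ⊤ V.1 le_top).hom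
    (ι := {W : X.affineOpens // W.1 ≤ f ⁻¹ᵁ V.1}) (fun W => Γ(X, W.1.1))
    (fun W => (f.appLE V.1 W.1.1 W.2).hom) ?_ ?_
  · intro W
    have := Flat.flat_appLE (f ≫ g) (isAffineOpen_top _) W.1.2 (le_top)
    have h : g.appLE ⊤ V.1 le_top ≫ f.appLE V.1 W.1.1 W.2 = (f ≫ g).appLE ⊤ W.1.1 le_top :=
      Scheme.Hom.appLE_comp_appLE f g ⊤ V.1 W.1.1 _ W.2
    rw [← CommRingCat.hom_comp, h]
    exact this
  · intro b hb
    have h0 : (f.app V.1).hom b = 0 := by
      apply section_eq_zero_of_affine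
      intro W hW
      exact hb ⟨W, hW⟩
    have hmem : b ∈ f.ker.ideal V := by
      rw [Scheme.Hom.ker_apply]; exact h0
    rw [hker] at hmem
    simpa using hmem

end Groth.Agent.H75
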