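import Mathlib
import Groth.Agent.H75.FEtSections

/-!
# Free actions of a finite group on a finite étale cover
-/

set_option autoImplicit false
set_option linter.style.haveILetI false
universe u

open CategoryTheory CategoryTheory.Limits AlgebraicGeometry

namespace Groth.Agent.H75.FreeAct

variable {X Y : Scheme.{u}} (q : Y ⟶ X) {G : Type u} [Group G]
  (a : G → (Y ⟶ Y))

/-- The hypotheses on an action by automorphisms over `X`. -/
structure IsAct : Prop where
  one : a 1 = 𝟙 Y
  mul : ∀ g h, a (g * h) = a h ≫ a g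
  comp_q : ∀ g, a g ≫ q = q
  free : ∀ g : G, g ≠ 1 → ∀ (K : Type u) [Field K] (y : Spec (CommRingCat.of K) ⟶ Y),
    y ≫ a g ≠ y

variable {q a}

theorem IsAct.eq_of_comp_eq (h : IsAct q a) {K : Type u} [Field K]
    (y : Spec (CommRingCat.of K) ⟶ Y) {g g' : G} (e : y ≫ a g = y ≫ a g') : g = g' := by
  by_contra hne
  have h1 : g'⁻¹ * g ≠ 1 := fun h2 => hne (by
    have := congrArg (g' * ·) h2
    simpa using this)
  apply h.free _ h1 K y
  rw [h.mul, ← Category.assoc, e, Category.assoc, ← h.mul, inv_mul_cancel, h.one, Category.comp_id]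

/-- The graph of `a g`. -/
noncomputable def graph (h : IsAct q a) (g : G) : Y ⟶ pullback q q :=
  pullback.lift (𝟙 Y) (a g) ((Category.id_comp q).trans (h.comp_q g).symm)

@[reassoc (attr := simp)]
theorem graph_fst (h : IsAct q a) (g : G) : graph h g ≫ pullback.fst q q = 𝟙 Y :=
  pullback.lift_fst _ _ _

@[reassoc (attr := simp)]
theorem graph_snd (h : IsAct q a) (g : G) : graph h g ≫ pullback.snd q q = a g :=
  pullback.lift_snd _ _ _

variable [IsFinite q] [Etale q]

omit [IsFinite q] in
theorem isOpenImmersion_graph (h : IsAct q a) (g : G) : IsOpenImmersion (graph h g) :=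
  Groth.Agent.H75.FEtSections.isOpenImmersion_section (pullback.fst q q) _ (graph_fst h g)

omit [IsFinite q] in
/-- The graphs of distinct group elements are disjoint. -/
theorem disjoint_range_graph (h : IsAct q a) {g g' : G} (hne : g ≠ g') :
    Disjoint (Set.range (graph h g)) (Set.range (graph h g')) := by
  rw [Set.disjoint_left]
  rintro z ⟨y, rfl⟩ ⟨y', hy'⟩
  apply hne
  have hyy : y' = y := by
    have h1 := congrArg (pullback.fst q q).base hy'
    rw [← Scheme.Hom.comp_apply, ← Scheme.Hom.comp_apply, graph_fst, graph_fst] at h1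
    exact h1
  subst hyy
  haveI := isOpenImmersion_graph h g'
  -- the open subset of `Y` where the graph of `g` lands in the graph of `g'`
  let U : Y.Opens := graph h g ⁻¹ᵁ (graph h g').opensRange
  have hyU : y' ∈ U := ⟨y', hy'⟩
  have hr : Set.range (U.ι ≫ graph h g) ⊆ Set.range (graph h g') := by
    rintro _ ⟨u, rfl⟩
    exact u.2
  have e1 : IsOpenImmersion.lift (graph h g') (U.ι ≫ graph h g) hr ≫ graph h g' =
      U.ι ≫ graph h g := IsOpenImmersion.lift_fac _ _ _
  have e2 : IsOpenImmersion.lift (graph h g') (U.ι ≫ graph h g) hr = U.ι := by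
    have := congrArg (· ≫ pullback.fst q q) e1
    rw [Category.assoc, graph_fst, Category.comp_id, Category.assoc, graph_fst,
      Category.comp_id] at this
    exact this
  rw [e2] at e1
  have e3 : U.ι ≫ a g' = U.ι ≫ a g := by
    have := congrArg (· ≫ pullback.snd q q) e1
    rw [Category.assoc, graph_snd, Category.assoc, graph_snd] at this
    exact this
  obtain ⟨Ω, _, _, ζ, -⟩ := Groth.Agent.H75.FinrankComp.exists_geomPt (S := U.toScheme) ⟨y', hyU⟩
  refine h.eq_of_comp_eq (ζ ≫ U.ι) ?_
  rw [Category.assoc, Category.assoc, e3]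

/-- Geometric points of the fibre product over a given geometric point of the first factor. -/
theorem exists_graph_of_card (h : IsAct q a) [Finite G]
    {Ω : Type u} [Field Ω] [IsAlgClosed Ω] (ω : Spec (CommRingCat.of Ω) ⟶ pullback q q)
    (hc : Nat.card G = Nat.card {t : Spec (CommRingCat.of Ω) ⟶ Y // t ≫ q = ω ≫ pullback.fst q q ≫ q}) :
    ∃ g : G, ω = (ω ≫ pullback.fst q q) ≫ graph h g := by
  set ζ := ω ≫ pullback.fst q q with hζ
  obtain ⟨hfin, -⟩ := Groth.Agent.H75.FinrankComp.card_fiber (ζ ≫ q) q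
  haveI := hfin
  let F : G → {t : Spec (CommRingCat.of Ω) ⟶ Y // t ≫ q = ζ ≫ q} := fun g =>
    ⟨ζ ≫ a g, by rw [Category.assoc, h.comp_q]⟩
  have hinj : Function.Injective F := fun g g' e =>
    h.eq_of_comp_eq ζ (congrArg Subtype.val e)
  have hbij : Function.Bijective F := by
    refine hinj.bijective_of_nat_card_le ?_
    rw [hc, hζ, Category.assoc]
  obtain ⟨g, hg⟩ := hbij.2 ⟨ω ≫ pullback.snd q q, by
    rw [Category.assoc, ← pullback.condition, hζ, Category.assoc]⟩
  have hg' : ζ ≫ a g = ω ≫ pullback.snd q q := congrArg Subtype.val hg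
  refine ⟨g, ?_⟩
  apply pullback.hom_ext
  · rw [Category.assoc, graph_fst, Category.comp_id]
  · rw [Category.assoc, graph_snd, hg']

/-- If the group has as many elements as the geometric fibres, the graphs cover. -/
theorem iUnion_range_graph (h : IsAct q a) [Finite G] (n : ℕ)
    (hn : ∀ (Ω : Type u) [Field Ω] [IsAlgClosed Ω] (ξ : Spec (CommRingCat.of Ω) ⟶ X),
      Nat.card {t : Spec (CommRingCat.of Ω) ⟶ Y // t ≫ q = ξ} = n)
    (hG : Nat.card G = n) : (⋃ g, Set.range (graph h g)) = Set.univ := by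
  rw [Set.eq_univ_iff_forall]
  intro w
  obtain ⟨Ω, _, _, ω, hω⟩ := Groth.Agent.H75.FinrankComp.exists_geomPt w
  obtain ⟨g, hg⟩ := exists_graph_of_card h ω (by rw [hG, hn])
  refine Set.mem_iUnion.mpr ⟨g, (ω ≫ pullback.fst q q) default, ?_⟩
  rw [← Scheme.Hom.comp_apply, ← hg, hω]

/-- Main theorem: cardinality bound. -/
theorem card_le (h : IsAct q a) [Finite G] [Nonempty Y] (n : ℕ)
    (hn : ∀ (Ω : Type u) [Field Ω] [IsAlgClosed Ω] (ξ : Spec (CommRingCat.of Ω) ⟶ X),
      Nat.card {t : Spec (CommRingCat.of Ω) ⟶ Y // t ≫ q = ξ} = n) : Nat.card G ≤ n := by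
  obtain ⟨y₀⟩ : Nonempty Y := inferInstance
  obtain ⟨Ω, _, _, ζ, -⟩ := Groth.Agent.H75.FinrankComp.exists_geomPt y₀
  obtain ⟨hfin, -⟩ := Groth.Agent.H75.FinrankComp.card_fiber (ζ ≫ q) q
  haveI := hfin
  let F : G → {t : Spec (CommRingCat.of Ω) ⟶ Y // t ≫ q = ζ ≫ q} := fun g =>
    ⟨ζ ≫ a g, by rw [Category.assoc, h.comp_q]⟩
  have hinj : Function.Injective F := fun g g' e =>
    h.eq_of_comp_eq ζ (congrArg Subtype.val e)
  rw [← hn Ω (ζ ≫ q)]
  exact Nat.card_le_card_of_injective F hinj

/-- Main theorem: the Galois criterion. -/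
theorem card_eq_iff (h : IsAct q a) [Finite G] [Nonempty Y] (n : ℕ)
    (hn : ∀ (Ω : Type u) [Field Ω] [IsAlgClosed Ω] (ξ : Spec (CommRingCat.of Ω) ⟶ X),
      Nat.card {t : Spec (CommRingCat.of Ω) ⟶ Y // t ≫ q = ξ} = n) :
    Nat.card G = n ↔ IsIso (Sigma.desc (graph h) : (∐ fun _ : G => Y) ⟶ pullback q q) := by
  constructor
  · intro hG
    haveI : ∀ g, IsOpenImmersion (graph h g) := isOpenImmersion_graph h
    have hcov : ⨆ g, (graph h g).opensRange = ⊤ := by
      ext z
      simp only [TopologicalSpace.Opens.coe_iSup, Scheme.Hom.coe_opensRange,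
        TopologicalSpace.Opens.coe_top, iUnion_range_graph h n hn hG]
    have hdisj : Pairwise (Function.onFun Disjoint fun g ↦ (graph h g).opensRange) := by
      intro g g' hgg
      have := disjoint_range_graph h hgg
      simp only [Function.onFun]
      rw [disjoint_iff]
      ext z
      simp only [TopologicalSpace.Opens.coe_inf, Scheme.Hom.coe_opensRange,
        TopologicalSpace.Opens.coe_bot, Set.mem_inter_iff, Set.mem_empty_iff_false, iff_false,
        not_and]
      exact fun h1 h2 ↦ Set.disjoint_left.mp this h1 h2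
    have hc := nonempty_isColimit_cofanMk_of (graph h) hcov hdisj
    exact (Cofan.nonempty_isColimit_iff_isIso_sigmaDesc (Cofan.mk _ (graph h))).mp hc
  · intro hiso
    refine le_antisymm (card_le h n hn) ?_
    obtain ⟨y₀⟩ : Nonempty Y := inferInstance
    obtain ⟨Ω, _, _, ζ, -⟩ := Groth.Agent.H75.FinrankComp.exists_geomPt y₀
    obtain ⟨hfin, -⟩ := Groth.Agent.H75.FinrankComp.card_fiber (ζ ≫ q) q
    haveI := hfin
    let F : G → {t : Spec (CommRingCat.of Ω) ⟶ Y // t ≫ q = ζ ≫ q} := fun g =>
      ⟨ζ ≫ a g, by rw [Category.assoc, h.comp_q]⟩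
    have hsurj : Function.Surjective F := by
      rintro ⟨t, ht⟩
      let w : Spec (CommRingCat.of Ω) ⟶ pullback q q := pullback.lift ζ t ht.symm
      let v : Spec (CommRingCat.of Ω) ⟶ ∐ fun _ : G => Y := w ≫ inv (Sigma.desc (graph h))
      obtain ⟨g, y, hy⟩ : ∃ (g : G) (y : Y), (Sigma.ι (fun _ : G => Y) g) y = v default := by
        obtain ⟨g, y, hy⟩ := (sigmaOpenCover (fun _ : G => Y)).exists_eq (v default)
        exact ⟨g, y, hy⟩
      have hr : Set.range v ⊆ Set.range (Sigma.ι (fun _ : G => Y) g) := by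
        rintro _ ⟨s, rfl⟩
        rw [Subsingleton.elim s default]
        exact ⟨y, hy⟩
      have e1 : IsOpenImmersion.lift (Sigma.ι (fun _ : G => Y) g) v hr ≫
          Sigma.ι (fun _ : G => Y) g = v := IsOpenImmersion.lift_fac _ _ _
      set y' := IsOpenImmersion.lift (Sigma.ι (fun _ : G => Y) g) v hr
      have e2 : w = y' ≫ graph h g := by
        have : v ≫ Sigma.desc (graph h) = w := by
          simp only [v, Category.assoc, IsIso.inv_hom_id, Category.comp_id]
        rw [← this, ← e1, Category.assoc, Sigma.ι_desc]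
      have e3 : ζ = y' := by
        have := congrArg (· ≫ pullback.fst q q) e2
        rw [Category.assoc, graph_fst, Category.comp_id] at this
        exact (pullback.lift_fst _ _ _).symm.trans this
      have e4 : t = y' ≫ a g := by
        have := congrArg (· ≫ pullback.snd q q) e2
        rw [Category.assoc, graph_snd] at this
        exact (pullback.lift_snd _ _ _).symm.trans this
      exact ⟨g, Subtype.ext (show ζ ≫ a g = t by rw [e4, e3])⟩
    rw [← hn Ω (ζ ≫ q)]
    exact Nat.card_le_card_of_surjective F hsurj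

end Groth.Agent.H75.FreeAct
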