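import Mathlib
import Groth.Prelude.Def_RegImm

set_option autoImplicit false
universe u

namespace Groth.Agent.H75.FrobSynt

open TensorProduct

/-- a finite algebra over a field with a presentation by as many relations as generators is a
global complete intersection. -/
theorem isGlobalCI_of_finite {κ F : Type u} [Field κ] [CommRing F] [Algebra κ F] [Module.Finite κ F]
    {ι : Type} [Fintype ι] (P : Algebra.Presentation κ F ι ι) : Synt.IsGlobalCI κ F := by
  rcases subsingleton_or_nontrivial F with h | h
  · exact Or.inl h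
  · haveI : IsArtinianRing F := IsArtinianRing.of_finite κ F
    have hdim : ringKrullDim F = 0 :=
      ringKrullDimZero_iff_ringKrullDim_eq_zero.mp inferInstance
    let P' := P.reindex (Fintype.equivFin ι).symm (Fintype.equivFin ι).symm
    refine Or.inr ⟨Fintype.card ι, Fintype.card ι, le_rfl, MvPolynomial.aeval P'.val, P'.relation,
      P'.aeval_val_surjective, ?_, ?_⟩
    · rw [P'.span_range_relation_eq_ker, P'.ker_eq_ker_aeval_val]
      rfl
    · rw [hdim]; simp

theorem isLCIOver_of_finite {κ F : Type u} [Field κ] [CommRing F] [Algebra κ F] [Module.Finite κ F]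
    {ι : Type} [Fintype ι] (P : Algebra.Presentation κ F ι ι) : Synt.IsLCIOver κ F := by
  refine ⟨inferInstance, fun p => ⟨1, ?_, ?_⟩⟩
  · exact fun h => p.2.ne_top ((Ideal.eq_top_iff_one _).mpr h)
  · let e : F ≃ₐ[F] Localization.Away (1 : F) :=
      IsLocalization.atUnits F (Submonoid.powers (1 : F)) (by
        rintro _ ⟨n, rfl⟩; simp)
    haveI : Module.Finite κ (Localization.Away (1 : F)) :=
      Module.Finite.equiv (e.restrictScalars κ).toLinearEquiv
    exact isGlobalCI_of_finite (P.ofAlgEquiv (e.restrictScalars κ))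

theorem isSyntomic_of_free_pres {R S : Type u} [CommRing R] [CommRing S] [Algebra R S]
    [Module.Free R S] [Module.Finite R S] {ι : Type} [Fintype ι]
    (P : Algebra.Presentation R S ι ι) : Synt.IsSyntomic R S := by
  refine ⟨inferInstance, P.finitePresentation_of_isFinite, fun q => ?_⟩
  exact isLCIOver_of_finite (P.baseChange q.asIdeal.ResidueField)

section Frob

variable (A : Type u) [CommRing A] (m p : ℕ)

/-- the polynomial ring viewed as an algebra over itself via `expand p` -/
@[nolint unusedArguments]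
def FrobAlg (A : Type u) [CommRing A] (m : ℕ) (_p : ℕ) : Type u := MvPolynomial (Fin m) A

noncomputable instance : CommRing (FrobAlg A m p) :=
  inferInstanceAs (CommRing (MvPolynomial (Fin m) A))

noncomputable instance : Algebra A (FrobAlg A m p) :=
  inferInstanceAs (Algebra A (MvPolynomial (Fin m) A))

noncomputable instance algR : Algebra (MvPolynomial (Fin m) A) (FrobAlg A m p) :=
  (MvPolynomial.expand p : MvPolynomial (Fin m) A →ₐ[A] MvPolynomial (Fin m) A).toRingHom.toAlgebra

theorem algebraMap_def (f : MvPolynomial (Fin m) A) :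
    algebraMap (MvPolynomial (Fin m) A) (FrobAlg A m p) f = MvPolynomial.expand p f := rfl

instance : IsScalarTower A (MvPolynomial (Fin m) A) (FrobAlg A m p) :=
  IsScalarTower.of_algebraMap_eq (fun a => by
    rw [algebraMap_def]
    exact (MvPolynomial.expand_C p a).symm)

/-- the variable `X i` in `FrobAlg` -/
noncomputable def xv (i : Fin m) : FrobAlg A m p := (MvPolynomial.X i : MvPolynomial (Fin m) A)

/-- the relations `Y_i ^ p - X_i` -/
noncomputable def rel (i : Fin m) : MvPolynomial (Fin m) (MvPolynomial (Fin m) A) :=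
  MvPolynomial.X i ^ p - MvPolynomial.C (MvPolynomial.X i)

theorem aeval_xv_map (s : MvPolynomial (Fin m) A) :
    MvPolynomial.aeval (xv A m p) (MvPolynomial.map (algebraMap A (MvPolynomial (Fin m) A)) s) =
      (s : FrobAlg A m p) := by
  rw [MvPolynomial.aeval_map_algebraMap]
  exact MvPolynomial.aeval_X_left_apply s

theorem aeval_xv_rel (i : Fin m) : MvPolynomial.aeval (xv A m p) (rel A m p i) = 0 := by
  rw [rel, map_sub, map_pow, MvPolynomial.aeval_X, MvPolynomial.aeval_C, algebraMap_def,
    MvPolynomial.expand_X]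
  exact sub_self _

/-- the ideal of relations -/
noncomputable def relIdeal : Ideal (MvPolynomial (Fin m) (MvPolynomial (Fin m) A)) :=
  Ideal.span (Set.range (rel A m p))

/-- the inverse map -/
noncomputable def theta : FrobAlg A m p →ₐ[A]
    (MvPolynomial (Fin m) (MvPolynomial (Fin m) A) ⧸ relIdeal A m p) :=
  (MvPolynomial.aeval (fun i => Ideal.Quotient.mk (relIdeal A m p) (MvPolynomial.X i)) :
    MvPolynomial (Fin m) A →ₐ[A] _)

theorem theta_xv (i : Fin m) :
    theta A m p (xv A m p i) = Ideal.Quotient.mk (relIdeal A m p) (MvPolynomial.X i) := by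
  change MvPolynomial.aeval _ (MvPolynomial.X i) = _
  rw [MvPolynomial.aeval_X]

theorem theta_aeval (f : MvPolynomial (Fin m) (MvPolynomial (Fin m) A)) :
    theta A m p (MvPolynomial.aeval (xv A m p) f) = Ideal.Quotient.mk (relIdeal A m p) f := by
  have h : (theta A m p).comp ((MvPolynomial.aeval (xv A m p) :
      MvPolynomial (Fin m) (MvPolynomial (Fin m) A) →ₐ[MvPolynomial (Fin m) A]
        FrobAlg A m p).restrictScalars A) = Ideal.Quotient.mkₐ A (relIdeal A m p) := by
    refine MvPolynomial.algHom_ext' (R := A) (A := MvPolynomial (Fin m) A) (σ := Fin m)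
      (B := MvPolynomial (Fin m) (MvPolynomial (Fin m) A) ⧸ relIdeal A m p) ?_ ?_
    · apply MvPolynomial.algHom_ext
      intro i
      simp only [AlgHom.coe_comp, AlgHom.coe_restrictScalars', Function.comp_apply,
        IsScalarTower.coe_toAlgHom', MvPolynomial.algebraMap_eq, MvPolynomial.aeval_C,
        Ideal.Quotient.mkₐ_eq_mk]
      rw [algebraMap_def, MvPolynomial.expand_X]
      change theta A m p ((xv A m p i) ^ p) = _
      rw [map_pow, theta_xv, ← map_pow, ← sub_eq_zero, ← map_sub, Ideal.Quotient.eq_zero_iff_mem]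
      exact Ideal.subset_span ⟨i, rfl⟩
    · intro i
      simp only [AlgHom.coe_comp, AlgHom.coe_restrictScalars', Function.comp_apply,
        MvPolynomial.aeval_X, Ideal.Quotient.mkₐ_eq_mk]
      exact theta_xv A m p i
  exact DFunLike.congr_fun h f

/-- the presentation of `FrobAlg` -/
noncomputable def pres : Algebra.Presentation (MvPolynomial (Fin m) A) (FrobAlg A m p)
    (Fin m) (Fin m) where
  val := xv A m p
  σ' s := MvPolynomial.map (algebraMap A (MvPolynomial (Fin m) A)) (s : MvPolynomial (Fin m) A)
  aeval_val_σ' s := aeval_xv_map A m p s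
  relation := rel A m p
  span_range_relation_eq_ker := by
    rw [Algebra.Generators.ker_eq_ker_aeval_val]
    apply le_antisymm
    · rw [Ideal.span_le]
      rintro _ ⟨i, rfl⟩
      exact aeval_xv_rel A m p i
    · intro f hf
      rw [RingHom.mem_ker] at hf
      have h1 := theta_aeval A m p f
      have hf' : (MvPolynomial.aeval (xv A m p)) f = 0 := hf
      rw [hf', map_zero] at h1
      exact Ideal.Quotient.eq_zero_iff_mem.mp h1.symm

/-- the exponent vector of a remainder -/
noncomputable def rhat (r : Fin m → Fin p) : Fin m →₀ ℕ :=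
  Finsupp.equivFunOnFinite.symm (fun i => (r i : ℕ))

@[simp] theorem rhat_apply (r : Fin m → Fin p) (i : Fin m) : rhat m p r i = (r i : ℕ) := rfl

/-- division with remainder on exponent vectors -/
noncomputable def divMod (hp : 0 < p) :
    (Σ _ : (Fin m → Fin p), (Fin m →₀ ℕ)) ≃ (Fin m →₀ ℕ) where
  toFun x := p • x.2 + rhat m p x.1
  invFun d := ⟨fun i => ⟨d i % p, Nat.mod_lt _ hp⟩, Finsupp.equivFunOnFinite.symm (fun i => d i / p)⟩
  left_inv := by
    rintro ⟨r, q⟩
    have h1 : ∀ i, (p * q i + (r i : ℕ)) % p = (r i : ℕ) := fun i => by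
      rw [Nat.mul_add_mod]; exact Nat.mod_eq_of_lt (r i).2
    have h2 : ∀ i, (p * q i + (r i : ℕ)) / p = q i := fun i => by
      rw [Nat.mul_add_div hp, Nat.div_eq_of_lt (r i).2, add_zero]
    refine Sigma.ext ?_ ?_
    · funext i
      apply Fin.ext
      simp [h1]
    · simp only [heq_eq_eq]
      ext i
      simp [h2]
  right_inv := by
    intro d
    ext i
    simp only [Finsupp.coe_add, Finsupp.coe_smul, Pi.add_apply, Pi.smul_apply, smul_eq_mul,
      rhat_apply]
    exact Nat.div_add_mod (d i) p

/-- the candidate basis vectors -/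
noncomputable def bvec (r : Fin m → Fin p) : FrobAlg A m p :=
  (MvPolynomial.monomial (rhat m p r) (1 : A) : MvPolynomial (Fin m) A)

/-- the comparison map -/
noncomputable def Psi : ((Fin m → Fin p) →₀ MvPolynomial (Fin m) A) →ₗ[MvPolynomial (Fin m) A]
    FrobAlg A m p :=
  Finsupp.linearCombination (MvPolynomial (Fin m) A) (bvec A m p)

/-- monomial basis of `FrobAlg` over `A` -/
noncomputable def bS : Module.Basis (Fin m →₀ ℕ) A (FrobAlg A m p) :=
  MvPolynomial.basisMonomials (Fin m) A

theorem bS_apply (d : Fin m →₀ ℕ) :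
    bS A m p d = (MvPolynomial.monomial d (1 : A) : MvPolynomial (Fin m) A) := by
  exact congrFun (MvPolynomial.coe_basisMonomials (Fin m) A) d

/-- the `A`-basis of the source -/
noncomputable def bD : Module.Basis (Σ _ : (Fin m → Fin p), (Fin m →₀ ℕ)) A
    ((Fin m → Fin p) →₀ MvPolynomial (Fin m) A) :=
  Finsupp.basis (fun _ : (Fin m → Fin p) => MvPolynomial.basisMonomials (Fin m) A)

theorem Psi_bD (x : Σ _ : (Fin m → Fin p), (Fin m →₀ ℕ)) :
    Psi A m p (bD A m p x) =
      (MvPolynomial.monomial (p • x.2 + rhat m p x.1) (1 : A) : MvPolynomial (Fin m) A) := by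
  obtain ⟨r, q⟩ := x
  have h1 : bD A m p ⟨r, q⟩ = Finsupp.single r (MvPolynomial.monomial q (1 : A)) := by
    rw [bD, Finsupp.coe_basis, MvPolynomial.coe_basisMonomials]
  rw [h1, Psi, Finsupp.linearCombination_single, Algebra.smul_def, algebraMap_def,
    MvPolynomial.expand_monomial]
  change (MvPolynomial.monomial (p • q) (1 : A) : MvPolynomial (Fin m) A) *
    MvPolynomial.monomial (rhat m p r) (1 : A) = _
  rw [MvPolynomial.monomial_mul, one_mul]

theorem Psi_bijective (hp : 0 < p) : Function.Bijective (Psi A m p) := by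
  let E := (bD A m p).equiv (bS A m p) (divMod m p hp)
  have h : (Psi A m p).restrictScalars A = E.toLinearMap := by
    apply (bD A m p).ext
    intro x
    rw [LinearMap.restrictScalars_apply, Psi_bD, LinearEquiv.coe_coe, Module.Basis.equiv_apply,
      bS_apply]
    rfl
  have h2 : ⇑(Psi A m p) = ⇑E := by
    funext x
    exact LinearMap.congr_fun h x
  rw [h2]
  exact E.bijective

/-- the basis isomorphism -/
noncomputable def basisEquiv (hp : 0 < p) :
    ((Fin m → Fin p) →₀ MvPolynomial (Fin m) A) ≃ₗ[MvPolynomial (Fin m) A] FrobAlg A m p :=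
  LinearEquiv.ofBijective (Psi A m p) (Psi_bijective A m p hp)

theorem free (hp : 0 < p) : Module.Free (MvPolynomial (Fin m) A) (FrobAlg A m p) :=
  Module.Free.of_equiv (basisEquiv A m p hp)

theorem finite (hp : 0 < p) : Module.Finite (MvPolynomial (Fin m) A) (FrobAlg A m p) :=
  Module.Finite.equiv (basisEquiv A m p hp)

theorem faithfullyFlat (hp : 0 < p) :
    Module.FaithfullyFlat (MvPolynomial (Fin m) A) (FrobAlg A m p) := by
  haveI : NeZero p := ⟨hp.ne'⟩
  exact Module.FaithfullyFlat.of_linearEquiv _ _ (basisEquiv A m p hp).symm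

theorem isSyntomic (hp : 0 < p) : Synt.IsSyntomic (MvPolynomial (Fin m) A) (FrobAlg A m p) := by
  haveI := free A m p hp
  haveI := finite A m p hp
  exact isSyntomic_of_free_pres (pres A m p)

theorem main (hp : 0 < p)
    (φ : MvPolynomial (Fin m) A →ₐ[A] MvPolynomial (Fin m) A)
    (hφ : ∀ i : Fin m, φ (MvPolynomial.X i) = MvPolynomial.X i ^ p) :
    @Synt.IsSyntomic (MvPolynomial (Fin m) A) _ (MvPolynomial (Fin m) A) _ φ.toRingHom.toAlgebra ∧
      φ.toRingHom.FaithfullyFlat := by
  have hφe : φ = MvPolynomial.expand p := MvPolynomial.algHom_ext (fun i => by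
    rw [hφ, MvPolynomial.expand_X])
  subst hφe
  exact ⟨isSyntomic A m p hp, faithfullyFlat A m p hp⟩

end Frob

end Groth.Agent.H75.FrobSynt
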