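import Mathlib
import Groth.Agent.H75.FibreDegree

/-!
# Functoriality and faithfulness of the function field homomorphism `ffHom`
-/

set_option autoImplicit false
set_option linter.style.haveILetI false
universe u

open CategoryTheory CategoryTheory.Limits AlgebraicGeometry TopologicalSpace

namespace Groth.Agent.H75.FibreDegree

variable {X Y Z : Scheme.{u}} [IsIntegral X] [IsIntegral Y] [IsIntegral Z]

theorem ffHom_congr {f f' : Y ⟶ X} (h : f = f') (e : f.base (genericPoint Y) = genericPoint X)
    (e' : f'.base (genericPoint Y) = genericPoint X) : ffHom f e = ffHom f' e' := by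
  subst h
  rfl

theorem ffHom_comp (f : Z ⟶ Y) (g : Y ⟶ X) (ef : f.base (genericPoint Z) = genericPoint Y)
    (eg : g.base (genericPoint Y) = genericPoint X)
    (efg : (f ≫ g).base (genericPoint Z) = genericPoint X) :
    ffHom (f ≫ g) efg = (ffHom f ef).comp (ffHom g eg) := by
  unfold ffHom
  rw [← CommRingCat.hom_comp]
  congr 1
  rw [Scheme.Hom.stalkMap_comp]
  have h1 := Scheme.Hom.stalkSpecializes_stalkMap g (f.base (genericPoint Z)) (genericPoint Y)
    (specializes_of_eq ef)
  rw [Category.assoc, ← Category.assoc (g.stalkMap (genericPoint Y)), ← h1, Category.assoc,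
    ← Category.assoc, TopCat.Presheaf.stalkSpecializes_comp]
  rfl

/-- The generic point `Spec K(Y) ⟶ Y ⟶ X` factors through `Spec K(X)` via `ffHom`. -/
theorem fromSpecStalk_comp (f : Y ⟶ X) (e : f.base (genericPoint Y) = genericPoint X) :
    Y.fromSpecStalk (genericPoint Y) ≫ f =
      Spec.map (CommRingCat.ofHom (ffHom f e)) ≫ X.fromSpecStalk (genericPoint X) := by
  have h1 : CommRingCat.ofHom (ffHom f e) =
      X.presheaf.stalkSpecializes (specializes_of_eq e) ≫ f.stalkMap (genericPoint Y) := rfl
  rw [h1, Spec.map_comp, Category.assoc, Scheme.SpecMap_stalkSpecializes_fromSpecStalk,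
    Scheme.SpecMap_stalkMap_fromSpecStalk]

theorem isDominant_fromSpecStalk_genericPoint (X : Scheme.{u}) [IsIntegral X] :
    IsDominant (X.fromSpecStalk (genericPoint X)) := by
  rw [isDominant_iff]
  have hmem : genericPoint X ∈ Set.range (X.fromSpecStalk (genericPoint X)).base := by
    rw [Scheme.range_fromSpecStalk]
    exact specializes_rfl
  have hd : Dense ({genericPoint X} : Set X) :=
    dense_iff_closure_eq.mpr (genericPoint_spec X)
  exact hd.mono (Set.singleton_subset_iff.mpr hmem)

/-- Two morphisms to a separated target inducing the same map on function fields are equal. -/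
theorem eq_of_ffHom_eq {S : Scheme.{u}} (s : X ⟶ S) [IsSeparated s] (f g : Y ⟶ X)
    (hfg : f ≫ s = g ≫ s)
    (ef : f.base (genericPoint Y) = genericPoint X) (eg : g.base (genericPoint Y) = genericPoint X)
    (h : ffHom f ef = ffHom g eg) : f = g := by
  haveI := isDominant_fromSpecStalk_genericPoint Y
  refine ext_of_isDominant_of_isSeparated s hfg (Y.fromSpecStalk (genericPoint Y)) ?_
  rw [fromSpecStalk_comp f ef, fromSpecStalk_comp g eg, h]

end Groth.Agent.H75.FibreDegree
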