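import Mathlib
import Groth.Agent.H14.DimTrdeg
import Groth.Prelude.Def_RegImm

set_option autoImplicit false
universe u

namespace Groth.Agent.H75.GCIField

open Polynomial Cardinal

/-- a presentation with `card ι` generators and `card σ` relations, and transcendence degree
`card ι - card σ`. -/
def HasPres (k S : Type u) [Field k] [CommRing S] [Algebra k S] : Prop :=
  ∃ (ι σ : Type) (_ : Fintype ι) (_ : Fintype σ), Fintype.card σ ≤ Fintype.card ι ∧
    Nonempty (Algebra.Presentation k S ι σ) ∧
    Algebra.trdeg k S = ((Fintype.card ι - Fintype.card σ : ℕ) : Cardinal.{u})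

theorem hasPres_self (k : Type u) [Field k] : HasPres k k := by
  refine ⟨PEmpty, PEmpty, inferInstance, inferInstance, le_rfl, ⟨Algebra.Presentation.id k⟩, ?_⟩
  simp [trdeg_eq_zero]

theorem HasPres.ofAlgEquiv {k S S' : Type u} [Field k] [CommRing S] [Algebra k S] [CommRing S']
    [Algebra k S'] (e : S ≃ₐ[k] S') (h : HasPres k S) : HasPres k S' := by
  obtain ⟨ι, σ, _, _, hc, ⟨P⟩, ht⟩ := h
  exact ⟨ι, σ, inferInstance, inferInstance, hc, ⟨P.ofAlgEquiv e⟩, by rw [← e.trdeg_eq, ht]⟩

theorem HasPres.comp {k S T : Type u} [Field k] [CommRing S] [CommRing T] [Algebra k S]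
    [Algebra S T] [Algebra k T] [IsScalarTower k S T] [IsDomain S] [IsDomain T]
    [FaithfulSMul S T] (h : HasPres k S) {ι' σ' : Type} [Fintype ι'] [Fintype σ']
    (Q : Algebra.Presentation S T ι' σ') (hc' : Fintype.card σ' ≤ Fintype.card ι')
    (htr : Algebra.trdeg S T = ((Fintype.card ι' - Fintype.card σ' : ℕ) : Cardinal.{u})) :
    HasPres k T := by
  obtain ⟨ι, σ, _, _, hc, ⟨P⟩, ht⟩ := h
  refine ⟨ι' ⊕ ι, σ' ⊕ σ, inferInstance, inferInstance, ?_, ⟨Q.comp P⟩, ?_⟩
  · simp only [Fintype.card_sum]; omega
  · rw [← trdeg_add_eq k S (A := T), ht, htr]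
    simp only [Fintype.card_sum]
    rw [← Nat.cast_add]
    congr 1
    omega

theorem trdeg_fractionRing (k S : Type u) [Field k] [CommRing S] [Algebra k S] [IsDomain S] :
    Algebra.trdeg k (FractionRing S) = Algebra.trdeg k S := by
  haveI : Algebra.IsAlgebraic S (FractionRing S) :=
    IsLocalization.isAlgebraic (FractionRing S) (nonZeroDivisors S)
  haveI : FaithfulSMul k S := (faithfulSMul_iff_algebraMap_injective k S).mpr
    (algebraMap k S).injective
  rw [← trdeg_add_eq k S (A := FractionRing S), trdeg_eq_zero (R := S), add_zero]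

theorem HasPres.isGlobalCI {k S : Type u} [Field k] [CommRing S] [Algebra k S] [IsDomain S]
    (h : HasPres k S) : Synt.IsGlobalCI k S := by
  obtain ⟨ι, σ, _, _, hc, ⟨P⟩, ht⟩ := h
  haveI : Algebra.FiniteType k S := P.toGenerators.finiteType
  obtain ⟨m, hm1, hm2, -⟩ := Groth.Agent.H14.ringKrullDim_eq_trdeg_of_finiteType_domain k S
  rw [trdeg_fractionRing, ht] at hm1
  have hm : Fintype.card ι - Fintype.card σ = m := by exact_mod_cast hm1
  let P' := P.reindex (Fintype.equivFin ι).symm (Fintype.equivFin σ).symm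
  refine Or.inr ⟨Fintype.card ι, Fintype.card σ, hc, MvPolynomial.aeval P'.val, P'.relation,
    P'.aeval_val_surjective, ?_, ?_⟩
  · rw [P'.span_range_relation_eq_ker, P'.ker_eq_ker_aeval_val]
    rfl
  · rw [hm2, hm]

/-- the polynomial presentation: one generator, no relation -/
noncomputable def presMvPolynomial (S : Type u) [CommRing S] :
    Algebra.Presentation S (MvPolynomial Unit S) Unit Empty where
  toGenerators := Algebra.Generators.mvPolynomial S Unit
  relation := Empty.elim
  span_range_relation_eq_ker := by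
    rw [Algebra.Generators.ker_mvPolynomial]
    simp

theorem HasPres.mvPolynomial {k S : Type u} [Field k] [CommRing S] [Algebra k S] [IsDomain S]
    (h : HasPres k S) : HasPres k (MvPolynomial Unit S) := by
  refine h.comp (presMvPolynomial S) (by simp) ?_
  rw [MvPolynomial.trdeg_of_isDomain]
  simp

theorem HasPres.localizationAway {k S : Type u} [Field k] [CommRing S] [Algebra k S] [IsDomain S]
    (h : HasPres k S) (g : S) (hg : g ≠ 0) : HasPres k (Localization.Away g) := by
  have hle : Submonoid.powers g ≤ nonZeroDivisors S := powers_le_nonZeroDivisors_of_noZeroDivisors hg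
  haveI : IsDomain (Localization.Away g) := IsLocalization.isDomain_localization hle
  haveI : FaithfulSMul S (Localization.Away g) :=
    (faithfulSMul_iff_algebraMap_injective _ _).mpr (IsLocalization.injective _ hle)
  haveI : Algebra.IsAlgebraic S (Localization.Away g) :=
    IsLocalization.isAlgebraic (Localization.Away g) (Submonoid.powers g)
  refine h.comp (Algebra.Presentation.localizationAway (Localization.Away g) g) (by simp) ?_
  rw [trdeg_eq_zero]
  simp

/-- the relation of the one-variable quotient -/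
noncomputable def relOf (T : Type u) [CommRing T] (P : T[X]) : Unit → MvPolynomial Unit T :=
  fun _ => (MvPolynomial.uniqueAlgEquiv T Unit).symm P

/-- `T[y]/(P)` in multivariate clothing -/
abbrev MQ (T : Type u) [CommRing T] (P : T[X]) : Type u :=
  MvPolynomial Unit T ⧸ Ideal.span (Set.range (relOf T P))

theorem aeval_mk_X (T : Type u) [CommRing T] (P : T[X]) :
    Polynomial.aeval (Ideal.Quotient.mk (Ideal.span (Set.range (relOf T P))) (MvPolynomial.X ())) P
      = 0 := by
  have h1 : Polynomial.aeval (Ideal.Quotient.mk (Ideal.span (Set.range (relOf T P)))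
      (MvPolynomial.X ())) P = Ideal.Quotient.mk _ (Polynomial.aeval (MvPolynomial.X ()) P) := by
    rw [← Ideal.Quotient.mkₐ_eq_mk T, ← Polynomial.aeval_algHom_apply]
  rw [h1, Ideal.Quotient.eq_zero_iff_mem]
  refine Ideal.subset_span ⟨(), ?_⟩
  change (MvPolynomial.uniqueAlgEquiv T Unit).symm P = _
  apply (MvPolynomial.uniqueAlgEquiv T Unit).injective
  rw [AlgEquiv.apply_symm_apply, ← Polynomial.aeval_algHom_apply]
  simp

theorem isIntegral_MQ (T : Type u) [CommRing T] (P : T[X]) (hP : P.Monic) :
    Algebra.IsIntegral T (MQ T P) := by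
  have hx : IsIntegral T (Ideal.Quotient.mk (Ideal.span (Set.range (relOf T P)))
      (MvPolynomial.X ())) := ⟨P, hP, aeval_mk_X T P⟩
  have htop : Algebra.adjoin T {Ideal.Quotient.mk (Ideal.span (Set.range (relOf T P)))
      (MvPolynomial.X ())} = ⊤ := by
    have h2 := MvPolynomial.adjoin_range_X (R := T) (σ := Unit)
    have h3 : (Ideal.Quotient.mkₐ T (Ideal.span (Set.range (relOf T P)))).range = ⊤ :=
      (AlgHom.range_eq_top _).mpr (Ideal.Quotient.mkₐ_surjective T _)
    rw [← h3, ← Algebra.map_top, ← h2, AlgHom.map_adjoin]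
    congr 1
    ext y
    simp only [Set.mem_singleton_iff, Set.mem_image, Set.mem_range, exists_exists_eq_and,
      Ideal.Quotient.mkₐ_eq_mk]
    constructor
    · intro h; exact ⟨(), h.symm⟩
    · rintro ⟨a, rfl⟩; rfl
  refine ⟨fun y => ?_⟩
  have : y ∈ Algebra.adjoin T {Ideal.Quotient.mk (Ideal.span (Set.range (relOf T P)))
      (MvPolynomial.X ())} := by rw [htop]; trivial
  exact IsIntegral.of_mem_of_fg _ (hx.fg_adjoin_singleton) _ this

theorem HasPres.monicQuot {k T : Type u} [Field k] [CommRing T] [Algebra k T] [IsDomain T]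
    (h : HasPres k T) (P : T[X]) (hP : P.Monic) [IsDomain (MQ T P)] [FaithfulSMul T (MQ T P)] :
    HasPres k (MQ T P) := by
  haveI := isIntegral_MQ T P hP
  haveI : Algebra.IsAlgebraic T (MQ T P) := Algebra.IsIntegral.isAlgebraic
  refine h.comp (Algebra.Presentation.naive (v := relOf T P)) (by simp) ?_
  rw [trdeg_eq_zero]
  simp

section Step

variable {k K : Type u} [Field k] [Field K] [Algebra k K]

theorem step_transcendental (S : Type u) [CommRing S] [Algebra k S] [Algebra S K]
    [IsScalarTower k S K] [IsDomain S] (hS : HasPres k S) (e : K) (he : Transcendental S e) :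
    ∃ (S' : Type u) (_ : CommRing S') (_ : Algebra k S') (ψ' : S' →ₐ[k] K),
      Function.Injective ψ' ∧ HasPres k S' ∧ Set.range (algebraMap S K) ⊆ Set.range ψ' ∧
        e ∈ Set.range ψ' := by
  refine ⟨MvPolynomial Unit S, inferInstance, inferInstance,
    (MvPolynomial.aeval (fun _ : Unit => e) : MvPolynomial Unit S →ₐ[S] K).restrictScalars k,
    ?_, hS.mvPolynomial, ?_, ?_⟩
  · exact (algebraicIndependent_unique_type_iff (ι := Unit) (x := fun _ => e)).mpr he
  · rintro _ ⟨a, rfl⟩
    exact ⟨MvPolynomial.C a, by simp⟩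
  · exact ⟨MvPolynomial.X (), by simp⟩

theorem step_algebraic (S : Type u) [CommRing S] [Algebra k S] [Algebra S K]
    [IsScalarTower k S K] [IsDomain S] (hinj : Function.Injective (algebraMap S K))
    (hS : HasPres k S) (e : K) (he : IsAlgebraic S e) :
    ∃ (S' : Type u) (_ : CommRing S') (_ : Algebra k S') (ψ' : S' →ₐ[k] K),
      Function.Injective ψ' ∧ HasPres k S' ∧ Set.range (algebraMap S K) ⊆ Set.range ψ' ∧
        e ∈ Set.range ψ' := by
  classical
  obtain ⟨Q0, hQ0, hQ0e⟩ := he
  let p : ℕ → Prop := fun d => ∃ Q : S[X], Q ≠ 0 ∧ aeval e Q = 0 ∧ Q.natDegree = d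
  have hp : ∃ d, p d := ⟨Q0.natDegree, Q0, hQ0, hQ0e, rfl⟩
  obtain ⟨Q, hQne, hQe, hQd⟩ := Nat.find_spec hp
  have hmin : ∀ R : S[X], R ≠ 0 → aeval e R = 0 → Q.natDegree ≤ R.natDegree :=
    fun R h1 h2 => hQd ▸ Nat.find_min' hp ⟨R, h1, h2, rfl⟩
  set g := Q.leadingCoeff with hg
  have hg0 : g ≠ 0 := leadingCoeff_ne_zero.mpr hQne
  have hle : Submonoid.powers g ≤ nonZeroDivisors S :=
    powers_le_nonZeroDivisors_of_noZeroDivisors hg0
  haveI : IsDomain (Localization.Away g) := IsLocalization.isDomain_localization hle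
  have hinj1 : Function.Injective (algebraMap S (Localization.Away g)) :=
    IsLocalization.injective _ hle
  have hunit : ∀ y : Submonoid.powers g, IsUnit (algebraMap S K y) := by
    rintro ⟨y, n, rfl⟩
    refine IsUnit.mk0 _ ?_
    rw [map_pow]
    exact pow_ne_zero _ ((map_ne_zero_iff _ hinj).mpr hg0)
  let ψ1 : Localization.Away g →+* K := IsLocalization.lift hunit
  letI : Algebra (Localization.Away g) K := ψ1.toAlgebra
  haveI : IsScalarTower S (Localization.Away g) K :=
    IsScalarTower.of_algebraMap_eq' (IsLocalization.lift_comp hunit).symm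
  haveI : IsScalarTower k (Localization.Away g) K := by
    refine IsScalarTower.of_algebraMap_eq' ?_
    rw [IsScalarTower.algebraMap_eq k S K, IsScalarTower.algebraMap_eq k S (Localization.Away g),
      ← RingHom.comp_assoc, ← IsScalarTower.algebraMap_eq S (Localization.Away g) K]
  have hinjψ1 : Function.Injective (algebraMap (Localization.Away g) K) :=
    (IsLocalization.lift_injective_iff hunit).mpr (fun x y => by
      rw [hinj1.eq_iff, hinj.eq_iff])
  -- the monic polynomial
  set u : Localization.Away g := IsLocalization.Away.invSelf g with hu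
  have hgu : algebraMap S (Localization.Away g) g * u = 1 := IsLocalization.Away.mul_invSelf g
  have hu0 : u ≠ 0 := by
    intro h0; rw [h0, mul_zero] at hgu; exact zero_ne_one hgu
  set Q1 : (Localization.Away g)[X] := Q.map (algebraMap S (Localization.Away g)) with hQ1
  set P : (Localization.Away g)[X] := C u * Q1 with hP
  have hQ1d : Q1.natDegree = Q.natDegree := natDegree_map_eq_of_injective hinj1 Q
  have hQ1lc : Q1.leadingCoeff = algebraMap S (Localization.Away g) g :=
    leadingCoeff_map_of_injective hinj1 Q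
  have hPmonic : P.Monic := by
    rw [Monic, hP, leadingCoeff_mul, leadingCoeff_C, hQ1lc, mul_comm]
    exact hgu
  have hPd : P.natDegree = Q.natDegree := by rw [hP, natDegree_C_mul hu0, hQ1d]
  have hPe : aeval e P = 0 := by
    rw [hP, map_mul, hQ1, aeval_map_algebraMap, hQe, mul_zero]
  have hP1 : P ≠ 1 := by
    intro h1; rw [h1, map_one] at hPe; exact one_ne_zero hPe
  have hker : ∀ R : (Localization.Away g)[X], aeval e R = 0 → P ∣ R := by
    intro R hR
    rw [← modByMonic_eq_zero_iff_dvd hPmonic]
    by_contra hne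
    have hdeg : (R %ₘ P).natDegree < P.natDegree := natDegree_modByMonic_lt R hPmonic hP1
    have hR'e : aeval e (R %ₘ P) = 0 := by
      have h1 := modByMonic_add_div R P
      have h2 : aeval e (R %ₘ P + P * (R /ₘ P)) = 0 := by rw [h1]; exact hR
      rw [map_add, map_mul, hPe, zero_mul, add_zero] at h2
      exact h2
    obtain ⟨b, hbM, hb⟩ := IsLocalization.integerNormalization_spec (Submonoid.powers g) (R %ₘ P)
    set R'' := IsLocalization.integerNormalization (Submonoid.powers g) (R %ₘ P) with hR''
    have hbunit : IsUnit (algebraMap S (Localization.Away g) b) :=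
      IsLocalization.map_units (Localization.Away g) (⟨b, hbM⟩ : Submonoid.powers g)
    have hsmul : (b • (R %ₘ P) : (Localization.Away g)[X]) =
        C (algebraMap S (Localization.Away g) b) * (R %ₘ P) := by
      rw [Algebra.smul_def]; rfl
    have hR''ne : R'' ≠ 0 := by
      intro h0
      rw [h0, Polynomial.map_zero, hsmul] at hb
      have := (mul_eq_zero.mp hb.symm).resolve_right hne
      rw [C_eq_zero] at this
      exact hbunit.ne_zero this
    have hR''e : aeval e R'' = 0 := by
      rw [← aeval_map_algebraMap (Localization.Away g), hb, hsmul, map_mul, hR'e, mul_zero]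
    have hR''d : R''.natDegree < Q.natDegree := by
      rw [← natDegree_map_eq_of_injective hinj1 R'', hb, hsmul,
        natDegree_C_mul hbunit.ne_zero, ← hPd]
      exact hdeg
    exact absurd (hmin R'' hR''ne hR''e) (not_le.mpr hR''d)
  -- the quotient and its embedding
  have hae : ∀ W : MvPolynomial Unit (Localization.Away g),
      MvPolynomial.aeval (fun _ : Unit => e) W =
        Polynomial.aeval e (MvPolynomial.uniqueAlgEquiv (Localization.Away g) Unit W) := by
    intro W
    rw [Polynomial.aeval_def, MvPolynomial.eval₂_const_uniqueAlgEquiv, MvPolynomial.aeval_def]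
  have hH : ∀ a ∈ Ideal.span (Set.range (relOf (Localization.Away g) P)),
      (MvPolynomial.aeval (fun _ : Unit => e) : MvPolynomial Unit (Localization.Away g) →ₐ[_] K)
        a = 0 := by
    intro a ha
    have hle2 : Ideal.span (Set.range (relOf (Localization.Away g) P)) ≤
        RingHom.ker (MvPolynomial.aeval (fun _ : Unit => e) :
          MvPolynomial Unit (Localization.Away g) →ₐ[_] K) := by
      rw [Ideal.span_le]
      rintro _ ⟨_, rfl⟩
      rw [SetLike.mem_coe, RingHom.mem_ker, hae]
      change Polynomial.aeval e (MvPolynomial.uniqueAlgEquiv (Localization.Away g) Unit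
        ((MvPolynomial.uniqueAlgEquiv (Localization.Away g) Unit).symm P)) = 0
      rw [AlgEquiv.apply_symm_apply, hPe]
    exact hle2 ha
  let ψ2 : MQ (Localization.Away g) P →ₐ[Localization.Away g] K :=
    Ideal.Quotient.liftₐ _ (MvPolynomial.aeval (fun _ : Unit => e)) hH
  have hψ2 : Function.Injective ψ2 := by
    refine RingHom.lift_injective_of_ker_le_ideal _ hH ?_
    intro W hW
    rw [RingHom.mem_ker] at hW
    have hW' : (MvPolynomial.aeval (fun _ : Unit => e) :
        MvPolynomial Unit (Localization.Away g) →ₐ[_] K) W = 0 := hW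
    rw [hae] at hW'
    obtain ⟨V, hV⟩ := hker _ hW'
    have hWeq : W = relOf (Localization.Away g) P () *
        (MvPolynomial.uniqueAlgEquiv (Localization.Away g) Unit).symm V := by
      apply (MvPolynomial.uniqueAlgEquiv (Localization.Away g) Unit).injective
      rw [map_mul, AlgEquiv.apply_symm_apply, hV]
      congr 1
      exact ((MvPolynomial.uniqueAlgEquiv (Localization.Away g) Unit).apply_symm_apply P).symm
    rw [hWeq]
    exact Ideal.mul_mem_right _ _ (Ideal.subset_span ⟨(), rfl⟩)
  haveI : IsDomain (MQ (Localization.Away g) P) := hψ2.isDomain ψ2.toRingHom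
  have hinj2 : Function.Injective (algebraMap (Localization.Away g)
      (MQ (Localization.Away g) P)) := by
    intro x y hxy
    apply hinjψ1
    rw [← ψ2.commutes x, ← ψ2.commutes y, hxy]
  haveI : FaithfulSMul (Localization.Away g) (MQ (Localization.Away g) P) :=
    (faithfulSMul_iff_algebraMap_injective _ _).mpr hinj2
  refine ⟨MQ (Localization.Away g) P, inferInstance, inferInstance, ψ2.restrictScalars k, hψ2,
    (hS.localizationAway g hg0).monicQuot P hPmonic, ?_, ?_⟩
  · rintro _ ⟨a, rfl⟩
    refine ⟨algebraMap (Localization.Away g) _ (algebraMap S (Localization.Away g) a), ?_⟩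
    change ψ2 _ = _
    rw [ψ2.commutes, ← IsScalarTower.algebraMap_apply]
  · refine ⟨Ideal.Quotient.mk _ (MvPolynomial.X ()), ?_⟩
    change ψ2 _ = _
    simp only [ψ2, Ideal.Quotient.liftₐ_apply]
    refine (Ideal.Quotient.lift_mk _ _ _).trans ?_
    simp

theorem step (S : Type u) [CommRing S] [Algebra k S] (ψ : S →ₐ[k] K)
    (hψ : Function.Injective ψ) (hS : HasPres k S) (e : K) :
    ∃ (S' : Type u) (_ : CommRing S') (_ : Algebra k S') (ψ' : S' →ₐ[k] K),
      Function.Injective ψ' ∧ HasPres k S' ∧ Set.range ψ ⊆ Set.range ψ' ∧ e ∈ Set.range ψ' := by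
  letI : Algebra S K := ψ.toRingHom.toAlgebra
  haveI : IsScalarTower k S K := IsScalarTower.of_algebraMap_eq' ψ.comp_algebraMap.symm
  haveI : IsDomain S := hψ.isDomain ψ.toRingHom
  have hinj : Function.Injective (algebraMap S K) := hψ
  by_cases he : IsAlgebraic S e
  · exact step_algebraic S hinj hS e he
  · exact step_transcendental S hS e he

theorem exists_hasPres (E : Finset K) :
    ∃ (S : Type u) (_ : CommRing S) (_ : Algebra k S) (ψ : S →ₐ[k] K),
      Function.Injective ψ ∧ HasPres k S ∧ (↑E : Set K) ⊆ Set.range ψ := by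
  classical
  induction E using Finset.induction_on with
  | empty =>
    exact ⟨k, inferInstance, inferInstance, Algebra.ofId k K, (algebraMap k K).injective,
      hasPres_self k, by simp⟩
  | insert e E _ ih =>
    obtain ⟨S, _, _, ψ, hψ, hS, hE⟩ := ih
    obtain ⟨S', i1, i2, ψ', hψ', hS', hsub, he⟩ := step S ψ hψ hS e
    refine ⟨S', i1, i2, ψ', hψ', hS', ?_⟩
    intro x hx
    rw [Finset.coe_insert, Set.mem_insert_iff] at hx
    rcases hx with rfl | hx
    · exact he
    · exact hsub (hE hx)

theorem main (k K : Type u) [Field k] [Field K] [Algebra k K] (E : Finset K) :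
    ∃ A : Subalgebra k K, (↑E : Set K) ⊆ (A : Set K) ∧ Synt.IsGlobalCI k A := by
  obtain ⟨S, _, _, ψ, hψ, hS, hE⟩ := exists_hasPres (k := k) E
  refine ⟨ψ.range, ?_, ?_⟩
  · intro x hx
    exact hE hx
  · exact (hS.ofAlgEquiv (AlgEquiv.ofInjective ψ hψ)).isGlobalCI

end Step

end Groth.Agent.H75.GCIField
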