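import Mathlib

set_option autoImplicit false

namespace Groth.Agent.H75

section perp
variable {K : Type*} [Field K] {H W : Type*} [AddCommGroup H] [Module K H] [AddCommGroup W]
  [Module K W] (q : H →ₗ[K] H →ₗ[K] W)

theorem mem_perp (V : Submodule K H) (x : H) :
    x ∈ (⨅ (y : H) (_ : y ∈ V), LinearMap.ker (q.flip y) : Submodule K H) ↔ ∀ y ∈ V, q x y = 0 := by
  simp only [Submodule.mem_iInf, LinearMap.mem_ker, LinearMap.flip_apply]

theorem biSup_le_perp {ι : Type*} (Hs : ι → Submodule K H) (S T : Set ι)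
    (h : ∀ i ∈ S, ∀ j ∈ T, ∀ u ∈ Hs i, ∀ v ∈ Hs j, q u v = 0) :
    (⨆ i ∈ S, Hs i) ≤ (⨅ (y : H) (_ : y ∈ (⨆ j ∈ T, Hs j)), LinearMap.ker (q.flip y) : Submodule K H) := by
  apply iSup₂_le
  intro i hi u hu
  rw [mem_perp]
  intro y hy
  have : (⨆ j ∈ T, Hs j) ≤ LinearMap.ker (q u) := by
    apply iSup₂_le
    intro j hj v hv
    exact h i hi j hj u hu v hv
  exact this hy

theorem finrank_biSup [FiniteDimensional K H] {ι : Type*} [DecidableEq ι] (Hs : ι → Submodule K H)
    (hind : iSupIndep Hs) (S : Finset ι) :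
    Module.finrank K ↥(⨆ i ∈ S, Hs i) = ∑ i ∈ S, Module.finrank K (Hs i) := by
  induction S using Finset.induction_on with
  | empty => simp
  | insert a S ha ih =>
    rw [Finset.iSup_insert, Finset.sum_insert ha, ← ih]
    have hdisj : Disjoint (Hs a) (⨆ i ∈ S, Hs i) := by
      apply (hind a).mono_right
      apply iSup₂_le
      intro i hi
      exact le_iSup₂_of_le i (fun h => ha (h ▸ hi)) le_rfl
    have := Submodule.finrank_sup_add_finrank_inf_eq (Hs a) (⨆ i ∈ S, Hs i)
    rw [hdisj.eq_bot, finrank_bot, add_zero] at this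
    exact this

end perp

/-- clamp -/
theorem layer_one (T : ℕ) (m : ℤ) :
    ∑ s ∈ Finset.range T, ((if (s : ℤ) < m then (1 : ℤ) else 0) - (if m < -(s : ℤ) then 1 else 0)) =
      if (T : ℤ) < m then (T : ℤ) else if m < -(T : ℤ) then -(T : ℤ) else m := by
  induction T with
  | zero =>
    simp only [Finset.range_zero, Finset.sum_empty, Nat.cast_zero, neg_zero]
    split_ifs <;> omega
  | succ T ih =>
    rw [Finset.sum_range_succ, ih]
    push_cast
    split_ifs <;> omega

theorem layer_cake {ι : Type*} [Fintype ι] (m : ι → ℤ) (d : ι → ℕ) (T : ℕ)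
    (hT : ∀ i, |m i| ≤ T) :
    ∑ i, m i * (d i : ℤ) =
      ∑ s ∈ Finset.range T, ((∑ i, if (s : ℤ) < m i then (d i : ℤ) else 0) -
        (∑ i, if m i < -(s : ℤ) then (d i : ℤ) else 0)) := by
  have h1 : ∀ i, m i = ∑ s ∈ Finset.range T,
      ((if (s : ℤ) < m i then (1 : ℤ) else 0) - (if m i < -(s : ℤ) then 1 else 0)) := by
    intro i
    rw [layer_one]
    have := abs_le.mp (hT i)
    split_ifs <;> omega
  calc ∑ i, m i * (d i : ℤ)
      = ∑ i, (∑ s ∈ Finset.range T,
          ((if (s : ℤ) < m i then (1 : ℤ) else 0) - (if m i < -(s : ℤ) then 1 else 0))) * (d i : ℤ) := by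
        apply Finset.sum_congr rfl
        intro i _
        rw [← h1 i]
    _ = ∑ i, ∑ s ∈ Finset.range T,
          ((if (s : ℤ) < m i then (d i : ℤ) else 0) - (if m i < -(s : ℤ) then (d i : ℤ) else 0)) := by
        apply Finset.sum_congr rfl
        intro i _
        rw [Finset.sum_mul]
        apply Finset.sum_congr rfl
        intro s _
        split_ifs <;> ring
    _ = ∑ s ∈ Finset.range T, ∑ i,
          ((if (s : ℤ) < m i then (d i : ℤ) else 0) - (if m i < -(s : ℤ) then (d i : ℤ) else 0)) :=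
        Finset.sum_comm
    _ = _ := by
        apply Finset.sum_congr rfl
        intro s _
        rw [Finset.sum_sub_distrib]

end Groth.Agent.H75
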