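import Groth.Agent.H75.GITNum

set_option autoImplicit false

namespace Groth.Agent.H75

section core
variable {ι : Type*} [Fintype ι] (m : ι → ℤ) (d : ι → ℕ)

/-- weighted count of indices with weight `≤ r` -/
def cnt (r : ℤ) : ℕ := ∑ i, if m i ≤ r then d i else 0

theorem cnt_le (r : ℤ) : cnt m d r ≤ ∑ i, d i := by
  unfold cnt
  apply Finset.sum_le_sum
  intro i _
  split_ifs <;> omega

theorem P_eq (s : ℕ) :
    (∑ i, if (s : ℤ) < m i then (d i : ℤ) else 0) = ((∑ i, d i : ℕ) : ℤ) - (cnt m d s : ℤ) := by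
  unfold cnt
  push_cast
  rw [← Finset.sum_sub_distrib]
  apply Finset.sum_congr rfl
  intro i _
  split_ifs <;> omega

theorem Q_eq (s : ℕ) :
    (∑ i, if m i < -(s : ℤ) then (d i : ℤ) else 0) = (cnt m d (-((s : ℤ) + 1)) : ℤ) := by
  unfold cnt
  push_cast
  apply Finset.sum_congr rfl
  intro i _
  split_ifs <;> omega

theorem core_common (T : ℕ) (hT : ∀ i, |m i| ≤ T)
    (hP0 : (∑ i, if ((0 : ℕ) : ℤ) < m i then (d i : ℤ) else 0) = 0)
    (hQ0 : (∑ i, if m i < -((0 : ℕ) : ℤ) then (d i : ℤ) else 0) = 0) :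
    ∀ i, m i ≠ 0 → d i = 0 := by
  intro i hi
  rcases lt_or_gt_of_ne hi with h | h
  · have := (Finset.sum_eq_zero_iff_of_nonneg (fun j _ => by split_ifs <;> positivity)).mp hQ0 i
      (Finset.mem_univ i)
    simp only [Nat.cast_zero, neg_zero, h, if_true] at this
    exact_mod_cast this
  · have := (Finset.sum_eq_zero_iff_of_nonneg (fun j _ => by split_ifs <;> positivity)).mp hP0 i
      (Finset.mem_univ i)
    simp only [Nat.cast_zero, h, if_true] at this
    exact_mod_cast this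

theorem core_semistable (hsum : ∑ i, m i * (d i : ℤ) = 0)
    (hc : ∀ s : ℕ, cnt m d (-((s : ℤ) + 1)) + cnt m d ((s : ℤ) + 1) ≤ ∑ i, d i) :
    ∀ i, m i ≠ 0 → d i = 0 := by
  classical
  intro i₀ hi₀
  set T : ℕ := ∑ i, (m i).natAbs with hTdef
  have hT : ∀ i, |m i| ≤ T := by
    intro i
    have h1 : (m i).natAbs ≤ T := Finset.single_le_sum (f := fun i => (m i).natAbs)
      (fun _ _ => Nat.zero_le _) (Finset.mem_univ i)
    rw [Int.abs_eq_natAbs]
    exact_mod_cast h1
  have hTpos : 0 < T := by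
    have := hT i₀
    have h2 : 0 < |m i₀| := abs_pos.mpr hi₀
    omega
  set P : ℕ → ℤ := fun s => ∑ i, if (s : ℤ) < m i then (d i : ℤ) else 0 with hP
  set Q : ℕ → ℤ := fun s => ∑ i, if m i < -(s : ℤ) then (d i : ℤ) else 0 with hQ
  have hPnn : ∀ s, 0 ≤ P s := fun s => Finset.sum_nonneg (fun j _ => by split_ifs <;> positivity)
  have hQnn : ∀ s, 0 ≤ Q s := fun s => Finset.sum_nonneg (fun j _ => by split_ifs <;> positivity)
  have hlc : ∑ s ∈ Finset.range T, (P s - Q s) = 0 := by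
    rw [← layer_cake m d T hT, hsum]
  have hQP : ∀ s : ℕ, Q s ≤ P (s + 1) := by
    intro s
    have h1 := P_eq m d (s + 1)
    have h2 := Q_eq m d s
    have h3 := hc s
    simp only [hP, hQ]
    rw [h1, h2]
    push_cast at h3 ⊢
    have : ((cnt m d (-((s : ℤ) + 1)) : ℕ) : ℤ) + ((cnt m d ((s : ℤ) + 1) : ℕ) : ℤ) ≤
        ((∑ i, d i : ℕ) : ℤ) := by exact_mod_cast h3
    push_cast at this
    linarith
  have hPT : P T = 0 := by
    apply Finset.sum_eq_zero
    intro i _
    have := abs_le.mp (hT i)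
    rw [if_neg (by omega)]
  have htel : ∑ s ∈ Finset.range T, (P s - P (s + 1)) = P 0 - P T := by
    rw [Finset.sum_range_sub']
  have hle : ∑ s ∈ Finset.range T, (P s - P (s + 1)) ≤ ∑ s ∈ Finset.range T, (P s - Q s) := by
    apply Finset.sum_le_sum
    intro s _
    have := hQP s
    linarith
  have hP0 : P 0 = 0 := by
    have := hPnn 0
    rw [htel, hPT, hlc] at hle
    linarith
  have hPall : ∀ s : ℕ, P s = 0 := by
    intro s
    apply Finset.sum_eq_zero
    intro i _
    split_ifs with h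
    · have h0 := (Finset.sum_eq_zero_iff_of_nonneg (fun j _ => by split_ifs <;> positivity)).mp hP0 i
        (Finset.mem_univ i)
      have hpos : ((0 : ℕ) : ℤ) < m i := by push_cast; omega
      simp only [hpos, if_true] at h0
      exact h0
    · rfl
  have hQsum : ∑ s ∈ Finset.range T, Q s = 0 := by
    have : ∑ s ∈ Finset.range T, (P s - Q s) = - ∑ s ∈ Finset.range T, Q s := by
      rw [Finset.sum_sub_distrib]
      simp [hPall]
    rw [this] at hlc
    linarith
  have hQ0 : Q 0 = 0 :=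
    (Finset.sum_eq_zero_iff_of_nonneg (fun s _ => hQnn s)).mp hQsum 0 (Finset.mem_range.mpr hTpos)
  exact core_common m d T hT hP0 hQ0 i₀ hi₀

theorem core_stable (hsum : ∑ i, m i * (d i : ℤ) = 0)
    (hc : ∀ s : ℕ, cnt m d (-((s : ℤ) + 1)) = 0 ∨
      cnt m d (-((s : ℤ) + 1)) + cnt m d (s : ℤ) < ∑ i, d i) :
    ∀ i, m i ≠ 0 → d i = 0 := by
  classical
  intro i₀ hi₀
  set T : ℕ := ∑ i, (m i).natAbs with hTdef
  have hT : ∀ i, |m i| ≤ T := by
    intro i
    have h1 : (m i).natAbs ≤ T := Finset.single_le_sum (f := fun i => (m i).natAbs)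
      (fun _ _ => Nat.zero_le _) (Finset.mem_univ i)
    rw [Int.abs_eq_natAbs]
    exact_mod_cast h1
  have hTpos : 0 < T := by
    have := hT i₀
    have h2 : 0 < |m i₀| := abs_pos.mpr hi₀
    omega
  set P : ℕ → ℤ := fun s => ∑ i, if (s : ℤ) < m i then (d i : ℤ) else 0 with hP
  set Q : ℕ → ℤ := fun s => ∑ i, if m i < -(s : ℤ) then (d i : ℤ) else 0 with hQ
  have hPnn : ∀ s, 0 ≤ P s := fun s => Finset.sum_nonneg (fun j _ => by split_ifs <;> positivity)
  have hQnn : ∀ s, 0 ≤ Q s := fun s => Finset.sum_nonneg (fun j _ => by split_ifs <;> positivity)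
  have hlc : ∑ s ∈ Finset.range T, (P s - Q s) = 0 := by
    rw [← layer_cake m d T hT, hsum]
  have hQP : ∀ s : ℕ, Q s ≤ P s ∧ (Q s ≠ 0 → Q s < P s) := by
    intro s
    have h1 := P_eq m d s
    have h2 := Q_eq m d s
    simp only [hP, hQ]
    rw [h1, h2]
    have hle := cnt_le m d (s : ℤ)
    rcases hc s with h3 | h3
    · rw [h3]
      refine ⟨?_, fun h => absurd rfl h⟩
      have : ((cnt m d (s : ℤ) : ℕ) : ℤ) ≤ ((∑ i, d i : ℕ) : ℤ) := by exact_mod_cast hle
      push_cast at this ⊢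
      linarith
    · have : ((cnt m d (-((s : ℤ) + 1)) : ℕ) : ℤ) + ((cnt m d (s : ℤ) : ℕ) : ℤ) <
          ((∑ i, d i : ℕ) : ℤ) := by exact_mod_cast h3
      push_cast at this ⊢
      constructor <;> intros <;> linarith
  have hterm : ∀ s ∈ Finset.range T, P s - Q s = 0 := by
    apply (Finset.sum_eq_zero_iff_of_nonneg _).mp hlc
    intro s _
    have := (hQP s).1
    linarith
  have h0 := hterm 0 (Finset.mem_range.mpr hTpos)
  have hQ0 : Q 0 = 0 := by
    by_contra hne
    have := (hQP 0).2 hne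
    linarith
  have hP0 : P 0 = 0 := by linarith
  exact core_common m d T hT hP0 hQ0 i₀ hi₀

end core

end Groth.Agent.H75
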