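import Groth.Agent.H75.GITNum2

set_option autoImplicit false

namespace Groth.Agent.H75

variable {K : Type*} [Field K] {H W : Type*} [AddCommGroup H] [Module K H] [AddCommGroup W]
  [Module K W] (q : H →ₗ[K] H →ₗ[K] W)

theorem biSup_le_perp' {ι : Type*} (Hs : ι → Submodule K H) (p p' : ι → Prop)
    (h : ∀ i, p i → ∀ j, p' j → ∀ u ∈ Hs i, ∀ v ∈ Hs j, q u v = 0) :
    (⨆ (i) (_ : p i), Hs i) ≤
      (⨅ (y : H) (_ : y ∈ (⨆ (j) (_ : p' j), Hs j)), LinearMap.ker (q.flip y) : Submodule K H) := by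
  apply iSup₂_le
  intro i hi u hu
  rw [mem_perp]
  intro y hy
  have : (⨆ (j) (_ : p' j), Hs j) ≤ LinearMap.ker (q u) := by
    apply iSup₂_le
    intro j hj v hv
    exact h i hi j hj u hu v hv
  exact this hy

section main
variable [FiniteDimensional K H] {ι : Type*} [Fintype ι] [DecidableEq ι]
  (Hs : ι → Submodule K H) (m : ι → ℤ)

theorem finrank_U (hind : iSupIndep Hs) (r : ℤ) :
    Module.finrank K ↥(⨆ i ∈ Finset.univ.filter (fun i => m i ≤ r), Hs i) =
      cnt m (fun i => Module.finrank K (Hs i)) r := by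
  rw [finrank_biSup Hs hind, Finset.sum_filter]
  rfl

theorem finrank_total (hind : iSupIndep Hs) (hsup : iSup Hs = ⊤) :
    Module.finrank K H = ∑ i, Module.finrank K (Hs i) := by
  rw [← finrank_biSup Hs hind Finset.univ]
  have : (⨆ i ∈ (Finset.univ : Finset ι), Hs i) = ⊤ := by
    rw [← hsup]
    simp
  rw [this, finrank_top]

theorem numerical_semistable
    (hss : ∀ V : Submodule K H, V ≠ ⊥ → (∀ x ∈ V, ∀ y ∈ V, q x y = 0) →
      Module.finrank K V + Module.finrank K
        ↥(⨅ (y : H) (_ : y ∈ V), LinearMap.ker (q.flip y) : Submodule K H) ≤ Module.finrank K H)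
    (hint : DirectSum.IsInternal Hs)
    (hsum : (∑ i, m i * (Module.finrank K (Hs i) : ℤ)) = 0)
    (hex : ∃ i, m i ≠ 0 ∧ Hs i ≠ ⊥) :
    ∃ i j, (∃ x ∈ Hs i, ∃ y ∈ Hs j, q x y ≠ 0) ∧ m i + m j ≤ 0 := by
  classical
  by_contra hno
  push Not at hno
  have hvan : ∀ i j, m i + m j ≤ 0 → ∀ u ∈ Hs i, ∀ v ∈ Hs j, q u v = 0 := by
    intro i j hij u hu v hv
    by_contra hne
    have := hno i j ⟨u, hu, v, hv, hne⟩
    omega
  have hind := hint.submodule_iSupIndep
  have hsup := hint.submodule_iSup_eq_top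
  have hN := finrank_total Hs hind hsup
  obtain ⟨i₀, hi₀m, hi₀H⟩ := hex
  have key := core_semistable m (fun i => Module.finrank K (Hs i)) hsum (by
    intro s
    rw [← hN, ← finrank_U Hs m hind, ← finrank_U Hs m hind]
    set V : Submodule K H := ⨆ i ∈ Finset.univ.filter (fun i => m i ≤ -((s : ℤ) + 1)), Hs i with hV
    have hperp : (⨆ i ∈ Finset.univ.filter (fun i => m i ≤ (s : ℤ) + 1), Hs i) ≤
        (⨅ (y : H) (_ : y ∈ V), LinearMap.ker (q.flip y) : Submodule K H) := by
      apply biSup_le_perp' q Hs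
      intro i hi j hj
      simp only [Finset.mem_filter, Finset.mem_univ, true_and] at hi hj
      exact hvan i j (by omega)
    have hiso : V ≤ (⨅ (y : H) (_ : y ∈ V), LinearMap.ker (q.flip y) : Submodule K H) := by
      apply biSup_le_perp' q Hs
      intro i hi j hj
      simp only [Finset.mem_filter, Finset.mem_univ, true_and] at hi hj
      exact hvan i j (by omega)
    by_cases hVbot : V = ⊥
    · rw [hVbot, finrank_bot, zero_add]
      exact Submodule.finrank_le _
    · have h1 := hss V hVbot (fun x hx y hy => (mem_perp q V x).mp (hiso hx) y hy)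
      have h2 := Submodule.finrank_mono hperp
      omega) i₀ hi₀m
  exact hi₀H (Submodule.finrank_eq_zero.mp key)

theorem numerical_stable
    (hss : ∀ V : Submodule K H, V ≠ ⊥ → (∀ x ∈ V, ∀ y ∈ V, q x y = 0) →
      Module.finrank K V + Module.finrank K
        ↥(⨅ (y : H) (_ : y ∈ V), LinearMap.ker (q.flip y) : Submodule K H) < Module.finrank K H)
    (hint : DirectSum.IsInternal Hs)
    (hsum : (∑ i, m i * (Module.finrank K (Hs i) : ℤ)) = 0)
    (hex : ∃ i, m i ≠ 0 ∧ Hs i ≠ ⊥) :
    ∃ i j, (∃ x ∈ Hs i, ∃ y ∈ Hs j, q x y ≠ 0) ∧ m i + m j < 0 := by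
  classical
  by_contra hno
  push Not at hno
  have hvan : ∀ i j, m i + m j < 0 → ∀ u ∈ Hs i, ∀ v ∈ Hs j, q u v = 0 := by
    intro i j hij u hu v hv
    by_contra hne
    have := hno i j ⟨u, hu, v, hv, hne⟩
    omega
  have hind := hint.submodule_iSupIndep
  have hsup := hint.submodule_iSup_eq_top
  have hN := finrank_total Hs hind hsup
  obtain ⟨i₀, hi₀m, hi₀H⟩ := hex
  have key := core_stable m (fun i => Module.finrank K (Hs i)) hsum (by
    intro s
    rw [← hN, ← finrank_U Hs m hind, ← finrank_U Hs m hind]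
    set V : Submodule K H := ⨆ i ∈ Finset.univ.filter (fun i => m i ≤ -((s : ℤ) + 1)), Hs i with hV
    have hperp : (⨆ i ∈ Finset.univ.filter (fun i => m i ≤ (s : ℤ)), Hs i) ≤
        (⨅ (y : H) (_ : y ∈ V), LinearMap.ker (q.flip y) : Submodule K H) := by
      apply biSup_le_perp' q Hs
      intro i hi j hj
      simp only [Finset.mem_filter, Finset.mem_univ, true_and] at hi hj
      exact hvan i j (by omega)
    have hiso : V ≤ (⨅ (y : H) (_ : y ∈ V), LinearMap.ker (q.flip y) : Submodule K H) := by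
      apply biSup_le_perp' q Hs
      intro i hi j hj
      simp only [Finset.mem_filter, Finset.mem_univ, true_and] at hi hj
      exact hvan i j (by omega)
    by_cases hVbot : V = ⊥
    · left
      rw [hVbot, finrank_bot]
    · right
      have h1 := hss V hVbot (fun x hx y hy => (mem_perp q V x).mp (hiso hx) y hy)
      have h2 := Submodule.finrank_mono hperp
      omega) i₀ hi₀m
  exact hi₀H (Submodule.finrank_eq_zero.mp key)

end main

end Groth.Agent.H75
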