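import Groth.Agent.H75.GITNum3

set_option autoImplicit false

namespace Groth.Agent.H75

variable {K : Type*} [Field K] {H : Type*} [AddCommGroup H] [Module K H] [FiniteDimensional K H]

theorem three_blocks (V P : Submodule K H) (hVP : V ≤ P) :
    ∃ W₂ W₃ : Submodule K H, W₂ ≤ P ∧ DirectSum.IsInternal ![V, W₂, W₃] ∧
      Module.finrank K V + Module.finrank K W₂ = Module.finrank K P ∧
      Module.finrank K P + Module.finrank K W₃ = Module.finrank K H := by
  classical
  obtain ⟨C, hC⟩ := Submodule.exists_isCompl V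
  obtain ⟨W₃, hW₃⟩ := Submodule.exists_isCompl P
  let W₂ : Submodule K H := C ⊓ P
  have h1 : V ⊓ W₂ = ⊥ := by
    apply le_bot_iff.mp
    calc V ⊓ W₂ ≤ V ⊓ C := inf_le_inf_left V inf_le_left
      _ = ⊥ := hC.inf_eq_bot
  have h2 : V ⊔ W₂ = P := by
    show V ⊔ C ⊓ P = P
    rw [← sup_inf_assoc_of_le C hVP, hC.sup_eq_top, top_inf_eq]
  have h3 : P ⊓ W₃ = ⊥ := hW₃.inf_eq_bot
  have h4 : P ⊔ W₃ = ⊤ := hW₃.sup_eq_top
  have hW₂P : W₂ ≤ P := inf_le_right
  refine ⟨W₂, W₃, hW₂P, ?_, ?_, ?_⟩
  · apply DirectSum.isInternal_submodule_of_iSupIndep_of_iSup_eq_top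
    · intro i
      rw [Submodule.disjoint_def]
      intro x hx hx'
      fin_cases i
      · -- x ∈ V, x ∈ W₂ ⊔ W₃
        have hle : (⨆ (j : Fin 3) (_ : j ≠ 0), (![V, W₂, W₃] : Fin 3 → Submodule K H) j) ≤ W₂ ⊔ W₃ := by
          apply iSup₂_le
          intro j hj
          fin_cases j
          · exact absurd rfl hj
          · exact le_sup_left
          · exact le_sup_right
        have hx'' := hle hx'
        obtain ⟨w₂, hw₂, w₃, hw₃, rfl⟩ := Submodule.mem_sup.mp hx''
        have hxV : w₂ + w₃ ∈ V := hx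
        have hw₃P : w₃ ∈ P := by
          have : w₃ = (w₂ + w₃) - w₂ := by abel
          rw [this]
          exact P.sub_mem (hVP hxV) (hW₂P hw₂)
        have hw₃0 : w₃ = 0 := by
          have : w₃ ∈ P ⊓ W₃ := ⟨hw₃P, hw₃⟩
          rw [h3] at this
          exact (Submodule.mem_bot K).mp this
        subst hw₃0
        rw [add_zero] at hxV ⊢
        have : w₂ ∈ V ⊓ W₂ := ⟨hxV, hw₂⟩
        rw [h1] at this
        exact (Submodule.mem_bot K).mp this
      · have hle : (⨆ (j : Fin 3) (_ : j ≠ 1), (![V, W₂, W₃] : Fin 3 → Submodule K H) j) ≤ V ⊔ W₃ := by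
          apply iSup₂_le
          intro j hj
          fin_cases j
          · exact le_sup_left
          · exact absurd rfl hj
          · exact le_sup_right
        have hx'' := hle hx'
        obtain ⟨v, hv, w₃, hw₃, rfl⟩ := Submodule.mem_sup.mp hx''
        have hxW : v + w₃ ∈ W₂ := hx
        have hw₃P : w₃ ∈ P := by
          have : w₃ = (v + w₃) - v := by abel
          rw [this]
          exact P.sub_mem (hW₂P hxW) (hVP hv)
        have hw₃0 : w₃ = 0 := by
          have : w₃ ∈ P ⊓ W₃ := ⟨hw₃P, hw₃⟩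
          rw [h3] at this
          exact (Submodule.mem_bot K).mp this
        subst hw₃0
        rw [add_zero] at hxW ⊢
        have : v ∈ V ⊓ W₂ := ⟨hv, hxW⟩
        rw [h1] at this
        exact (Submodule.mem_bot K).mp this
      · have hle : (⨆ (j : Fin 3) (_ : j ≠ 2), (![V, W₂, W₃] : Fin 3 → Submodule K H) j) ≤ P := by
          apply iSup₂_le
          intro j hj
          fin_cases j
          · exact hVP
          · exact hW₂P
          · exact absurd rfl hj
        have hxP := hle hx'
        have hxW : x ∈ W₃ := hx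
        have : x ∈ P ⊓ W₃ := ⟨hxP, hxW⟩
        rw [h3] at this
        exact (Submodule.mem_bot K).mp this
    · rw [eq_top_iff, ← h4, ← h2]
      apply sup_le (sup_le ?_ ?_) ?_
      · exact le_iSup (![V, W₂, W₃] : Fin 3 → Submodule K H) 0
      · exact le_iSup (![V, W₂, W₃] : Fin 3 → Submodule K H) 1
      · exact le_iSup (![V, W₂, W₃] : Fin 3 → Submodule K H) 2
  · have := Submodule.finrank_sup_add_finrank_inf_eq V W₂
    rw [h1, h2, finrank_bot, add_zero] at this
    exact this.symm
  · have := Submodule.finrank_sup_add_finrank_inf_eq P W₃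
    rw [h3, h4, finrank_bot, add_zero, finrank_top] at this
    exact this.symm

end Groth.Agent.H75
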