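import Groth.Agent.H75.GITNum4

set_option autoImplicit false

namespace Groth.Agent.H75

variable {K : Type*} [Field K] {H W : Type*} [AddCommGroup H] [Module K H] [FiniteDimensional K H]
  [AddCommGroup W] [Module K W] (q : H →ₗ[K] H →ₗ[K] W)

theorem dim_of_numerical_le (hsymm : ∀ x y, q x y = 0 → q y x = 0) (hq0 : q ≠ 0)
    (hnum : ∀ (Hs : Fin 3 → Submodule K H) (m : Fin 3 → ℤ),
      DirectSum.IsInternal Hs → (∑ i, m i * (Module.finrank K (Hs i) : ℤ)) = 0 →
      (∃ i, m i ≠ 0 ∧ Hs i ≠ ⊥) →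
      ∃ i j, (∃ x ∈ Hs i, ∃ y ∈ Hs j, q x y ≠ 0) ∧ m i + m j ≤ 0)
    (V : Submodule K H) (hV : V ≠ ⊥) (hiso : ∀ x ∈ V, ∀ y ∈ V, q x y = 0) :
    Module.finrank K V + Module.finrank K
      ↥(⨅ (y : H) (_ : y ∈ V), LinearMap.ker (q.flip y) : Submodule K H) ≤ Module.finrank K H := by
  classical
  by_contra hlt
  push Not at hlt
  set P : Submodule K H := (⨅ (y : H) (_ : y ∈ V), LinearMap.ker (q.flip y) : Submodule K H) with hP
  have hVP : V ≤ P := fun x hx => (mem_perp q V x).mpr (fun y hy => hiso x hx y hy)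
  have hPV : ∀ x ∈ P, ∀ y ∈ V, q x y = 0 := fun x hx y hy => (mem_perp q V x).mp hx y hy
  obtain ⟨W₂, W₃, hW₂P, hint, hab, hpd⟩ := three_blocks V P hVP
  have hapos : 0 < Module.finrank K V := by
    rw [Module.finrank_pos_iff]
    exact Submodule.nontrivial_iff_ne_bot.mpr hV
  set a := Module.finrank K V
  set b := Module.finrank K W₂
  set d := Module.finrank K W₃
  let m : Fin 3 → ℤ := ![-((b : ℤ) + d), (a : ℤ) - d, (a : ℤ) + b]
  have hsum : (∑ i, m i * (Module.finrank K ((![V, W₂, W₃] : Fin 3 → Submodule K H) i) : ℤ)) = 0 := by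
    rw [Fin.sum_univ_three]
    show -((b : ℤ) + d) * (a : ℤ) + ((a : ℤ) - d) * (b : ℤ) + ((a : ℤ) + b) * (d : ℤ) = 0
    ring
  have hex : ∃ i, m i ≠ 0 ∧ (![V, W₂, W₃] : Fin 3 → Submodule K H) i ≠ ⊥ := by
    refine ⟨0, ?_, hV⟩
    show -((b : ℤ) + d) ≠ 0
    intro h0
    have hbd : b = 0 ∧ d = 0 := by omega
    have hVtop : V = ⊤ := by
      apply Submodule.eq_top_of_finrank_eq
      omega
    apply hq0
    ext x y
    exact hiso x (hVtop ▸ Submodule.mem_top) y (hVtop ▸ Submodule.mem_top)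
  obtain ⟨i, j, ⟨x, hx, y, hy, hxy⟩, hm⟩ := hnum _ m hint hsum hex
  fin_cases i <;> fin_cases j
  · exact hxy (hiso x hx y hy)
  · exact hxy (hsymm _ _ (hPV y (hW₂P hy) x hx))
  · have : (m 0 + m 2) = (a : ℤ) - d := by
      show -((b : ℤ) + d) + ((a : ℤ) + b) = _
      ring
    simp only [Fin.zero_eta, Fin.isValue, Fin.reduceFinMk] at hm
    rw [this] at hm
    omega
  · exact hxy (hPV x (hW₂P hx) y hy)
  · have : (m 1 + m 1) = 2 * ((a : ℤ) - d) := by
      show ((a : ℤ) - d) + ((a : ℤ) - d) = _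
      ring
    simp only [Fin.mk_one, Fin.isValue] at hm
    rw [this] at hm
    omega
  · have : (m 1 + m 2) = 2 * (a : ℤ) + b - d := by
      show ((a : ℤ) - d) + ((a : ℤ) + b) = _
      ring
    simp only [Fin.mk_one, Fin.isValue, Fin.reduceFinMk] at hm
    rw [this] at hm
    omega
  · have : (m 2 + m 0) = (a : ℤ) - d := by
      show ((a : ℤ) + b) + -((b : ℤ) + d) = _
      ring
    simp only [Fin.zero_eta, Fin.isValue, Fin.reduceFinMk] at hm
    rw [this] at hm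
    omega
  · have : (m 2 + m 1) = 2 * (a : ℤ) + b - d := by
      show ((a : ℤ) + b) + ((a : ℤ) - d) = _
      ring
    simp only [Fin.mk_one, Fin.isValue, Fin.reduceFinMk] at hm
    rw [this] at hm
    omega
  · have : (m 2 + m 2) = 2 * ((a : ℤ) + b) := by
      show ((a : ℤ) + b) + ((a : ℤ) + b) = _
      ring
    simp only [Fin.isValue, Fin.reduceFinMk] at hm
    rw [this] at hm
    omega

theorem dim_of_numerical_lt (hsymm : ∀ x y, q x y = 0 → q y x = 0) (hq0 : q ≠ 0)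
    (hnum : ∀ (Hs : Fin 3 → Submodule K H) (m : Fin 3 → ℤ),
      DirectSum.IsInternal Hs → (∑ i, m i * (Module.finrank K (Hs i) : ℤ)) = 0 →
      (∃ i, m i ≠ 0 ∧ Hs i ≠ ⊥) →
      ∃ i j, (∃ x ∈ Hs i, ∃ y ∈ Hs j, q x y ≠ 0) ∧ m i + m j < 0)
    (V : Submodule K H) (hV : V ≠ ⊥) (hiso : ∀ x ∈ V, ∀ y ∈ V, q x y = 0) :
    Module.finrank K V + Module.finrank K
      ↥(⨅ (y : H) (_ : y ∈ V), LinearMap.ker (q.flip y) : Submodule K H) < Module.finrank K H := by
  classical
  by_contra hlt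
  push Not at hlt
  set P : Submodule K H := (⨅ (y : H) (_ : y ∈ V), LinearMap.ker (q.flip y) : Submodule K H) with hP
  have hVP : V ≤ P := fun x hx => (mem_perp q V x).mpr (fun y hy => hiso x hx y hy)
  have hPV : ∀ x ∈ P, ∀ y ∈ V, q x y = 0 := fun x hx y hy => (mem_perp q V x).mp hx y hy
  obtain ⟨W₂, W₃, hW₂P, hint, hab, hpd⟩ := three_blocks V P hVP
  have hapos : 0 < Module.finrank K V := by
    rw [Module.finrank_pos_iff]
    exact Submodule.nontrivial_iff_ne_bot.mpr hV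
  set a := Module.finrank K V
  set b := Module.finrank K W₂
  set d := Module.finrank K W₃
  let m : Fin 3 → ℤ := ![-((b : ℤ) + d), (a : ℤ) - d, (a : ℤ) + b]
  have hsum : (∑ i, m i * (Module.finrank K ((![V, W₂, W₃] : Fin 3 → Submodule K H) i) : ℤ)) = 0 := by
    rw [Fin.sum_univ_three]
    show -((b : ℤ) + d) * (a : ℤ) + ((a : ℤ) - d) * (b : ℤ) + ((a : ℤ) + b) * (d : ℤ) = 0
    ring
  have hex : ∃ i, m i ≠ 0 ∧ (![V, W₂, W₃] : Fin 3 → Submodule K H) i ≠ ⊥ := by
    refine ⟨0, ?_, hV⟩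
    show -((b : ℤ) + d) ≠ 0
    intro h0
    have hbd : b = 0 ∧ d = 0 := by omega
    have hVtop : V = ⊤ := by
      apply Submodule.eq_top_of_finrank_eq
      omega
    apply hq0
    ext x y
    exact hiso x (hVtop ▸ Submodule.mem_top) y (hVtop ▸ Submodule.mem_top)
  obtain ⟨i, j, ⟨x, hx, y, hy, hxy⟩, hm⟩ := hnum _ m hint hsum hex
  fin_cases i <;> fin_cases j
  · exact hxy (hiso x hx y hy)
  · exact hxy (hsymm _ _ (hPV y (hW₂P hy) x hx))
  · have : (m 0 + m 2) = (a : ℤ) - d := by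
      show -((b : ℤ) + d) + ((a : ℤ) + b) = _
      ring
    simp only [Fin.zero_eta, Fin.isValue, Fin.reduceFinMk] at hm
    rw [this] at hm
    omega
  · exact hxy (hPV x (hW₂P hx) y hy)
  · have : (m 1 + m 1) = 2 * ((a : ℤ) - d) := by
      show ((a : ℤ) - d) + ((a : ℤ) - d) = _
      ring
    simp only [Fin.mk_one, Fin.isValue] at hm
    rw [this] at hm
    omega
  · have : (m 1 + m 2) = 2 * (a : ℤ) + b - d := by
      show ((a : ℤ) - d) + ((a : ℤ) + b) = _
      ring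
    simp only [Fin.mk_one, Fin.isValue, Fin.reduceFinMk] at hm
    rw [this] at hm
    omega
  · have : (m 2 + m 0) = (a : ℤ) - d := by
      show ((a : ℤ) + b) + -((b : ℤ) + d) = _
      ring
    simp only [Fin.zero_eta, Fin.isValue, Fin.reduceFinMk] at hm
    rw [this] at hm
    omega
  · have : (m 2 + m 1) = 2 * (a : ℤ) + b - d := by
      show ((a : ℤ) + b) + ((a : ℤ) - d) = _
      ring
    simp only [Fin.mk_one, Fin.isValue, Fin.reduceFinMk] at hm
    rw [this] at hm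
    omega
  · have : (m 2 + m 2) = 2 * ((a : ℤ) + b) := by
      show ((a : ℤ) + b) + ((a : ℤ) + b) = _
      ring
    simp only [Fin.isValue, Fin.reduceFinMk] at hm
    rw [this] at hm
    omega

end Groth.Agent.H75
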