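import Mathlib

set_option autoImplicit false

namespace Groth.Agent.H75

open Matrix

theorem ch2 (M : Matrix (Fin 2) (Fin 2) ℤ) : M * M = M.trace • M - M.det • (1 : Matrix (Fin 2) (Fin 2) ℤ) := by
  ext i j
  fin_cases i <;> fin_cases j <;>
    simp only [Matrix.mul_apply, Fin.sum_univ_two, Matrix.sub_apply, Matrix.smul_apply,
      Matrix.one_apply, Matrix.trace_fin_two, Matrix.det_fin_two, smul_eq_mul, Fin.zero_eta,
      Fin.mk_one, Fin.isValue, if_true, if_false, one_ne_zero, zero_ne_one, mul_one, mul_zero,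
      sub_zero] <;> ring

theorem det_sub_one2 (M : Matrix (Fin 2) (Fin 2) ℤ) : (M - 1).det = M.det - M.trace + 1 := by
  simp [Matrix.det_fin_two, Matrix.trace_fin_two]
  ring

theorem trace_pow_rec (M : Matrix (Fin 2) (Fin 2) ℤ) (n : ℕ) :
    (M ^ (n + 2)).trace = M.trace * (M ^ (n + 1)).trace - M.det * (M ^ n).trace := by
  have h : M ^ (n + 2) = M.trace • M ^ (n + 1) - M.det • M ^ n := by
    have e1 : M ^ (n + 2) = M ^ n * (M * M) := by rw [pow_add, pow_two]
    have e2 : M ^ (n + 1) = M ^ n * M := pow_succ M n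
    rw [e1, ch2, e2, mul_sub, Matrix.mul_smul, Matrix.mul_smul, mul_one]
  rw [h, Matrix.trace_sub, Matrix.trace_smul, Matrix.trace_smul]
  simp

theorem abs_trace_le_two (M : Matrix (Fin 2) (Fin 2) ℤ) (hdet : |M.det| = 1) (n : ℕ) (hn : 0 < n)
    (hM : M ^ n = 1) : |M.trace| ≤ 2 := by
  by_contra hlt
  push Not at hlt
  have h3 : 3 ≤ |M.trace| := hlt
  have key : ∀ m : ℕ, |(M ^ m).trace| < |(M ^ (m + 1)).trace| ∧ 2 ≤ |(M ^ m).trace| := by
    intro m
    induction m with
    | zero =>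
      simp only [pow_zero, zero_add, pow_one, Matrix.trace_one, Fintype.card_fin]
      constructor
      · have : |((2 : ℕ) : ℤ)| = 2 := by norm_num
        rw [this]; omega
      · norm_num
    | succ m ih =>
      obtain ⟨ih1, ih2⟩ := ih
      have hrec := trace_pow_rec M m
      have hb : |M.trace * (M ^ (m + 1)).trace| = |M.trace| * |(M ^ (m + 1)).trace| := abs_mul _ _
      have hc : |M.det * (M ^ m).trace| = |(M ^ m).trace| := by rw [abs_mul, hdet, one_mul]
      have htri : |M.trace * (M ^ (m + 1)).trace| - |M.det * (M ^ m).trace| ≤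
          |M.trace * (M ^ (m + 1)).trace - M.det * (M ^ m).trace| := abs_sub_abs_le_abs_sub _ _
      rw [← hrec, hb, hc] at htri
      have h4 : 3 * |(M ^ (m + 1)).trace| ≤ |M.trace| * |(M ^ (m + 1)).trace| :=
        mul_le_mul_of_nonneg_right h3 (abs_nonneg _)
      constructor
      · show |(M ^ (m + 1)).trace| < |(M ^ (m + 1 + 1)).trace|
        have : m + 1 + 1 = m + 2 := rfl
        rw [this]
        linarith
      · linarith
  have hmono : ∀ m : ℕ, 1 ≤ m → 3 ≤ |(M ^ m).trace| := by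
    intro m hm
    obtain ⟨m', rfl⟩ : ∃ m', m = m' + 1 := ⟨m - 1, by omega⟩
    have := key m'
    omega
  have := hmono n hn
  rw [hM] at this
  simp at this

theorem unipotent_eq_one (M : Matrix (Fin 2) (Fin 2) ℤ) (hdet : M.det = 1) (htr : M.trace = 2)
    (n : ℕ) (hn : 0 < n) (hM : M ^ n = 1) : M = 1 := by
  have hsq : (M - 1) * (M - 1) = 0 := by
    have := ch2 M
    rw [hdet, htr] at this
    have e : (M - 1) * (M - 1) = M * M - (2 : ℤ) • M + 1 := by
      rw [two_smul]
      noncomm_ring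
    rw [e, this]
    simp only [one_smul]
    abel
  have hpow : ∀ m : ℕ, M ^ m = 1 + (m : ℤ) • (M - 1) := by
    intro m
    induction m with
    | zero => simp
    | succ m ih =>
      have hM' : M = 1 + (M - 1) := by abel
      rw [pow_succ, ih]
      nth_rw 2 [hM']
      rw [add_mul, mul_add, mul_add, one_mul, mul_one, one_mul, Matrix.smul_mul, hsq, smul_zero,
        add_zero]
      push_cast
      rw [add_smul, one_smul]
      abel
  have h1 := hpow n
  rw [hM] at h1
  have h2 : (n : ℤ) • (M - 1) = 0 := by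
    have := h1
    simpa using this.symm
  have h3 : M - 1 = 0 := by
    rcases smul_eq_zero.mp h2 with h | h
    · exact absurd h (by exact_mod_cast hn.ne')
    · exact h
  exact sub_eq_zero.mp h3

end Groth.Agent.H75

namespace Groth.Agent.H75

open Matrix

theorem gl2z_common_fixed (Γ : Subgroup (Matrix.GeneralLinearGroup (Fin 2) ℤ)) [Finite Γ]
    (h : ∀ γ ∈ Γ, ((γ : Matrix (Fin 2) (Fin 2) ℤ) - 1).det = 0) :
    ∃ v : Fin 2 → ℤ, v ≠ 0 ∧ ∀ γ ∈ Γ, (γ : Matrix (Fin 2) (Fin 2) ℤ) *ᵥ v = v := by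
  classical
  have hcard : 0 < Nat.card Γ := Nat.card_pos
  have hpow : ∀ γ ∈ Γ, (γ : Matrix (Fin 2) (Fin 2) ℤ) ^ Nat.card Γ = 1 := by
    intro γ hγ
    have h1 : (⟨γ, hγ⟩ : Γ) ^ Nat.card Γ = 1 := pow_card_eq_one'
    have h0 := congrArg Subtype.val h1
    rw [Subgroup.coe_pow] at h0
    have h2 := congrArg Units.val h0
    rw [Units.val_pow_eq_pow_val] at h2
    exact h2
  have hA : ∀ γ ∈ Γ, Matrix.GeneralLinearGroup.det γ = 1 → γ = 1 := by
    intro γ hγ hd
    have hd' : (γ : Matrix (Fin 2) (Fin 2) ℤ).det = 1 := by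
      have := congrArg Units.val hd
      simpa using this
    have htr : (γ : Matrix (Fin 2) (Fin 2) ℤ).trace = 2 := by
      have := h γ hγ
      rw [det_sub_one2, hd'] at this
      omega
    have := unipotent_eq_one _ hd' htr _ hcard (hpow γ hγ)
    exact Units.ext this
  by_cases hex : ∃ γ₀ ∈ Γ, Matrix.GeneralLinearGroup.det γ₀ = -1
  · obtain ⟨γ₀, hγ₀, hd₀⟩ := hex
    obtain ⟨v, hv0, hv⟩ := Matrix.exists_mulVec_eq_zero_iff.mpr (h γ₀ hγ₀)
    have hv' : (γ₀ : Matrix (Fin 2) (Fin 2) ℤ) *ᵥ v = v := by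
      rw [Matrix.sub_mulVec, Matrix.one_mulVec, sub_eq_zero] at hv
      exact hv
    refine ⟨v, hv0, ?_⟩
    intro γ hγ
    rcases Int.units_eq_one_or (Matrix.GeneralLinearGroup.det γ) with hd | hd
    · rw [hA γ hγ hd]
      simp
    · have h1 : Matrix.GeneralLinearGroup.det (γ * γ₀⁻¹) = 1 := by
        rw [map_mul, map_inv, hd, hd₀]
        decide
      have h2 := hA _ (Γ.mul_mem hγ (Γ.inv_mem hγ₀)) h1
      have h3 : γ = γ₀ := by
        have := mul_inv_eq_one.mp h2
        exact this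
      rw [h3]
      exact hv'
  · push Not at hex
    refine ⟨![1, 0], by decide, ?_⟩
    intro γ hγ
    rcases Int.units_eq_one_or (Matrix.GeneralLinearGroup.det γ) with hd | hd
    · rw [hA γ hγ hd]
      simp
    · exact absurd hd (hex γ hγ)

end Groth.Agent.H75
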