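import Mathlib
import Groth.Prelude.Def_FEt

/-!
# The fibre functor of `Spec K` at `Spec K̄` and the absolute Galois group (part 1: test objects)
-/

set_option autoImplicit false

universe u

open AlgebraicGeometry CategoryTheory CategoryTheory.Limits

namespace Groth.Agent.H75.GalFiber

variable (K : Type u) [Field K]

/-- the geometric point `Spec K̄ ⟶ Spec K` -/
noncomputable abbrev xi : Spec (CommRingCat.of (AlgebraicClosure K)) ⟶ Spec (CommRingCat.of K) :=
  Spec.map (CommRingCat.ofHom (algebraMap K (AlgebraicClosure K)))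

variable {K}

/-- `Spec` of a `K`-algebra homomorphism. -/
noncomputable def spec {A B : Type u} [CommRing A] [CommRing B] [Algebra K A] [Algebra K B]
    (f : A →ₐ[K] B) : Spec (CommRingCat.of B) ⟶ Spec (CommRingCat.of A) :=
  Spec.map (CommRingCat.ofHom f.toRingHom)

theorem spec_comp {A B C : Type u} [CommRing A] [CommRing B] [CommRing C] [Algebra K A]
    [Algebra K B] [Algebra K C] (f : A →ₐ[K] B) (g : B →ₐ[K] C) :
    spec (g.comp f) = spec g ≫ spec f := by
  unfold spec
  rw [← Spec.map_comp, ← CommRingCat.ofHom_comp]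
  rfl

theorem spec_id {A : Type u} [CommRing A] [Algebra K A] :
    spec (AlgHom.id K A) = 𝟙 _ := by
  unfold spec
  exact Spec.map_id _

theorem spec_algebraMap {A B : Type u} [CommRing A] [CommRing B] [Algebra K A] [Algebra K B]
    (f : A →ₐ[K] B) :
    spec f ≫ Spec.map (CommRingCat.ofHom (algebraMap K A)) =
      Spec.map (CommRingCat.ofHom (algebraMap K B)) := by
  unfold spec
  rw [← Spec.map_comp, ← CommRingCat.ofHom_comp]
  congr 2
  exact f.comp_algebraMap

theorem spec_injective {A B : Type u} [CommRing A] [CommRing B] [Algebra K A] [Algebra K B] :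
    Function.Injective (spec (K := K) (A := A) (B := B)) := by
  intro j j' h
  have h2 := Spec.map_injective h
  have h3 : j.toRingHom = j'.toRingHom := by
    have := congrArg CommRingCat.Hom.hom h2
    simpa using this
  exact AlgHom.coe_ringHom_injective h3

theorem exists_spec_eq {A B : Type u} [CommRing A] [CommRing B] [Algebra K A] [Algebra K B]
    (s : Spec (CommRingCat.of B) ⟶ Spec (CommRingCat.of A))
    (hs : s ≫ Spec.map (CommRingCat.ofHom (algebraMap K A)) =
      Spec.map (CommRingCat.ofHom (algebraMap K B))) :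
    ∃ f : A →ₐ[K] B, spec f = s := by
  obtain ⟨φ, rfl⟩ := Spec.map_surjective s
  have hs' : Spec.map (CommRingCat.ofHom (algebraMap K A) ≫ φ) =
      Spec.map (CommRingCat.ofHom (algebraMap K B)) := by
    rw [Spec.map_comp]; exact hs
  have h2 := Spec.map_injective hs'
  have h3 : φ.hom.comp (algebraMap K A) = algebraMap K B := by
    have := congrArg CommRingCat.Hom.hom h2
    simpa using this
  refine ⟨{ φ.hom with commutes' := fun r => RingHom.congr_fun h3 r }, ?_⟩
  show Spec.map (CommRingCat.ofHom _) = Spec.map φ
  congr 1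

variable (K)

theorem prop_specMap (L : Type u) [Field L] [Algebra K L] [FiniteDimensional K L]
    [Algebra.IsSeparable K L] :
    FEt.prop (Spec.map (CommRingCat.ofHom (algebraMap K L))) := by
  constructor
  · rw [IsFinite.SpecMap_iff, CommRingCat.hom_ofHom]
    exact RingHom.finite_algebraMap.mpr inferInstance
  · rw [HasRingHomProperty.Spec_iff (P := @Etale), CommRingCat.hom_ofHom, RingHom.etale_algebraMap]
    have : Algebra.FormallyEtale K L := Algebra.FormallyEtale.of_isSeparable K L
    have : Algebra.FinitePresentation K L :=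
      Algebra.FinitePresentation.of_finiteType.mp inferInstance
    exact { formallyEtale := ‹_›, finitePresentation := this }

/-- `Spec L` as a finite étale cover of `Spec K`. -/
noncomputable def YL (L : Type u) [Field L] [Algebra K L] [FiniteDimensional K L]
    [Algebra.IsSeparable K L] : FEt.Cat (Spec (CommRingCat.of K)) :=
  MorphismProperty.Over.mk ⊤ (Spec.map (CommRingCat.ofHom (algebraMap K L))) (prop_specMap K L)

variable {K}

section
variable {L : Type u} [Field L] [Algebra K L] [FiniteDimensional K L] [Algebra.IsSeparable K L]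
variable {L' : Type u} [Field L'] [Algebra K L'] [FiniteDimensional K L'] [Algebra.IsSeparable K L']

/-- the geometric point of `Spec L` attached to a `K`-embedding `L → K̄`. -/
noncomputable def pt (j : L →ₐ[K] AlgebraicClosure K) : FEt.fiberObj (xi K) (YL K L) :=
  ⟨spec j, spec_algebraMap j⟩

theorem pt_injective : Function.Injective (pt (K := K) (L := L)) := by
  intro j j' h
  exact spec_injective (congrArg Subtype.val h)

theorem pt_surjective : Function.Surjective (pt (K := K) (L := L)) := by
  rintro ⟨s, hs⟩
  obtain ⟨f, hf⟩ := exists_spec_eq (K := K) s hs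
  exact ⟨f, Subtype.ext hf⟩

/-- the map of covers `Spec L' ⟶ Spec L` induced by `g : L →ₐ[K] L'`. -/
noncomputable def YLmap (g : L →ₐ[K] L') : YL K L' ⟶ YL K L :=
  MorphismProperty.Over.homMk (spec g) (spec_algebraMap g) trivial

theorem fiber_map_YLmap (g : L →ₐ[K] L') (j' : L' →ₐ[K] AlgebraicClosure K) :
    (FEt.fiber (xi K)).map (YLmap g) (pt j') = pt (j'.comp g) :=
  Subtype.ext (spec_comp g j').symm

end

section Action

/-- the action of a `K`-endomorphism of `K̄` on the fibre functor. -/
noncomputable def act (σ : AlgebraicClosure K →ₐ[K] AlgebraicClosure K) :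
    FEt.fiber (xi K) ⟶ FEt.fiber (xi K) where
  app Y := TypeCat.ofHom fun s => ⟨spec σ ≫ s.1, by
    rw [Category.assoc, s.2]
    exact spec_algebraMap σ⟩
  naturality Y Y' φ := ConcreteCategory.hom_ext _ _ fun s =>
    Subtype.ext (show spec σ ≫ (s.1 ≫ φ.left) = (spec σ ≫ s.1) ≫ φ.left from
      (Category.assoc _ _ _).symm)

theorem act_app_val (σ : AlgebraicClosure K →ₐ[K] AlgebraicClosure K)
    (Y : FEt.Cat (Spec (CommRingCat.of K))) (s : FEt.fiberObj (xi K) Y) :
    ((act σ).app Y s).1 = spec σ ≫ s.1 := rfl

theorem act_comp (σ τ : AlgebraicClosure K →ₐ[K] AlgebraicClosure K) :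
    act (σ.comp τ) = act τ ≫ act σ := by
  ext Y s
  apply Subtype.ext
  show spec (σ.comp τ) ≫ s.1 = spec σ ≫ (spec τ ≫ s.1)
  rw [spec_comp, Category.assoc]

theorem act_id : act (AlgHom.id K (AlgebraicClosure K)) = 𝟙 _ := by
  ext Y s
  apply Subtype.ext
  show spec (AlgHom.id K _) ≫ s.1 = s.1
  rw [spec_id, Category.id_comp]

theorem act_pt {L : Type u} [Field L] [Algebra K L] [FiniteDimensional K L]
    [Algebra.IsSeparable K L] (σ : AlgebraicClosure K →ₐ[K] AlgebraicClosure K)
    (j : L →ₐ[K] AlgebraicClosure K) :
    (act σ).app (YL K L) (pt j) = pt (σ.comp j) :=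
  Subtype.ext (spec_comp j σ).symm

/-- the automorphism of the fibre functor attached to `σ ∈ Gal(K̄/K)`. -/
noncomputable def actIso (σ : AlgebraicClosure K ≃ₐ[K] AlgebraicClosure K) :
    Aut (FEt.fiber (xi K)) where
  hom := act σ.toAlgHom
  inv := act σ.symm.toAlgHom
  hom_inv_id := by
    rw [← act_comp, ← act_id]
    congr 1
    ext x
    simp
  inv_hom_id := by
    rw [← act_comp, ← act_id]
    congr 1
    ext x
    simp

/-- the group homomorphism `Gal(K̄/K) → π₁(Spec K, Spec K̄)`. -/
noncomputable def actHom :
    (AlgebraicClosure K ≃ₐ[K] AlgebraicClosure K) →* Aut (FEt.fiber (xi K)) where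
  toFun := actIso
  map_one' := by
    apply Aut.ext
    show act _ = 𝟙 _
    exact act_id
  map_mul' σ τ := by
    apply Aut.ext
    show act (σ * τ).toAlgHom = act τ.toAlgHom ≫ act σ.toAlgHom
    rw [← act_comp]
    rfl

theorem actHom_hom (σ : AlgebraicClosure K ≃ₐ[K] AlgebraicClosure K) :
    (actHom σ).hom = act σ.toAlgHom := rfl

/-- two `K`-endomorphisms of `K̄` which agree on separable elements are equal. -/
theorem algHom_ext_of_separable (σ τ : AlgebraicClosure K →ₐ[K] AlgebraicClosure K)
    (h : ∀ a : AlgebraicClosure K, IsSeparable K a → σ a = τ a) : σ = τ := by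
  ext a
  let q := ringExpChar K
  haveI : ExpChar (separableClosure K (AlgebraicClosure K)) q :=
    expChar_of_injective_algebraMap
      (algebraMap K (separableClosure K (AlgebraicClosure K))).injective q
  haveI : ExpChar (AlgebraicClosure K) q :=
    expChar_of_injective_algebraMap (algebraMap K (AlgebraicClosure K)).injective q
  obtain ⟨n, ⟨y, hy⟩⟩ := IsPurelyInseparable.pow_mem
    (separableClosure K (AlgebraicClosure K)) q a
  have hy' : IsSeparable K (a ^ q ^ n) := by
    rw [← hy]
    exact mem_separableClosure_iff.mp y.2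
  have h1 := h _ hy'
  rw [map_pow, map_pow] at h1
  exact iterateFrobenius_inj (AlgebraicClosure K) q n h1

theorem actHom_injective : Function.Injective (actHom (K := K)) := by
  rw [injective_iff_map_eq_one]
  intro σ hσ
  have hσ' : act σ.toAlgHom = 𝟙 _ := by
    rw [← actHom_hom, hσ]
    rfl
  have key : σ.toAlgHom = AlgHom.id K _ := by
    apply algHom_ext_of_separable
    intro a ha
    let L := IntermediateField.adjoin K {a}
    haveI : FiniteDimensional K L := IntermediateField.adjoin.finiteDimensional ha.isIntegral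
    haveI : Algebra.IsSeparable K L :=
      (IntermediateField.isSeparable_adjoin_simple_iff_isSeparable K (AlgebraicClosure K)).mpr ha
    have h1 : (act σ.toAlgHom).app (YL K L) (pt L.val) = pt L.val := by
      rw [hσ']
      rfl
    rw [act_pt] at h1
    have h2 := pt_injective h1
    exact AlgHom.congr_fun h2 ⟨a, IntermediateField.mem_adjoin_simple_self K a⟩
  ext a
  exact AlgHom.congr_fun key a

end Action

end Groth.Agent.H75.GalFiber
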