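import Groth.Agent.H75.GalFiber

/-!
# The fibre functor of `Spec K` at `Spec K̄` and the absolute Galois group (part 2: the Galois
element attached to an automorphism of the fibre functor)
-/

set_option autoImplicit false

universe u

open AlgebraicGeometry CategoryTheory CategoryTheory.Limits

namespace Groth.Agent.H75.GalFiber

variable {K : Type u} [Field K] (θ : Aut (FEt.fiber (xi K)))

section
variable {L : Type u} [Field L] [Algebra K L] [FiniteDimensional K L] [Algebra.IsSeparable K L]
variable {L' : Type u} [Field L'] [Algebra K L'] [FiniteDimensional K L'] [Algebra.IsSeparable K L']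

/-- the embedding of `L` obtained by applying `θ` to the point given by `j`. -/
noncomputable def emb (j : L →ₐ[K] AlgebraicClosure K) : L →ₐ[K] AlgebraicClosure K :=
  (pt_surjective (θ.hom.app (YL K L) (pt j))).choose

theorem pt_emb (j : L →ₐ[K] AlgebraicClosure K) :
    pt (emb θ j) = θ.hom.app (YL K L) (pt j) :=
  (pt_surjective (θ.hom.app (YL K L) (pt j))).choose_spec

theorem emb_comp (g : L →ₐ[K] L') (j' : L' →ₐ[K] AlgebraicClosure K) :
    emb θ (j'.comp g) = (emb θ j').comp g := by
  apply pt_injective
  rw [pt_emb, ← fiber_map_YLmap, NatTrans.naturality_apply θ.hom (YLmap g) (pt j'), ← pt_emb,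
    fiber_map_YLmap]

end

/-- finite separable intermediate fields -/
def FS (L : IntermediateField K (AlgebraicClosure K)) : Prop :=
  FiniteDimensional K L ∧ Algebra.IsSeparable K L

theorem fs_adjoin {a : AlgebraicClosure K} (ha : IsSeparable K a) :
    FS (IntermediateField.adjoin K {a}) :=
  ⟨IntermediateField.adjoin.finiteDimensional ha.isIntegral,
    (IntermediateField.isSeparable_adjoin_simple_iff_isSeparable K (AlgebraicClosure K)).mpr ha⟩

theorem fs_sup {L L' : IntermediateField K (AlgebraicClosure K)} (h : FS L) (h' : FS L') :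
    FS (L ⊔ L') := by
  haveI := h.1
  haveI := h.2
  haveI := h'.1
  haveI := h'.2
  exact ⟨IntermediateField.finiteDimensional_sup L L', inferInstance⟩

/-- the embedding of a finite separable intermediate field given by `θ`. -/
noncomputable def embL (L : IntermediateField K (AlgebraicClosure K)) (h : FS L) :
    L →ₐ[K] AlgebraicClosure K :=
  haveI := h.1
  haveI := h.2
  emb θ L.val

theorem embL_le {L L' : IntermediateField K (AlgebraicClosure K)} (h : FS L) (h' : FS L')
    (hL : L ≤ L') (x : AlgebraicClosure K) (hx : x ∈ L) :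
    embL θ L h ⟨x, hx⟩ = embL θ L' h' ⟨x, hL hx⟩ := by
  haveI := h.1
  haveI := h.2
  haveI := h'.1
  haveI := h'.2
  have h1 : L'.val.comp (IntermediateField.inclusion hL) = L.val := by
    ext y
    rfl
  have h2 := emb_comp θ (IntermediateField.inclusion hL) L'.val
  rw [h1] at h2
  show emb θ L.val ⟨x, hx⟩ = emb θ L'.val ⟨x, hL hx⟩
  rw [h2]
  rfl

/-- the value of the Galois element on a separable element. -/
noncomputable def psiFun (a : separableClosure K (AlgebraicClosure K)) : AlgebraicClosure K :=
  embL θ (IntermediateField.adjoin K {(a : AlgebraicClosure K)})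
    (fs_adjoin (mem_separableClosure_iff.mp a.2))
    ⟨a, IntermediateField.mem_adjoin_simple_self K _⟩

theorem psiFun_mk (x : AlgebraicClosure K) (hs : x ∈ separableClosure K (AlgebraicClosure K)) :
    psiFun θ ⟨x, hs⟩ = embL θ (IntermediateField.adjoin K {x})
      (fs_adjoin (mem_separableClosure_iff.mp hs))
      ⟨x, IntermediateField.mem_adjoin_simple_self K x⟩ := rfl

theorem embL_eq_psiFun (L : IntermediateField K (AlgebraicClosure K)) (h : FS L)
    (x : AlgebraicClosure K) (hx : x ∈ L) (hs : x ∈ separableClosure K (AlgebraicClosure K)) :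
    embL θ L h ⟨x, hx⟩ = psiFun θ ⟨x, hs⟩ := by
  rw [psiFun_mk]
  symm
  have hL : IntermediateField.adjoin K {x} ≤ L := by
    rw [IntermediateField.adjoin_simple_le_iff]
    exact hx
  exact embL_le θ (fs_adjoin (mem_separableClosure_iff.mp hs)) h hL x
    (IntermediateField.mem_adjoin_simple_self K _)

theorem mem_sepClosure_of_fs {L : IntermediateField K (AlgebraicClosure K)} (h : FS L)
    {x : AlgebraicClosure K} (hx : x ∈ L) : x ∈ separableClosure K (AlgebraicClosure K) := by
  haveI := h.2
  exact mem_separableClosure_iff.mpr (IntermediateField.isSeparable_of_mem_isSeparable K _ hx)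

theorem exists_fs_pair (a b : separableClosure K (AlgebraicClosure K)) :
    ∃ (L : IntermediateField K (AlgebraicClosure K)) (_ : FS L),
      (a : AlgebraicClosure K) ∈ L ∧ (b : AlgebraicClosure K) ∈ L :=
  ⟨_, fs_sup (fs_adjoin (mem_separableClosure_iff.mp a.2))
      (fs_adjoin (mem_separableClosure_iff.mp b.2)),
    le_sup_left (a := IntermediateField.adjoin K {(a : AlgebraicClosure K)})
      (IntermediateField.mem_adjoin_simple_self K _),
    le_sup_right (b := IntermediateField.adjoin K {(b : AlgebraicClosure K)})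
      (IntermediateField.mem_adjoin_simple_self K _)⟩

/-- the `K`-embedding of the separable closure given by `θ`. -/
noncomputable def psi : separableClosure K (AlgebraicClosure K) →ₐ[K] AlgebraicClosure K where
  toFun := psiFun θ
  map_one' := by
    show psiFun θ 1 = 1
    unfold psiFun
    exact map_one (embL θ _ _)
  map_zero' := by
    show psiFun θ 0 = 0
    unfold psiFun
    exact map_zero (embL θ _ _)
  map_mul' a b := by
    obtain ⟨L, hL, ha, hb⟩ := exists_fs_pair a b
    have e1 := embL_eq_psiFun θ L hL a ha a.2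
    have e2 := embL_eq_psiFun θ L hL b hb b.2
    have e3 := embL_eq_psiFun θ L hL (a * b) (mul_mem ha hb) (a * b).2
    show psiFun θ (a * b) = psiFun θ a * psiFun θ b
    calc psiFun θ (a * b) = embL θ L hL (⟨a, ha⟩ * ⟨b, hb⟩) := e3.symm
      _ = embL θ L hL ⟨a, ha⟩ * embL θ L hL ⟨b, hb⟩ := map_mul _ _ _
      _ = _ := by rw [e1, e2]
  map_add' a b := by
    obtain ⟨L, hL, ha, hb⟩ := exists_fs_pair a b
    have e1 := embL_eq_psiFun θ L hL a ha a.2
    have e2 := embL_eq_psiFun θ L hL b hb b.2
    have e3 := embL_eq_psiFun θ L hL (a + b) (add_mem ha hb) (a + b).2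
    show psiFun θ (a + b) = psiFun θ a + psiFun θ b
    calc psiFun θ (a + b) = embL θ L hL (⟨a, ha⟩ + ⟨b, hb⟩) := e3.symm
      _ = embL θ L hL ⟨a, ha⟩ + embL θ L hL ⟨b, hb⟩ := map_add _ _ _
      _ = _ := by rw [e1, e2]
  commutes' r := by
    show psiFun θ (algebraMap K _ r) = algebraMap K _ r
    unfold psiFun
    exact AlgHom.commutes (embL θ _ _) r

theorem psi_apply (L : IntermediateField K (AlgebraicClosure K)) (h : FS L)
    (x : AlgebraicClosure K) (hx : x ∈ L) :
    psi θ ⟨x, mem_sepClosure_of_fs h hx⟩ = embL θ L h ⟨x, hx⟩ :=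
  (embL_eq_psiFun θ L h x hx _).symm

/-- the Galois element attached to `θ`. -/
theorem exists_galois :
    ∃ σ : AlgebraicClosure K ≃ₐ[K] AlgebraicClosure K,
      ∀ (L : IntermediateField K (AlgebraicClosure K)) (h : FS L) (x : AlgebraicClosure K)
        (hx : x ∈ L), σ x = embL θ L h ⟨x, hx⟩ := by
  obtain ⟨σ0, hσ0⟩ := IsAlgClosed.surjective_domRestrict_of_isAlgebraic
    (K := K) (L := separableClosure K (AlgebraicClosure K)) (M := AlgebraicClosure K)
    (E := AlgebraicClosure K) (psi θ)
  refine ⟨AlgEquiv.ofBijective σ0 (Algebra.IsAlgebraic.algHom_bijective σ0), ?_⟩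
  intro L h x hx
  rw [← psi_apply θ L h x hx, ← hσ0]
  rfl

end Groth.Agent.H75.GalFiber
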