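import Groth.Agent.H75.GalFiber2

/-!
# The fibre functor of `Spec K` at `Spec K̄` and the absolute Galois group (part 3: geometric
points of finite étale `K`-schemes factor through finite separable extensions)
-/

set_option autoImplicit false

universe u

open AlgebraicGeometry CategoryTheory CategoryTheory.Limits

namespace Groth.Agent.H75.GalFiber

variable {K : Type u} [Field K]

theorem exists_factor_field {B : Type u} [CommRing B] [Algebra K B] [Module.Finite K B]
    [Algebra.FormallyEtale K B] (t : B →ₐ[K] AlgebraicClosure K) :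
    ∃ (L : Type u) (_ : Field L) (_ : Algebra K L) (_ : FiniteDimensional K L)
      (_ : Algebra.IsSeparable K L) (j : L →ₐ[K] AlgebraicClosure K) (q : B →ₐ[K] L),
      j.comp q = t := by
  haveI hp : (RingHom.ker t).IsPrime := RingHom.ker_isPrime t
  haveI : IsArtinianRing B := IsArtinianRing.of_finite K B
  haveI hm : (RingHom.ker t).IsMaximal := inferInstance
  haveI hsep : Algebra.IsSeparable K (B ⧸ RingHom.ker t) := inferInstance
  haveI hfin : Module.Finite K (B ⧸ RingHom.ker t) :=
    Module.Finite.of_surjective (Ideal.Quotient.mkₐ K (RingHom.ker t)).toLinearMap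
      (Ideal.Quotient.mkₐ_surjective K _)
  letI : Field (B ⧸ RingHom.ker t) := Ideal.Quotient.field (RingHom.ker t)
  refine ⟨B ⧸ RingHom.ker t, inferInstance, inferInstance, hfin, hsep, Ideal.kerLiftAlg t,
    Ideal.Quotient.mkₐ K (RingHom.ker t), ?_⟩
  ext b
  rfl

theorem exists_factor (Y : FEt.Cat (Spec (CommRingCat.of K))) (s : FEt.fiberObj (xi K) Y) :
    ∃ (L : Type u) (_ : Field L) (_ : Algebra K L) (_ : FiniteDimensional K L)
      (_ : Algebra.IsSeparable K L) (j : L →ₐ[K] AlgebraicClosure K) (g : YL K L ⟶ Y),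
      (FEt.fiber (xi K)).map g (pt j) = s := by
  obtain ⟨s0, hs0⟩ := s
  let f : Y.left ⟶ Spec (CommRingCat.of K) := Y.hom
  haveI hfin : IsFinite f := Y.prop.1
  haveI het : Etale f := Y.prop.2
  haveI : IsAffine Y.left := isAffine_of_isAffineHom f
  let B : CommRingCat.{u} := Γ(Y.left, ⊤)
  let e : Y.left ≅ Spec B := Y.left.isoSpec
  let φ : CommRingCat.of K ⟶ B := (Scheme.ΓSpecIso (CommRingCat.of K)).inv ≫ f.appTop
  have hφ : e.inv ≫ f = Spec.map φ := by
    rw [Spec.map_comp, ← Scheme.isoSpec_Spec_inv, Scheme.isoSpec_inv_naturality]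
  letI : Algebra K B := φ.hom.toAlgebra
  have hfin' : φ.hom.Finite := by
    rw [← IsFinite.SpecMap_iff, ← hφ]; infer_instance
  have het' : φ.hom.Etale := by
    rw [← HasRingHomProperty.Spec_iff (P := @Etale), ← hφ]; infer_instance
  haveI : Module.Finite K B := hfin'
  haveI : Algebra.Etale K B := het'
  have hφ' : Spec.map (CommRingCat.ofHom (algebraMap K B)) = Spec.map φ := rfl
  have hs1 : (s0 ≫ e.hom) ≫ Spec.map (CommRingCat.ofHom (algebraMap K B)) =
      Spec.map (CommRingCat.ofHom (algebraMap K (AlgebraicClosure K))) := by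
    rw [hφ', ← hφ, Category.assoc, e.hom_inv_id_assoc]
    exact hs0
  obtain ⟨t, ht⟩ := exists_spec_eq (K := K) (A := B) (B := AlgebraicClosure K) (s0 ≫ e.hom) hs1
  obtain ⟨L, iF, iA, iFD, iS, j, q, hjq⟩ := exists_factor_field t
  have hg : (spec q ≫ e.inv) ≫ Y.hom = (YL K L).hom := by
    show (spec q ≫ e.inv) ≫ f = Spec.map (CommRingCat.ofHom (algebraMap K L))
    rw [Category.assoc, hφ, ← hφ']
    exact spec_algebraMap q
  refine ⟨L, iF, iA, iFD, iS, j, MorphismProperty.Over.homMk (spec q ≫ e.inv) hg trivial, ?_⟩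
  apply Subtype.ext
  show spec j ≫ (spec q ≫ e.inv) = s0
  rw [← Category.assoc, ← spec_comp, hjq, ht, Category.assoc, e.hom_inv_id, Category.comp_id]

end Groth.Agent.H75.GalFiber
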