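import Groth.Agent.H75.GalFiber3

/-!
# The fibre functor of `Spec K` at `Spec K̄` and the absolute Galois group (part 4: the
isomorphism `Gal(K̄/K) ≃* π₁(Spec K, Spec K̄)`)
-/

set_option autoImplicit false

universe u

open AlgebraicGeometry CategoryTheory CategoryTheory.Limits

namespace Groth.Agent.H75.GalFiber

variable {K : Type u} [Field K] (θ : Aut (FEt.fiber (xi K)))

theorem fs_fieldRange {L : Type u} [Field L] [Algebra K L] [FiniteDimensional K L]
    [Algebra.IsSeparable K L] (j : L →ₐ[K] AlgebraicClosure K) : FS j.fieldRange :=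
  ⟨Module.Finite.equiv j.equivFieldRange.toLinearEquiv,
    AlgEquiv.Algebra.isSeparable j.equivFieldRange⟩

theorem emb_eq_of_galois (σ : AlgebraicClosure K ≃ₐ[K] AlgebraicClosure K)
    (hσ : ∀ (L : IntermediateField K (AlgebraicClosure K)) (h : FS L) (x : AlgebraicClosure K)
        (hx : x ∈ L), σ x = embL θ L h ⟨x, hx⟩)
    {L : Type u} [Field L] [Algebra K L] [FiniteDimensional K L] [Algebra.IsSeparable K L]
    (j : L →ₐ[K] AlgebraicClosure K) :
    emb θ j = σ.toAlgHom.comp j := by
  have hL0 : FS j.fieldRange := fs_fieldRange j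
  haveI := hL0.1
  haveI := hL0.2
  have h1 : j.fieldRange.val.comp j.equivFieldRange.toAlgHom = j := by
    ext x
    rfl
  have h2 := emb_comp θ j.equivFieldRange.toAlgHom j.fieldRange.val
  rw [h1] at h2
  rw [h2]
  ext x
  exact (hσ j.fieldRange hL0 (j x) ⟨x, rfl⟩).symm

theorem actHom_surjective : Function.Surjective (actHom (K := K)) := by
  intro θ
  obtain ⟨σ, hσ⟩ := exists_galois θ
  refine ⟨σ, ?_⟩
  apply Aut.ext
  rw [actHom_hom]
  refine NatTrans.ext (funext fun Y => ConcreteCategory.hom_ext _ _ fun s => ?_)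
  obtain ⟨L, iF, iA, iFD, iS, j, g, rfl⟩ := exists_factor Y s
  rw [NatTrans.naturality_apply (act σ.toAlgHom) g (pt j),
    NatTrans.naturality_apply θ.hom g (pt j), act_pt, ← pt_emb, emb_eq_of_galois θ σ hσ j]

/-- the isomorphism `Gal(K̄/K) ≃* π₁(Spec K, Spec K̄)` -/
noncomputable def galEquiv :
    (AlgebraicClosure K ≃ₐ[K] AlgebraicClosure K) ≃* Aut (FEt.fiber (xi K)) :=
  MulEquiv.ofBijective actHom ⟨actHom_injective, actHom_surjective⟩

end Groth.Agent.H75.GalFiber
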