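import Mathlib

/-! Row-reduced (Hermite) form of a nonsingular matrix over `k⟦X⟧`: the row lattice. -/

set_option autoImplicit false
set_option maxHeartbeats 1000000
universe u

namespace Groth.Agent.H75.Hermite

open PowerSeries Matrix

variable {k : Type u} [Field k] {r : ℕ}

/-- membership in the row lattice of `M` -/
def InL (M : Matrix (Fin r) (Fin r) k⟦X⟧) (x : Fin r → k⟦X⟧) : Prop :=
  ∃ v : Fin r → k⟦X⟧, v ᵥ* M = x

theorem InL.zero (M : Matrix (Fin r) (Fin r) k⟦X⟧) : InL M 0 := ⟨0, Matrix.zero_vecMul M⟩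

theorem InL.add {M : Matrix (Fin r) (Fin r) k⟦X⟧} {x y : Fin r → k⟦X⟧} (hx : InL M x)
    (hy : InL M y) : InL M (x + y) := by
  obtain ⟨v, rfl⟩ := hx
  obtain ⟨w, rfl⟩ := hy
  exact ⟨v + w, Matrix.add_vecMul M v w⟩

theorem InL.sub {M : Matrix (Fin r) (Fin r) k⟦X⟧} {x y : Fin r → k⟦X⟧} (hx : InL M x)
    (hy : InL M y) : InL M (x - y) := by
  obtain ⟨v, rfl⟩ := hx
  obtain ⟨w, rfl⟩ := hy
  exact ⟨v - w, Matrix.sub_vecMul M v w⟩

theorem InL.smul {M : Matrix (Fin r) (Fin r) k⟦X⟧} {x : Fin r → k⟦X⟧} (c : k⟦X⟧) (hx : InL M x) :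
    InL M (c • x) := by
  obtain ⟨v, rfl⟩ := hx
  exact ⟨c • v, Matrix.smul_vecMul c v M⟩

theorem InL.row (M : Matrix (Fin r) (Fin r) k⟦X⟧) (i : Fin r) : InL M (M i) :=
  ⟨Pi.single i 1, by rw [Matrix.single_vecMul, one_smul]; rfl⟩

theorem InL.mul_row (N M : Matrix (Fin r) (Fin r) k⟦X⟧) (i : Fin r) : InL M ((N * M) i) := by
  refine ⟨N i, ?_⟩
  funext j
  simp only [Matrix.vecMul, dotProduct, Matrix.mul_apply]

/-- membership in the sublattice of vectors whose first `i` coordinates vanish -/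
def InLi (M : Matrix (Fin r) (Fin r) k⟦X⟧) (i : ℕ) (x : Fin r → k⟦X⟧) : Prop :=
  InL M x ∧ ∀ j : Fin r, (j : ℕ) < i → x j = 0

theorem InLi.mono {M : Matrix (Fin r) (Fin r) k⟦X⟧} {i i' : ℕ} (h : i' ≤ i) {x : Fin r → k⟦X⟧}
    (hx : InLi M i x) : InLi M i' x :=
  ⟨hx.1, fun j hj => hx.2 j (lt_of_lt_of_le hj h)⟩

theorem inL_single_det (M : Matrix (Fin r) (Fin r) k⟦X⟧) (i : Fin r) :
    InL M (Pi.single i M.det) := by
  refine ⟨fun j => adjugate M i j, ?_⟩
  funext l
  have h := congrFun (congrFun (Matrix.adjugate_mul M) i) l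
  simp only [Matrix.mul_apply, Matrix.smul_apply, Matrix.one_apply, smul_eq_mul] at h
  simp only [Matrix.vecMul, dotProduct]
  rw [h]
  by_cases hil : i = l
  · subst hil
    simp
  · rw [if_neg hil, mul_zero, Pi.single_apply, if_neg (Ne.symm hil)]

theorem exists_coeff_ne (M : Matrix (Fin r) (Fin r) k⟦X⟧) (hM : M.det ≠ 0) (i : Fin r) :
    ∃ n : ℕ, ∃ x, InLi M i x ∧ coeff n (x i) ≠ 0 := by
  obtain ⟨n, hn⟩ : ∃ n, coeff n M.det ≠ 0 := by
    by_contra hcon
    apply hM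
    ext n
    by_contra hne
    exact hcon ⟨n, by simpa using hne⟩
  refine ⟨n, Pi.single i M.det, ⟨inL_single_det M i, ?_⟩, ?_⟩
  · intro j hj
    rw [Pi.single_apply, if_neg]
    intro hji
    rw [hji] at hj
    exact lt_irrefl _ hj
  · simpa using hn

open Classical in
/-- the exponent of the `i`-th pivot -/
noncomputable def expo (M : Matrix (Fin r) (Fin r) k⟦X⟧) (hM : M.det ≠ 0) (i : Fin r) : ℕ :=
  Nat.find (exists_coeff_ne M hM i)

theorem dvd_of_inLi (M : Matrix (Fin r) (Fin r) k⟦X⟧) (hM : M.det ≠ 0) (i : Fin r)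
    (x : Fin r → k⟦X⟧) (hx : InLi M i x) : (X : k⟦X⟧) ^ expo M hM i ∣ x i := by
  classical
  rw [PowerSeries.X_pow_dvd_iff]
  intro m hm
  by_contra hne
  exact Nat.find_min (exists_coeff_ne M hM i) hm ⟨x, hx, hne⟩

theorem exists_pivot (M : Matrix (Fin r) (Fin r) k⟦X⟧) (hM : M.det ≠ 0) (i : Fin r) :
    ∃ h, InLi M i h ∧ h i = (X : k⟦X⟧) ^ expo M hM i := by
  classical
  obtain ⟨x, hx, hne⟩ := Nat.find_spec (exists_coeff_ne M hM i)
  obtain ⟨q, hq⟩ := dvd_of_inLi M hM i x hx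
  have hq0 : constantCoeff q ≠ 0 := by
    have : coeff (expo M hM i) (x i) = coeff 0 q := by
      rw [hq, PowerSeries.coeff_X_pow_mul', if_pos le_rfl, Nat.sub_self]
    rw [← PowerSeries.coeff_zero_eq_constantCoeff_apply, ← this]
    exact hne
  have hu : IsUnit q := PowerSeries.isUnit_iff_constantCoeff.mpr (isUnit_iff_ne_zero.mpr hq0)
  obtain ⟨u, rfl⟩ := hu
  refine ⟨(↑u⁻¹ : k⟦X⟧) • x, ⟨hx.1.smul _, ?_⟩, ?_⟩
  · intro j hj
    rw [Pi.smul_apply, hx.2 j hj, smul_zero]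
  · rw [Pi.smul_apply, hq, smul_eq_mul]
    calc (↑u⁻¹ : k⟦X⟧) * (X ^ expo M hM i * ↑u) = X ^ expo M hM i * (↑u⁻¹ * ↑u) := by ring
      _ = X ^ expo M hM i := by rw [Units.inv_mul, mul_one]

theorem exists_div_rem (f : k⟦X⟧) (e : ℕ) :
    ∃ q : k⟦X⟧, ∀ n, e ≤ n → coeff n (f - X ^ e * q) = 0 := by
  refine ⟨PowerSeries.mk fun n => coeff (n + e) f, ?_⟩
  intro n hn
  rw [map_sub, PowerSeries.coeff_X_pow_mul', if_pos hn, PowerSeries.coeff_mk,
    Nat.sub_add_cancel hn, sub_self]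

/-- reduction of an arbitrary vector modulo the sublattice `L_i` -/
theorem exists_reduce (M : Matrix (Fin r) (Fin r) k⟦X⟧) (hM : M.det ≠ 0) (d : ℕ) :
    ∀ i : ℕ, i + d = r → ∀ y : Fin r → k⟦X⟧, ∃ z, InLi M i z ∧
      ∀ j : Fin r, i ≤ (j : ℕ) → ∀ n, expo M hM j ≤ n → coeff n ((y - z) j) = 0 := by
  induction d with
  | zero =>
    intro i hi y
    refine ⟨0, ⟨InL.zero M, fun j _ => rfl⟩, ?_⟩
    intro j hj
    have := j.isLt
    omega
  | succ d ih =>
    intro i hi y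
    have hir : i < r := by omega
    set ii : Fin r := ⟨i, hir⟩ with hii
    obtain ⟨h, hh, hhi⟩ := exists_pivot M hM ii
    obtain ⟨q, hq⟩ := exists_div_rem (y ii) (expo M hM ii)
    obtain ⟨z₂, hz₂, hred⟩ := ih (i + 1) (by omega) (y - q • h)
    refine ⟨q • h + z₂, ⟨(hh.1.smul q).add hz₂.1, ?_⟩, ?_⟩
    · intro j hj
      rw [Pi.add_apply, Pi.smul_apply, hh.2 j hj, smul_zero, hz₂.2 j (by omega), add_zero]
    · intro j hj n hn
      by_cases hji : (j : ℕ) = i
      · have hjii : j = ii := Fin.ext hji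
        subst hjii
        have hz0 : z₂ ii = 0 := hz₂.2 ii (by simp [hii])
        have : (y - (q • h + z₂)) ii = y ii - X ^ expo M hM ii * q := by
          simp only [Pi.sub_apply, Pi.add_apply, Pi.smul_apply, smul_eq_mul, hz0, hhi, add_zero]
          ring
        rw [this]
        exact hq n hn
      · have := hred j (by omega) n hn
        have e : (y - (q • h + z₂)) j = (y - q • h - z₂) j := by
          simp only [Pi.sub_apply, Pi.add_apply]
          ring
        rw [e]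
        exact this

theorem exists_reduced_row (M : Matrix (Fin r) (Fin r) k⟦X⟧) (hM : M.det ≠ 0) (i : Fin r) :
    ∃ h, InLi M i h ∧ h i = (X : k⟦X⟧) ^ expo M hM i ∧
      ∀ j : Fin r, i < j → ∀ n, expo M hM j ≤ n → coeff n (h j) = 0 := by
  obtain ⟨h, hh, hhi⟩ := exists_pivot M hM i
  have hi := i.isLt
  obtain ⟨z, hz, hred⟩ := exists_reduce M hM (r - (i + 1)) (i + 1) (by omega) h
  refine ⟨h - z, ⟨hh.1.sub hz.1, ?_⟩, ?_, ?_⟩
  · intro j hj
    rw [Pi.sub_apply, hh.2 j hj, hz.2 j (by omega), sub_zero]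
  · rw [Pi.sub_apply, hz.2 i (by omega), sub_zero, hhi]
  · intro j hj n hn
    exact hred j (by have := Fin.lt_def.mp hj; omega) n hn

/-- rows with the right pivots span the lattice -/
theorem span_rows (M : Matrix (Fin r) (Fin r) k⟦X⟧) (hM : M.det ≠ 0)
    (H : Matrix (Fin r) (Fin r) k⟦X⟧) (hH : ∀ i : Fin r, InLi M i (H i))
    (hdiag : ∀ i, H i i = (X : k⟦X⟧) ^ expo M hM i) (d : ℕ) :
    ∀ i : ℕ, i + d = r → ∀ x, InLi M i x → ∃ c : Fin r → k⟦X⟧, c ᵥ* H = x := by
  induction d with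
  | zero =>
    intro i hi x hx
    refine ⟨0, ?_⟩
    rw [Matrix.zero_vecMul]
    funext j
    have := j.isLt
    rw [hx.2 j (by omega)]
    rfl
  | succ d ih =>
    intro i hi x hx
    have hir : i < r := by omega
    set ii : Fin r := ⟨i, hir⟩ with hii
    obtain ⟨q, hq⟩ := dvd_of_inLi M hM ii x hx
    have hx' : InLi M (i + 1) (x - q • H ii) := by
      refine ⟨hx.1.sub ((hH ii).1.smul q), ?_⟩
      intro j hj
      by_cases hji : (j : ℕ) = i
      · have hjii : j = ii := Fin.ext hji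
        subst hjii
        rw [Pi.sub_apply, Pi.smul_apply, hdiag, hq, smul_eq_mul]
        ring
      · rw [Pi.sub_apply, Pi.smul_apply, hx.2 j (by omega), (hH ii).2 j (by simp [hii]; omega),
          smul_zero, sub_zero]
    obtain ⟨c', hc'⟩ := ih (i + 1) (by omega) _ hx'
    refine ⟨c' + Pi.single ii q, ?_⟩
    rw [Matrix.add_vecMul, hc', Matrix.single_vecMul]
    funext j
    simp only [Pi.add_apply, Pi.sub_apply, Pi.smul_apply, Matrix.row]
    ring

theorem mul_right_cancel_of_det_ne_zero (M A B : Matrix (Fin r) (Fin r) k⟦X⟧) (hM : M.det ≠ 0)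
    (h : A * M = B * M) : A = B := by
  have h1 : A * M * adjugate M = B * M * adjugate M := by rw [h]
  rw [Matrix.mul_assoc, Matrix.mul_assoc, Matrix.mul_adjugate, Matrix.mul_smul, Matrix.mul_smul,
    Matrix.mul_one, Matrix.mul_one] at h1
  apply Matrix.ext
  intro i j
  have := congrFun (congrFun h1 i) j
  simp only [Matrix.smul_apply, smul_eq_mul] at this
  exact mul_left_cancel₀ hM this

/-- existence of the row-reduced form -/
theorem exists_rowReduced (M : Matrix (Fin r) (Fin r) k⟦X⟧) (hM : M.det ≠ 0) :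
    ∃ (H N : Matrix (Fin r) (Fin r) k⟦X⟧) (e : Fin r → ℕ), IsUnit N ∧ N * M = H ∧
      (∀ i, H i i = (X : k⟦X⟧) ^ e i) ∧ (∀ i j, j < i → H i j = 0) ∧
      (∀ i j, i < j → ∀ n, e j ≤ n → coeff n (H i j) = 0) := by
  choose h hh hdiag hred using exists_reduced_row M hM
  set H : Matrix (Fin r) (Fin r) k⟦X⟧ := Matrix.of h with hHdef
  have hHrow : ∀ i, H i = h i := fun i => rfl
  choose n hn using fun i => (hh i).1
  set N : Matrix (Fin r) (Fin r) k⟦X⟧ := Matrix.of n with hNdef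
  have hNM : N * M = H := by
    apply Matrix.ext
    intro i j
    have := congrFun (hn i) j
    simp only [Matrix.vecMul, dotProduct] at this
    rw [Matrix.mul_apply]
    exact this
  have hspan : ∀ i : Fin r, ∃ c : Fin r → k⟦X⟧, c ᵥ* H = M i := by
    intro i
    exact span_rows M hM H (fun i => hh i) hdiag r 0 (by omega) (M i)
      ⟨InL.row M i, fun j hj => absurd hj (Nat.not_lt_zero _)⟩
  choose c hc using hspan
  set N' : Matrix (Fin r) (Fin r) k⟦X⟧ := Matrix.of c with hN'def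
  have hN'H : N' * H = M := by
    apply Matrix.ext
    intro i j
    have := congrFun (hc i) j
    simp only [Matrix.vecMul, dotProduct] at this
    rw [Matrix.mul_apply]
    exact this
  have hone : N' * N = 1 := by
    apply mul_right_cancel_of_det_ne_zero M _ _ hM
    rw [Matrix.mul_assoc, hNM, hN'H, Matrix.one_mul]
  refine ⟨H, N, expo M hM, (Matrix.isUnit_iff_isUnit_det N).mpr (Matrix.isUnit_det_of_left_inverse hone), hNM, hdiag, ?_, ?_⟩
  · intro i j hji
    exact (hh i).2 j (Fin.lt_def.mp hji)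
  · intro i j hij n hn
    exact hred i j hij n hn

end Groth.Agent.H75.Hermite
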