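import Mathlib
import Groth.Agent.H75.Hermite

/-! Row-reduced form over `k⟦X⟧` with additional column operations over `k⟦X^p⟧`. -/

set_option autoImplicit false
set_option maxHeartbeats 1000000
universe u

namespace Groth.Agent.H75.Hermite

open PowerSeries Matrix

variable {k : Type u} [Field k] {r : ℕ}

/-- power series in `X^p` -/
def InS (p : ℕ) (f : k⟦X⟧) : Prop := ∀ n, ¬ p ∣ n → coeff n f = 0

theorem InS.zero (p : ℕ) : InS p (0 : k⟦X⟧) := fun n _ => by simp

theorem InS.one (p : ℕ) : InS p (1 : k⟦X⟧) := by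
  intro n hn
  rw [PowerSeries.coeff_one, if_neg]
  rintro rfl
  exact hn (dvd_zero p)

theorem InS.add {p : ℕ} {f g : k⟦X⟧} (hf : InS p f) (hg : InS p g) : InS p (f + g) := by
  intro n hn
  rw [map_add, hf n hn, hg n hn, add_zero]

theorem InS.mul {p : ℕ} {f g : k⟦X⟧} (hf : InS p f) (hg : InS p g) : InS p (f * g) := by
  intro n hn
  rw [PowerSeries.coeff_mul]
  apply Finset.sum_eq_zero
  rintro ⟨a, b⟩ hab
  rw [Finset.HasAntidiagonal.mem_antidiagonal] at hab
  simp only at hab ⊢
  by_cases ha : p ∣ a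
  · have hb : ¬ p ∣ b := by
      intro hb
      apply hn
      rw [← hab]
      exact dvd_add ha hb
    rw [hg b hb, mul_zero]
  · rw [hf a ha, zero_mul]

/-- the condition on a finalized entry above the diagonal -/
def Cond (p : ℕ) (H : Matrix (Fin r) (Fin r) k⟦X⟧) (e : Fin r → ℕ) (a b : Fin r) : Prop :=
  ∀ n, (e b ≤ n ∨ (e a ≤ n ∧ n % p = e a % p)) → coeff n (H a b) = 0

/-- the state of the reduction: entries in rows below `i`, and in row `i` left of column `j`,
are finalized -/
def Good (p : ℕ) (M : Matrix (Fin r) (Fin r) k⟦X⟧) (i j : ℕ) : Prop :=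
  ∃ (N P : Matrix (Fin r) (Fin r) k⟦X⟧) (e : Fin r → ℕ), IsUnit N ∧ IsUnit P ∧
    (∀ a b, InS p (P a b)) ∧ (∀ a, (N * M * P) a a = (X : k⟦X⟧) ^ e a) ∧
    (∀ a b, b < a → (N * M * P) a b = 0) ∧
    ∀ a b : Fin r, a < b → (i < (a : ℕ) ∨ ((a : ℕ) = i ∧ (b : ℕ) < j)) → Cond p (N * M * P) e a b

theorem exists_kill (p : ℕ) (g : k⟦X⟧) (e : ℕ) :
    ∃ s : k⟦X⟧, InS p s ∧ ∀ n, coeff n (g + s * X ^ e) =
      if e ≤ n ∧ n % p = e % p then 0 else coeff n g := by
  refine ⟨-PowerSeries.mk fun m => if p ∣ m then coeff (m + e) g else 0, ?_, ?_⟩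
  · intro n hn
    rw [map_neg, PowerSeries.coeff_mk, if_neg hn, neg_zero]
  · intro n
    rw [map_add, mul_comm, PowerSeries.coeff_X_pow_mul']
    by_cases hen : e ≤ n
    · rw [if_pos hen, map_neg, PowerSeries.coeff_mk, Nat.sub_add_cancel hen]
      have hiff : p ∣ n - e ↔ n % p = e % p := by
        rw [← Nat.modEq_iff_dvd' hen]
        exact ⟨fun h => h.symm, fun h => h.symm⟩
      by_cases hp : p ∣ n - e
      · rw [if_pos hp, if_pos ⟨hen, hiff.mp hp⟩, add_neg_cancel]
      · rw [if_neg hp, if_neg (fun h => hp (hiff.mpr h.2)), neg_zero, add_zero]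
    · rw [if_neg hen, if_neg (fun h => hen h.1), add_zero]

theorem isUnit_transvection (a b : Fin r) (hab : a ≠ b) (c : k⟦X⟧) :
    IsUnit (transvection a b c) := by
  rw [Matrix.isUnit_iff_isUnit_det, det_transvection_of_ne a b hab]
  exact isUnit_one

theorem good_step (p : ℕ) (M : Matrix (Fin r) (Fin r) k⟦X⟧) (i j : ℕ) (hij : i < j) (hj : j < r)
    (h : Good p M i j) : Good p M i (j + 1) := by
  obtain ⟨N, P, e, hN, hP, hPS, hdiag, hlow, hfin⟩ := h
  have hi : i < r := by omega
  set ii : Fin r := ⟨i, hi⟩ with hii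
  set jj : Fin r := ⟨j, hj⟩ with hjj
  have hiijj : ii < jj := Fin.mk_lt_mk.mpr hij
  have hne : ii ≠ jj := ne_of_lt hiijj
  set H := N * M * P with hH
  obtain ⟨q, hq⟩ := exists_div_rem (H ii jj) (e jj)
  set g := H ii jj - X ^ e jj * q with hg
  obtain ⟨s, hsS, hs⟩ := exists_kill p g (e ii)
  set T₁ := transvection ii jj (-q) with hT₁
  set T₂ := transvection ii jj s with hT₂
  set K := T₁ * H with hK
  have hKii : ∀ b, K ii b = H ii b + (-q) * H jj b := fun b =>
    transvection_mul_apply_same ii jj b (-q) H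
  have hKne : ∀ a b, a ≠ ii → K a b = H a b := fun a b ha =>
    transvection_mul_apply_of_ne ii jj a b ha (-q) H
  have hKTjj : ∀ a, (K * T₂) a jj = K a jj + s * K a ii := fun a =>
    mul_transvection_apply_same ii jj a s K
  have hKTne : ∀ a b, b ≠ jj → (K * T₂) a b = K a b := fun a b hb =>
    mul_transvection_apply_of_ne ii jj a b hb s K
  have hH' : T₁ * N * M * (P * T₂) = K * T₂ := by
    simp only [hK, hH, Matrix.mul_assoc]
  refine ⟨T₁ * N, P * T₂, e, (isUnit_transvection ii jj hne _).mul hN,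
    hP.mul (isUnit_transvection ii jj hne _), ?_, ?_, ?_, ?_⟩
  · -- entries of the column transformation
    intro a b
    by_cases hb : b = jj
    · subst hb
      rw [mul_transvection_apply_same]
      exact (hPS a jj).add (hsS.mul (hPS a ii))
    · rw [mul_transvection_apply_of_ne ii jj a b hb]
      exact hPS a b
  · -- diagonal
    intro a
    rw [hH']
    by_cases ha : a = jj
    · subst ha
      rw [hKTjj, hKne jj jj (Ne.symm hne), hKne jj ii (Ne.symm hne), hlow jj ii hiijj, mul_zero,
        add_zero, hdiag]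
    · rw [hKTne a a ha]
      by_cases ha' : a = ii
      · subst ha'
        rw [hKii, hlow jj ii hiijj, mul_zero, add_zero, hdiag]
      · rw [hKne a a ha', hdiag]
  · -- below the diagonal
    intro a b hba
    rw [hH']
    by_cases hb : b = jj
    · subst hb
      have haii : a ≠ ii := by
        intro h'
        rw [h'] at hba
        exact absurd (lt_trans hba hiijj) (lt_irrefl _)
      rw [hKTjj, hKne a jj haii, hKne a ii haii, hlow a jj hba, hlow a ii (lt_trans hiijj hba),
        mul_zero, add_zero]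
    · rw [hKTne a b hb]
      by_cases ha' : a = ii
      · subst ha'
        rw [hKii, hlow ii b hba, hlow jj b (lt_trans hba hiijj), mul_zero, add_zero]
      · rw [hKne a b ha', hlow a b hba]
  · -- finalized entries
    intro a b hab hfinal
    rw [hH']
    by_cases hnew : a = ii ∧ b = jj
    · obtain ⟨rfl, rfl⟩ := hnew
      have hentry : (K * T₂) ii jj = g + s * X ^ e ii := by
        rw [hKTjj, hKii, hKii, hdiag, hdiag, hlow jj ii hiijj, hg]
        ring
      intro n hn
      rw [hentry, hs n]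
      by_cases hc : e ii ≤ n ∧ n % p = e ii % p
      · rw [if_pos hc]
      · rw [if_neg hc]
        rcases hn with hn | hn
        · exact hq n hn
        · exact absurd hn hc
    · have hunch : (K * T₂) a b = H a b := by
        by_cases hb : b = jj
        · subst hb
          have haii : a ≠ ii := fun h' => hnew ⟨h', rfl⟩
          have hia : ii < a := by
            rcases hfinal with h1 | h1
            · exact Fin.lt_def.mpr h1
            · exact absurd (Fin.ext h1.1) haii
          rw [hKTjj, hKne a jj haii, hKne a ii haii, hlow a ii hia, mul_zero, add_zero]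
        · rw [hKTne a b hb]
          by_cases ha' : a = ii
          · subst ha'
            have hbj : b < jj := by
              rcases hfinal with h1 | h1
              · exact absurd h1 (lt_irrefl _)
              · have h2 : (b : ℕ) ≠ j := fun h' => hb (Fin.ext h')
                have h3 : (b : ℕ) < j := by omega
                exact Fin.lt_def.mpr h3
            rw [hKii, hlow jj b hbj, mul_zero, add_zero]
          · rw [hKne a b ha']
      have hold : i < (a : ℕ) ∨ ((a : ℕ) = i ∧ (b : ℕ) < j) := by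
        rcases hfinal with h1 | h1
        · exact Or.inl h1
        · right
          refine ⟨h1.1, ?_⟩
          have h2 : (b : ℕ) ≠ j := by
            intro h'
            exact hnew ⟨Fin.ext h1.1, Fin.ext h'⟩
          omega
      intro n hn
      rw [hunch]
      exact hfin a b hab hold n hn

theorem good_base (p : ℕ) (M : Matrix (Fin r) (Fin r) k⟦X⟧) (hM : M.det ≠ 0) : Good p M r 0 := by
  obtain ⟨H, N, e, hN, hNM, hd, hl, _⟩ := exists_rowReduced M hM
  refine ⟨N, 1, e, hN, isUnit_one, ?_, ?_, ?_, ?_⟩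
  · intro a b
    rw [Matrix.one_apply]
    split_ifs
    · exact InS.one p
    · exact InS.zero p
  · intro a
    rw [Matrix.mul_one, hNM]
    exact hd a
  · intro a b hba
    rw [Matrix.mul_one, hNM]
    exact hl a b hba
  · intro a b _ hfinal
    have := a.isLt
    omega

theorem good_succ (p : ℕ) (M : Matrix (Fin r) (Fin r) k⟦X⟧) (i j : ℕ) (h : Good p M i j) :
    Good p M i (j + 1) := by
  by_cases hcase : i < j ∧ j < r
  · exact good_step p M i j hcase.1 hcase.2 h
  · obtain ⟨N, P, e, hN, hP, hPS, hdiag, hlow, hfin⟩ := h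
    refine ⟨N, P, e, hN, hP, hPS, hdiag, hlow, ?_⟩
    intro a b hab hfinal
    apply hfin a b hab
    rcases hfinal with h1 | h1
    · exact Or.inl h1
    · right
      refine ⟨h1.1, ?_⟩
      have hab' : (a : ℕ) < (b : ℕ) := Fin.lt_def.mp hab
      have hb := b.isLt
      by_contra hnot
      apply hcase
      constructor <;> omega

theorem good_row (p : ℕ) (M : Matrix (Fin r) (Fin r) k⟦X⟧) (i : ℕ) (h : Good p M i 0) :
    ∀ j, Good p M i j := by
  intro j
  induction j with
  | zero => exact h
  | succ j ih => exact good_succ p M i j ih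

theorem good_wrap (p : ℕ) (M : Matrix (Fin r) (Fin r) k⟦X⟧) (i : ℕ) (h : Good p M (i + 1) r) :
    Good p M i 0 := by
  obtain ⟨N, P, e, hN, hP, hPS, hdiag, hlow, hfin⟩ := h
  refine ⟨N, P, e, hN, hP, hPS, hdiag, hlow, ?_⟩
  intro a b hab hfinal
  apply hfin a b hab
  have hb := b.isLt
  rcases hfinal with h1 | h1
  · by_cases h2 : (a : ℕ) = i + 1
    · exact Or.inr ⟨h2, hb⟩
    · left
      omega
  · exact absurd h1.2 (Nat.not_lt_zero _)

theorem good_all (p : ℕ) (M : Matrix (Fin r) (Fin r) k⟦X⟧) (hM : M.det ≠ 0) :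
    ∀ d, d ≤ r → Good p M (r - d) 0 := by
  intro d
  induction d with
  | zero =>
    intro _
    exact good_base p M hM
  | succ d ih =>
    intro hd
    have h1 := good_row p M (r - d) (ih (by omega)) r
    have e : r - d = (r - (d + 1)) + 1 := by omega
    rw [e] at h1
    exact good_wrap p M _ h1

theorem exists_rowReduced_col (p : ℕ) (M : Matrix (Fin r) (Fin r) k⟦X⟧) (hM : M.det ≠ 0) :
    ∃ (N P : Matrix (Fin r) (Fin r) k⟦X⟧) (e : Fin r → ℕ), IsUnit N ∧ IsUnit P ∧
      (∀ i j n, ¬ p ∣ n → coeff n (P i j) = 0) ∧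
      (∀ i, (N * M * P) i i = (X : k⟦X⟧) ^ e i) ∧ (∀ i j, j < i → (N * M * P) i j = 0) ∧
      (∀ i j, i < j → ∀ n, (e j ≤ n ∨ (e i ≤ n ∧ n % p = e i % p)) →
        coeff n ((N * M * P) i j) = 0) := by
  have h0 := good_all p M hM r le_rfl
  rw [Nat.sub_self] at h0
  obtain ⟨N, P, e, hN, hP, hPS, hdiag, hlow, hfin⟩ := good_row p M 0 h0 r
  refine ⟨N, P, e, hN, hP, fun i j n hn => hPS i j n hn, hdiag, hlow, ?_⟩
  intro i j hij n hn
  apply hfin i j hij _ n hn
  have hj := j.isLt
  by_cases h0 : (i : ℕ) = 0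
  · exact Or.inr ⟨h0, hj⟩
  · left
    omega

end Groth.Agent.H75.Hermite
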