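import Mathlib
import Groth.Agent.H75.Hermite

/-! Uniqueness of the row-reduced (Hermite) form over `k⟦X⟧`. -/

set_option autoImplicit false
set_option maxHeartbeats 1000000
universe u

namespace Groth.Agent.H75.Hermite

open PowerSeries Matrix

variable {k : Type u} [Field k] {r : ℕ}

theorem dvd_of_reduced (M H N : Matrix (Fin r) (Fin r) k⟦X⟧) (e : Fin r → ℕ) (hN : IsUnit N)
    (hNM : N * M = H) (hdiag : ∀ i, H i i = (X : k⟦X⟧) ^ e i) (hlow : ∀ i j, j < i → H i j = 0)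
    (x : Fin r → k⟦X⟧) (hx : InL M x) (i : Fin r) (hx0 : ∀ j : Fin r, j < i → x j = 0) :
    (X : k⟦X⟧) ^ e i ∣ x i := by
  obtain ⟨v, hv⟩ := hx
  have hdet : IsUnit N.det := (Matrix.isUnit_iff_isUnit_det N).mp hN
  have hM : M = N⁻¹ * H := by
    rw [← hNM, ← Matrix.mul_assoc, Matrix.nonsing_inv_mul N hdet, Matrix.one_mul]
  set c := v ᵥ* N⁻¹ with hc
  have hcx : c ᵥ* H = x := by
    rw [hc, Matrix.vecMul_vecMul, ← hM, hv]
  have key : ∀ j : Fin r, (∀ l : Fin r, l < j → c l = 0) → x j = c j * X ^ e j := by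
    intro j hl
    have h1 : x j = ∑ l, c l * H l j := by
      rw [← hcx]
      simp only [Matrix.vecMul, dotProduct]
    rw [h1, Finset.sum_eq_single j, hdiag]
    · intro l _ hne
      rcases lt_or_gt_of_ne hne with hlt | hgt
      · rw [hl l hlt, zero_mul]
      · rw [hlow l j hgt, mul_zero]
    · intro hj
      exact absurd (Finset.mem_univ j) hj
  have hc0 : ∀ n : ℕ, ∀ j : Fin r, (j : ℕ) = n → j < i → c j = 0 := by
    intro n
    induction n using Nat.strong_induction_on with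
    | _ n ih =>
      intro j hjn hji
      have hlt : ∀ l : Fin r, l < j → c l = 0 := fun l hl =>
        ih l (by rw [← hjn]; exact hl) l rfl (lt_trans hl hji)
      have h := key j hlt
      rw [hx0 j hji] at h
      exact (mul_eq_zero.mp h.symm).resolve_right (pow_ne_zero _ PowerSeries.X_ne_zero)
  have h := key i (fun l hl => hc0 l l rfl hl)
  exact ⟨c i, by rw [h, mul_comm]⟩

theorem le_of_X_pow_dvd {a b : ℕ} (h : (X : k⟦X⟧) ^ a ∣ X ^ b) : a ≤ b := by
  by_contra hlt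
  rw [not_le] at hlt
  have := (PowerSeries.X_pow_dvd_iff.mp h) b hlt
  rw [PowerSeries.coeff_X_pow, if_pos rfl] at this
  exact one_ne_zero this

theorem rowReduced_unique (M H₁ H₂ N₁ N₂ : Matrix (Fin r) (Fin r) k⟦X⟧) (e₁ e₂ : Fin r → ℕ)
    (hN₁ : IsUnit N₁) (h₁ : N₁ * M = H₁) (d₁ : ∀ i, H₁ i i = (X : k⟦X⟧) ^ e₁ i)
    (l₁ : ∀ i j, j < i → H₁ i j = 0)
    (u₁ : ∀ i j, i < j → ∀ n, e₁ j ≤ n → coeff n (H₁ i j) = 0)
    (hN₂ : IsUnit N₂) (h₂ : N₂ * M = H₂) (d₂ : ∀ i, H₂ i i = (X : k⟦X⟧) ^ e₂ i)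
    (l₂ : ∀ i j, j < i → H₂ i j = 0)
    (u₂ : ∀ i j, i < j → ∀ n, e₂ j ≤ n → coeff n (H₂ i j) = 0) : H₁ = H₂ := by
  have hrow₁ : ∀ i, InL M (H₁ i) := fun i => by rw [← h₁]; exact InL.mul_row N₁ M i
  have hrow₂ : ∀ i, InL M (H₂ i) := fun i => by rw [← h₂]; exact InL.mul_row N₂ M i
  have he : ∀ i, e₁ i = e₂ i := by
    intro i
    apply le_antisymm
    · have := dvd_of_reduced M H₁ N₁ e₁ hN₁ h₁ d₁ l₁ (H₂ i) (hrow₂ i) i (fun j hj => l₂ i j hj)
      rw [d₂] at this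
      exact le_of_X_pow_dvd this
    · have := dvd_of_reduced M H₂ N₂ e₂ hN₂ h₂ d₂ l₂ (H₁ i) (hrow₁ i) i (fun j hj => l₁ i j hj)
      rw [d₁] at this
      exact le_of_X_pow_dvd this
  apply Matrix.ext
  intro i
  have hd : InL M (H₂ i - H₁ i) := (hrow₂ i).sub (hrow₁ i)
  have hz : ∀ n : ℕ, ∀ j : Fin r, (j : ℕ) = n → (H₂ i - H₁ i) j = 0 := by
    intro n
    induction n using Nat.strong_induction_on with
    | _ n ih =>
      intro j hjn
      rcases lt_trichotomy j i with hji | hji | hji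
      · rw [Pi.sub_apply, l₁ i j hji, l₂ i j hji, sub_zero]
      · subst hji
        rw [Pi.sub_apply, d₁, d₂, he, sub_self]
      · have hzero : ∀ l : Fin r, l < j → (H₂ i - H₁ i) l = 0 := fun l hl =>
          ih l (by rw [← hjn]; exact hl) l rfl
        have hdvd := dvd_of_reduced M H₁ N₁ e₁ hN₁ h₁ d₁ l₁ _ hd j hzero
        ext m
        rw [map_zero]
        by_cases hm : m < e₁ j
        · exact (PowerSeries.X_pow_dvd_iff.mp hdvd) m hm
        · rw [not_lt] at hm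
          rw [Pi.sub_apply, map_sub, u₁ i j hji m hm, u₂ i j hji m (by rw [← he]; exact hm),
            sub_zero]
  intro j
  have := hz j j rfl
  rw [Pi.sub_apply, sub_eq_zero] at this
  exact this.symm

end Groth.Agent.H75.Hermite
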