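import Groth.Agent.H75.PSDvd

set_option autoImplicit false
universe u

namespace Groth.Agent.H75

open PowerSeries

variable {k : Type u} [Field k]

theorem hz_mem_ideal_of_order_ge (s : ℕ) (R : Subalgebra k (Fin s → PowerSeries k))
    (c : Fin s → ℕ)
    (hc : ∀ f : Fin s → PowerSeries k, (∀ i, ((c i : ℕ) : ℕ∞) ≤ (f i).order) →
      ∀ g : Fin s → PowerSeries k, g * f ∈ R)
    (J : Ideal ↥R) (l : Fin s → ℕ)
    (hl : ∀ i : Fin s, ∃ f ∈ J, ((f : Fin s → PowerSeries k) i).order = ((l i : ℕ) : ℕ∞))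
    (g : Fin s → PowerSeries k) (hg : ∀ i : Fin s, ((l i + c i : ℕ) : ℕ∞) ≤ (g i).order) :
    ∃ hgR : g ∈ R, (⟨g, hgR⟩ : ↥R) ∈ J := by
  classical
  choose f hfJ hfo using hl
  have hw : ∀ i, ∃ w : PowerSeries k, ((c i : ℕ) : ℕ∞) ≤ PowerSeries.order w ∧
      w * ((f i : Fin s → PowerSeries k) i) = g i := fun i =>
    exists_mul_eq_of_order_add_le _ _ (l i) (c i) (hfo i) (hg i)
  choose w hwo hwg using hw
  have hWR : ∀ i, (Pi.single i (w i) : Fin s → PowerSeries k) ∈ R := by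
    intro i
    have := hc (Pi.single i (w i)) (fun j => by
      by_cases hj : j = i
      · subst hj; simpa using hwo j
      · simp [Pi.single_eq_of_ne hj]) 1
    simpa using this
  let r : ↥R := ∑ i, (⟨Pi.single i (w i), hWR i⟩ : ↥R) * f i
  have hrJ : r ∈ J := J.sum_mem (fun i _ => J.mul_mem_left _ (hfJ i))
  have hr : (r : Fin s → PowerSeries k) = g := by
    funext j
    have h1 : (r : Fin s → PowerSeries k) =
        ∑ i, (Pi.single i (w i) : Fin s → PowerSeries k) * (f i : Fin s → PowerSeries k) := by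
      simp [r]
    rw [h1, Finset.sum_apply, Finset.sum_eq_single j]
    · simp [hwg j]
    · intro b _ hb
      simp [Pi.single_eq_of_ne hb.symm]
    · intro h
      exact absurd (Finset.mem_univ j) h
  refine ⟨hr ▸ r.2, ?_⟩
  have : (⟨g, hr ▸ r.2⟩ : ↥R) = r := Subtype.ext hr.symm
  rw [this]
  exact hrJ

theorem X_pow_dvd_iff_le_order (p : PowerSeries k) (n : ℕ) :
    (PowerSeries.X : PowerSeries k) ^ n ∣ p ↔ (n : ℕ∞) ≤ PowerSeries.order p := by
  rw [PowerSeries.X_pow_dvd_iff]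
  constructor
  · intro h
    exact PowerSeries.nat_le_order p n h
  · intro h m hm
    apply PowerSeries.coeff_of_lt_order
    exact lt_of_lt_of_le (by exact_mod_cast hm) h

theorem hz_branch (s : ℕ) (R : Subalgebra k (Fin s → PowerSeries k))
    (I : Ideal ↥R) (a : Fin s → ℕ)
    (ha : (∀ i : Fin s, Ideal.map ((Pi.evalAlgHom k (fun _ : Fin s => PowerSeries k) i).comp R.val) I
      = Ideal.span {PowerSeries.X ^ (a i)})) :
    (∀ f ∈ I, ∀ i : Fin s, ((a i : ℕ) : ℕ∞) ≤ ((f : Fin s → PowerSeries k) i).order) ∧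
    (∀ i : Fin s, ∃ f ∈ I, ((f : Fin s → PowerSeries k) i).order = ((a i : ℕ) : ℕ∞)) := by
  have h1 : ∀ f ∈ I, ∀ i : Fin s, ((a i : ℕ) : ℕ∞) ≤ ((f : Fin s → PowerSeries k) i).order := by
    intro f hf i
    have := Ideal.mem_map_of_mem ((Pi.evalAlgHom k (fun _ : Fin s => PowerSeries k) i).comp R.val) hf
    rw [ha i, Ideal.mem_span_singleton] at this
    rw [← X_pow_dvd_iff_le_order]
    exact this
  refine ⟨h1, ?_⟩
  intro i
  by_contra hno
  push Not at hno
  have h2 : ∀ f ∈ I, (((a i + 1 : ℕ)) : ℕ∞) ≤ ((f : Fin s → PowerSeries k) i).order := by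
    intro f hf
    have h3 := h1 f hf i
    have h4 := hno f hf
    have : ((a i : ℕ) : ℕ∞) < ((f : Fin s → PowerSeries k) i).order := lt_of_le_of_ne h3 (Ne.symm h4)
    exact Order.add_one_le_of_lt this
  have h5 : Ideal.map ((Pi.evalAlgHom k (fun _ : Fin s => PowerSeries k) i).comp R.val) I ≤
      Ideal.span {PowerSeries.X ^ (a i + 1)} := by
    rw [Ideal.map_le_iff_le_comap]
    intro f hf
    rw [Ideal.mem_comap, Ideal.mem_span_singleton, X_pow_dvd_iff_le_order]
    exact h2 f hf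
  rw [ha i, Ideal.span_singleton_le_iff_mem, Ideal.mem_span_singleton, X_pow_dvd_iff_le_order,
    PowerSeries.order_X_pow] at h5
  have : a i + 1 ≤ a i := by exact_mod_cast h5
  omega

end Groth.Agent.H75
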