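import Groth.Agent.H75.HilbZeta
import Groth.Agent.H75.PSGaps

set_option autoImplicit false
universe u

namespace Groth.Agent.H75

open PowerSeries

section general
variable {k : Type u} [Field k]
variable {N M P : Type u} [AddCommGroup N] [AddCommGroup M] [AddCommGroup P]
  [Module k N] [Module k M] [Module k P]

theorem finrank_add_of_exact [Module.Finite k M] (f : N →ₗ[k] M) (g : M →ₗ[k] P)
    (hf : Function.Injective f) (hg : Function.Surjective g) (H : Function.Exact f g) :
    Module.finrank k M = Module.finrank k N + Module.finrank k P := by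
  have : Module.Finite k N := Module.Finite.of_injective f hf
  have : Module.Finite k P := Module.Finite.of_surjective g hg
  have := Module.length_eq_add_of_exact f g hf hg H
  rw [Module.length_eq_finrank, Module.length_eq_finrank, Module.length_eq_finrank] at this
  exact_mod_cast this

/-- quotient by a bigger submodule is smaller -/
theorem finrank_quot_le_of_le (A B : Submodule k M) (h : A ≤ B) [Module.Finite k (M ⧸ A)] :
    Module.Finite k (M ⧸ B) ∧ Module.finrank k (M ⧸ B) ≤ Module.finrank k (M ⧸ A) ∧
      (A ≠ B → Module.finrank k (M ⧸ B) < Module.finrank k (M ⧸ A)) := by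
  let g : (M ⧸ A) →ₗ[k] (M ⧸ B) := Submodule.mapQ A B LinearMap.id (by simpa using h)
  have hg : Function.Surjective g := by
    intro y
    obtain ⟨m, rfl⟩ := B.mkQ_surjective y
    exact ⟨A.mkQ m, rfl⟩
  have : Module.Finite k (M ⧸ B) := Module.Finite.of_surjective g hg
  have h1 := LinearMap.finrank_range_add_finrank_ker g
  rw [LinearMap.range_eq_top.mpr hg, finrank_top] at h1
  refine ⟨inferInstance, by omega, ?_⟩
  intro hne
  have hpos : 0 < Module.finrank k (LinearMap.ker g) := by
    rw [Module.finrank_pos_iff_exists_ne_zero]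
    obtain ⟨b, hbB, hbA⟩ : ∃ b ∈ B, b ∉ A := by
      by_contra hno
      push Not at hno
      exact hne (le_antisymm h hno)
    refine ⟨⟨A.mkQ b, ?_⟩, ?_⟩
    · rw [LinearMap.mem_ker]
      show B.mkQ b = 0
      simpa using hbB
    · intro h0
      have : A.mkQ b = 0 := congrArg Subtype.val h0
      rw [Submodule.mkQ_apply, Submodule.Quotient.mk_eq_zero] at this
      exact hbA this
  omega

end general

variable {k : Type u} [Field k]

/-- power series of order at least `n` -/
def ordGE (k : Type u) [Field k] (n : ℕ) : Submodule k (PowerSeries k) where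
  carrier := {p | (n : ℕ∞) ≤ PowerSeries.order p}
  zero_mem' := by simp
  add_mem' := by
    intro a b ha hb
    exact le_trans (le_min ha hb) (PowerSeries.min_order_le_order_add a b)
  smul_mem' := by
    intro c x hx
    exact le_trans hx PowerSeries.le_order_smul

theorem mem_ordGE (n : ℕ) (p : PowerSeries k) : p ∈ ordGE k n ↔ (n : ℕ∞) ≤ PowerSeries.order p :=
  Iff.rfl

theorem finrank_quot_ordGE (n : ℕ) : Module.finrank k (PowerSeries k ⧸ ordGE k n) = n := by
  have h := finrank_quot_eq_ncard_gaps (ordGE k n) n (fun h hh => hh) {m | n ≤ m} (by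
    intro m
    constructor
    · intro hm
      refine ⟨PowerSeries.X ^ m, ?_, PowerSeries.order_X_pow m⟩
      rw [mem_ordGE, PowerSeries.order_X_pow]
      exact_mod_cast hm
    · rintro ⟨f, hf, hfo⟩
      rw [mem_ordGE, hfo] at hf
      exact_mod_cast hf)
  rw [h]
  have : ({m | n ≤ m} : Set ℕ)ᶜ = Set.Iio n := by
    ext m
    simp
  rw [this]
  simp [Set.ncard_eq_toFinset_card']

instance finite_quot_ordGE (n : ℕ) : Module.Finite k (PowerSeries k ⧸ ordGE k n) := by
  rcases Nat.eq_zero_or_pos n with h | h
  · subst h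
    have : ordGE k 0 = ⊤ := by
      ext p
      simp [mem_ordGE]
    rw [this]
    infer_instance
  · exact Module.finite_of_finrank_pos (by rw [finrank_quot_ordGE]; exact h)

/-- tuples with prescribed minimal orders -/
def piOrdGE (k : Type u) [Field k] {s : ℕ} (a : Fin s → ℕ) : Submodule k (Fin s → PowerSeries k) :=
  Submodule.pi Set.univ (fun i => ordGE k (a i))

theorem mem_piOrdGE {s : ℕ} (a : Fin s → ℕ) (p : Fin s → PowerSeries k) :
    p ∈ piOrdGE k a ↔ ∀ i, ((a i : ℕ) : ℕ∞) ≤ PowerSeries.order (p i) := by
  simp [piOrdGE, Submodule.mem_pi, mem_ordGE]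

instance finite_quot_piOrdGE {s : ℕ} (a : Fin s → ℕ) :
    Module.Finite k ((Fin s → PowerSeries k) ⧸ piOrdGE k a) :=
  Module.Finite.equiv (Submodule.quotientPi (fun i => ordGE k (a i))).symm

theorem finrank_quot_piOrdGE {s : ℕ} (a : Fin s → ℕ) :
    Module.finrank k ((Fin s → PowerSeries k) ⧸ piOrdGE k a) = ∑ i, a i := by
  unfold piOrdGE
  rw [LinearEquiv.finrank_eq (Submodule.quotientPi (fun i => ordGE k (a i))),
    Module.finrank_pi_fintype]
  simp [finrank_quot_ordGE]

end Groth.Agent.H75
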