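import Groth.Agent.H75.HilbZeta2

set_option autoImplicit false
universe u

namespace Groth.Agent.H75

open PowerSeries

variable {k : Type u} [Field k] {P : Type u} [CommRing P] [Algebra k P]

/-- the ideal `I` of the subalgebra `R`, as a `k`-subspace of the ambient algebra -/
def idealImage (R : Subalgebra k P) (I : Ideal ↥R) : Submodule k P :=
  Submodule.map R.val.toLinearMap (I.restrictScalars k)

theorem mem_idealImage (R : Subalgebra k P) (I : Ideal ↥R) (p : P) :
    p ∈ idealImage R I ↔ ∃ h : p ∈ R, (⟨p, h⟩ : ↥R) ∈ I := by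
  unfold idealImage
  rw [Submodule.mem_map]
  constructor
  · rintro ⟨r, hr, rfl⟩
    exact ⟨r.2, hr⟩
  · rintro ⟨h, hI⟩
    exact ⟨⟨p, h⟩, hI, rfl⟩

theorem idealImage_le (R : Subalgebra k P) (I : Ideal ↥R) :
    idealImage R I ≤ Subalgebra.toSubmodule R := by
  intro p hp
  obtain ⟨h, _⟩ := (mem_idealImage R I p).mp hp
  exact h

theorem hz_finrank_add (R : Subalgebra k P) (I : Ideal ↥R)
    [Module.Finite k (P ⧸ idealImage R I)] :
    Module.finrank k (P ⧸ idealImage R I) =
      Module.finrank k (↥R ⧸ I) + Module.finrank k (P ⧸ Subalgebra.toSubmodule R) := by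
  let j0 : (↥R ⧸ I.restrictScalars k) →ₗ[k] (P ⧸ idealImage R I) :=
    Submodule.mapQ (I.restrictScalars k) (idealImage R I) R.val.toLinearMap (by
      intro r hr
      rw [Submodule.mem_comap, mem_idealImage]
      exact ⟨r.2, hr⟩)
  let j : (↥R ⧸ I) →ₗ[k] (P ⧸ idealImage R I) :=
    j0 ∘ₗ (Submodule.Quotient.restrictScalarsEquiv k I).symm.toLinearMap
  let g : (P ⧸ idealImage R I) →ₗ[k] (P ⧸ Subalgebra.toSubmodule R) :=
    Submodule.mapQ _ _ LinearMap.id (by simpa using idealImage_le R I)
  have hjmk : ∀ r : ↥R, j (Submodule.Quotient.mk r) = (idealImage R I).mkQ (r : P) := by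
    intro r
    rfl
  have hgmk : ∀ p : P, g ((idealImage R I).mkQ p) = (Subalgebra.toSubmodule R).mkQ p := by
    intro p
    rfl
  have hj : Function.Injective j := by
    rw [← LinearMap.ker_eq_bot, LinearMap.ker_eq_bot']
    intro x hx
    obtain ⟨r, rfl⟩ := Submodule.Quotient.mk_surjective _ x
    rw [hjmk, Submodule.mkQ_apply, Submodule.Quotient.mk_eq_zero, mem_idealImage] at hx
    obtain ⟨_, hI⟩ := hx
    rw [Submodule.Quotient.mk_eq_zero]
    exact hI
  have hg : Function.Surjective g := by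
    intro y
    obtain ⟨p, rfl⟩ := (Subalgebra.toSubmodule R).mkQ_surjective y
    exact ⟨(idealImage R I).mkQ p, hgmk p⟩
  have hex : Function.Exact j g := by
    intro y
    obtain ⟨p, rfl⟩ := (idealImage R I).mkQ_surjective y
    rw [hgmk, Submodule.mkQ_apply, Submodule.Quotient.mk_eq_zero]
    constructor
    · intro hp
      exact ⟨Submodule.Quotient.mk ⟨p, hp⟩, hjmk _⟩
    · rintro ⟨x, hx⟩
      obtain ⟨r, rfl⟩ := Submodule.Quotient.mk_surjective _ x
      rw [hjmk, Submodule.mkQ_apply, Submodule.mkQ_apply, Submodule.Quotient.eq] at hx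
      have h1 := idealImage_le R I hx
      have h2 : (r : P) ∈ Subalgebra.toSubmodule R := r.2
      have h3 := (Subalgebra.toSubmodule R).sub_mem h2 h1
      simpa using h3
  exact finrank_add_of_exact j g hj hg hex

end Groth.Agent.H75
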