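import Groth.Agent.H75.HilbZeta3

set_option autoImplicit false
universe u

namespace Groth.Agent.H75

open PowerSeries

variable {k : Type u} [Field k] {s : ℕ}

theorem hz_finite_quot {P : Type u} [CommRing P] [Algebra k P] (R : Subalgebra k P) (I : Ideal ↥R)
    [Module.Finite k (P ⧸ idealImage R I)] : Module.Finite k (↥R ⧸ I) := by
  let j0 : (↥R ⧸ I.restrictScalars k) →ₗ[k] (P ⧸ idealImage R I) :=
    Submodule.mapQ (I.restrictScalars k) (idealImage R I) R.val.toLinearMap (by
      intro r hr
      rw [Submodule.mem_comap, mem_idealImage]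
      exact ⟨r.2, hr⟩)
  let j : (↥R ⧸ I) →ₗ[k] (P ⧸ idealImage R I) :=
    j0 ∘ₗ (Submodule.Quotient.restrictScalarsEquiv k I).symm.toLinearMap
  have hjmk : ∀ r : ↥R, j (Submodule.Quotient.mk r) = (idealImage R I).mkQ (r : P) := by
    intro r
    rfl
  have hj : Function.Injective j := by
    rw [← LinearMap.ker_eq_bot, LinearMap.ker_eq_bot']
    intro x hx
    obtain ⟨r, rfl⟩ := Submodule.Quotient.mk_surjective _ x
    rw [hjmk, Submodule.mkQ_apply, Submodule.Quotient.mk_eq_zero, mem_idealImage] at hx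
    obtain ⟨_, hI⟩ := hx
    rw [Submodule.Quotient.mk_eq_zero]
    exact hI
  exact Module.Finite.of_injective j hj

/-- the tuple with `X` in the `j`-th place and `1` elsewhere -/
noncomputable def xi (k : Type u) [Field k] {s : ℕ} (j : Fin s) : Fin s → PowerSeries k :=
  Pi.mulSingle j PowerSeries.X

theorem xi_apply_self (j : Fin s) : xi k j j = PowerSeries.X := by simp [xi]

theorem xi_apply_ne (j i : Fin s) (h : i ≠ j) : xi k j i = 1 := by
  simp [xi, Pi.mulSingle_eq_of_ne h]

theorem xi_ne_zero (j i : Fin s) : xi k j i ≠ 0 := by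
  by_cases h : i = j
  · subst h; rw [xi_apply_self]; exact PowerSeries.X_ne_zero
  · rw [xi_apply_ne j i h]; exact one_ne_zero

theorem xi_mul_cancel (j : Fin s) (p q : Fin s → PowerSeries k) (h : xi k j * p = xi k j * q) :
    p = q := by
  funext i
  have := congrFun h i
  simp only [Pi.mul_apply] at this
  exact mul_left_cancel₀ (xi_ne_zero j i) this

theorem mem_range_xi (j : Fin s) (p : Fin s → PowerSeries k) :
    (∃ p', p = xi k j * p') ↔ p ∈ piOrdGE k (Pi.single j 1) := by
  classical
  rw [mem_piOrdGE]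
  constructor
  · rintro ⟨p', rfl⟩ i
    by_cases hi : i = j
    · subst hi
      simp only [Pi.mul_apply, xi_apply_self, PowerSeries.order_mul, PowerSeries.order_X,
        Pi.single_eq_same, Nat.cast_one]
      exact le_self_add
    · simp [Pi.single_eq_of_ne hi]
  · intro h
    have h1 := h j
    simp only [Pi.single_eq_same] at h1
    obtain ⟨w, hw⟩ : (PowerSeries.X : PowerSeries k) ∣ p j := by
      rw [← pow_one (PowerSeries.X : PowerSeries k), X_pow_dvd_iff_le_order]
      exact h1
    refine ⟨Function.update p j w, ?_⟩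
    funext i
    by_cases hi : i = j
    · subst hi
      simp [xi_apply_self, hw]
    · simp [xi_apply_ne j i hi, Function.update_of_ne hi]

theorem finrank_quot_xi (j : Fin s) (I' J' : Submodule k (Fin s → PowerSeries k))
    (hJ : J' = Submodule.map (LinearMap.mulLeft k (xi k j)) I')
    [Module.Finite k ((Fin s → PowerSeries k) ⧸ J')] :
    Module.Finite k ((Fin s → PowerSeries k) ⧸ I') ∧
      Module.finrank k ((Fin s → PowerSeries k) ⧸ J') =
        Module.finrank k ((Fin s → PowerSeries k) ⧸ I') + 1 := by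
  classical
  have hJle : J' ≤ piOrdGE k (Pi.single j 1) := by
    intro p hp
    rw [hJ, Submodule.mem_map] at hp
    obtain ⟨q, _, rfl⟩ := hp
    exact (mem_range_xi j _).mp ⟨q, rfl⟩
  let m : ((Fin s → PowerSeries k) ⧸ I') →ₗ[k] ((Fin s → PowerSeries k) ⧸ J') :=
    Submodule.mapQ I' J' (LinearMap.mulLeft k (xi k j)) (by rw [hJ]; exact Submodule.le_comap_map _ _)
  let g : ((Fin s → PowerSeries k) ⧸ J') →ₗ[k]
      ((Fin s → PowerSeries k) ⧸ piOrdGE k (Pi.single j (1 : ℕ))) :=
    Submodule.mapQ _ _ LinearMap.id (by simpa using hJle)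
  have hmmk : ∀ p, m (I'.mkQ p) = J'.mkQ (xi k j * p) := fun p => rfl
  have hgmk : ∀ p, g (J'.mkQ p) = (piOrdGE k (Pi.single j (1 : ℕ))).mkQ p := fun p => rfl
  have hm : Function.Injective m := by
    rw [← LinearMap.ker_eq_bot, LinearMap.ker_eq_bot']
    intro x hx
    obtain ⟨p, rfl⟩ := I'.mkQ_surjective x
    rw [hmmk, Submodule.mkQ_apply, Submodule.Quotient.mk_eq_zero, hJ, Submodule.mem_map] at hx
    obtain ⟨q, hq, hqp⟩ := hx
    have : q = p := xi_mul_cancel j q p hqp
    rw [Submodule.mkQ_apply, Submodule.Quotient.mk_eq_zero]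
    exact this ▸ hq
  have hg : Function.Surjective g := by
    intro y
    obtain ⟨p, rfl⟩ := Submodule.mkQ_surjective _ y
    exact ⟨J'.mkQ p, hgmk p⟩
  have hex : Function.Exact m g := by
    intro y
    obtain ⟨p, rfl⟩ := J'.mkQ_surjective y
    rw [hgmk, Submodule.mkQ_apply, Submodule.Quotient.mk_eq_zero, ← mem_range_xi]
    constructor
    · rintro ⟨p', rfl⟩
      exact ⟨I'.mkQ p', hmmk p'⟩
    · rintro ⟨x, hx⟩
      obtain ⟨q, rfl⟩ := I'.mkQ_surjective x
      rw [hmmk, Submodule.mkQ_apply, Submodule.mkQ_apply, Submodule.Quotient.eq, hJ,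
        Submodule.mem_map] at hx
      obtain ⟨q', _, hq'⟩ := hx
      refine ⟨q - q', ?_⟩
      have : xi k j * q' = xi k j * q - p := hq'
      rw [mul_sub, this]
      ring
  have hfinI : Module.Finite k ((Fin s → PowerSeries k) ⧸ I') := Module.Finite.of_injective m hm
  refine ⟨hfinI, ?_⟩
  have := finrank_add_of_exact m g hm hg hex
  rw [finrank_quot_piOrdGE] at this
  simpa using this

end Groth.Agent.H75
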