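import Groth.Agent.H75.HilbZeta4

set_option autoImplicit false
universe u

namespace Groth.Agent.H75

open PowerSeries

variable {k : Type u} [Field k] {s : ℕ}

theorem hz_xi_map (R : Subalgebra k (Fin s → PowerSeries k)) (j : Fin s) (I J : Ideal ↥R)
    (hIJ : ∀ p, p ∈ idealImage R J ↔ ∃ q ∈ idealImage R I, p = xi k j * q) (i : Fin s) :
    Ideal.map ((Pi.evalAlgHom k (fun _ : Fin s => PowerSeries k) i).comp R.val) J =
      Ideal.span {xi k j i} *
        Ideal.map ((Pi.evalAlgHom k (fun _ : Fin s => PowerSeries k) i).comp R.val) I := by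
  apply le_antisymm
  · rw [Ideal.map_le_iff_le_comap]
    intro f hf
    rw [Ideal.mem_comap]
    have hfJ : (f : Fin s → PowerSeries k) ∈ idealImage R J := (mem_idealImage R J _).mpr ⟨f.2, hf⟩
    obtain ⟨q, hq, hfq⟩ := (hIJ _).mp hfJ
    obtain ⟨hqR, hqI⟩ := (mem_idealImage R I q).mp hq
    have e : ((Pi.evalAlgHom k (fun _ : Fin s => PowerSeries k) i).comp R.val) f =
        xi k j i * ((Pi.evalAlgHom k (fun _ : Fin s => PowerSeries k) i).comp R.val) ⟨q, hqR⟩ := by
      show (f : Fin s → PowerSeries k) i = xi k j i * q i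
      rw [hfq]
      rfl
    rw [e]
    exact Ideal.mul_mem_mul (Ideal.mem_span_singleton_self _) (Ideal.mem_map_of_mem _ hqI)
  · rw [Ideal.span_singleton_mul_le_iff]
    intro z hz
    induction hz using Submodule.span_induction with
    | mem z hz =>
      obtain ⟨f, hf, rfl⟩ := hz
      have hfI : (f : Fin s → PowerSeries k) ∈ idealImage R I :=
        (mem_idealImage R I _).mpr ⟨f.2, hf⟩
      have hJ' := (hIJ (xi k j * (f : Fin s → PowerSeries k))).mpr ⟨_, hfI, rfl⟩
      obtain ⟨hR, hJ⟩ := (mem_idealImage R J _).mp hJ'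
      exact Ideal.mem_map_of_mem ((Pi.evalAlgHom k (fun _ : Fin s => PowerSeries k) i).comp R.val) hJ
    | zero => rw [mul_zero]; exact Ideal.zero_mem _
    | add x y _ _ hx hy => rw [mul_add]; exact Ideal.add_mem _ hx hy
    | smul r x _ hx =>
      rw [smul_eq_mul, mul_left_comm]
      exact Ideal.mul_mem_left _ _ hx

theorem hz_single_mem (R : Subalgebra k (Fin s → PowerSeries k)) (c : Fin s → ℕ)
    (hc : ∀ f : Fin s → PowerSeries k, (∀ i, ((c i : ℕ) : ℕ∞) ≤ (f i).order) →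
      ∀ g : Fin s → PowerSeries k, g * f ∈ R) (j : Fin s) (w : PowerSeries k)
    (hw : ((c j : ℕ) : ℕ∞) ≤ PowerSeries.order w) : (Pi.single j w : Fin s → PowerSeries k) ∈ R := by
  classical
  have := hc (Pi.single j w) (fun i => by
    by_cases hi : i = j
    · subst hi; simpa using hw
    · simp [Pi.single_eq_of_ne hi]) 1
  simpa using this

theorem xi_mul_eq (j : Fin s) (q : Fin s → PowerSeries k) :
    xi k j * q = q + Pi.single j ((PowerSeries.X - 1) * q j) := by
  classical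
  funext i
  by_cases hi : i = j
  · subst hi
    simp only [Pi.mul_apply, xi_apply_self, Pi.add_apply, Pi.single_eq_same]
    ring
  · simp [xi_apply_ne j i hi, Pi.single_eq_of_ne hi]

theorem hz_xi_mul_mem_iff (R : Subalgebra k (Fin s → PowerSeries k)) (c : Fin s → ℕ)
    (hc : ∀ f : Fin s → PowerSeries k, (∀ i, ((c i : ℕ) : ℕ∞) ≤ (f i).order) →
      ∀ g : Fin s → PowerSeries k, g * f ∈ R) (j : Fin s) (q : Fin s → PowerSeries k)
    (hqo : ((c j : ℕ) : ℕ∞) ≤ PowerSeries.order (q j)) : xi k j * q ∈ R ↔ q ∈ R := by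
  have h1 : (Pi.single j ((PowerSeries.X - 1) * q j) : Fin s → PowerSeries k) ∈ R :=
    hz_single_mem R c hc j _ (by
      rw [PowerSeries.order_mul]
      exact le_trans hqo le_add_self)
  rw [xi_mul_eq]
  constructor
  · intro h
    have := R.sub_mem h h1
    simpa using this
  · intro h
    exact R.add_mem h h1

theorem hz_xi_type (R : Subalgebra k (Fin s → PowerSeries k)) (c : Fin s → ℕ)
    (hc : ∀ f : Fin s → PowerSeries k, (∀ i, ((c i : ℕ) : ℕ∞) ≤ (f i).order) →
      ∀ g : Fin s → PowerSeries k, g * f ∈ R) (j : Fin s) (I J : Ideal ↥R)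
    (hIJ : ∀ p, p ∈ idealImage R J ↔ ∃ q ∈ idealImage R I, p = xi k j * q) (a' : Fin s → ℕ)
    (haJ : ∀ i, Ideal.map ((Pi.evalAlgHom k (fun _ : Fin s => PowerSeries k) i).comp R.val) J =
      Ideal.span {PowerSeries.X ^ (a' i)}) :
    Module.Finite k (↥R ⧸ I) ∧ Module.Finite k (↥R ⧸ J) ∧
      Module.finrank k (↥R ⧸ J) = Module.finrank k (↥R ⧸ I) + 1 := by
  obtain ⟨_, h2⟩ := hz_branch s R J a' haJ
  have hlow : piOrdGE k (fun i => a' i + c i) ≤ idealImage R J := by
    intro g hg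
    rw [mem_piOrdGE] at hg
    rw [mem_idealImage]
    exact hz_mem_ideal_of_order_ge s R c hc J a' h2 g hg
  obtain ⟨hfinJ, _, _⟩ := finrank_quot_le_of_le _ _ hlow
  have hJ : idealImage R J = Submodule.map (LinearMap.mulLeft k (xi k j)) (idealImage R I) := by
    ext p
    rw [hIJ, Submodule.mem_map]
    constructor
    · rintro ⟨q, hq, rfl⟩
      exact ⟨q, hq, rfl⟩
    · rintro ⟨q, hq, rfl⟩
      exact ⟨q, hq, rfl⟩
  obtain ⟨hfinI, hfr⟩ := finrank_quot_xi j _ _ hJ
  have e1 := hz_finrank_add R I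
  have e2 := hz_finrank_add R J
  refine ⟨hz_finite_quot R I, hz_finite_quot R J, by omega⟩

theorem hz_image_eq_iff (R : Subalgebra k (Fin s → PowerSeries k)) (j : Fin s) (I J : Ideal ↥R) :
    (Subtype.val '' (J : Set ↥R)) =
      (fun f => Pi.mulSingle j PowerSeries.X * f) '' (Subtype.val '' (I : Set ↥R)) ↔
    ∀ p, p ∈ idealImage R J ↔ ∃ q ∈ idealImage R I, p = xi k j * q := by
  have hI : ∀ p : Fin s → PowerSeries k, p ∈ Subtype.val '' (I : Set ↥R) ↔ p ∈ idealImage R I := by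
    intro p
    rw [mem_idealImage]
    constructor
    · rintro ⟨r, hr, rfl⟩
      exact ⟨r.2, hr⟩
    · rintro ⟨h, hp⟩
      exact ⟨⟨p, h⟩, hp, rfl⟩
  have hJ : ∀ p : Fin s → PowerSeries k, p ∈ Subtype.val '' (J : Set ↥R) ↔ p ∈ idealImage R J := by
    intro p
    rw [mem_idealImage]
    constructor
    · rintro ⟨r, hr, rfl⟩
      exact ⟨r.2, hr⟩
    · rintro ⟨h, hp⟩
      exact ⟨⟨p, h⟩, hp, rfl⟩
  rw [Set.ext_iff]
  refine forall_congr' (fun p => ?_)
  rw [hJ]
  refine iff_congr Iff.rfl ?_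
  constructor
  · rintro ⟨q, hq, rfl⟩
    exact ⟨q, (hI q).mp hq, rfl⟩
  · rintro ⟨q, hq, rfl⟩
    exact ⟨q, (hI q).mpr hq, rfl⟩

end Groth.Agent.H75
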