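import Mathlib.Data.Set.Card
import Mathlib.SetTheory.Cardinal.Finite
import Mathlib.Algebra.BigOperators.Finprod
import Mathlib.Data.Fintype.Card
import Mathlib.Order.Interval.Finset.Nat
import Mathlib.Data.Set.Finite.Lattice

set_option autoImplicit false
universe u v

namespace Groth.Agent.H75

variable {P : Type u} {ι : Type v} [Fintype ι] (inc : P → ι → Prop)

theorem natCard_eq_filter [DecidableEq ι] [∀ p, DecidablePred (inc p)] (p : P) :
    Nat.card {j : ι // inc p j} = (Finset.univ.filter (fun j => inc p j)).card := by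
  rw [Nat.card_eq_fintype_card, Fintype.card_subtype]

theorem two_le_card_iff (p : P) :
    2 ≤ Nat.card {j : ι // inc p j} ↔ ∃ i j, i ≠ j ∧ inc p i ∧ inc p j := by
  classical
  rw [natCard_eq_filter]
  constructor
  · intro h
    have h1 : 1 < (Finset.univ.filter (fun j => inc p j)).card := by omega
    obtain ⟨i, hi, j, hj, hij⟩ := Finset.one_lt_card.mp h1
    simp only [Finset.mem_filter, Finset.mem_univ, true_and] at hi hj
    exact ⟨i, j, hij, hi, hj⟩
  · rintro ⟨i, j, hij, hi, hj⟩
    have : 1 < (Finset.univ.filter (fun j => inc p j)).card :=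
      Finset.one_lt_card.mpr ⟨i, by simpa using hi, j, by simpa using hj, hij⟩
    omega

theorem multi_finite (hfin : ∀ i j : ι, i ≠ j → {p : P | inc p i ∧ inc p j}.Finite) :
    {p : P | 2 ≤ Nat.card {j : ι // inc p j}}.Finite := by
  classical
  have : {p : P | 2 ≤ Nat.card {j : ι // inc p j}} ⊆
      ⋃ ij : {ij : ι × ι // ij.1 ≠ ij.2}, {p : P | inc p ij.1.1 ∧ inc p ij.1.2} := by
    intro p hp
    obtain ⟨i, j, hij, hi, hj⟩ := (two_le_card_iff inc p).mp hp
    exact Set.mem_iUnion.mpr ⟨⟨(i, j), hij⟩, hi, hj⟩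
  refine Set.Finite.subset ?_ this
  exact Set.finite_iUnion (fun ij => hfin ij.1.1 ij.1.2 ij.2)

end Groth.Agent.H75
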