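import Mathlib

set_option autoImplicit false

namespace Groth.Agent.H75.Intertw

open Polynomial UniqueFactorizationMonoid Module
open scoped Classical

universe u v w
variable {K : Type u} [Field K]

section basic
variable {V : Type v} {W : Type w} [AddCommGroup V] [Module K V] [AddCommGroup W] [Module K W]

/-- The space of intertwiners between two endomorphisms. -/
def Int (π₁ : Module.End K V) (π₂ : Module.End K W) : Submodule K (V →ₗ[K] W) :=
  LinearMap.ker (LinearMap.lcomp K W π₁ - LinearMap.llcomp K V W W π₂)

lemma mem_Int {π₁ : Module.End K V} {π₂ : Module.End K W} {h : V →ₗ[K] W} :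
    h ∈ Int π₁ π₂ ↔ ∀ x, h (π₁ x) = π₂ (h x) := by
  simp [Int, LinearMap.mem_ker, sub_eq_zero, LinearMap.ext_iff]

lemma pow_comm {π₁ : Module.End K V} {π₂ : Module.End K W} {h : V →ₗ[K] W}
    (hh : h ∈ Int π₁ π₂) (n : ℕ) (x : V) : h ((π₁ ^ n) x) = (π₂ ^ n) (h x) := by
  induction n generalizing x with
  | zero => simp
  | succ n ih => rw [pow_succ, pow_succ, Module.End.mul_apply, Module.End.mul_apply, ih,
      mem_Int.mp hh]

lemma aeval_comm {π₁ : Module.End K V} {π₂ : Module.End K W} {h : V →ₗ[K] W}
    (hh : h ∈ Int π₁ π₂) (q : K[X]) (x : V) : h (aeval π₁ q x) = aeval π₂ q (h x) := by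
  induction q using Polynomial.induction_on' with
  | add p q hp hq => simp [hp, hq]
  | monomial n a =>
    simp only [aeval_monomial, Module.End.mul_apply, Module.algebraMap_end_apply, map_smul,
      pow_comm hh]

end basic

section simple
variable {V : Type v} {W : Type w} [AddCommGroup V] [Module K V] [AddCommGroup W] [Module K W]

/-- The orbit map `q ↦ q(π) v`. -/
noncomputable def A (π : Module.End K V) (v : V) : K[X] →ₗ[K] V :=
  (LinearMap.applyₗ v) ∘ₗ (aeval π).toLinearMap

@[simp] lemma A_apply (π : Module.End K V) (v : V) (q : K[X]) : A π v q = aeval π q v := rfl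

lemma A_X_mul (π : Module.End K V) (v : V) (q : K[X]) : A π v (X * q) = π (A π v q) := by
  simp [A_apply, Module.End.mul_apply]

lemma A_mul (π : Module.End K V) (v : V) (r q : K[X]) :
    A π v (r * q) = aeval π r (A π v q) := by
  simp [A_apply, Module.End.mul_apply]

lemma range_A_invt (π : Module.End K V) (v : V) :
    LinearMap.range (A π v) ∈ π.invtSubmodule := by
  rw [Module.End.mem_invtSubmodule]
  rintro _ ⟨q, rfl⟩
  exact ⟨X * q, A_X_mul π v q⟩

lemma self_mem_Int (π : Module.End K V) : π ∈ Int π π := mem_Int.mpr fun _ => rfl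

lemma ker_aeval_invt (π : Module.End K V) (q : K[X]) :
    LinearMap.ker (aeval π q) ∈ π.invtSubmodule := by
  rw [Module.End.mem_invtSubmodule]
  intro x hx
  rw [LinearMap.mem_ker] at hx
  rw [Submodule.mem_comap, LinearMap.mem_ker, ← aeval_comm (self_mem_Int π), hx, map_zero]

/-- A simple endomorphism: the space is nontrivial and has no proper invariant subspace. -/
def IsSimpleEnd (π : Module.End K V) : Prop :=
  Nontrivial V ∧ ∀ p ∈ π.invtSubmodule, p = ⊥ ∨ p = ⊤

lemma IsSimpleEnd.A_surjective {π : Module.End K V} (hπ : IsSimpleEnd π) {v : V} (hv : v ≠ 0) :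
    Function.Surjective (A π v) := by
  rw [← LinearMap.range_eq_top]
  rcases hπ.2 _ (range_A_invt π v) with h | h
  · exfalso
    have : v ∈ LinearMap.range (A π v) := ⟨1, by simp⟩
    rw [h] at this
    exact hv (by simpa using this)
  · exact h

lemma IsSimpleEnd.irreducible_minpoly [FiniteDimensional K V] {π : Module.End K V}
    (hπ : IsSimpleEnd π) : Irreducible (minpoly K π) := by
  have hint : IsIntegral K π := Algebra.IsIntegral.isIntegral π
  have hnt : Nontrivial V := hπ.1
  rw [irreducible_iff]
  refine ⟨minpoly.not_isUnit K π, fun a b hab => ?_⟩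
  have h0 : aeval π a * aeval π b = 0 := by rw [← map_mul, ← hab, minpoly.aeval]
  have key : ∀ a b : K[X], minpoly K π = a * b → aeval π a = 0 → IsUnit b := by
    intro a b hab ha
    obtain ⟨c, hc⟩ := minpoly.dvd K π ha
    have hne := minpoly.ne_zero hint
    have h1 : minpoly K π * (c * b) = minpoly K π * 1 := by
      rw [← mul_assoc, ← hc, ← hab, mul_one]
    have h2 := mul_left_cancel₀ hne h1
    exact IsUnit.of_mul_eq_one c (by rw [mul_comm]; exact h2)
  rcases hπ.2 _ (ker_aeval_invt π a) with h | h
  · left
    apply key b a (by rw [hab, mul_comm])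
    ext x
    have h3 : aeval π a (aeval π b x) = 0 := by
      rw [← Module.End.mul_apply, h0]; rfl
    have h4 : aeval π b x ∈ LinearMap.ker (aeval π a) := h3
    rw [h] at h4
    simpa using h4
  · right
    exact key a b hab (LinearMap.ker_eq_top.mp h)

lemma IsSimpleEnd.A_eq_zero_iff [FiniteDimensional K V] {π : Module.End K V}
    (hπ : IsSimpleEnd π) {v : V} (hv : v ≠ 0) (q : K[X]) :
    A π v q = 0 ↔ minpoly K π ∣ q := by
  constructor
  · intro hq
    rcases hπ.irreducible_minpoly.isCoprime_or_dvd q with h | h
    · exfalso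
      obtain ⟨a, b, hab⟩ := h
      apply hv
      have h1 : A π v (a * minpoly K π + b * q) = v := by rw [hab]; simp
      rw [← h1, map_add, A_mul, A_mul, hq, map_zero, add_zero, A_apply, minpoly.aeval]
      simp
    · exact h
  · rintro ⟨c, rfl⟩
    rw [A_apply, map_mul, minpoly.aeval, zero_mul]
    rfl

lemma IsSimpleEnd.ker_A [FiniteDimensional K V] {π : Module.End K V}
    (hπ : IsSimpleEnd π) {v : V} (hv : v ≠ 0) :
    LinearMap.ker (A π v) = (Ideal.span {minpoly K π}).restrictScalars K := by
  ext q
  rw [LinearMap.mem_ker, hπ.A_eq_zero_iff hv, Submodule.restrictScalars_mem,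
    Ideal.mem_span_singleton]

lemma IsSimpleEnd.finrank_eq [FiniteDimensional K V] {π : Module.End K V}
    (hπ : IsSimpleEnd π) : finrank K V = (minpoly K π).natDegree := by
  have hnt : Nontrivial V := hπ.1
  obtain ⟨v, hv⟩ := exists_ne (0 : V)
  have e1 := (A π v).quotKerEquivOfSurjective (hπ.A_surjective hv)
  have e2 := Submodule.quotEquivOfEq _ _ (hπ.ker_A hv)
  have e3 := Submodule.Quotient.restrictScalarsEquiv K (Ideal.span {minpoly K π})
  rw [← e1.finrank_eq, e2.finrank_eq, e3.finrank_eq, finrank_quotient_span_eq_natDegree]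

lemma IsSimpleEnd.charpoly_eq [FiniteDimensional K V] {π : Module.End K V}
    (hπ : IsSimpleEnd π) : π.charpoly = minpoly K π := by
  have hint : IsIntegral K π := Algebra.IsIntegral.isIntegral π
  apply Polynomial.eq_of_monic_of_dvd_of_natDegree_le (minpoly.monic hint) (LinearMap.charpoly_monic π)
    (LinearMap.minpoly_dvd_charpoly π)
  rw [LinearMap.charpoly_natDegree, hπ.finrank_eq]

lemma IsSimpleEnd.irreducible_charpoly [FiniteDimensional K V] {π : Module.End K V}
    (hπ : IsSimpleEnd π) : Irreducible π.charpoly := by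
  rw [hπ.charpoly_eq]; exact hπ.irreducible_minpoly

end simple

section lemmaS
variable {V : Type v} {W : Type w} [AddCommGroup V] [Module K V] [AddCommGroup W] [Module K W]

/-- Evaluation at `v` on intertwiners. -/
noncomputable def ev (π : Module.End K V) (π₂ : Module.End K W) (v : V) : Int π π₂ →ₗ[K] W :=
  (LinearMap.applyₗ v) ∘ₗ (Int π π₂).subtype

lemma IsSimpleEnd.ev_injective {π : Module.End K V} (hπ : IsSimpleEnd π) (π₂ : Module.End K W)
    {v : V} (hv : v ≠ 0) : Function.Injective (ev π π₂ v) := by
  rw [← LinearMap.ker_eq_bot, LinearMap.ker_eq_bot']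
  rintro ⟨h, hh⟩ h0
  have hinv : LinearMap.ker h ∈ π.invtSubmodule := by
    rw [Module.End.mem_invtSubmodule]
    intro x hx
    rw [LinearMap.mem_ker] at hx
    rw [Submodule.mem_comap, LinearMap.mem_ker, mem_Int.mp hh, hx, map_zero]
  rcases hπ.2 _ hinv with h1 | h1
  · exfalso
    have h2 : v ∈ LinearMap.ker h := h0
    rw [h1] at h2
    exact hv (by simpa using h2)
  · apply Subtype.ext
    exact LinearMap.ker_eq_top.mp h1

lemma IsSimpleEnd.range_ev [FiniteDimensional K V] {π : Module.End K V} (hπ : IsSimpleEnd π)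
    (π₂ : Module.End K W) {v : V} (hv : v ≠ 0) :
    LinearMap.range (ev π π₂ v) = LinearMap.ker (aeval π₂ (minpoly K π)) := by
  apply le_antisymm
  · rintro _ ⟨⟨h, hh⟩, rfl⟩
    show aeval π₂ _ (h v) = 0
    rw [← aeval_comm hh, minpoly.aeval]
    simp
  · intro w hw
    have hle : LinearMap.ker (A π v) ≤ LinearMap.ker (A π₂ w) := by
      intro q hq
      rw [LinearMap.mem_ker, hπ.A_eq_zero_iff hv] at hq
      obtain ⟨c, rfl⟩ := hq
      rw [LinearMap.mem_ker, mul_comm, A_mul, A_apply, LinearMap.mem_ker.mp hw, map_zero]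
    let e := (A π v).quotKerEquivOfSurjective (hπ.A_surjective hv)
    let h : V →ₗ[K] W := ((LinearMap.ker (A π v)).liftQ (A π₂ w) hle) ∘ₗ e.symm.toLinearMap
    have hA : ∀ q, h (A π v q) = A π₂ w q := by
      intro q
      have h1 : e.symm (A π v q) = Submodule.Quotient.mk q := by
        rw [LinearEquiv.symm_apply_eq]; rfl
      simp only [h, LinearMap.coe_comp, LinearEquiv.coe_coe, Function.comp_apply, h1,
        Submodule.liftQ_apply]
    refine ⟨⟨h, mem_Int.mpr ?_⟩, ?_⟩
    · intro x
      obtain ⟨q, rfl⟩ := hπ.A_surjective hv x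
      rw [← A_X_mul, hA, hA, A_X_mul]
    · show h v = w
      have h2 := hA 1
      simpa using h2

lemma IsSimpleEnd.finrank_Int [FiniteDimensional K V] {π : Module.End K V} (hπ : IsSimpleEnd π)
    (π₂ : Module.End K W) :
    finrank K (Int π π₂) = finrank K (LinearMap.ker (aeval π₂ π.charpoly)) := by
  have hnt : Nontrivial V := hπ.1
  obtain ⟨v, hv⟩ := exists_ne (0 : V)
  rw [hπ.charpoly_eq, ← hπ.range_ev π₂ hv, LinearMap.finrank_range_of_inj (hπ.ev_injective π₂ hv)]

end lemmaS

section decomp
variable {V : Type v} {W : Type w} [AddCommGroup V] [Module K V] [AddCommGroup W] [Module K W]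

/-- The product of two submodules is linearly equivalent to the product type. -/
def prodSubEquiv {M : Type*} {N : Type*} [AddCommGroup M] [Module K M] [AddCommGroup N]
    [Module K N] (S : Submodule K M) (T : Submodule K N) : (S.prod T) ≃ₗ[K] S × T where
  toFun x := (⟨x.1.1, x.2.1⟩, ⟨x.1.2, x.2.2⟩)
  invFun y := ⟨(y.1.1, y.2.1), ⟨y.1.2, y.2.2⟩⟩
  map_add' _ _ := rfl
  map_smul' _ _ := rfl
  left_inv _ := rfl
  right_inv _ := rfl

lemma finrank_prodSub {M : Type*} {N : Type*} [AddCommGroup M] [Module K M] [AddCommGroup N]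
    [Module K N] (S : Submodule K M) (T : Submodule K N) [Module.Finite K S] [Module.Finite K T] :
    finrank K (S.prod T) = finrank K S + finrank K T := by
  rw [(prodSubEquiv S T).finrank_eq, Module.finrank_prod]

variable (π : Module.End K V) {p q : Submodule K V} (hp : p ∈ π.invtSubmodule)
  (hq : q ∈ π.invtSubmodule) (hc : IsCompl p q)

lemma subtype_mem_Int : p.subtype ∈ Int (π.restrict hp) π := mem_Int.mpr fun _ => rfl

lemma coe_aeval_restrict (P : K[X]) (x : p) :
    ((aeval (π.restrict hp) P x : p) : V) = aeval π P (x : V) :=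
  aeval_comm (subtype_mem_Int π hp) P x

include hc in
lemma equiv_comm (x : p × q) :
    Submodule.prodEquivOfIsCompl p q hc (((π.restrict hp).prodMap (π.restrict hq)) x) =
      π (Submodule.prodEquivOfIsCompl p q hc x) := by
  obtain ⟨a, b⟩ := x
  simp only [LinearMap.prodMap_apply, Submodule.coe_prodEquivOfIsCompl', map_add]
  rfl

include hc in
lemma charpoly_eq_mul [FiniteDimensional K V] :
    π.charpoly = (π.restrict hp).charpoly * (π.restrict hq).charpoly := by
  let e := Submodule.prodEquivOfIsCompl p q hc
  have hψ : (π.restrict hp).prodMap (π.restrict hq) = e.symm.conj π := by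
    refine LinearMap.ext fun x => ?_
    rw [LinearEquiv.conj_apply]
    simp only [LinearMap.coe_comp, LinearEquiv.coe_coe, Function.comp_apply, LinearEquiv.symm_symm]
    rw [LinearEquiv.eq_symm_apply]
    exact equiv_comm π hp hq hc x
  rw [← e.symm.charpoly_conj π, ← hψ, LinearMap.charpoly_prodMap]

include hc in
lemma finrank_ker_aeval_add [FiniteDimensional K V] (P : K[X]) :
    finrank K (LinearMap.ker (aeval π P)) =
      finrank K (LinearMap.ker (aeval (π.restrict hp) P)) +
        finrank K (LinearMap.ker (aeval (π.restrict hq) P)) := by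
  let e := Submodule.prodEquivOfIsCompl p q hc
  have key : ((LinearMap.ker (aeval (π.restrict hp) P)).prod
      (LinearMap.ker (aeval (π.restrict hq) P))).map (e : (p × q) →ₗ[K] V) =
        LinearMap.ker (aeval π P) := by
    apply le_antisymm
    · rintro _ ⟨⟨a, b⟩, ⟨ha, hb⟩, rfl⟩
      change aeval (π.restrict hp) P a = 0 at ha
      change aeval (π.restrict hq) P b = 0 at hb
      rw [LinearMap.mem_ker]
      simp only [LinearEquiv.coe_coe, e, Submodule.coe_prodEquivOfIsCompl', map_add]
      rw [← coe_aeval_restrict π hp, ← coe_aeval_restrict π hq, ha, hb]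
      simp
    · intro x hx
      obtain ⟨⟨a, b⟩, rfl⟩ := e.surjective x
      refine ⟨(a, b), ⟨?_, ?_⟩, rfl⟩
      all_goals
        rw [LinearMap.mem_ker] at hx
        simp only [e, Submodule.coe_prodEquivOfIsCompl', map_add] at hx
        rw [← coe_aeval_restrict π hp, ← coe_aeval_restrict π hq] at hx
      · have h1 : ((aeval (π.restrict hp) P a : p) : V) ∈ p ⊓ q := by
          refine ⟨Submodule.coe_mem _, ?_⟩
          rw [eq_neg_of_add_eq_zero_left hx]
          exact q.neg_mem (Submodule.coe_mem _)
        rw [hc.inf_eq_bot, Submodule.mem_bot] at h1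
        exact Subtype.ext h1
      · have h1 : ((aeval (π.restrict hq) P b : q) : V) ∈ p ⊓ q := by
          refine ⟨?_, Submodule.coe_mem _⟩
          rw [eq_neg_of_add_eq_zero_right hx]
          exact p.neg_mem (Submodule.coe_mem _)
        rw [hc.inf_eq_bot, Submodule.mem_bot] at h1
        exact Subtype.ext h1
  rw [← key, LinearEquiv.finrank_map_eq, finrank_prodSub]

include hc in
lemma finrank_Int_add [FiniteDimensional K V] [FiniteDimensional K W] (π₂ : Module.End K W) :
    finrank K (Int π π₂) =
      finrank K (Int (π.restrict hp) π₂) + finrank K (Int (π.restrict hq) π₂) := by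
  let e := Submodule.prodEquivOfIsCompl p q hc
  let Φ : ((p →ₗ[K] W) × (q →ₗ[K] W)) ≃ₗ[K] (V →ₗ[K] W) :=
    (LinearMap.coprodEquiv K).trans (LinearEquiv.congrLeft W K e)
  have hΦ : ∀ (a : p →ₗ[K] W) (b : q →ₗ[K] W) (x : p × q), Φ (a, b) (e x) = a x.1 + b x.2 := by
    intro a b x
    simp [Φ]
  have key : ((Int (π.restrict hp) π₂).prod (Int (π.restrict hq) π₂)).map
      (Φ : ((p →ₗ[K] W) × (q →ₗ[K] W)) →ₗ[K] (V →ₗ[K] W)) = Int π π₂ := by
    apply le_antisymm
    · rintro _ ⟨⟨a, b⟩, ⟨ha, hb⟩, rfl⟩
      change a ∈ Int _ _ at ha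
      change b ∈ Int _ _ at hb
      rw [mem_Int] at ha hb ⊢
      intro x
      obtain ⟨⟨y1, y2⟩, rfl⟩ := e.surjective x
      rw [← equiv_comm π hp hq hc]
      simp only [LinearEquiv.coe_coe]
      rw [hΦ, hΦ]
      simp [ha, hb]
    · intro h hh
      rw [mem_Int] at hh
      refine ⟨(h ∘ₗ p.subtype, h ∘ₗ q.subtype), ⟨?_, ?_⟩, ?_⟩
      · change h ∘ₗ p.subtype ∈ Int _ _
        rw [mem_Int]
        intro x
        simp only [LinearMap.coe_comp, Function.comp_apply, Submodule.coe_subtype]
        rw [← hh]; rfl
      · change h ∘ₗ q.subtype ∈ Int _ _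
        rw [mem_Int]
        intro x
        simp only [LinearMap.coe_comp, Function.comp_apply, Submodule.coe_subtype]
        rw [← hh]; rfl
      · refine LinearMap.ext fun x => ?_
        obtain ⟨y, rfl⟩ := e.surjective x
        simp only [LinearEquiv.coe_coe]
        rw [hΦ]
        simp [e, Submodule.coe_prodEquivOfIsCompl']
  rw [← key, LinearEquiv.finrank_map_eq, finrank_prodSub]

end decomp

section exists_simple
variable {V : Type v} [AddCommGroup V] [Module K V]

lemma exists_simple [FiniteDimensional K V] [Nontrivial V] {π : Module.End K V}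
    (hss : π.IsSemisimple) :
    ∃ (p q : Submodule K V) (hp : p ∈ π.invtSubmodule) (_ : q ∈ π.invtSubmodule),
      IsCompl p q ∧ p ≠ ⊥ ∧ IsSimpleEnd (π.restrict hp) := by
  let S : Set (Submodule K V) := {p | p ∈ π.invtSubmodule ∧ p ≠ ⊥}
  have hS : S.Nonempty := ⟨⊤, Module.End.invtSubmodule.top_mem π, top_ne_bot⟩
  obtain ⟨p, ⟨hp, hp0⟩, hmin⟩ := wellFounded_lt.has_min S hS
  obtain ⟨q, hq, hc⟩ := (Module.End.isSemisimple_iff.mp hss) p hp
  refine ⟨p, q, hp, hq, hc, hp0, ?_, ?_⟩
  · exact Submodule.nontrivial_iff_ne_bot.mpr hp0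
  · intro r hr
    have h1 := Module.End.invtSubmodule.map_subtype_mem_of_mem_invtSubmodule π hp hr
    by_cases h2 : r.map p.subtype = ⊥
    · left
      apply Submodule.map_injective_of_injective p.injective_subtype
      rw [h2, Submodule.map_bot]
    · right
      have h3 : r.map p.subtype ≤ p := Submodule.map_subtype_le p r
      have h4 : r.map p.subtype = p := by
        by_contra hne
        exact hmin _ ⟨h1, h2⟩ (lt_of_le_of_ne h3 hne)
      apply Submodule.map_injective_of_injective p.injective_subtype
      rw [h4, Submodule.map_subtype_top]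

end exists_simple

section count
variable {V : Type v} {W : Type w} [AddCommGroup V] [Module K V] [AddCommGroup W] [Module K W]

lemma nf_irreducible_monic {Q : K[X]} (hQ : Irreducible Q) (hm : Q.Monic) :
    normalizedFactors Q = {Q} := by
  rw [normalizedFactors_irreducible hQ, hm.normalize_eq_self]

lemma charpoly_of_subsingleton [FiniteDimensional K V] [Subsingleton V] (π : Module.End K V) :
    π.charpoly = 1 := by
  rw [← (LinearMap.charpoly_monic π).natDegree_eq_zero, LinearMap.charpoly_natDegree,
    finrank_zero_of_subsingleton]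

lemma IsSimpleEnd.finrank_ker_aeval [FiniteDimensional K V] {π : Module.End K V}
    (hπ : IsSimpleEnd π) {P : K[X]} (hP : Irreducible P) (hPm : P.Monic) :
    finrank K (LinearMap.ker (aeval π P)) =
      (normalizedFactors π.charpoly).count P * P.natDegree := by
  rw [nf_irreducible_monic hπ.irreducible_charpoly (LinearMap.charpoly_monic π),
    Multiset.count_singleton]
  by_cases h : P = π.charpoly
  · rw [if_pos h, one_mul, h, LinearMap.aeval_self_charpoly, LinearMap.ker_zero, finrank_top,
      LinearMap.charpoly_natDegree]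
  · rw [if_neg h, zero_mul]
    rcases hπ.2 _ (ker_aeval_invt π P) with h1 | h1
    · rw [h1, finrank_bot]
    · exfalso
      apply h
      have h2 : aeval π P = 0 := LinearMap.ker_eq_top.mp h1
      have h3 : π.charpoly ∣ P := by
        rw [hπ.charpoly_eq]; exact minpoly.dvd K π h2
      have h4 : Associated π.charpoly P :=
        hπ.irreducible_charpoly.associated_of_dvd hP h3
      exact (Polynomial.eq_of_monic_of_associated (LinearMap.charpoly_monic π) hPm h4).symm

theorem finrank_ker_aeval_aux (n : ℕ) : ∀ (W : Type w) [AddCommGroup W] [Module K W]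
    [FiniteDimensional K W] (π : Module.End K W), π.IsSemisimple → finrank K W = n →
    ∀ P : K[X], Irreducible P → P.Monic →
      finrank K (LinearMap.ker (aeval π P)) =
        (normalizedFactors π.charpoly).count P * P.natDegree := by
  induction n using Nat.strong_induction_on with
  | _ n ih =>
    intro W _ _ _ π hss hn P hP hPm
    rcases subsingleton_or_nontrivial W with hW | hW
    · rw [charpoly_of_subsingleton π, normalizedFactors_one, Multiset.count_zero, zero_mul,
        finrank_zero_of_subsingleton]
    · obtain ⟨p, q, hp, hq, hc, hp0, hsimple⟩ := exists_simple hss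
      rw [finrank_ker_aeval_add π hp hq hc, charpoly_eq_mul π hp hq hc,
        normalizedFactors_mul (LinearMap.charpoly_monic _).ne_zero
          (LinearMap.charpoly_monic _).ne_zero, Multiset.count_add, add_mul,
        hsimple.finrank_ker_aeval hP hPm]
      congr 1
      have hlt : finrank K q < n := by
        have h1 := Submodule.finrank_add_eq_of_isCompl hc
        have h2 : 0 < finrank K p := by
          have hnt : Nontrivial p := Submodule.nontrivial_iff_ne_bot.mpr hp0
          exact Module.finrank_pos
        omega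
      exact ih _ hlt q (π.restrict hq) (hss.restrict hq) rfl P hP hPm

theorem finrank_ker_aeval [FiniteDimensional K W] {π : Module.End K W} (hss : π.IsSemisimple)
    {P : K[X]} (hP : Irreducible P) (hPm : P.Monic) :
    finrank K (LinearMap.ker (aeval π P)) =
      (normalizedFactors π.charpoly).count P * P.natDegree :=
  finrank_ker_aeval_aux _ W π hss rfl P hP hPm

theorem finrank_Int_aux [FiniteDimensional K W] {π₂ : Module.End K W} (h₂ : π₂.IsSemisimple)
    (n : ℕ) : ∀ (V : Type v) [AddCommGroup V] [Module K V]
    [FiniteDimensional K V] (π₁ : Module.End K V), π₁.IsSemisimple → finrank K V = n →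
      finrank K (Int π₁ π₂) =
        ((normalizedFactors π₁.charpoly).map
          (fun P => (normalizedFactors π₂.charpoly).count P * P.natDegree)).sum := by
  induction n using Nat.strong_induction_on with
  | _ n ih =>
    intro V _ _ _ π₁ hss hn
    rcases subsingleton_or_nontrivial V with hV | hV
    · rw [charpoly_of_subsingleton π₁, normalizedFactors_one, Multiset.map_zero, Multiset.sum_zero]
      have hsub : Subsingleton (Int π₁ π₂) :=
        ⟨fun a b => Subtype.ext (LinearMap.ext fun x => by
          rw [Subsingleton.elim x 0, map_zero, map_zero])⟩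
      exact finrank_zero_of_subsingleton
    · obtain ⟨p, q, hp, hq, hc, hp0, hsimple⟩ := exists_simple hss
      rw [finrank_Int_add π₁ hp hq hc π₂, charpoly_eq_mul π₁ hp hq hc,
        normalizedFactors_mul (LinearMap.charpoly_monic _).ne_zero
          (LinearMap.charpoly_monic _).ne_zero, Multiset.map_add, Multiset.sum_add]
      congr 1
      · rw [hsimple.finrank_Int π₂,
          finrank_ker_aeval h₂ hsimple.irreducible_charpoly (LinearMap.charpoly_monic _),
          nf_irreducible_monic hsimple.irreducible_charpoly (LinearMap.charpoly_monic _),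
          Multiset.map_singleton, Multiset.sum_singleton]
      · have hlt : finrank K q < n := by
          have h1 := Submodule.finrank_add_eq_of_isCompl hc
          have h2 : 0 < finrank K p := by
            have hnt : Nontrivial p := Submodule.nontrivial_iff_ne_bot.mpr hp0
            exact Module.finrank_pos
          omega
        exact ih _ hlt q (π₁.restrict hq) (hss.restrict hq) rfl

theorem finrank_Int [FiniteDimensional K V] [FiniteDimensional K W] {π₁ : Module.End K V}
    {π₂ : Module.End K W} (h₁ : π₁.IsSemisimple) (h₂ : π₂.IsSemisimple) :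
    finrank K (Int π₁ π₂) =
      ∑ P ∈ (normalizedFactors π₁.charpoly).toFinset,
        (normalizedFactors π₁.charpoly).count P * (normalizedFactors π₂.charpoly).count P *
          P.natDegree := by
  rw [finrank_Int_aux h₂ _ V π₁ h₁ rfl, Finset.sum_multiset_map_count]
  refine Finset.sum_congr rfl fun P _ => ?_
  rw [smul_eq_mul, mul_assoc]

end count

end Groth.Agent.H75.Intertw
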