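import Mathlib

set_option autoImplicit false
universe u v

namespace Groth.Agent.H75

variable {K : Type u} [Field K]

section rho
variable {V : Type v} [AddCommGroup V] [Module K V]

/-- compress an endomorphism to a complemented subspace -/
noncomputable def rho (W W' : Submodule K V) (hc : IsCompl W W') (g : Module.End K V) :
    Module.End K W :=
  (W.projectionOnto W' hc) ∘ₗ g ∘ₗ W.subtype

theorem rho_apply (W W' : Submodule K V) (hc : IsCompl W W') (g : Module.End K V)
    (hg : ∀ w ∈ W, g w ∈ W) (w : W) : ((rho W W' hc g w : W) : V) = g w := by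
  unfold rho
  simp only [LinearMap.coe_comp, Function.comp_apply, Submodule.subtype_apply]
  have := Submodule.projectionOnto_apply_left hc ⟨g w, hg w w.2⟩
  simp only at this
  rw [this]

theorem rho_mul (W W' : Submodule K V) (hc : IsCompl W W') (g h : Module.End K V)
    (hh : ∀ w ∈ W, h w ∈ W) : rho W W' hc (g * h) = rho W W' hc g * rho W W' hc h := by
  ext w
  simp only [Module.End.mul_apply]
  have e := rho_apply W W' hc h hh w
  unfold rho at *
  simp only [LinearMap.coe_comp, Function.comp_apply, Submodule.subtype_apply,
    Module.End.mul_apply] at *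
  rw [e]

theorem rho_one (W W' : Submodule K V) (hc : IsCompl W W') : rho W W' hc 1 = 1 := by
  ext w
  rw [rho_apply W W' hc 1 (fun w hw => hw) w]
  rfl

end rho

theorem card_commuting_involutions (h2 : (2 : K) ≠ 0) :
    ∀ (n : ℕ) (V : Type v) [AddCommGroup V] [Module K V] [FiniteDimensional K V],
      Module.finrank K V = n → ∀ S : Finset (Module.End K V), (∀ g ∈ S, g * g = 1) →
      (∀ g ∈ S, ∀ h ∈ S, g * h = h * g) → S.card ≤ 2 ^ n := by
  classical
  intro n
  induction n using Nat.strong_induction_on with
  | _ n ih =>
    intro V _ _ _ hn S hinv hcomm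
    by_cases hall : ∀ g ∈ S, g = 1 ∨ g = -1
    · rcases Nat.eq_zero_or_pos n with h0 | hpos
      · subst h0
        have hsub : Subsingleton V := Module.finrank_zero_iff.mp hn
        have : Subsingleton (Module.End K V) := ⟨fun a b => LinearMap.ext fun x => Subsingleton.elim _ _⟩
        rw [pow_zero]
        exact Finset.card_le_one.mpr (fun a _ b _ => Subsingleton.elim a b)
      · have hS : S ⊆ {1, -1} := by
          intro g hg
          rcases hall g hg with h | h <;> simp [h]
        calc S.card ≤ ({1, -1} : Finset (Module.End K V)).card := Finset.card_le_card hS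
          _ ≤ 2 := Finset.card_le_two
          _ = 2 ^ 1 := by norm_num
          _ ≤ 2 ^ n := Nat.pow_le_pow_right (by norm_num) hpos
    · push Not at hall
      obtain ⟨g₀, hg₀S, hg₀1, hg₀m⟩ := hall
      have hg₀sq : ∀ v, g₀ (g₀ v) = v := by
        intro v
        have := hinv g₀ hg₀S
        exact LinearMap.congr_fun this v
      let Wp : Submodule K V := LinearMap.ker (g₀ - 1)
      let Wm : Submodule K V := LinearMap.ker (g₀ + 1)
      have hWp : ∀ v, v ∈ Wp ↔ g₀ v = v := by
        intro v
        simp only [Wp, LinearMap.mem_ker, LinearMap.sub_apply, Module.End.one_apply, sub_eq_zero]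
      have hWm : ∀ v, v ∈ Wm ↔ g₀ v = -v := by
        intro v
        simp only [Wm, LinearMap.mem_ker, LinearMap.add_apply, Module.End.one_apply,
          add_eq_zero_iff_eq_neg]
      have hc : IsCompl Wp Wm := by
        constructor
        · rw [Submodule.disjoint_def]
          intro v hp hm
          rw [hWp] at hp
          rw [hWm] at hm
          have : (2 : K) • v = 0 := by
            rw [two_smul]
            nth_rw 1 [← hp]
            rw [hm]
            simp
          exact (smul_eq_zero.mp this).resolve_left h2
        · rw [codisjoint_iff, eq_top_iff]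
          intro v _
          have e : v = (2 : K)⁻¹ • (v + g₀ v) + (2 : K)⁻¹ • (v - g₀ v) := by
            rw [← smul_add]
            have : v + g₀ v + (v - g₀ v) = (2 : K) • v := by rw [two_smul]; abel
            rw [this, smul_smul, inv_mul_cancel₀ h2, one_smul]
          rw [e]
          apply Submodule.add_mem_sup
          · apply Submodule.smul_mem
            rw [hWp, map_add, hg₀sq]
            abel
          · apply Submodule.smul_mem
            rw [hWm, map_sub, hg₀sq]
            abel
      have hWpt : Wp ≠ ⊤ := by
        intro h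
        apply hg₀1
        ext v
        have : v ∈ Wp := h ▸ Submodule.mem_top
        rw [hWp] at this
        simpa using this
      have hWmt : Wm ≠ ⊤ := by
        intro h
        apply hg₀m
        ext v
        have : v ∈ Wm := h ▸ Submodule.mem_top
        rw [hWm] at this
        simpa using this
      have hnp : Module.finrank K Wp < n := hn ▸ Submodule.finrank_lt hWpt
      have hnm : Module.finrank K Wm < n := hn ▸ Submodule.finrank_lt hWmt
      have hsum : Module.finrank K Wp + Module.finrank K Wm = n :=
        hn ▸ Submodule.finrank_add_eq_of_isCompl hc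
      have hpresP : ∀ g ∈ S, ∀ w ∈ Wp, g w ∈ Wp := by
        intro g hg w hw
        rw [hWp] at hw ⊢
        have := LinearMap.congr_fun (hcomm g₀ hg₀S g hg) w
        simp only [Module.End.mul_apply] at this
        rw [this, hw]
      have hpresM : ∀ g ∈ S, ∀ w ∈ Wm, g w ∈ Wm := by
        intro g hg w hw
        rw [hWm] at hw ⊢
        have := LinearMap.congr_fun (hcomm g₀ hg₀S g hg) w
        simp only [Module.End.mul_apply] at this
        rw [this, hw, map_neg]
      let Sp : Finset (Module.End K Wp) := S.image (rho Wp Wm hc)
      let Sm : Finset (Module.End K Wm) := S.image (rho Wm Wp hc.symm)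
      have hSp : Sp.card ≤ 2 ^ Module.finrank K Wp := by
        apply ih _ hnp Wp rfl Sp
        · intro g hg
          obtain ⟨g', hg', rfl⟩ := Finset.mem_image.mp hg
          rw [← rho_mul _ _ _ _ _ (hpresP g' hg'), hinv g' hg', rho_one]
        · intro g hg h hh
          obtain ⟨g', hg', rfl⟩ := Finset.mem_image.mp hg
          obtain ⟨h', hh', rfl⟩ := Finset.mem_image.mp hh
          rw [← rho_mul _ _ _ _ _ (hpresP h' hh'), ← rho_mul _ _ _ _ _ (hpresP g' hg'),
            hcomm g' hg' h' hh']
      have hSm : Sm.card ≤ 2 ^ Module.finrank K Wm := by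
        apply ih _ hnm Wm rfl Sm
        · intro g hg
          obtain ⟨g', hg', rfl⟩ := Finset.mem_image.mp hg
          rw [← rho_mul _ _ _ _ _ (hpresM g' hg'), hinv g' hg', rho_one]
        · intro g hg h hh
          obtain ⟨g', hg', rfl⟩ := Finset.mem_image.mp hg
          obtain ⟨h', hh', rfl⟩ := Finset.mem_image.mp hh
          rw [← rho_mul _ _ _ _ _ (hpresM h' hh'), ← rho_mul _ _ _ _ _ (hpresM g' hg'),
            hcomm g' hg' h' hh']
      have hinj : Set.InjOn (fun g => (rho Wp Wm hc g, rho Wm Wp hc.symm g)) (S : Set (Module.End K V)) := by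
        intro g hg h hh hgh
        simp only [Prod.mk.injEq] at hgh
        obtain ⟨e1, e2⟩ := hgh
        ext v
        have hv : v ∈ Wp ⊔ Wm := by rw [hc.sup_eq_top]; trivial
        obtain ⟨vp, hvp, vm, hvm, rfl⟩ := Submodule.mem_sup.mp hv
        rw [map_add, map_add]
        have a1 : g vp = h vp := by
          rw [← rho_apply Wp Wm hc g (hpresP g hg) ⟨vp, hvp⟩,
            ← rho_apply Wp Wm hc h (hpresP h hh) ⟨vp, hvp⟩, e1]
        have a2 : g vm = h vm := by
          rw [← rho_apply Wm Wp hc.symm g (hpresM g hg) ⟨vm, hvm⟩,
            ← rho_apply Wm Wp hc.symm h (hpresM h hh) ⟨vm, hvm⟩, e2]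
        rw [a1, a2]
      calc S.card ≤ (Sp ×ˢ Sm).card := by
            apply Finset.card_le_card_of_injOn _ _ hinj
            intro g hg
            simp only [Finset.coe_product, Set.mem_prod, Finset.mem_coe]
            exact ⟨Finset.mem_image_of_mem _ hg, Finset.mem_image_of_mem _ hg⟩
        _ = Sp.card * Sm.card := Finset.card_product _ _
        _ ≤ 2 ^ Module.finrank K Wp * 2 ^ Module.finrank K Wm := Nat.mul_le_mul hSp hSm
        _ = 2 ^ n := by rw [← pow_add, hsum]

end Groth.Agent.H75
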