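import Mathlib
import Groth.Prelude.Def_AlgGrp

/-! Kernels of homomorphisms of group objects over a scheme in terms of generalized points. -/

set_option autoImplicit false
universe u
open CategoryTheory CategoryTheory.Limits MonoidalCategory CartesianMonoidalCategory MonObj
  AlgebraicGeometry

namespace Groth.Agent.H75.KerPts

variable {S : Scheme.{u}} {N G Q : Over S} [GrpObj Q]

theorem isKernel_iff (i : N ⟶ G) (q : G ⟶ Q) :
    AlgGrp.IsKernel i q ↔
      (i ≫ q = 1 ∧ Mono i ∧ ∀ (T : Over S) (y : T ⟶ G), y ≫ q = 1 → ∃ z : T ⟶ N, z ≫ i = y) := by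
  constructor
  · intro h
    refine ⟨by rw [h.w, Hom.one_def], ⟨fun _ _ hab => h.hom_ext hab (toUnit_unique _ _)⟩, ?_⟩
    intro T y hy
    rw [Hom.one_def] at hy
    exact ⟨h.lift y (toUnit T) hy, h.lift_fst _ _ _⟩
  · rintro ⟨hw, hmono, hlift⟩
    have hcone : ∀ s : PullbackCone q η[Q], s.fst ≫ q = 1 := by
      intro s
      rw [s.condition, Hom.one_def, toUnit_unique s.snd (toUnit s.pt)]
    refine ⟨⟨by rw [hw, Hom.one_def]⟩, ⟨PullbackCone.IsLimit.mk _
      (fun s => (hlift s.pt s.fst (hcone s)).choose)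
      (fun s => (hlift s.pt s.fst (hcone s)).choose_spec)
      (fun s => toUnit_unique _ _)
      (fun s m hm _ => ?_)⟩⟩
    rw [← cancel_mono i, hm, (hlift s.pt s.fst (hcone s)).choose_spec]

end Groth.Agent.H75.KerPts
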