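import Mathlib

universe u
open AlgebraicGeometry CategoryTheory CategoryTheory.Limits TopologicalSpace

namespace Groth.Agent.H75.KrullFibre

variable {X : Scheme.{u}}

theorem appLE_comp_fromSpecStalk (x : X) {R' : CommRingCat.{u}} (q : X.presheaf.stalk x ⟶ R')
    (V : X.Opens) (hxV : x ∈ V) (e : ⊤ ≤ (Spec.map q ≫ X.fromSpecStalk x) ⁻¹ᵁ V) :
    (Spec.map q ≫ X.fromSpecStalk x).appLE V ⊤ e =
      X.presheaf.germ V x hxV ≫ q ≫ (Scheme.ΓSpecIso R').inv := by
  rw [Scheme.Hom.comp_appLE, Scheme.fromSpecStalk_app hxV, Category.assoc, Category.assoc]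
  congr 1
  have h1 := Scheme.Hom.map_appLE (Spec.map q) (V := ⊤) (U := X.fromSpecStalk x ⁻¹ᵁ V)
    (U' := ⊤) e (homOfLE le_top).op
  rw [h1]
  rw [Scheme.ΓSpecIso_inv_naturality]
  congr 1

/-- If an ideal sheaf is contained in the kernel of `Spec R' ⟶ Spec 𝒪_{X,x} ⟶ X`, then germs at `x`
of its sections die in `R'`. -/
theorem germ_mem_ker_of_le_ker (x : X) {R' : CommRingCat.{u}} (q : X.presheaf.stalk x ⟶ R')
    [QuasiCompact (Spec.map q ≫ X.fromSpecStalk x)]
    (I : X.IdealSheafData) (hI : I ≤ (Spec.map q ≫ X.fromSpecStalk x).ker)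
    (V : X.affineOpens) (hxV : x ∈ V.1) (j : Γ(X, V.1)) (hj : j ∈ I.ideal V) :
    q.hom ((X.presheaf.germ V.1 x hxV).hom j) = 0 := by
  have h1 : j ∈ (Spec.map q ≫ X.fromSpecStalk x).ker.ideal V := hI V hj
  rw [Scheme.Hom.ker_apply, RingHom.mem_ker] at h1
  have e : ⊤ ≤ (Spec.map q ≫ X.fromSpecStalk x) ⁻¹ᵁ V.1 := by
    intro y _
    show (Spec.map q ≫ X.fromSpecStalk x).base y ∈ V.1
    rw [Scheme.Hom.comp_base, TopCat.comp_app]
    have : (X.fromSpecStalk x).base ((Spec.map q).base y) ∈ Set.range (X.fromSpecStalk x).base :=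
      ⟨_, rfl⟩
    rw [Scheme.range_fromSpecStalk] at this
    exact this.mem_open V.1.2 hxV
  have h2 : ((Spec.map q ≫ X.fromSpecStalk x).appLE V.1 ⊤ e).hom j = 0 := by
    rw [Scheme.Hom.appLE, CommRingCat.hom_comp, RingHom.comp_apply, h1, map_zero]
  rw [appLE_comp_fromSpecStalk x q V.1 hxV e] at h2
  simp only [CommRingCat.hom_comp, RingHom.comp_apply] at h2
  have hinj : Function.Injective (Scheme.ΓSpecIso R').inv.hom :=
    (ConcreteCategory.bijective_of_isIso (Scheme.ΓSpecIso R').inv).1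
  exact hinj (by rw [h2, map_zero])

/-- The quotient map of the local ring at `x` by the `(n+1)`-st power of the maximal ideal. -/
noncomputable abbrev qn (x : X) (n : ℕ) :=
  CommRingCat.ofHom (Ideal.Quotient.mk
    (IsLocalRing.maximalIdeal (X.presheaf.stalk x) ^ (n + 1)))

theorem germ_eq_zero_of_le_ker [IsLocallyNoetherian X] (x : X) (I : X.IdealSheafData)
    (hI : ∀ n : ℕ, I ≤ (Spec.map (qn x n) ≫ X.fromSpecStalk x).ker)
    (V : X.affineOpens) (hxV : x ∈ V.1) (j : Γ(X, V.1)) (hj : j ∈ I.ideal V) :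
    (X.presheaf.germ V.1 x hxV).hom j = 0 := by
  have hkrull : ⨅ i : ℕ, IsLocalRing.maximalIdeal (X.presheaf.stalk x) ^ i = ⊥ :=
    Ideal.iInf_pow_eq_bot_of_isLocalRing _ (IsLocalRing.maximalIdeal.isMaximal _).ne_top
  have hmem : (X.presheaf.germ V.1 x hxV).hom j ∈
      ⨅ i : ℕ, IsLocalRing.maximalIdeal (X.presheaf.stalk x) ^ i := by
    rw [Ideal.mem_iInf]
    intro i
    have hqc : QuasiCompact (Spec.map (qn x i) ≫ X.fromSpecStalk x) := inferInstance
    have h := germ_mem_ker_of_le_ker x (qn x i) I (hI i) V hxV j hj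
    have h' : (X.presheaf.germ V.1 x hxV).hom j ∈
        IsLocalRing.maximalIdeal (X.presheaf.stalk x) ^ (i + 1) := by
      rw [← Ideal.Quotient.eq_zero_iff_mem]
      exact h
    exact Ideal.pow_le_pow_right (Nat.le_succ i) h'
  rw [hkrull] at hmem
  exact hmem

/-- Finitely many sections with vanishing germ at `x` vanish on a common neighbourhood. -/
theorem exists_open_res_eq_zero (x : X) (V₀ : X.Opens) (hx : x ∈ V₀) (s : Finset Γ(X, V₀))
    (hs : ∀ j ∈ s, (X.presheaf.germ V₀ x hx).hom j = 0) :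
    ∃ (W : X.Opens) (hW : W ≤ V₀), x ∈ W ∧
      ∀ j ∈ s, (X.presheaf.map (homOfLE hW).op).hom j = 0 := by
  classical
  induction s using Finset.induction_on with
  | empty => exact ⟨V₀, le_rfl, hx, fun j hj => absurd hj (Finset.notMem_empty j)⟩
  | insert a s ha ih =>
    obtain ⟨W, hW, hxW, hWs⟩ := ih (fun j hj => hs j (Finset.mem_insert_of_mem hj))
    have h0 : (X.presheaf.germ V₀ x hx).hom a = (X.presheaf.germ V₀ x hx).hom 0 := by
      rw [hs a (Finset.mem_insert_self a s), map_zero]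
    obtain ⟨W', hxW', i1, i2, hW'⟩ := X.presheaf.germ_eq x hx hx a 0 h0
    refine ⟨W ⊓ W', inf_le_left.trans hW, ⟨hxW, hxW'⟩, ?_⟩
    intro j hj
    rw [Finset.mem_insert] at hj
    rcases hj with rfl | hj
    · have : (homOfLE (inf_le_left.trans hW : W ⊓ W' ≤ V₀)).op =
          i1.op ≫ (homOfLE (inf_le_right : W ⊓ W' ≤ W')).op := rfl
      rw [this, X.presheaf.map_comp, CommRingCat.hom_comp, RingHom.comp_apply]
      erw [hW']
      simp
    · have : (homOfLE (inf_le_left.trans hW : W ⊓ W' ≤ V₀)).op =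
          (homOfLE hW).op ≫ (homOfLE (inf_le_left : W ⊓ W' ≤ W)).op := rfl
      rw [this, X.presheaf.map_comp, CommRingCat.hom_comp, RingHom.comp_apply, hWs j hj, map_zero]

theorem exists_affine_ideal_eq_bot [IsLocallyNoetherian X] (x : X) (I : X.IdealSheafData)
    (V₀ : X.affineOpens) (hx : x ∈ V₀.1)
    (h : ∀ j ∈ I.ideal V₀, (X.presheaf.germ V₀.1 x hx).hom j = 0) :
    ∃ V : X.affineOpens, x ∈ V.1 ∧ I.ideal V = ⊥ := by
  classical
  have hnoeth : IsNoetherianRing Γ(X, V₀.1) := IsLocallyNoetherian.component_noetherian V₀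
  obtain ⟨s, hs⟩ := (isNoetherianRing_iff_ideal_fg _).mp hnoeth (I.ideal V₀)
  obtain ⟨W, hW, hxW, hWs⟩ := exists_open_res_eq_zero x V₀.1 hx s (fun j hj => h j (by
    rw [← hs]; exact Ideal.subset_span hj))
  obtain ⟨_, ⟨V, hV, rfl⟩, hxV, hVW⟩ := X.isBasis_affineOpens.exists_subset_of_mem_open hxW W.2
  have hV' : IsAffineOpen V := hV
  have hVV₀ : (⟨V, hV'⟩ : X.affineOpens) ≤ V₀ := fun y hy => hW (hVW hy)
  refine ⟨⟨V, hV'⟩, hxV, ?_⟩
  rw [← I.map_ideal hVV₀, ← hs, Ideal.map_span, Ideal.span_eq_bot]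
  rintro _ ⟨j, hj, rfl⟩
  have : (homOfLE hVV₀).op = (homOfLE hW).op ≫ (homOfLE (show V ≤ W from hVW)).op := rfl
  rw [this, X.presheaf.map_comp, CommRingCat.hom_comp, RingHom.comp_apply, hWs j hj, map_zero]

/-- The union of the affine opens on which the ideal sheaf vanishes maps into the closed subscheme
it defines. -/
theorem exists_lift_of_ideal_eq_bot [IsLocallyNoetherian X] (I : X.IdealSheafData) :
    ∃ U : X.Opens, (∀ V : X.affineOpens, I.ideal V = ⊥ → V.1 ≤ U) ∧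
      ∃ g : (U : Scheme.{u}) ⟶ I.subscheme, g ≫ I.subschemeι = U.ι := by
  let ι := {V : X.affineOpens // I.ideal V = ⊥}
  let U : X.Opens := ⨆ V : ι, V.1.1
  have hle : ∀ V : ι, V.1.1 ≤ U := fun V => le_iSup (fun V : ι => V.1.1) V
  refine ⟨U, fun V hV => hle ⟨V, hV⟩, ?_⟩
  have hker : I.subschemeι.ker ≤ U.ι.ker := by
    rw [Scheme.IdealSheafData.ker_subschemeι, ← Scheme.IdealSheafData.map_bot,
      Scheme.IdealSheafData.le_map_iff_comap_le]
    let W : ι → (U : Scheme.{u}).affineOpens := fun V =>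
      ⟨U.ι ⁻¹ᵁ V.1.1, V.1.2.preimage_of_isOpenImmersion U.ι (by
        rw [Scheme.Opens.opensRange_ι]; exact hle V)⟩
    refine Scheme.IdealSheafData.le_of_iSup_eq_top W ?_ ?_
    · rw [eq_top_iff]
      rintro ⟨y, hy⟩ -
      obtain ⟨V, hyV⟩ := Opens.mem_iSup.mp hy
      exact Opens.mem_iSup.mpr ⟨V, hyV⟩
    · intro V
      rw [Scheme.IdealSheafData.ideal_comap_of_isOpenImmersion]
      have himg : U.ι ''ᵁ (W V).1 = V.1.1 := by
        show U.ι ''ᵁ (U.ι ⁻¹ᵁ V.1.1) = V.1.1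
        rw [Scheme.Hom.image_preimage_eq_opensRange_inf, Scheme.Opens.opensRange_ι]
        exact inf_eq_right.mpr (hle V)
      have hI : I.ideal ⟨U.ι ''ᵁ (W V).1, (W V).2.image_of_isOpenImmersion U.ι⟩ = ⊥ := by
        have : (⟨U.ι ''ᵁ (W V).1, (W V).2.image_of_isOpenImmersion U.ι⟩ : X.affineOpens) = V.1 :=
          Subtype.ext himg
        rw [this]
        exact V.2
      rw [hI]
      intro a ha
      have hinj : Function.Injective (U.ι.appIso (W V).1).inv.hom :=
        (ConcreteCategory.bijective_of_isIso (U.ι.appIso (W V).1).inv).1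
      have : a = 0 := hinj (by rw [map_zero]; exact ha)
      rw [this]
      exact Submodule.zero_mem _
  exact ⟨IsClosedImmersion.lift I.subschemeι U.ι hker, IsClosedImmersion.lift_fac _ _ _⟩

end Groth.Agent.H75.KrullFibre
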