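import Mathlib
import Groth.Agent.H65.FormalIFT

set_option autoImplicit false
universe u

namespace Groth.Agent.H75

open MvPowerSeries

theorem lt_core {σ : Type*} [Finite σ] {R : Type*} [CommRing R] [IsDomain R] (π : R) (hπ0 : π ≠ 0)
    (hπ1 : ∀ r : ℕ, 0 < r → π ^ r ≠ 1)
    {a : σ → MvPowerSeries σ R} (ha : ∀ i, constantCoeff (a i) = 0)
    (har : ∀ i, 2 ≤ (a i - π • X i).order)
    (D E : MvPowerSeries σ R) (hD : 2 ≤ D.order) (hE : D.order + 1 ≤ E.order)
    (h : π • D + E = subst a D) : D = 0 := by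
  by_contra hD0
  have hfin := ne_zero_iff_order_finite.1 hD0
  obtain ⟨d, hd, hdeg⟩ := exists_coeff_ne_zero_and_order hfin
  let ℓ : σ → MvPowerSeries σ R := fun i => π • X i
  have hℓ : ∀ i, constantCoeff (ℓ i) = 0 := by intro i; simp [ℓ]
  have h1 := H65.ift_order_subst_sub ha hℓ har D
  have e1 : subst ℓ D = rescale (fun _ => π) D := by
    rw [rescale_eq_subst]; rfl
  have hc := congrArg (coeff d) h
  have e2 : subst a D = rescale (fun _ => π) D + (subst a D - subst ℓ D) := by rw [e1]; ring
  have hlt : ((Finsupp.degree d : ℕ) : ℕ∞) < D.order + 1 := by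
    rw [hdeg]
    exact ENat.lt_add_one_iff (by rw [← hfin]; exact ENat.coe_ne_top _) |>.2 le_rfl
  rw [e2, map_add, map_add, coeff_rescale, coeff_of_lt_order (lt_of_lt_of_le hlt hE),
    coeff_of_lt_order (lt_of_lt_of_le hlt h1), add_zero, add_zero] at hc
  have hprod : (d.prod fun _ m => π ^ m) = π ^ (Finsupp.degree d) := by
    rw [Finsupp.prod, Finsupp.degree, Finset.prod_pow_eq_pow_sum]
    rfl
  have hr2 : 2 ≤ Finsupp.degree d := by
    have : ((2 : ℕ) : ℕ∞) ≤ ((Finsupp.degree d : ℕ) : ℕ∞) := by rw [hdeg]; exact hD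
    exact_mod_cast this
  rw [hprod, coeff_smul] at hc
  obtain ⟨r, hr⟩ : ∃ r, Finsupp.degree d = r + 2 := ⟨Finsupp.degree d - 2, by omega⟩
  rw [hr] at hc
  have : π * coeff d D * (π ^ (r + 1) - 1) = 0 := by
    have : π * coeff d D * (π ^ (r + 1) - 1) = π ^ (r + 2) * coeff d D - π * coeff d D := by ring
    rw [this, ← hc, sub_self]
  rcases mul_eq_zero.1 this with h3 | h3
  · rcases mul_eq_zero.1 h3 with h4 | h4
    · exact hπ0 h4
    · exact hd h4
  · exact hπ1 (r + 1) (Nat.succ_pos _) (sub_eq_zero.1 h3)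

section

variable {σ : Type*} {R : Type*} [CommRing R] (π : R) (q : ℕ)

/-- the Lubin–Tate series `π T + T^q` -/
noncomputable def ltf : PowerSeries R := π • PowerSeries.X + PowerSeries.X ^ q

theorem ltf_subst {H : MvPowerSeries σ R} (hH : constantCoeff H = 0) :
    PowerSeries.subst H (ltf π q) = π • H + H ^ q := by
  have hs : PowerSeries.HasSubst H := PowerSeries.HasSubst.of_constantCoeff_zero hH
  rw [ltf, PowerSeries.subst_add hs, PowerSeries.subst_smul hs, PowerSeries.subst_pow hs,
    PowerSeries.subst_X hs]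

theorem order_pow_sub_pow {H H' : MvPowerSeries σ R} (hH : constantCoeff H = 0)
    (hH' : constantCoeff H' = 0) (hq : 2 ≤ q) :
    (H - H').order + 1 ≤ (H ^ q - H' ^ q).order := by
  rw [← geom_sum₂_mul, mul_comm]
  refine le_trans ?_ le_order_mul
  gcongr
  rw [one_le_order_iff_constCoeff_eq_zero, map_sum]
  refine Finset.sum_eq_zero fun i hi => ?_
  rw [map_mul, map_pow, map_pow, hH, hH']
  rw [Finset.mem_range] at hi
  by_cases hi0 : i = 0
  · rw [zero_pow (n := q - 1 - i) (by omega), mul_zero]
  · rw [zero_pow hi0, zero_mul]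

end

theorem lt_unique {σ : Type*} [Finite σ] {R : Type*} [CommRing R] [IsDomain R] (π : R) (hπ0 : π ≠ 0)
    (hπ1 : ¬ IsUnit π) (q : ℕ) (hq : 2 ≤ q)
    (H H' : MvPowerSeries σ R) (hH : constantCoeff H = 0) (hH' : constantCoeff H' = 0)
    (hHH' : 2 ≤ (H - H').order)
    (h : PowerSeries.subst H (ltf π q) =
      subst (fun i => PowerSeries.subst (X i : MvPowerSeries σ R) (ltf π q)) H)
    (h' : PowerSeries.subst H' (ltf π q) =
      subst (fun i => PowerSeries.subst (X i : MvPowerSeries σ R) (ltf π q)) H') : H = H' := by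
  have hX : ∀ i : σ, constantCoeff (X i : MvPowerSeries σ R) = 0 := fun i => constantCoeff_X i
  have ea : (fun i => PowerSeries.subst (X i : MvPowerSeries σ R) (ltf π q)) =
      fun i => π • X i + X i ^ q := by
    ext i : 1; exact ltf_subst π q (hX i)
  rw [ea, ltf_subst π q hH] at h
  rw [ea, ltf_subst π q hH'] at h'
  have ha : ∀ i : σ, constantCoeff (π • X i + X i ^ q : MvPowerSeries σ R) = 0 := by
    intro i; simp [zero_pow (by omega : q ≠ 0)]
  have hsa := hasSubst_of_constantCoeff_zero ha
  have har : ∀ i : σ, 2 ≤ ((π • X i + X i ^ q : MvPowerSeries σ R) - π • X i).order := by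
    intro i
    rw [add_sub_cancel_left]
    refine le_trans ?_ (le_order_pow_of_constantCoeff_eq_zero q (hX i))
    exact_mod_cast hq
  refine sub_eq_zero.1 (lt_core π hπ0 (fun r hr h1 => hπ1 (IsUnit.of_pow_eq_one h1 hr.ne')) ha har
    (H - H') (H ^ q - H' ^ q) hHH' (order_pow_sub_pow q hH hH' hq) ?_)
  rw [subst_sub hsa, ← h, ← h', smul_sub]; ring

section lin

variable {σ τ : Type*} {R : Type*} [CommRing R]

theorem degree_eq_one {d : σ →₀ ℕ} (h : Finsupp.degree d = 1) : ∃ j, d = Finsupp.single j 1 := by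
  classical
  have hne : d ≠ 0 := by
    rintro rfl; simp at h
  obtain ⟨j, hj⟩ : ∃ j, d j ≠ 0 := by
    by_contra hcon; push Not at hcon
    exact hne (Finsupp.ext hcon)
  refine ⟨j, ?_⟩
  have h1 : Finsupp.degree (d - Finsupp.single j 1) + Finsupp.degree (Finsupp.single j 1) =
      Finsupp.degree d := by
    rw [← map_add]
    congr 1
    ext i
    by_cases hij : i = j
    · subst hij; simp; omega
    · simp [Ne.symm hij]
  rw [Finsupp.degree_single, h] at h1
  have h2 : d - Finsupp.single j 1 = 0 := (Finsupp.degree_eq_zero_iff _).1 (by omega)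
  ext i
  have := DFunLike.congr_fun h2 i
  by_cases hij : i = j
  · subst hij; simp at this ⊢; omega
  · simp [Ne.symm hij] at this ⊢; exact this

theorem two_le_order_of_lin {H : MvPowerSeries σ R} (h0 : constantCoeff H = 0)
    (h1 : ∀ j, coeff (Finsupp.single j 1) H = 0) : 2 ≤ H.order := by
  refine le_order fun d hd => ?_
  have hd' : Finsupp.degree d < 2 := by exact_mod_cast hd
  rcases Nat.lt_succ_iff.1 hd' |>.lt_or_eq with h | h
  · have : d = 0 := (Finsupp.degree_eq_zero_iff _).1 (by omega)
    rw [this, coeff_zero_eq_constantCoeff_apply, h0]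
  · obtain ⟨j, rfl⟩ := degree_eq_one h
    exact h1 j

theorem order_le_subst {a : σ → MvPowerSeries τ R} (ha : HasSubst a)
    (ha0 : ∀ i, constantCoeff (a i) = 0) (f : MvPowerSeries σ R) :
    f.order ≤ (subst a f).order := by
  refine le_trans ?_ (le_order_subst ha f)
  have : (1 : ℕ∞) ≤ ⨅ i, (a i).order :=
    le_iInf fun i => one_le_order_iff_constCoeff_eq_zero.2 (ha0 i)
  calc f.order = 1 * f.order := (one_mul _).symm
    _ ≤ _ := mul_le_mul' this le_rfl

theorem lin_coeff_subst [Fintype σ] {a : σ → MvPowerSeries τ R}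
    (ha0 : ∀ i, constantCoeff (a i) = 0) (f : MvPowerSeries σ R) (hf : constantCoeff f = 0)
    (j : τ) :
    coeff (Finsupp.single j 1) (subst a f) =
      ∑ i, coeff (Finsupp.single i 1) f * coeff (Finsupp.single j 1) (a i) := by
  classical
  have ha := hasSubst_of_constantCoeff_zero ha0
  set L : MvPowerSeries σ R := ∑ i, coeff (Finsupp.single i 1) f • X i with hL
  have hcL : ∀ k, coeff (Finsupp.single k 1) L = coeff (Finsupp.single k 1) f := by
    intro k
    rw [hL, map_sum, Finset.sum_eq_single k]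
    · rw [coeff_smul, coeff_X, if_pos rfl, mul_one]
    · intro b _ hbk
      rw [coeff_smul, coeff_X, if_neg, mul_zero]
      intro h
      have := Finsupp.single_left_injective (one_ne_zero) h
      exact hbk this.symm
    · intro h; exact absurd (Finset.mem_univ k) h
  have h2 : 2 ≤ (f - L).order := by
    refine two_le_order_of_lin ?_ ?_
    · rw [map_sub, hf, hL, map_sum]
      simp
    · intro k; rw [map_sub, hcL, sub_self]
  have e : subst a f = subst a L + subst a (f - L) := by
    rw [← subst_add ha]; congr 1; ring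
  rw [e, map_add, coeff_of_lt_order (f := subst a (f - L)), add_zero]
  · rw [hL, ← coe_substAlgHom ha, map_sum, map_sum]
    refine Finset.sum_congr rfl fun i _ => ?_
    rw [map_smul, coe_substAlgHom, subst_X ha, coeff_smul]
  · rw [Finsupp.degree_single]
    refine lt_of_lt_of_le ?_ (le_trans h2 (order_le_subst ha ha0 _))
    exact_mod_cast (by norm_num : (1 : ℕ) < 2)

theorem lin_coeff_pssubst {u : PowerSeries R} (hu : PowerSeries.constantCoeff u = 0)
    {H : MvPowerSeries τ R} (hH : constantCoeff H = 0) (j : τ) :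
    coeff (Finsupp.single j 1) (PowerSeries.subst H u) =
      PowerSeries.coeff 1 u * coeff (Finsupp.single j 1) H := by
  rw [PowerSeries.subst, lin_coeff_subst (fun _ => hH) u hu j, Fintype.sum_unique]
  rfl

theorem two_le_order_sub {H H' : MvPowerSeries σ R} (h0 : constantCoeff H = 0)
    (h0' : constantCoeff H' = 0)
    (h1 : ∀ j, coeff (Finsupp.single j 1) H = coeff (Finsupp.single j 1) H') :
    2 ≤ (H - H').order :=
  two_le_order_of_lin (by rw [map_sub, h0, h0', sub_zero])
    (fun j => by rw [map_sub, h1 j, sub_self])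

end lin

section comp
variable {σ τ : Type*} [Finite σ] {R : Type*} [CommRing R]

/-- u(H)(a) = u(H(a)) -/
theorem subst_pssubst {a : σ → MvPowerSeries τ R} (ha : ∀ i, constantCoeff (a i) = 0)
    {H : MvPowerSeries σ R} (hH : constantCoeff H = 0) (u : PowerSeries R) :
    subst a (PowerSeries.subst H u) = PowerSeries.subst (subst a H) u := by
  have hsa := hasSubst_of_constantCoeff_zero ha
  have hsH := PowerSeries.HasSubst.of_constantCoeff_zero hH
  rw [PowerSeries.subst, subst_comp_subst_apply hsH.const hsa]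
  rfl

omit [Finite σ] in
/-- (v ∘ u)(H) = v(u(H)) -/
theorem pssubst_pssubst {u : PowerSeries R} (hu : PowerSeries.constantCoeff u = 0)
    {H : MvPowerSeries σ R} (hH : constantCoeff H = 0) (v : PowerSeries R) :
    PowerSeries.subst H (PowerSeries.subst u v) = PowerSeries.subst (PowerSeries.subst H u) v :=
  PowerSeries.subst_comp_subst_apply (PowerSeries.HasSubst.of_constantCoeff_zero' hu)
    (PowerSeries.HasSubst.of_constantCoeff_zero hH) v

omit [Finite σ] in
theorem constantCoeff_pssubst {u : PowerSeries R} (hu : PowerSeries.constantCoeff u = 0)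
    {H : MvPowerSeries σ R} (hH : constantCoeff H = 0) :
    constantCoeff (PowerSeries.subst H u) = 0 :=
  PowerSeries.constantCoeff_subst_eq_zero hH u hu

end comp

end Groth.Agent.H75
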