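import Mathlib
import Groth.Agent.H75.LTUnique

set_option autoImplicit false
universe u

namespace Groth.Agent.H75

open MvPowerSeries

section

variable {R : Type*} [CommRing R]

/-- `h(X_i)` -/
noncomputable def diagS (σ : Type*) (h : PowerSeries R) : σ → MvPowerSeries σ R :=
  fun i => PowerSeries.subst (X i : MvPowerSeries σ R) h

theorem diagS_const {σ : Type*} {h : PowerSeries R} (h0 : PowerSeries.constantCoeff h = 0) (i : σ) :
    constantCoeff (diagS σ h i) = 0 :=
  constantCoeff_pssubst h0 (constantCoeff_X i)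

/-- `u(v(X_i)) = (v ∘ u)`... : `diagS (v∘u) i = u.subst... ` -/
theorem diagS_comp {σ : Type*} {u : PowerSeries R} (hu : PowerSeries.constantCoeff u = 0)
    (v : PowerSeries R) (i : σ) :
    diagS σ (PowerSeries.subst u v) i = PowerSeries.subst (diagS σ u i) v :=
  pssubst_pssubst hu (constantCoeff_X i) v

theorem subst_diagS {σ τ : Type*} [Finite σ] {a : σ → MvPowerSeries τ R}
    (ha : ∀ i, constantCoeff (a i) = 0) (u : PowerSeries R) (i : σ) :
    subst a (diagS σ u i) = PowerSeries.subst (a i) u := by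
  rw [diagS, subst_pssubst ha (constantCoeff_X i), subst_X (hasSubst_of_constantCoeff_zero ha)]

theorem diagS_unit (u : PowerSeries R) : diagS Unit u = fun _ => u := by
  ext i : 1
  rw [diagS]
  exact PowerSeries.X_subst u

theorem lin_coeff_diagS {σ : Type*} [DecidableEq σ] {u : PowerSeries R}
    (hu : PowerSeries.constantCoeff u = 0)
    (i j : σ) : coeff (Finsupp.single j 1) (diagS σ u i) =
      if i = j then PowerSeries.coeff 1 u else 0 := by
  rw [diagS, lin_coeff_pssubst hu (constantCoeff_X i), coeff_X]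
  by_cases h : i = j
  · subst h; simp
  · rw [if_neg h, if_neg, mul_zero]
    intro h'
    exact h (Finsupp.single_left_injective one_ne_zero h').symm

end

theorem lt_endo {R : Type*} [CommRing R] [IsDomain R] (π : R) (hπ0 : π ≠ 0)
    (hπ1 : ¬ IsUnit π) (q : ℕ) (hq : 2 ≤ q) (F : FormalGroup R)
    (hF : PowerSeries.subst F.toPowerSeries (ltf π q) =
        subst (diagS (Fin 2) (ltf π q)) F.toPowerSeries)
    (g : PowerSeries R) (hg0 : PowerSeries.constantCoeff g = 0)
    (hgf : PowerSeries.subst g (ltf π q) = PowerSeries.subst (ltf π q) g) :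
    PowerSeries.subst F.toPowerSeries g = subst (diagS (Fin 2) g) F.toPowerSeries := by
  have hf0 : PowerSeries.constantCoeff (ltf π q : PowerSeries R) = 0 := by
    simp [ltf, zero_pow (by omega : q ≠ 0)]
  have hF0 := F.zero_constantCoeff
  have ha := fun i => diagS_const hf0 (σ := Fin 2) i
  have hb := fun i => diagS_const hg0 (σ := Fin 2) i
  have hsa := hasSubst_of_constantCoeff_zero ha
  have hsb := hasSubst_of_constantCoeff_zero hb
  have h10 : constantCoeff (PowerSeries.subst F.toPowerSeries g) = 0 :=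
    constantCoeff_pssubst hg0 hF0
  have h20 : constantCoeff (subst (diagS (Fin 2) g) F.toPowerSeries) = 0 :=
    constantCoeff_subst_eq_zero hsb hb hF0
  refine lt_unique π hπ0 hπ1 q hq _ _ h10 h20 ?_ ?_ ?_
  · refine two_le_order_sub h10 h20 fun j => ?_
    rw [lin_coeff_pssubst hg0 hF0, lin_coeff_subst hb _ hF0, Fin.sum_univ_two,
      F.lin_coeff_X, F.lin_coeff_Y, lin_coeff_diagS hg0, lin_coeff_diagS hg0]
    fin_cases j
    · simp [F.lin_coeff_X]
    · simp [F.lin_coeff_Y]
  · change _ = subst (diagS (Fin 2) (ltf π q)) _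
    rw [← pssubst_pssubst hg0 hF0, hgf, pssubst_pssubst hf0 hF0, hF, subst_pssubst ha hF0]
  · change _ = subst (diagS (Fin 2) (ltf π q)) _
    rw [← subst_pssubst hb hF0, hF, subst_comp_subst_apply hsa hsb, subst_comp_subst_apply hsb hsa]
    congr 1
    ext i : 1
    rw [subst_diagS hb, subst_diagS ha, ← diagS_comp hg0, ← diagS_comp hf0, hgf]

theorem lt_unique1 {R : Type*} [CommRing R] [IsDomain R] (π : R) (hπ0 : π ≠ 0)
    (hπ1 : ¬ IsUnit π) (q : ℕ) (hq : 2 ≤ q) (u v : PowerSeries R)
    (hu0 : PowerSeries.constantCoeff u = 0) (hv0 : PowerSeries.constantCoeff v = 0)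
    (h1 : PowerSeries.coeff 1 u = PowerSeries.coeff 1 v)
    (hu : PowerSeries.subst u (ltf π q) = PowerSeries.subst (ltf π q) u)
    (hv : PowerSeries.subst v (ltf π q) = PowerSeries.subst (ltf π q) v) : u = v := by
  refine lt_unique (σ := Unit) π hπ0 hπ1 q hq u v hu0 hv0 ?_ ?_ ?_
  · refine two_le_order_sub hu0 hv0 fun j => ?_
    exact h1
  · change _ = subst (diagS Unit (ltf π q)) _
    rw [diagS_unit]; exact hu
  · change _ = subst (diagS Unit (ltf π q)) _
    rw [diagS_unit]; exact hv

theorem lt_add_mul {R : Type*} [CommRing R] [IsDomain R] (π : R) (hπ0 : π ≠ 0)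
    (hπ1 : ¬ IsUnit π) (q : ℕ) (hq : 2 ≤ q) (F : FormalGroup R)
    (hF : PowerSeries.subst F.toPowerSeries (ltf π q) =
        subst (diagS (Fin 2) (ltf π q)) F.toPowerSeries)
    (α β : R) (gα gβ gαβ gs : PowerSeries R)
    (hα0 : PowerSeries.constantCoeff gα = 0) (hα1 : PowerSeries.coeff 1 gα = α)
    (hαf : PowerSeries.subst gα (ltf π q) = PowerSeries.subst (ltf π q) gα)
    (hβ0 : PowerSeries.constantCoeff gβ = 0) (hβ1 : PowerSeries.coeff 1 gβ = β)
    (hβf : PowerSeries.subst gβ (ltf π q) = PowerSeries.subst (ltf π q) gβ)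
    (hαβ0 : PowerSeries.constantCoeff gαβ = 0) (hαβ1 : PowerSeries.coeff 1 gαβ = α * β)
    (hαβf : PowerSeries.subst gαβ (ltf π q) = PowerSeries.subst (ltf π q) gαβ)
    (hs0 : PowerSeries.constantCoeff gs = 0) (hs1 : PowerSeries.coeff 1 gs = α + β)
    (hsf : PowerSeries.subst gs (ltf π q) = PowerSeries.subst (ltf π q) gs) :
    PowerSeries.subst gβ gα = gαβ ∧ F.toPowerSeries.subst ![gα, gβ] = gs := by
  have hf0 : PowerSeries.constantCoeff (ltf π q : PowerSeries R) = 0 := by
    simp [ltf, zero_pow (by omega : q ≠ 0)]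
  have hF0 := F.zero_constantCoeff
  constructor
  · have h0 : PowerSeries.constantCoeff (PowerSeries.subst gβ gα) = 0 :=
      constantCoeff_pssubst hα0 hβ0
    refine lt_unique1 π hπ0 hπ1 q hq _ _ h0 hαβ0 ?_ ?_ hαβf
    · rw [hαβ1]
      have := lin_coeff_pssubst hα0 (H := gβ) hβ0 ()
      rw [hα1] at this
      rw [← hβ1]
      exact this
    · rw [← pssubst_pssubst hα0 hβ0, hαf, pssubst_pssubst hf0 hβ0, hβf,
        ← pssubst_pssubst hβ0 hf0]
  · have hc : ∀ i, constantCoeff ((![gα, gβ] : Fin 2 → PowerSeries R) i) = 0 := by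
      intro i; fin_cases i
      · exact hα0
      · exact hβ0
    have hsc := hasSubst_of_constantCoeff_zero hc
    have ha := fun i => diagS_const hf0 (σ := Fin 2) i
    have hsa := hasSubst_of_constantCoeff_zero ha
    have h0 : PowerSeries.constantCoeff (subst ![gα, gβ] F.toPowerSeries) = 0 :=
      constantCoeff_subst_eq_zero hsc hc hF0
    refine lt_unique1 π hπ0 hπ1 q hq _ _ h0 hs0 ?_ ?_ hsf
    · rw [hs1]
      have := lin_coeff_subst hc _ hF0 ()
      rw [Fin.sum_univ_two, F.lin_coeff_X, F.lin_coeff_Y] at this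
      rw [← hα1, ← hβ1]
      simpa using this
    · have hff : ∀ i : Unit, constantCoeff ((fun _ : Unit => (ltf π q : PowerSeries R)) i) = 0 :=
        fun _ => hf0
      have hsf := hasSubst_of_constantCoeff_zero hff
      rw [← subst_pssubst hc hF0, hF, subst_comp_subst_apply hsa hsc]
      change _ = subst (fun _ : Unit => ltf π q) _
      rw [subst_comp_subst_apply hsc hsf]
      congr 1
      ext i : 1
      rw [subst_diagS hc]
      fin_cases i
      · exact hαf
      · exact hβf

end Groth.Agent.H75
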