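import Mathlib
import Groth.Agent.H75.LTEndo

set_option autoImplicit false
universe u

namespace Groth.Agent.H75

open MvPowerSeries

theorem exists_limit_of_order {σ : Type*} {R : Type*} [CommRing R] (g : ℕ → MvPowerSeries σ R)
    (hstep : ∀ n : ℕ, (n : ℕ∞) ≤ (g (n + 1) - g n).order) :
    ∃ G : MvPowerSeries σ R, ∀ n : ℕ, (n : ℕ∞) ≤ (G - g n).order := by
  have hmono : ∀ n k : ℕ, (n : ℕ∞) ≤ (g (n + k) - g n).order := by
    intro n k
    induction k with
    | zero => simp
    | succ k ih =>
      have e : g (n + (k + 1)) - g n = (g (n + k + 1) - g (n + k)) + (g (n + k) - g n) := by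
        rw [← add_assoc]; ring
      rw [e]
      refine le_trans (le_min ?_ ih) min_order_le_add
      exact le_trans (by exact_mod_cast Nat.le_add_right n k) (hstep (n + k))
  let G : MvPowerSeries σ R := fun d => coeff d (g (Finsupp.degree d + 1))
  refine ⟨G, fun n => ?_⟩
  refine nat_le_order fun d hd => ?_
  have e : coeff d G = coeff d (g (Finsupp.degree d + 1)) := rfl
  rw [map_sub, e, ← map_sub]
  obtain ⟨k, rfl⟩ := Nat.exists_eq_add_of_le (Nat.succ_le_of_lt hd)
  have := hmono (Finsupp.degree d + 1) k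
  rw [← neg_sub, map_neg, neg_eq_zero]
  refine coeff_of_lt_order (lt_of_lt_of_le ?_ this)
  exact_mod_cast Nat.lt_succ_self _

section log

variable {K : Type*} [Field K] (π : K)

/-- divide the degree `k` coefficient by `π^k - π` -/
noncomputable def logPsi (r : MvPowerSeries Unit K) : MvPowerSeries Unit K :=
  fun d => coeff d r / (π ^ (Finsupp.degree d) - π)

theorem coeff_logPsi (r : MvPowerSeries Unit K) (d : Unit →₀ ℕ) :
    coeff d (logPsi π r) = coeff d r / (π ^ (Finsupp.degree d) - π) := rfl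

theorem order_logPsi (r : MvPowerSeries Unit K) : r.order ≤ (logPsi π r).order := by
  refine le_order fun d hd => ?_
  rw [coeff_logPsi, coeff_of_lt_order hd, zero_div]

variable (f : MvPowerSeries Unit K)

/-- `u ↦ u(f) - π u` -/
noncomputable def logPhi (u : MvPowerSeries Unit K) : MvPowerSeries Unit K :=
  subst (fun _ => f) u - π • u

variable {π f}

theorem logPhi_sub (hf0 : constantCoeff f = 0) (u v : MvPowerSeries Unit K) :
    logPhi π f (u - v) = logPhi π f u - logPhi π f v := by
  have hs : HasSubst (fun _ : Unit => f) := hasSubst_of_constantCoeff_zero fun _ => hf0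
  rw [logPhi, logPhi, logPhi, subst_sub hs, smul_sub]; ring

theorem order_logPhi (hf0 : constantCoeff f = 0) (u : MvPowerSeries Unit K) :
    u.order ≤ (logPhi π f u).order := by
  have hs : HasSubst (fun _ : Unit => f) := hasSubst_of_constantCoeff_zero fun _ => hf0
  rw [logPhi, sub_eq_add_neg]
  refine le_trans (le_min ?_ ?_) min_order_le_add
  · exact order_le_subst hs (fun _ => hf0) u
  · rw [order_neg]; exact le_order_smul

theorem logPhi_logPsi (hπ0 : π ≠ 0) (hπ1 : ∀ r : ℕ, 0 < r → π ^ r ≠ 1)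
    (hf0 : constantCoeff f = 0) (hf1 : 2 ≤ (f - π • X ()).order)
    (r : MvPowerSeries Unit K) (hr : 2 ≤ r.order) :
    r.order + 1 ≤ (logPhi π f (logPsi π r) - r).order := by
  let ℓ : Unit → MvPowerSeries Unit K := fun i => π • X i
  have hℓ : ∀ i, constantCoeff (ℓ i) = 0 := by intro i; simp [ℓ]
  have h1 := H65.ift_order_subst_sub (a := fun _ => f) (fun _ => hf0) hℓ (fun _ => hf1) (logPsi π r)
  have e1 : subst ℓ (logPsi π r) = rescale (fun _ => π) (logPsi π r) := by
    rw [rescale_eq_subst]; rfl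
  have e2 : rescale (fun _ => π) (logPsi π r) - π • logPsi π r = r := by
    refine MvPowerSeries.ext fun d => ?_
    rw [map_sub, coeff_rescale, coeff_smul, coeff_logPsi]
    have hprod : (d.prod fun _ m => π ^ m) = π ^ (Finsupp.degree d) := by
      rw [Finsupp.prod, Finsupp.degree, Finset.prod_pow_eq_pow_sum]
      rfl
    rw [hprod]
    by_cases hd : Finsupp.degree d < 2
    · have : coeff d r = 0 := coeff_of_lt_order (lt_of_lt_of_le (by exact_mod_cast hd) hr)
      rw [this]; simp
    · have hne : π ^ (Finsupp.degree d) - π ≠ 0 := by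
        obtain ⟨k, hk⟩ : ∃ k, Finsupp.degree d = k + 2 := ⟨Finsupp.degree d - 2, by omega⟩
        rw [hk]
        intro h
        have : π * (π ^ (k + 1) - 1) = 0 := by rw [← h]; ring
        rcases mul_eq_zero.1 this with h3 | h3
        · exact hπ0 h3
        · exact hπ1 (k + 1) (Nat.succ_pos _) (sub_eq_zero.1 h3)
      field_simp
  have e3 : logPhi π f (logPsi π r) - r =
      subst (fun _ => f) (logPsi π r) - subst ℓ (logPsi π r) := by
    rw [logPhi, e1]
    have : subst (fun _ => f) (logPsi π r) - rescale (fun _ => π) (logPsi π r) =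
        subst (fun _ => f) (logPsi π r) - π • logPsi π r -
          (rescale (fun _ => π) (logPsi π r) - π • logPsi π r) := by ring
    rw [this, e2]
  rw [e3]
  exact le_trans (by gcongr; exact order_logPsi π r) h1

theorem exists_log (hπ0 : π ≠ 0) (hπ1 : ∀ r : ℕ, 0 < r → π ^ r ≠ 1)
    (hf0 : constantCoeff f = 0) (hf1 : 2 ≤ (f - π • X ()).order) :
    ∃ ℓ : MvPowerSeries Unit K, 2 ≤ (ℓ - X ()).order ∧ logPhi π f ℓ = 0 := by
  have hs : HasSubst (fun _ : Unit => f) := hasSubst_of_constantCoeff_zero fun _ => hf0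
  let g : ℕ → MvPowerSeries Unit K := fun n =>
    Nat.rec (X ()) (fun _ gn => gn - logPsi π (logPhi π f gn)) n
  have gs : ∀ n, g (n + 1) = g n - logPsi π (logPhi π f (g n)) := fun n => rfl
  have hinv : ∀ n : ℕ, ((n : ℕ∞) + 2) ≤ (logPhi π f (g n)).order := by
    intro n
    induction n with
    | zero =>
      have : logPhi π f (g 0) = f - π • X () := by
        change subst (fun _ => f) (X ()) - π • X () = _
        rw [subst_X hs]
      rw [this]; simpa using hf1
    | succ n ih =>
      rw [gs, logPhi_sub hf0]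
      have h2 : 2 ≤ (logPhi π f (g n)).order := le_trans le_add_self ih
      have := logPhi_logPsi hπ0 hπ1 hf0 hf1 _ h2
      rw [← order_neg (logPhi π f (logPsi π (logPhi π f (g n))) - logPhi π f (g n)),
        neg_sub] at this
      refine le_trans ?_ this
      push_cast
      calc (n : ℕ∞) + 1 + 2 = (n + 2) + 1 := by ring
        _ ≤ _ := by gcongr
  have hstep2 : ∀ n : ℕ, ((n : ℕ∞) + 2) ≤ (g (n + 1) - g n).order := by
    intro n
    rw [gs, sub_sub_cancel_left, order_neg]
    exact le_trans (hinv n) (order_logPsi π _)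
  have hstep : ∀ n : ℕ, (n : ℕ∞) ≤ (g (n + 1) - g n).order :=
    fun n => le_trans le_self_add (hstep2 n)
  have hX : ∀ n : ℕ, 2 ≤ (g n - X ()).order := by
    intro n
    induction n with
    | zero =>
      have : g 0 - X () = 0 := sub_self _
      rw [this, order_zero]; exact le_top
    | succ n ih =>
      have e : g (n + 1) - X () = (g (n + 1) - g n) + (g n - X ()) := by ring
      rw [e]
      exact le_trans (le_min (le_trans le_add_self (hstep2 n)) ih) min_order_le_add
  obtain ⟨G, hG⟩ := exists_limit_of_order g hstep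
  refine ⟨G, ?_, ?_⟩
  · have e : G - X () = (G - g 2) + (g 2 - X ()) := by ring
    rw [e]
    exact le_trans (le_min (by simpa using hG 2) (hX 2)) min_order_le_add
  · rw [← order_eq_top_iff]
    refine ENat.eq_top_iff_forall_ge.2 fun n => ?_
    have e : logPhi π f G = logPhi π f (G - g n) + logPhi π f (g n) := by
      rw [logPhi_sub hf0]; ring
    rw [e]
    refine le_trans (le_min ?_ ?_) min_order_le_add
    · exact (hG n).trans (order_logPhi hf0 _)
    · exact le_trans le_self_add (hinv n)

end log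

theorem ltf_const {R : Type*} [CommRing R] (π : R) {q : ℕ} (hq : 2 ≤ q) :
    PowerSeries.constantCoeff (ltf π q : PowerSeries R) = 0 := by
  simp [ltf, zero_pow (by omega : q ≠ 0)]

theorem ltf_order {R : Type*} [CommRing R] (π : R) {q : ℕ} (hq : 2 ≤ q) :
    2 ≤ MvPowerSeries.order ((ltf π q : PowerSeries R) - π • X ()) := by
  have e : (ltf π q : PowerSeries R) - π • X () = (X () : MvPowerSeries Unit R) ^ q := by
    rw [ltf]; exact add_sub_cancel_left _ _
  rw [e]
  refine le_trans ?_ (le_order_pow_of_constantCoeff_eq_zero q (constantCoeff_X ()))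
  exact_mod_cast hq

theorem lt_lin_core {σ : Type*} [Finite σ] {R : Type*} [CommRing R] [IsDomain R] (π : R)
    (hπ0 : π ≠ 0) (hπ1 : ∀ r : ℕ, 0 < r → π ^ r ≠ 1) (q : ℕ) (hq : 2 ≤ q)
    (H : MvPowerSeries σ R) (hH : 2 ≤ H.order)
    (h : subst (diagS σ (ltf π q)) H = π • H) : H = 0 := by
  have hX : ∀ i : σ, constantCoeff (X i : MvPowerSeries σ R) = 0 := fun i => constantCoeff_X i
  have ea : diagS σ (ltf π q) = fun i => π • X i + X i ^ q := by
    ext i : 1; exact ltf_subst π q (hX i)
  rw [ea] at h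
  have ha : ∀ i : σ, constantCoeff (π • X i + X i ^ q : MvPowerSeries σ R) = 0 := by
    intro i; simp [zero_pow (by omega : q ≠ 0)]
  have har : ∀ i : σ, 2 ≤ ((π • X i + X i ^ q : MvPowerSeries σ R) - π • X i).order := by
    intro i
    rw [add_sub_cancel_left]
    refine le_trans ?_ (le_order_pow_of_constantCoeff_eq_zero q (hX i))
    exact_mod_cast hq
  refine lt_core π hπ0 hπ1 ha har H 0 hH ?_ ?_
  · rw [order_zero]; exact le_top
  · rw [add_zero, h]

theorem map_ltf {O K : Type*} [CommRing O] [CommRing K] (φ : O →+* K) (π : O) (q : ℕ) :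
    PowerSeries.map φ (ltf π q) = ltf (φ π) q := by
  rw [ltf, ltf, map_add, map_pow, PowerSeries.map_X, PowerSeries.smul_eq_C_mul, map_mul,
    PowerSeries.map_C, PowerSeries.map_X, ← PowerSeries.smul_eq_C_mul]

theorem map_diagS {O K : Type*} [CommRing O] [CommRing K] (φ : O →+* K) (σ : Type*)
    (u : PowerSeries O) (i : σ) :
    MvPowerSeries.map φ (diagS σ u i) = diagS σ (PowerSeries.map φ u) i := by
  rw [diagS, diagS, PowerSeries.map_subst (PowerSeries.HasSubst.of_constantCoeff_zero
    (constantCoeff_X i)), MvPowerSeries.map_X]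

theorem lt_log {O K : Type*} [CommRing O] [IsDomain O] [Field K] [Algebra O K] [IsFractionRing O K]
    (π : O) (hπ0 : π ≠ 0) (hπ1 : ¬ IsUnit π) (q : ℕ) (hq : 2 ≤ q) (F : FormalGroup O)
    (hF : PowerSeries.subst F.toPowerSeries (ltf π q) =
        subst (diagS (Fin 2) (ltf π q)) F.toPowerSeries) :
    ∃ ℓ : PowerSeries K, (PowerSeries.constantCoeff ℓ = 0 ∧ PowerSeries.coeff 1 ℓ = 1 ∧
      PowerSeries.subst (PowerSeries.map (algebraMap O K) (ltf π q)) ℓ = algebraMap O K π • ℓ) ∧
      (∀ ℓ' : PowerSeries K, PowerSeries.constantCoeff ℓ' = 0 → PowerSeries.coeff 1 ℓ' = 1 →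
        PowerSeries.subst (PowerSeries.map (algebraMap O K) (ltf π q)) ℓ' = algebraMap O K π • ℓ' →
          ℓ' = ℓ) ∧
      PowerSeries.subst ((F.toPowerSeries).map (algebraMap O K)) ℓ =
        PowerSeries.subst (X (0 : Fin 2) : MvPowerSeries (Fin 2) K) ℓ +
          PowerSeries.subst (X (1 : Fin 2) : MvPowerSeries (Fin 2) K) ℓ ∧
      (∀ (α : O) (g : PowerSeries O), PowerSeries.constantCoeff g = 0 → PowerSeries.coeff 1 g = α →
        PowerSeries.subst g (ltf π q) = PowerSeries.subst (ltf π q) g →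
        PowerSeries.subst (PowerSeries.map (algebraMap O K) g) ℓ = algebraMap O K α • ℓ) := by
  set φ := algebraMap O K with hφdef
  have hφ : Function.Injective φ := IsFractionRing.injective O K
  set πK := φ π with hπK
  have hπK0 : πK ≠ 0 := fun h => hπ0 (hφ (h.trans (map_zero φ).symm))
  have hπK1 : ∀ r : ℕ, 0 < r → πK ^ r ≠ 1 := by
    intro r hr h
    refine hπ1 (IsUnit.of_pow_eq_one (n := r) (hφ ?_) hr.ne')
    rw [map_pow, map_one]; exact h
  rw [map_ltf]
  set fK : PowerSeries K := ltf πK q with hfK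
  have hfK0 : PowerSeries.constantCoeff fK = 0 := ltf_const πK hq
  have hsfK : HasSubst (fun _ : Unit => fK) := hasSubst_of_constantCoeff_zero fun _ => hfK0
  obtain ⟨ℓ, hℓX, hℓΦ⟩ := exists_log hπK0 hπK1 hfK0 (ltf_order πK hq)
  have hℓ0 : PowerSeries.constantCoeff ℓ = 0 := by
    have := coeff_of_lt_order (f := ℓ - X ()) (d := 0)
      (lt_of_lt_of_le (by simp) hℓX)
    rw [map_sub, coeff_zero_X, sub_zero] at this
    exact this
  have hℓ1 : PowerSeries.coeff 1 ℓ = 1 := by
    have := coeff_of_lt_order (f := ℓ - X ()) (d := Finsupp.single () 1)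
      (lt_of_lt_of_le (by rw [Finsupp.degree_single]; exact_mod_cast (by norm_num : (1 : ℕ) < 2))
        hℓX)
    rw [map_sub, coeff_X, if_pos rfl, sub_eq_zero] at this
    exact this
  have hℓf : PowerSeries.subst fK ℓ = πK • ℓ := sub_eq_zero.1 hℓΦ
  refine ⟨ℓ, ⟨hℓ0, hℓ1, hℓf⟩, ?_, ?_, ?_⟩
  · intro ℓ' h0 h1 hf
    refine sub_eq_zero.1 (lt_lin_core (σ := Unit) πK hπK0 hπK1 q hq (ℓ' - ℓ) ?_ ?_)
    · refine two_le_order_sub h0 hℓ0 fun j => ?_
      exact h1.trans hℓ1.symm
    · rw [diagS_unit, subst_sub hsfK, smul_sub]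
      exact congrArg₂ (· - ·) hf hℓf
  · set FK : MvPowerSeries (Fin 2) K := F.toPowerSeries.map φ with hFKdef
    have hF0 := F.zero_constantCoeff
    have hFK0 : constantCoeff FK = 0 := by rw [hFKdef, constantCoeff_map, hF0, map_zero]
    have ha0 := fun i => diagS_const (ltf_const π hq) (σ := Fin 2) i
    have ha := fun i => diagS_const hfK0 (σ := Fin 2) i
    have hsa := hasSubst_of_constantCoeff_zero ha
    have hFK : PowerSeries.subst FK fK = subst (diagS (Fin 2) fK) FK := by
      have := congrArg (MvPowerSeries.map φ) hF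
      rw [PowerSeries.map_subst (PowerSeries.HasSubst.of_constantCoeff_zero hF0),
        MvPowerSeries.map_subst (hasSubst_of_constantCoeff_zero ha0), map_ltf] at this
      rw [this]
      congr 1
      ext i : 1
      rw [map_diagS, map_ltf]
    have hd0 := fun i => diagS_const hℓ0 (σ := Fin 2) i
    have hS0 : constantCoeff (PowerSeries.subst FK ℓ) = 0 := constantCoeff_pssubst hℓ0 hFK0
    refine sub_eq_zero.1 (lt_lin_core (σ := Fin 2) πK hπK0 hπK1 q hq
      (PowerSeries.subst FK ℓ - (diagS (Fin 2) ℓ 0 + diagS (Fin 2) ℓ 1)) ?_ ?_)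
    · refine two_le_order_sub hS0 (by rw [map_add, hd0, hd0, add_zero]) fun j => ?_
      rw [lin_coeff_pssubst hℓ0 hFK0, map_add, lin_coeff_diagS hℓ0, lin_coeff_diagS hℓ0, hℓ1,
        hFKdef, coeff_map]
      fin_cases j
      · simp [F.lin_coeff_X]
      · simp [F.lin_coeff_Y]
    · have e1 : subst (diagS (Fin 2) fK) (PowerSeries.subst FK ℓ) =
          πK • PowerSeries.subst FK ℓ := by
        rw [subst_pssubst ha hFK0, ← hFK, ← pssubst_pssubst hfK0 hFK0, hℓf,
          PowerSeries.subst_smul (PowerSeries.HasSubst.of_constantCoeff_zero hFK0)]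
      have e2 : ∀ i, subst (diagS (Fin 2) fK) (diagS (Fin 2) ℓ i) = πK • diagS (Fin 2) ℓ i := by
        intro i
        rw [subst_diagS ha, ← diagS_comp hfK0, hℓf, diagS, diagS,
          PowerSeries.subst_smul (PowerSeries.HasSubst.of_constantCoeff_zero (constantCoeff_X i))]
      rw [subst_sub hsa, subst_add hsa, e1, e2, e2, smul_sub, smul_add]
  · intro α g hg0 hg1 hgf
    set gK : PowerSeries K := PowerSeries.map φ g with hgKdef
    have hgK0 : PowerSeries.constantCoeff gK = 0 := by
      rw [hgKdef, ← PowerSeries.coeff_zero_eq_constantCoeff_apply, PowerSeries.coeff_map,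
        PowerSeries.coeff_zero_eq_constantCoeff_apply, hg0, map_zero]
    have hgK1 : PowerSeries.coeff 1 gK = φ α := by rw [hgKdef, PowerSeries.coeff_map, hg1]
    have hgfK : PowerSeries.subst gK fK = PowerSeries.subst fK gK := by
      have e : MvPowerSeries.map φ (ltf π q) = fK := map_ltf φ π q
      have := congrArg (MvPowerSeries.map φ) hgf
      rw [PowerSeries.map_subst (PowerSeries.HasSubst.of_constantCoeff_zero' hg0),
        PowerSeries.map_subst (PowerSeries.HasSubst.of_constantCoeff_zero' (ltf_const π hq)),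
        e, map_ltf] at this
      exact this
    have hS0 : PowerSeries.constantCoeff (PowerSeries.subst gK ℓ) = 0 :=
      constantCoeff_pssubst hℓ0 hgK0
    refine sub_eq_zero.1 (lt_lin_core (σ := Unit) πK hπK0 hπK1 q hq
      (PowerSeries.subst gK ℓ - φ α • ℓ) ?_ ?_)
    · have hℓ0' : MvPowerSeries.constantCoeff ℓ = 0 := hℓ0
      refine two_le_order_sub hS0 (by
        rw [MvPowerSeries.smul_eq_C_mul, map_mul, hℓ0', mul_zero])
        fun j => ?_
      rw [lin_coeff_pssubst hℓ0 hgK0, coeff_smul, hℓ1]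
      have h1 : coeff (Finsupp.single j 1) gK = φ α := hgK1
      have h2 : coeff (Finsupp.single j 1) ℓ = 1 := hℓ1
      rw [h1, h2, one_mul, mul_one]
    · rw [diagS_unit, subst_sub hsfK, subst_smul hsfK]
      have e1 : subst (fun _ : Unit => fK) (PowerSeries.subst gK ℓ) =
          πK • PowerSeries.subst gK ℓ := by
        change PowerSeries.subst fK (PowerSeries.subst gK ℓ) = _
        rw [pssubst_pssubst hgK0 hfK0, ← hgfK, ← pssubst_pssubst hfK0 hgK0, hℓf,
          PowerSeries.subst_smul (PowerSeries.HasSubst.of_constantCoeff_zero' hgK0)]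
      have e2 : subst (fun _ : Unit => fK) ℓ = πK • ℓ := hℓf
      rw [e1, e2, smul_sub, smul_comm]

end Groth.Agent.H75
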