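import Mathlib
import Groth.Agent.H75.LTLog

set_option autoImplicit false
universe u

namespace Groth.Agent.H75

open MvPowerSeries

theorem frob_expand {k : Type*} [Field k] [Finite k] {σ : Type*} (G : MvPowerSeries σ k) :
    G ^ Nat.card k = subst (fun i => (X i : MvPowerSeries σ k) ^ Nat.card k) G := by
  classical
  have := Fintype.ofFinite k
  obtain ⟨p, hp⟩ := CharP.exists k
  have hprime : Fact p.Prime := ⟨CharP.char_is_prime k p⟩
  obtain ⟨n, hpn, hcard⟩ := FiniteField.card k p
  rw [Nat.card_eq_fintype_card, hcard]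
  have hE : ExpChar k p := ExpChar.prime hprime.out
  have h := map_iterateFrobenius_expand p hprime.out.ne_zero G n
  have hid : iterateFrobenius k p n = RingHom.id k := by
    ext x
    rw [iterateFrobenius_def, ← hcard, FiniteField.pow_card]; rfl
  rw [hid, MvPowerSeries.map_id] at h
  rw [← h, RingHom.id_apply, expand, coe_substAlgHom]

theorem lt_frob_congr {O : Type*} [CommRing O] [IsLocalRing O]
    [Finite (IsLocalRing.ResidueField O)]
    (π : O) (hπ : π ∈ IsLocalRing.maximalIdeal O) {σ : Type*} [Finite σ]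
    (Φ : MvPowerSeries σ O) (hΦ : constantCoeff Φ = 0) :
    MvPowerSeries.map (IsLocalRing.residue O)
      (PowerSeries.subst Φ (ltf π (Nat.card (IsLocalRing.ResidueField O))) -
        subst (diagS σ (ltf π (Nat.card (IsLocalRing.ResidueField O)))) Φ) = 0 := by
  set q := Nat.card (IsLocalRing.ResidueField O) with hq
  have hq2 : 2 ≤ q := Finite.one_lt_card
  set ρ := IsLocalRing.residue O with hρ
  have hρπ : ρ π = 0 := (IsLocalRing.residue_eq_zero_iff _).2 hπ
  have ha0 := fun i => diagS_const (ltf_const π hq2) (σ := σ) i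
  have e0 : (ltf (0 : IsLocalRing.ResidueField O) q) = PowerSeries.X ^ q := by
    simp [ltf]
  rw [map_sub, PowerSeries.map_subst (PowerSeries.HasSubst.of_constantCoeff_zero hΦ),
    MvPowerSeries.map_subst (hasSubst_of_constantCoeff_zero ha0), sub_eq_zero]
  have e1 : PowerSeries.map ρ (ltf π q) = PowerSeries.X ^ q := by
    have := map_ltf ρ π q
    rw [hρπ, e0] at this
    exact this
  have hΦ' : constantCoeff (MvPowerSeries.map ρ Φ) = 0 := by
    rw [constantCoeff_map, hΦ, map_zero]
  rw [e1, PowerSeries.subst_pow (PowerSeries.HasSubst.of_constantCoeff_zero hΦ'),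
    PowerSeries.subst_X (PowerSeries.HasSubst.of_constantCoeff_zero hΦ')]
  have e2 : (fun i => MvPowerSeries.map ρ (diagS σ (ltf π q) i)) =
      fun i => (X i : MvPowerSeries σ (IsLocalRing.ResidueField O)) ^ q := by
    ext i : 1
    have hX := PowerSeries.HasSubst.of_constantCoeff_zero
      (constantCoeff_X i : constantCoeff (X i : MvPowerSeries σ (IsLocalRing.ResidueField O)) = 0)
    rw [map_diagS, diagS]
    rw [e1, PowerSeries.subst_pow hX, PowerSeries.subst_X hX]
  rw [e2]
  exact frob_expand _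

theorem exists_div_series {O : Type*} [CommRing O] [IsLocalRing O] (π : O)
    (hmax : IsLocalRing.maximalIdeal O = Ideal.span {π}) {σ : Type*} (r : MvPowerSeries σ O)
    (hr : MvPowerSeries.map (IsLocalRing.residue O) r = 0) :
    ∃ v : MvPowerSeries σ O,
      (∀ d, 2 ≤ Finsupp.degree d → (π ^ Finsupp.degree d - π) * coeff d v = coeff d r) ∧
      (∀ d, coeff d r = 0 → coeff d v = 0) := by
  have hπ : π ∈ IsLocalRing.maximalIdeal O := by
    rw [hmax]; exact Ideal.mem_span_singleton_self π
  have key : ∀ d : σ →₀ ℕ, ∃ c : O,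
      (2 ≤ Finsupp.degree d → (π ^ Finsupp.degree d - π) * c = coeff d r) ∧
      (coeff d r = 0 → c = 0) := by
    intro d
    by_cases h0 : coeff d r = 0
    · exact ⟨0, fun _ => by rw [h0, mul_zero], fun _ => rfl⟩
    · by_cases h2 : 2 ≤ Finsupp.degree d
      · have hmem : coeff d r ∈ IsLocalRing.maximalIdeal O := by
          rw [← IsLocalRing.residue_eq_zero_iff]
          have := congrArg (coeff d) hr
          rwa [coeff_map] at this
        rw [hmax, Ideal.mem_span_singleton] at hmem
        obtain ⟨c', hc'⟩ := hmem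
        obtain ⟨m, hm⟩ : ∃ m, Finsupp.degree d = m + 2 := ⟨Finsupp.degree d - 2, by omega⟩
        have hw : IsUnit (1 - π ^ (m + 1)) :=
          IsLocalRing.isUnit_one_sub_self_of_mem_nonunits _
            (Ideal.pow_mem_of_mem _ hπ _ (Nat.succ_pos _))
        obtain ⟨u, hu⟩ := hw
        refine ⟨-(c' * ↑u⁻¹), fun _ => ?_, fun h => absurd h h0⟩
        rw [hm, hc']
        have : π ^ (m + 2) - π = -(π * (u : O)) := by rw [hu]; ring
        rw [this]
        have hu1 : (u : O) * ↑u⁻¹ = 1 := Units.mul_inv u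
        linear_combination (π * c') * hu1
      · exact ⟨0, fun h => absurd h h2, fun _ => rfl⟩
  choose v hv using key
  exact ⟨v, fun d => (hv d).1, fun d => (hv d).2⟩

section

variable {O : Type*} [CommRing O] (π : O) (q : ℕ) {σ : Type*}

/-- the defect `f(Φ) - Φ(f(X))` -/
noncomputable def ltE (Φ : MvPowerSeries σ O) : MvPowerSeries σ O :=
  PowerSeries.subst Φ (ltf π q) - subst (diagS σ (ltf π q)) Φ

variable {π q}

theorem diagS_ltf (i : σ) : diagS σ (ltf π q) i = π • X i + X i ^ q :=
  ltf_subst π q (constantCoeff_X i)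

theorem ltE_eq {Φ : MvPowerSeries σ O} (hΦ : constantCoeff Φ = 0) :
    ltE π q Φ = π • Φ + Φ ^ q - subst (fun i => π • X i + X i ^ q) Φ := by
  rw [ltE, ltf_subst π q hΦ]
  congr 2
  ext i : 1
  exact diagS_ltf i

end

theorem lt_one_step {O : Type*} [CommRing O] [IsLocalRing O]
    [Finite (IsLocalRing.ResidueField O)] (π : O)
    (hmax : IsLocalRing.maximalIdeal O = Ideal.span {π}) {σ : Type*} [Finite σ]
    (Φ : MvPowerSeries σ O) (hΦ : constantCoeff Φ = 0)
    (h2 : 2 ≤ (ltE π (Nat.card (IsLocalRing.ResidueField O)) Φ).order) :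
    ∃ v : MvPowerSeries σ O,
      (ltE π (Nat.card (IsLocalRing.ResidueField O)) Φ).order ≤ v.order ∧
      (ltE π (Nat.card (IsLocalRing.ResidueField O)) Φ).order + 1 ≤
        (ltE π (Nat.card (IsLocalRing.ResidueField O)) (Φ + v)).order := by
  set q := Nat.card (IsLocalRing.ResidueField O) with hq
  have hq2 : 2 ≤ q := Finite.one_lt_card
  have hπ : π ∈ IsLocalRing.maximalIdeal O := by
    rw [hmax]; exact Ideal.mem_span_singleton_self π
  set r := ltE π q Φ with hr
  obtain ⟨v, hv1, hv2⟩ := exists_div_series π hmax r (lt_frob_congr π hπ Φ hΦ)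
  have hvr : r.order ≤ v.order := by
    refine le_order fun d hd => hv2 d (coeff_of_lt_order hd)
  have hv0 : constantCoeff v = 0 :=
    one_le_order_iff_constCoeff_eq_zero.1 (le_trans (le_trans (by norm_num) h2) hvr)
  refine ⟨v, hvr, ?_⟩
  have hΦv : constantCoeff (Φ + v) = 0 := by rw [map_add, hΦ, hv0, add_zero]
  let a : σ → MvPowerSeries σ O := fun i => π • X i + X i ^ q
  let ℓ : σ → MvPowerSeries σ O := fun i => π • X i
  have ha : ∀ i, constantCoeff (a i) = 0 := by
    intro i; simp [a, zero_pow (by omega : q ≠ 0)]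
  have hℓ : ∀ i, constantCoeff (ℓ i) = 0 := by intro i; simp [ℓ]
  have hsa := hasSubst_of_constantCoeff_zero ha
  have har : ∀ i, 2 ≤ (a i - ℓ i).order := by
    intro i
    simp only [a, ℓ]
    rw [add_sub_cancel_left]
    refine le_trans ?_ (le_order_pow_of_constantCoeff_eq_zero q (constantCoeff_X i))
    exact_mod_cast hq2
  have h1 := H65.ift_order_subst_sub ha hℓ har v
  have e1 : subst ℓ v = rescale (fun _ => π) v := by
    rw [rescale_eq_subst]; rfl
  have hT1 : r + π • v - rescale (fun _ => π) v = 0 := by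
    refine MvPowerSeries.ext fun d => ?_
    rw [map_sub, map_add, coeff_rescale, coeff_smul, map_zero]
    have hprod : (d.prod fun _ m => π ^ m) = π ^ (Finsupp.degree d) := by
      rw [Finsupp.prod, Finsupp.degree, Finset.prod_pow_eq_pow_sum]
      rfl
    rw [hprod]
    by_cases hd : 2 ≤ Finsupp.degree d
    · rw [← hv1 d hd]; ring
    · have hr0 : coeff d r = 0 :=
        coeff_of_lt_order (lt_of_lt_of_le (by exact_mod_cast (not_le.1 hd)) h2)
      rw [hr0, hv2 d hr0]; ring
  have e2 : ltE π q (Φ + v) =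
      -(subst a v - subst ℓ v) + ((Φ + v) ^ q - Φ ^ q) := by
    have e3 : ltE π q Φ = r := rfl
    rw [ltE_eq hΦv, subst_add hsa, e1]
    rw [ltE_eq hΦ] at e3
    have : π • (Φ + v) + (Φ + v) ^ q - (subst a Φ + subst a v) =
        (π • Φ + Φ ^ q - subst a Φ) + π • v - rescale (fun _ => π) v
          + (-(subst a v - rescale (fun _ => π) v) + ((Φ + v) ^ q - Φ ^ q)) := by
      rw [smul_add]; ring
    rw [this, e3, hT1, zero_add]
  rw [e2]
  refine le_trans (le_min ?_ ?_) min_order_le_add
  · rw [order_neg]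
    exact le_trans (by gcongr) h1
  · have := order_pow_sub_pow q hΦv hΦ hq2
    rw [add_sub_cancel_left] at this
    exact le_trans (by gcongr) this

theorem coeff_one_ltf {O : Type*} [CommRing O] (π : O) {q : ℕ} (hq : 2 ≤ q) :
    PowerSeries.coeff 1 (ltf π q) = π := by
  rw [ltf, map_add, PowerSeries.coeff_smul, PowerSeries.coeff_one_X, PowerSeries.coeff_X_pow,
    if_neg (by omega)]
  simp

theorem lt_exists {O : Type*} [CommRing O] [IsLocalRing O]
    [Finite (IsLocalRing.ResidueField O)] (π : O)
    (hmax : IsLocalRing.maximalIdeal O = Ideal.span {π}) {σ : Type*} [Fintype σ] (a : σ → O) :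
    ∃ Φ : MvPowerSeries σ O, constantCoeff Φ = 0 ∧ (∀ j, coeff (Finsupp.single j 1) Φ = a j) ∧
      ltE π (Nat.card (IsLocalRing.ResidueField O)) Φ = 0 := by
  classical
  set q := Nat.card (IsLocalRing.ResidueField O) with hq
  have hq2 : 2 ≤ q := Finite.one_lt_card
  have hf0 := ltf_const π hq2
  have hd0 := fun i => diagS_const hf0 (σ := σ) i
  have hsd := hasSubst_of_constantCoeff_zero hd0
  set L : MvPowerSeries σ O := ∑ i, a i • X i with hL
  have hL0 : constantCoeff L = 0 := by rw [hL, map_sum]; simp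
  have hLlin : ∀ k, coeff (Finsupp.single k 1) L = a k := by
    intro k
    rw [hL, map_sum, Finset.sum_eq_single k]
    · rw [coeff_smul, coeff_X, if_pos rfl, mul_one]
    · intro b _ hbk
      rw [coeff_smul, coeff_X, if_neg, mul_zero]
      intro h
      have := Finsupp.single_left_injective (one_ne_zero) h
      exact hbk this.symm
    · intro h; exact absurd (Finset.mem_univ k) h
  have hEL : 2 ≤ (ltE π q L).order := by
    refine two_le_order_sub (constantCoeff_pssubst hf0 hL0)
      (constantCoeff_subst_eq_zero hsd hd0 hL0) fun j => ?_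
    rw [lin_coeff_pssubst hf0 hL0, lin_coeff_subst hd0 _ hL0, coeff_one_ltf π hq2,
      Finset.sum_eq_single j]
    · rw [lin_coeff_diagS hf0, if_pos rfl, coeff_one_ltf π hq2, mul_comm]
    · intro b _ hbj
      rw [lin_coeff_diagS hf0, if_neg hbj, mul_zero]
    · intro h; exact absurd (Finset.mem_univ j) h
  let corr : MvPowerSeries σ O → MvPowerSeries σ O := fun Φ =>
    if h : ∃ v : MvPowerSeries σ O, (ltE π q Φ).order ≤ v.order ∧
      (ltE π q Φ).order + 1 ≤ (ltE π q (Φ + v)).order then Classical.choose h else 0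
  have hcorr : ∀ Φ, constantCoeff Φ = 0 → 2 ≤ (ltE π q Φ).order →
      (ltE π q Φ).order ≤ (corr Φ).order ∧
      (ltE π q Φ).order + 1 ≤ (ltE π q (Φ + corr Φ)).order := by
    intro Φ h0 h2
    have h := lt_one_step π hmax Φ h0 h2
    simp only [corr]
    rw [dif_pos h]
    exact Classical.choose_spec h
  let g : ℕ → MvPowerSeries σ O := fun n => Nat.rec L (fun _ gn => gn + corr gn) n
  have gs : ∀ n, g (n + 1) = g n + corr (g n) := fun n => rfl
  have hinv : ∀ n : ℕ, constantCoeff (g n) = 0 ∧ ((n : ℕ∞) + 2) ≤ (ltE π q (g n)).order := by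
    intro n
    induction n with
    | zero =>
      refine ⟨hL0, ?_⟩
      have : ((0 : ℕ) : ℕ∞) + 2 = 2 := by simp
      rw [this]
      exact hEL
    | succ n ih =>
      have h2 : 2 ≤ (ltE π q (g n)).order := le_trans le_add_self ih.2
      obtain ⟨hc1, hc2⟩ := hcorr (g n) ih.1 h2
      have hc0 : constantCoeff (corr (g n)) = 0 :=
        one_le_order_iff_constCoeff_eq_zero.1 (le_trans (le_trans (by norm_num) h2) hc1)
      refine ⟨by rw [gs, map_add, ih.1, hc0, add_zero], ?_⟩
      rw [gs]
      refine le_trans ?_ hc2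
      push_cast
      calc (n : ℕ∞) + 1 + 2 = (n + 2) + 1 := by ring
        _ ≤ _ := by gcongr; exact ih.2
  have hstep2 : ∀ n : ℕ, ((n : ℕ∞) + 2) ≤ (g (n + 1) - g n).order := by
    intro n
    rw [gs, add_sub_cancel_left]
    have h2 : 2 ≤ (ltE π q (g n)).order := le_trans le_add_self (hinv n).2
    exact le_trans (hinv n).2 (hcorr (g n) (hinv n).1 h2).1
  have hstep : ∀ n : ℕ, (n : ℕ∞) ≤ (g (n + 1) - g n).order :=
    fun n => le_trans le_self_add (hstep2 n)
  have hX : ∀ n : ℕ, 2 ≤ (g n - L).order := by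
    intro n
    induction n with
    | zero =>
      have : g 0 - L = 0 := sub_self _
      rw [this, order_zero]; exact le_top
    | succ n ih =>
      have e : g (n + 1) - L = (g (n + 1) - g n) + (g n - L) := by ring
      rw [e]
      exact le_trans (le_min (le_trans le_add_self (hstep2 n)) ih) min_order_le_add
  obtain ⟨G, hG⟩ := exists_limit_of_order g hstep
  have hGL : 2 ≤ (G - L).order := by
    have e : G - L = (G - g 2) + (g 2 - L) := by ring
    rw [e]
    exact le_trans (le_min (by simpa using hG 2) (hX 2)) min_order_le_add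
  have hG0 : constantCoeff G = 0 := by
    have := one_le_order_iff_constCoeff_eq_zero.1 (le_trans (by norm_num) hGL)
    rw [map_sub, hL0, sub_zero] at this
    exact this
  refine ⟨G, hG0, ?_, ?_⟩
  · intro j
    have := coeff_of_lt_order (f := G - L) (d := Finsupp.single j 1)
      (lt_of_lt_of_le (by rw [Finsupp.degree_single]; exact_mod_cast (by norm_num : (1 : ℕ) < 2))
        hGL)
    rw [map_sub, hLlin, sub_eq_zero] at this
    exact this
  · rw [← order_eq_top_iff]
    refine ENat.eq_top_iff_forall_ge.2 fun n => ?_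
    have hgn0 := (hinv n).1
    have hD0 : constantCoeff (G - g n) = 0 := by rw [map_sub, hG0, hgn0, sub_zero]
    have ha : ∀ i : σ, constantCoeff (π • X i + X i ^ q : MvPowerSeries σ O) = 0 := by
      intro i; simp [zero_pow (by omega : q ≠ 0)]
    have hsa := hasSubst_of_constantCoeff_zero ha
    have e : ltE π q G = (π • (G - g n) + (G ^ q - g n ^ q) +
        -subst (fun i => π • X i + X i ^ q) (G - g n)) + ltE π q (g n) := by
      rw [ltE_eq hG0, ltE_eq hgn0, subst_sub hsa, smul_sub]; ring
    rw [e]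
    refine le_trans (le_min (le_trans (le_min (le_trans (le_min ?_ ?_) min_order_le_add) ?_)
      min_order_le_add) ?_) min_order_le_add
    · exact (hG n).trans le_order_smul
    · exact le_trans ((hG n).trans le_self_add) (order_pow_sub_pow q hG0 hgn0 hq2)
    · rw [order_neg]; exact (hG n).trans (order_le_subst hsa ha _)
    · exact le_trans le_self_add (hinv n).2


theorem lt_exists_unique1 {O : Type*} [CommRing O] [IsDomain O] [IsLocalRing O]
    [Finite (IsLocalRing.ResidueField O)] (π : O) (hπ0 : π ≠ 0)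
    (hmax : IsLocalRing.maximalIdeal O = Ideal.span {π}) (α : O) :
    ∃! g : PowerSeries O, PowerSeries.constantCoeff g = 0 ∧ PowerSeries.coeff 1 g = α ∧
      PowerSeries.subst g (ltf π (Nat.card (IsLocalRing.ResidueField O))) =
        PowerSeries.subst (ltf π (Nat.card (IsLocalRing.ResidueField O))) g := by
  have hq2 : 2 ≤ Nat.card (IsLocalRing.ResidueField O) := Finite.one_lt_card
  have hπ : π ∈ IsLocalRing.maximalIdeal O := by
    rw [hmax]; exact Ideal.mem_span_singleton_self π
  have hπ1 : ¬ IsUnit π := hπ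
  obtain ⟨Φ, h0, h1, hE⟩ := lt_exists π hmax (σ := Unit) (fun _ => α)
  have hcomm : PowerSeries.subst Φ (ltf π (Nat.card (IsLocalRing.ResidueField O))) =
      PowerSeries.subst (ltf π (Nat.card (IsLocalRing.ResidueField O))) Φ := by
    have := sub_eq_zero.1 hE
    rw [diagS_unit] at this
    exact this
  refine ⟨Φ, ⟨h0, h1 (), hcomm⟩, ?_⟩
  rintro g ⟨hg0, hg1, hgf⟩
  exact lt_unique1 π hπ0 hπ1 _ hq2 g Φ hg0 h0 (hg1.trans (h1 ()).symm) hgf hcomm

end Groth.Agent.H75
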