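import Mathlib
import Groth.Agent.H75.LTExists

set_option autoImplicit false
universe u

namespace Groth.Agent.H75

open MvPowerSeries

section equivar

variable {O : Type*} [CommRing O] {π : O} {q : ℕ} (hq : 2 ≤ q)
include hq

theorem ltE_X {τ : Type*} [Finite τ] (j : τ) : ltE π q (X j : MvPowerSeries τ O) = 0 := by
  have hf0 := ltf_const π hq
  have hd0 := fun i => diagS_const hf0 (σ := τ) i
  rw [ltE, sub_eq_zero, subst_X (hasSubst_of_constantCoeff_zero hd0)]
  rfl

theorem ltE_subst {σ τ : Type*} [Finite σ] [Finite τ] {F : MvPowerSeries σ O}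
    (hF0 : constantCoeff F = 0)
    (hF : ltE π q F = 0) {c : σ → MvPowerSeries τ O} (hc0 : ∀ i, constantCoeff (c i) = 0)
    (hc : ∀ i, ltE π q (c i) = 0) : ltE π q (subst c F) = 0 := by
  have hf0 := ltf_const π hq
  have hd0 := fun i => diagS_const hf0 (σ := σ) i
  have hsd := hasSubst_of_constantCoeff_zero hd0
  have hd0' := fun i => diagS_const hf0 (σ := τ) i
  have hsd' := hasSubst_of_constantCoeff_zero hd0'
  have hsc := hasSubst_of_constantCoeff_zero hc0
  rw [ltE, sub_eq_zero] at hF ⊢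
  rw [← subst_pssubst hc0 hF0, hF, subst_comp_subst_apply hsd hsc,
    subst_comp_subst_apply hsc hsd']
  congr 1
  ext i : 1
  rw [subst_diagS hc0]
  have := hc i
  rw [ltE, sub_eq_zero] at this
  exact this

end equivar

theorem lt_unique' {τ : Type*} [Finite τ] {O : Type*} [CommRing O] [IsDomain O] (π : O)
    (hπ0 : π ≠ 0) (hπ1 : ¬ IsUnit π) (q : ℕ) (hq : 2 ≤ q)
    (H H' : MvPowerSeries τ O) (hH : constantCoeff H = 0) (hH' : constantCoeff H' = 0)
    (hlin : ∀ j, coeff (Finsupp.single j 1) H = coeff (Finsupp.single j 1) H')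
    (h : ltE π q H = 0) (h' : ltE π q H' = 0) : H = H' :=
  lt_unique π hπ0 hπ1 q hq H H' hH hH' (two_le_order_sub hH hH' hlin) (sub_eq_zero.1 h)
    (sub_eq_zero.1 h')

theorem lt_formalGroup {O : Type*} [CommRing O] [IsDomain O] [IsLocalRing O]
    [Finite (IsLocalRing.ResidueField O)] (π : O) (hπ0 : π ≠ 0)
    (hmax : IsLocalRing.maximalIdeal O = Ideal.span {π}) :
    ∃ F : FormalGroup O, F.IsComm ∧
      PowerSeries.subst F.toPowerSeries (ltf π (Nat.card (IsLocalRing.ResidueField O))) =
        subst (fun i : Fin 2 => PowerSeries.subst (X i : MvPowerSeries (Fin 2) O)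
          (ltf π (Nat.card (IsLocalRing.ResidueField O)))) F.toPowerSeries ∧
      ∀ G : MvPowerSeries (Fin 2) O, constantCoeff G = 0 → coeff (Finsupp.single 0 1) G = 1 →
        coeff (Finsupp.single 1 1) G = 1 →
        PowerSeries.subst G (ltf π (Nat.card (IsLocalRing.ResidueField O))) =
          subst (fun i : Fin 2 => PowerSeries.subst (X i : MvPowerSeries (Fin 2) O)
            (ltf π (Nat.card (IsLocalRing.ResidueField O)))) G →
        G = F.toPowerSeries := by
  classical
  set q := Nat.card (IsLocalRing.ResidueField O) with hqdef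
  have hq : 2 ≤ q := Finite.one_lt_card
  have hπ : π ∈ IsLocalRing.maximalIdeal O := by
    rw [hmax]; exact Ideal.mem_span_singleton_self π
  have hπ1 : ¬ IsUnit π := hπ
  obtain ⟨Φ, h0, h1, hE⟩ := lt_exists π hmax (σ := Fin 2) (fun _ => 1)
  -- associativity
  have hassoc : subst ![subst ![(X 0 : MvPowerSeries (Fin 3) O), X 1] Φ, X 2] Φ =
      subst ![(X 0 : MvPowerSeries (Fin 3) O), subst ![(X 1 : MvPowerSeries (Fin 3) O), X 2] Φ]
        Φ := by
    have hc1 : ∀ i, constantCoeff ((![X 0, X 1] : Fin 2 → MvPowerSeries (Fin 3) O) i) = 0 := by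
      intro i; fin_cases i <;> simp
    have hc2 : ∀ i, constantCoeff ((![X 1, X 2] : Fin 2 → MvPowerSeries (Fin 3) O) i) = 0 := by
      intro i; fin_cases i <;> simp
    have hA0 : constantCoeff (subst ![(X 0 : MvPowerSeries (Fin 3) O), X 1] Φ) = 0 :=
      constantCoeff_subst_eq_zero (hasSubst_of_constantCoeff_zero hc1) hc1 h0
    have hB0 : constantCoeff (subst ![(X 1 : MvPowerSeries (Fin 3) O), X 2] Φ) = 0 :=
      constantCoeff_subst_eq_zero (hasSubst_of_constantCoeff_zero hc2) hc2 h0
    have hAE : ltE π q (subst ![(X 0 : MvPowerSeries (Fin 3) O), X 1] Φ) = 0 := by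
      refine ltE_subst hq h0 hE hc1 ?_
      intro i; fin_cases i
      · exact ltE_X hq _
      · exact ltE_X hq _
    have hBE : ltE π q (subst ![(X 1 : MvPowerSeries (Fin 3) O), X 2] Φ) = 0 := by
      refine ltE_subst hq h0 hE hc2 ?_
      intro i; fin_cases i
      · exact ltE_X hq _
      · exact ltE_X hq _
    have hd1 : ∀ i, constantCoeff ((![subst ![(X 0 : MvPowerSeries (Fin 3) O), X 1] Φ, X 2] :
        Fin 2 → MvPowerSeries (Fin 3) O) i) = 0 := by
      intro i; fin_cases i
      · exact hA0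
      · simp
    have hd2 : ∀ i, constantCoeff ((![X 0, subst ![(X 1 : MvPowerSeries (Fin 3) O), X 2] Φ] :
        Fin 2 → MvPowerSeries (Fin 3) O) i) = 0 := by
      intro i; fin_cases i
      · simp
      · exact hB0
    refine lt_unique' π hπ0 hπ1 q hq _ _
      (constantCoeff_subst_eq_zero (hasSubst_of_constantCoeff_zero hd1) hd1 h0)
      (constantCoeff_subst_eq_zero (hasSubst_of_constantCoeff_zero hd2) hd2 h0) ?_ ?_ ?_
    · intro j
      rw [lin_coeff_subst hd1 _ h0, lin_coeff_subst hd2 _ h0, Fin.sum_univ_two, Fin.sum_univ_two,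
        h1, h1, one_mul, one_mul, one_mul, one_mul]
      simp only [Matrix.cons_val_zero, Matrix.cons_val_one]
      rw [lin_coeff_subst hc1 _ h0, lin_coeff_subst hc2 _ h0, Fin.sum_univ_two, Fin.sum_univ_two,
        h1, h1, one_mul, one_mul, one_mul, one_mul]
      simp only [Matrix.cons_val_zero, Matrix.cons_val_one]
      rw [add_assoc]
    · refine ltE_subst hq h0 hE hd1 ?_
      intro i; fin_cases i
      · exact hAE
      · exact ltE_X hq _
    · refine ltE_subst hq h0 hE hd2 ?_
      intro i; fin_cases i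
      · exact ltE_X hq _
      · exact hBE
  have hcomm : Φ = subst ![(X 1 : MvPowerSeries (Fin 2) O), X 0] Φ := by
    have hc : ∀ i, constantCoeff ((![X 1, X 0] : Fin 2 → MvPowerSeries (Fin 2) O) i) = 0 := by
      intro i; fin_cases i <;> simp
    refine lt_unique' π hπ0 hπ1 q hq _ _ h0
      (constantCoeff_subst_eq_zero (hasSubst_of_constantCoeff_zero hc) hc h0) ?_ hE ?_
    · intro j
      rw [lin_coeff_subst hc _ h0, Fin.sum_univ_two, h1, h1, h1, one_mul, one_mul]
      simp only [Matrix.cons_val_zero, Matrix.cons_val_one]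
      fin_cases j <;> simp [coeff_index_single_X]
    · refine ltE_subst hq h0 hE hc ?_
      intro i; fin_cases i
      · exact ltE_X hq _
      · exact ltE_X hq _
  refine ⟨⟨Φ, h0, h1 0, h1 1, hassoc⟩, ⟨hcomm⟩, sub_eq_zero.1 hE, ?_⟩
  intro G hG0 hG1 hG2 hGE
  refine lt_unique' π hπ0 hπ1 q hq G Φ hG0 h0 ?_ (sub_eq_zero.2 hGE) hE
  intro j; fin_cases j
  · exact hG1.trans (h1 0).symm
  · exact hG2.trans (h1 1).symm

end Groth.Agent.H75
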