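import Mathlib

set_option autoImplicit false
universe u

namespace Groth.Agent.H75

open PowerSeries LaurentSeries

section laurent

variable {R R' : Type*} [CommRing R] [CommRing R']

theorem laurent_coeff_map (φ : R →+* R') (θ : R⸨X⸩ →+* R'⸨X⸩)
    (hθ : θ.comp (algebraMap R⟦X⟧ R⸨X⸩) = (algebraMap R'⟦X⟧ R'⸨X⸩).comp (PowerSeries.map φ))
    (L : R⸨X⸩) (k : ℤ) : (θ L).coeff k = φ (L.coeff k) := by
  obtain ⟨⟨f, ⟨_, N, rfl⟩⟩, hL⟩ := IsLocalization.surj (Submonoid.powers (PowerSeries.X : R⟦X⟧)) L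
  simp only at hL
  have hθ' : ∀ g : R⟦X⟧, θ (algebraMap R⟦X⟧ R⸨X⸩ g) = algebraMap R'⟦X⟧ R'⸨X⸩ (PowerSeries.map φ g) :=
    fun g => RingHom.congr_fun hθ g
  have h2 := congrArg θ hL
  rw [map_mul, hθ', hθ', map_pow, PowerSeries.map_X] at h2
  have e1 : (algebraMap R⟦X⟧ R⸨X⸩ (PowerSeries.X ^ N)) = HahnSeries.single (N : ℤ) 1 := by
    rw [coe_algebraMap, HahnSeries.ofPowerSeries_X_pow]
  have e2 : (algebraMap R'⟦X⟧ R'⸨X⸩ (PowerSeries.X ^ N)) = HahnSeries.single (N : ℤ) 1 := by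
    rw [coe_algebraMap, HahnSeries.ofPowerSeries_X_pow]
  rw [e2] at h2
  rw [e1] at hL
  have c1 := congrArg (fun z => HahnSeries.coeff z (k + N)) h2
  have c2 := congrArg (fun z => HahnSeries.coeff z (k + N)) hL
  simp only [HahnSeries.coeff_mul_single_add, mul_one] at c1 c2
  rw [c1, c2, coe_algebraMap, coe_algebraMap]
  change ((PowerSeries.map φ f : R'⟦X⟧) : R'⸨X⸩).coeff (k + N) = φ (((f : R⟦X⟧) : R⸨X⸩).coeff (k + N))
  rw [coeff_coe, coeff_coe]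
  split_ifs
  · rw [map_zero]
  · rw [PowerSeries.coeff_map]

theorem laurent_eq_coe_of_neg_coeff_zero (L : R⸨X⸩) (h : ∀ k : ℤ, k < 0 → L.coeff k = 0) :
    L = ((PowerSeries.mk fun n : ℕ => L.coeff n : R⟦X⟧) : R⸨X⸩) := by
  ext k
  rw [coeff_coe]
  split_ifs with hk
  · exact h k hk
  · rw [PowerSeries.coeff_mk]
    congr 1
    omega

end laurent

end Groth.Agent.H75
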