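import Mathlib

set_option autoImplicit false

namespace Groth.Agent.H75

open Polynomial

theorem lex_lt_of {ℓ : ℕ} (x y x' y' : Fin ℓ → ℚ)
    (h : ∀ j, (∀ i < j, x i = y i) → x' j - y' j = x j - y j)
    (hlt : toLex x < toLex y) : toLex x' < toLex y' := by
  obtain ⟨j, hj, hjlt⟩ := hlt
  refine ⟨j, fun i hi => ?_, ?_⟩
  · have h1 := h i (fun i' hi' => hj i' (lt_trans hi' hi))
    have h2 : x i = y i := hj i hi
    show x' i = y' i
    linarith
  · have h1 := h j hj
    have h2 : x j < y j := hjlt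
    show x' j < y' j
    linarith

theorem lex_eq_of {ℓ : ℕ} (x y x' y' : Fin ℓ → ℚ)
    (h : ∀ j, (∀ i < j, x i = y i) → x' j - y' j = x j - y j)
    (heq : x = y) : x' = y' := by
  funext j
  have h1 := h j (fun i _ => by rw [heq])
  rw [heq] at h1
  linarith

theorem lex_le_iff {ℓ : ℕ} (x y x' y' : Fin ℓ → ℚ)
    (h : ∀ j, (∀ i < j, x i = y i) → x' j - y' j = x j - y j) :
    toLex x ≤ toLex y ↔ toLex x' ≤ toLex y' := by
  have h' : ∀ j, (∀ i < j, y i = x i) → y' j - x' j = y j - x j := by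
    intro j hj
    have := h j (fun i hi => (hj i hi).symm)
    linarith
  constructor
  · intro hle
    rcases lt_or_eq_of_le hle with hlt | heq
    · exact le_of_lt (lex_lt_of x y x' y' h hlt)
    · have : x = y := toLex.injective heq
      rw [lex_eq_of x y x' y' h this]
  · intro hle
    by_contra hcon
    have hlt : toLex y < toLex x := not_le.mp hcon
    have := lex_lt_of y x y' x' h' hlt
    exact absurd hle (not_le.mpr this)

/-- coefficient of a translate -/
theorem coeff_comp_X_sub_C (P : ℚ[X]) (a : ℚ) (d k : ℕ) (hd : P.natDegree ≤ d) :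
    (P.comp (X - C a)).coeff k
      = ∑ s ∈ Finset.range (d - k + 1), ((s + k).choose k : ℚ) * P.coeff (s + k) * (-a) ^ s := by
  have h1 : P.comp (X - C a) = taylor (-a) P := by
    rw [taylor_apply]; congr 1; simp [sub_eq_add_neg]
  rw [h1, taylor_coeff]
  rw [eval_eq_sum_range' (n := d - k + 1)]
  · refine Finset.sum_congr rfl fun s _ => ?_
    rw [hasseDeriv_coeff]
  · have := natDegree_hasseDeriv_le P k
    omega

/-- `α_k(ΔP)` formula. -/
theorem alpha_delta (P : ℚ[X]) (a : ℚ) (d k : ℕ) (hd : P.natDegree ≤ d) :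
    (P - P.comp (X - C a)).coeff k * (k.factorial : ℚ)
      = ∑ t ∈ Finset.range (d - k),
          (P.coeff (t + 1 + k) * ((t + 1 + k).factorial : ℚ)) *
            (-((-a) ^ (t + 1) / ((t + 1).factorial : ℚ))) := by
  rw [coeff_sub, coeff_comp_X_sub_C P a d k hd, Finset.sum_range_succ', sub_mul]
  simp only [zero_add, Nat.choose_self, Nat.cast_one, one_mul, pow_zero, mul_one]
  rw [add_mul]
  have : ∀ t ∈ Finset.range (d - k),
      ((t + 1 + k).choose k : ℚ) * P.coeff (t + 1 + k) * (-a) ^ (t + 1) * (k.factorial : ℚ)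
      = -((P.coeff (t + 1 + k) * ((t + 1 + k).factorial : ℚ)) *
            (-((-a) ^ (t + 1) / ((t + 1).factorial : ℚ)))) := by
    intro t _
    have hf : ((t + 1 + k).factorial : ℚ)
        = ((t + 1 + k).choose k : ℚ) * ((t + 1).factorial : ℚ) * (k.factorial : ℚ) := by
      exact_mod_cast (Nat.add_choose_mul_factorial_mul_factorial (t + 1) k).symm
    have hne : ((t + 1).factorial : ℚ) ≠ 0 := by positivity
    rw [hf]
    field_simp
  rw [Finset.sum_mul, Finset.sum_congr rfl this, Finset.sum_neg_distrib]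
  ring

theorem xprime_formula (P : ℚ[X]) (a : ℚ) (d j : ℕ) (hj : j + 2 ≤ d)
    (hP : P.natDegree = d) :
    ((P - P.comp (X - C a)).coeff (d - 1 - 1 - j) * ((d - 1 - 1 - j).factorial : ℚ)) /
        ((P - P.comp (X - C a)).coeff (d - 1) * ((d - 1).factorial : ℚ))
      = ∑ t ∈ Finset.range (j + 2),
          (P.coeff (t + 1 + (d - 1 - 1 - j)) * ((t + 1 + (d - 1 - 1 - j)).factorial : ℚ)) /
            (P.coeff d * (d.factorial : ℚ)) *
            (-((-a) ^ (t + 1) / ((t + 1).factorial : ℚ)) / a) := by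
  rw [alpha_delta P a d _ hP.le, alpha_delta P a d (d - 1) hP.le]
  have e1 : d - (d - 1 - 1 - j) = j + 2 := by omega
  have e2 : d - (d - 1) = 1 := by omega
  have e3 : 0 + 1 + (d - 1) = d := by omega
  rw [e1, e2, Finset.sum_range_one, e3, Finset.sum_div]
  refine Finset.sum_congr rfl fun t _ => ?_
  simp only [zero_add, pow_one, Nat.factorial_one, Nat.cast_one, div_one, neg_neg]
  rw [mul_div_mul_comm]

end Groth.Agent.H75
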