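import Mathlib
import Groth.Agent.H75.LTLog

set_option autoImplicit false
universe u

namespace Groth.Agent.H75

section poly

open MvPolynomial

theorem degree_eq_two {σ : Type*} {d : σ →₀ ℕ} (h : Finsupp.degree d = 2) :
    ∃ i j, d = Finsupp.single i 1 + Finsupp.single j 1 := by
  classical
  have hne : d ≠ 0 := by
    rintro rfl; simp at h
  obtain ⟨i, hi⟩ : ∃ i, d i ≠ 0 := by
    by_contra hcon; push Not at hcon
    exact hne (Finsupp.ext hcon)
  have h1 : Finsupp.degree (d - Finsupp.single i 1) + Finsupp.degree (Finsupp.single i 1) =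
      Finsupp.degree d := by
    rw [← map_add]
    congr 1
    ext l
    by_cases hl : l = i
    · subst hl; simp; omega
    · simp [Ne.symm hl]
  rw [Finsupp.degree_single, h] at h1
  obtain ⟨j, hj⟩ := degree_eq_one (d := d - Finsupp.single i 1) (by omega)
  refine ⟨i, j, ?_⟩
  rw [← hj]
  ext l
  by_cases hl : l = i
  · subst hl; simp; omega
  · simp [Ne.symm hl]

/-- Taylor expansion of a quadratic form. -/
theorem taylor2 {σ : Type*} [Fintype σ] [DecidableEq σ] {k : Type*} [CommRing k] {S : Type*}
    [CommRing S] [Algebra k S] (q : MvPolynomial σ k) (hq : q.IsHomogeneous 2) (x ε : σ → S) :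
    aeval (x + ε) q = aeval x q + ∑ i, ε i * aeval x (pderiv i q) + aeval ε q := by
  rw [q.as_sum]
  simp only [map_sum, Finset.mul_sum]
  rw [Finset.sum_comm, ← Finset.sum_add_distrib, ← Finset.sum_add_distrib]
  refine Finset.sum_congr rfl fun d hd => ?_
  have hdeg : Finsupp.degree d = 2 := by
    have := hq (mem_support_iff.1 hd)
    rw [Finsupp.degree_eq_weight_one]; exact this
  obtain ⟨i, j, rfl⟩ := degree_eq_two hdeg
  have hm : monomial (Finsupp.single i 1 + Finsupp.single j 1)
      (coeff (Finsupp.single i 1 + Finsupp.single j 1) q) =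
      C (coeff (Finsupp.single i 1 + Finsupp.single j 1) q) * X i * X j := by
    rw [mul_assoc, X, X, monomial_mul, one_mul, C_mul_monomial, mul_one]
  rw [hm]
  simp only [map_mul, aeval_C, aeval_X, Pi.add_apply, Derivation.leibniz, pderiv_C, pderiv_X,
    smul_eq_mul, map_add, map_zero, mul_zero, add_zero, Pi.single_apply]
  have e : ∀ l : σ, ε l * (algebraMap k S (coeff (Finsupp.single i 1 + Finsupp.single j 1) q) *
      x i * (aeval x) (if j = l then (1 : MvPolynomial σ k) else 0) +
      x j * (algebraMap k S (coeff (Finsupp.single i 1 + Finsupp.single j 1) q) *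
        (aeval x) (if i = l then (1 : MvPolynomial σ k) else 0))) =
      (if j = l then ε l * (algebraMap k S (coeff (Finsupp.single i 1 + Finsupp.single j 1) q) *
        x i) else 0) +
      (if i = l then ε l * (x j * algebraMap k S
        (coeff (Finsupp.single i 1 + Finsupp.single j 1) q)) else 0) := by
    intro l
    by_cases h1 : j = l <;> by_cases h2 : i = l <;> simp [h1, h2] <;> ring
  rw [Finset.sum_congr rfl fun l _ => e l, Finset.sum_add_distrib, Finset.sum_ite_eq,
    Finset.sum_ite_eq]
  simp only [Finset.mem_univ, if_true]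
  ring

end poly

open MvPowerSeries

theorem le_order_sum {σ ι : Type*} {k : Type*} [CommRing k] (s : Finset ι)
    (f : ι → MvPowerSeries σ k) (r : ℕ∞) (h : ∀ i ∈ s, r ≤ (f i).order) :
    r ≤ (∑ i ∈ s, f i).order := by
  refine le_order fun d hd => ?_
  rw [map_sum]
  exact Finset.sum_eq_zero fun i hi => coeff_of_lt_order (lt_of_lt_of_le hd (h i hi))

theorem order_aeval_homog {σ τ : Type*} {k : Type*} [CommRing k] (p : MvPolynomial σ k) (m : ℕ)
    (hp : p.IsHomogeneous m) (ε : σ → MvPowerSeries τ k) (r : ℕ∞) (hε : ∀ i, r ≤ (ε i).order) :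
    m • r ≤ (MvPolynomial.aeval ε p).order := by
  classical
  rw [p.as_sum, map_sum]
  refine le_order_sum _ _ _ fun d hd => ?_
  have hdeg : Finsupp.degree d = m := by
    have := hp (MvPolynomial.mem_support_iff.1 hd)
    rw [Finsupp.degree_eq_weight_one]; exact this
  rw [MvPolynomial.aeval_monomial, ← MvPowerSeries.c_eq_algebraMap, ← smul_eq_C_mul]
  refine le_trans ?_ le_order_smul
  rw [Finsupp.prod]
  refine le_trans ?_ (le_order_prod _ _)
  have : m • r = ∑ i ∈ d.support, (d i) • r := by
    rw [← Finset.sum_smul, ← hdeg]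
    rfl
  rw [this]
  refine Finset.sum_le_sum fun i _ => ?_
  refine le_trans ?_ (le_order_pow _)
  exact nsmul_le_nsmul_right (hε i) _

theorem taylor1 {σ : Type*} {k : Type*} [CommRing k] {S : Type*}
    [CommRing S] [Algebra k S] (p : MvPolynomial σ k) (hp : p.IsHomogeneous 1) (x ε : σ → S) :
    MvPolynomial.aeval (x + ε) p = MvPolynomial.aeval x p + MvPolynomial.aeval ε p := by
  classical
  rw [p.as_sum]
  simp only [map_sum]
  rw [← Finset.sum_add_distrib]
  refine Finset.sum_congr rfl fun d hd => ?_
  have hdeg : Finsupp.degree d = 1 := by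
    have := hp (MvPolynomial.mem_support_iff.1 hd)
    rw [Finsupp.degree_eq_weight_one]; exact this
  obtain ⟨i, rfl⟩ := degree_eq_one hdeg
  simp only [MvPolynomial.aeval_monomial, Finsupp.prod_single_index, pow_zero, pow_one,
    Pi.add_apply]
  ring

section division

variable {n : ℕ} {k : Type*} [CommRing k]

/-- the part of `h` whose monomials have smallest variable `j`, divided by `X j` -/
noncomputable def divPart (j : Fin n) (h : MvPowerSeries (Fin n) k) : MvPowerSeries (Fin n) k :=
  fun d => if (∀ i, i < j → d i = 0) then coeff (d + Finsupp.single j 1) h else 0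

theorem coeff_divPart (j : Fin n) (h : MvPowerSeries (Fin n) k) (d : Fin n →₀ ℕ) :
    coeff d (divPart j h) =
      if (∀ i, i < j → d i = 0) then coeff (d + Finsupp.single j 1) h else 0 := rfl

theorem order_divPart (j : Fin n) (h : MvPowerSeries (Fin n) k) (r : ℕ)
    (hr : ((r + 1 : ℕ) : ℕ∞) ≤ h.order) : (r : ℕ∞) ≤ (divPart j h).order := by
  refine nat_le_order fun d hd => ?_
  rw [coeff_divPart]
  split_ifs
  · refine coeff_of_lt_order (lt_of_lt_of_le ?_ hr)
    rw [map_add, Finsupp.degree_single]
    exact_mod_cast Nat.succ_lt_succ hd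
  · rfl

theorem sum_X_mul_divPart (h : MvPowerSeries (Fin n) k) (h0 : constantCoeff h = 0) :
    ∑ j, X j * divPart j h = h := by
  classical
  refine MvPowerSeries.ext fun m => ?_
  rw [map_sum]
  by_cases hm : m = 0
  · subst hm
    rw [Finset.sum_eq_zero (fun j _ => coeff_zero_X_mul _ j), coeff_zero_eq_constantCoeff_apply, h0]
  · -- smallest index in the support
    have hne : (Finset.univ.filter fun j : Fin n => m j ≠ 0).Nonempty := by
      by_contra hcon
      rw [Finset.not_nonempty_iff_eq_empty] at hcon
      refine hm (Finsupp.ext fun j => ?_)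
      by_contra hj
      have hj' : m j ≠ 0 := hj
      have : j ∈ Finset.univ.filter fun j : Fin n => m j ≠ 0 := by simp [hj']
      rw [hcon] at this
      exact absurd this (Finset.notMem_empty _)
    set j₀ := (Finset.univ.filter fun j : Fin n => m j ≠ 0).min' hne with hj₀
    have hj₀m : m j₀ ≠ 0 := by
      have := Finset.min'_mem _ hne
      rw [Finset.mem_filter] at this
      exact this.2
    have hmin : ∀ i, i < j₀ → m i = 0 := by
      intro i hi
      by_contra hmi
      have : i ∈ Finset.univ.filter fun j : Fin n => m j ≠ 0 := by simp [hmi]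
      exact absurd (Finset.min'_le _ i this) (not_le.2 hi)
    rw [Finset.sum_eq_single j₀]
    · have hle : Finsupp.single j₀ 1 ≤ m := by
        intro l
        by_cases hl : l = j₀
        · subst hl; simp; omega
        · simp [Ne.symm hl]
      rw [X, coeff_monomial_mul, if_pos hle, one_mul, coeff_divPart, if_pos, tsub_add_cancel_of_le hle]
      intro i hi
      rw [Finsupp.tsub_apply, hmin i hi, Nat.zero_sub]
    · intro j _ hj
      rw [X, coeff_monomial_mul]
      split_ifs with hle
      · rw [one_mul, coeff_divPart, if_neg]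
        intro hall
        have hmj : m j ≠ 0 := by
          have := hle j
          simp at this
          omega
        rcases lt_or_gt_of_ne hj with hlt | hgt
        · exact hj₀m (by
            have : j ∈ Finset.univ.filter fun j : Fin n => m j ≠ 0 := by simp [hmj]
            exact absurd (Finset.min'_le _ j this) (not_le.2 hlt))
        · have := hall j₀ hgt
          rw [Finsupp.tsub_apply, Finsupp.single_apply, if_neg (ne_of_gt hgt), tsub_zero] at this
          exact hj₀m this
      · rfl
    · intro h; exact absurd (Finset.mem_univ _) h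

end division

section morse

variable {n : ℕ} {k : Type*} [Field k]

theorem mem_maximalIdeal_iff (g : MvPowerSeries (Fin n) k) :
    g ∈ IsLocalRing.maximalIdeal (MvPowerSeries (Fin n) k) ↔ constantCoeff g = 0 := by
  rw [IsLocalRing.mem_maximalIdeal, mem_nonunits_iff, MvPowerSeries.isUnit_iff_constantCoeff,
    isUnit_iff_ne_zero, not_not]

theorem order_pderiv (i : Fin n) (g : MvPowerSeries (Fin n) k) (r : ℕ)
    (hr : ((r + 1 : ℕ) : ℕ∞) ≤ g.order) : (r : ℕ∞) ≤ (pderiv k i g).order := by
  refine nat_le_order fun d hd => ?_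
  rw [coeff_pderiv, coeff_of_lt_order, zero_mul]
  refine lt_of_lt_of_le ?_ hr
  rw [map_add, Finsupp.degree_single]
  exact_mod_cast Nat.succ_lt_succ hd

theorem coe_eq_aeval_X (p : MvPolynomial (Fin n) k) :
    (p : MvPowerSeries (Fin n) k) = MvPolynomial.aeval (fun i => (X i : MvPowerSeries (Fin n) k)) p := by
  rw [← subst_coe]
  exact (congrFun subst_self _).symm


def MorseDec (q : MvPolynomial (Fin n) k) : Prop :=
  ∀ (r : ℕ) (h : MvPowerSeries (Fin n) k), ((r + 1 : ℕ) : ℕ∞) ≤ h.order →
    ∃ η : Fin n → MvPowerSeries (Fin n) k, (∀ i, (r : ℕ∞) ≤ (η i).order) ∧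
      ∑ i, η i * MvPolynomial.aeval (fun i => (X i : MvPowerSeries (Fin n) k))
        (MvPolynomial.pderiv i q) = h

/-- the facts about `f` used in the Morse lemma -/
theorem morse_setup (f : MvPowerSeries (Fin n) k) (hf0 : constantCoeff f = 0)
    (hJ : Ideal.span (Set.range fun i : Fin n => pderiv k i f) =
      IsLocalRing.maximalIdeal (MvPowerSeries (Fin n) k)) :
    (truncTotal 3 f).IsHomogeneous 2 ∧
      3 ≤ (f - ((truncTotal 3 f : MvPolynomial (Fin n) k) : MvPowerSeries (Fin n) k)).order ∧
      MorseDec (truncTotal 3 f) := by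
  classical
  have hmem : ∀ i, constantCoeff (pderiv k i f) = 0 := by
    intro i
    rw [← mem_maximalIdeal_iff, ← hJ]
    exact Ideal.subset_span ⟨i, rfl⟩
  have hlin : ∀ i, coeff (Finsupp.single i 1) f = 0 := by
    intro i
    have := hmem i
    rw [← coeff_zero_eq_constantCoeff_apply, coeff_pderiv, zero_add] at this
    simpa using this
  have hf2 : 2 ≤ f.order := two_le_order_of_lin hf0 hlin
  set q := truncTotal 3 f with hqdef
  have hq : q.IsHomogeneous 2 := by
    intro d hd
    have e : Finsupp.weight 1 d = Finsupp.degree d := by rw [Finsupp.degree_eq_weight_one]; rfl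
    rw [e]
    rw [hqdef, coeff_truncTotal_eq_ite] at hd
    split_ifs at hd with h3
    · have h2 : ¬ Finsupp.degree d < 2 := by
        intro h2
        exact hd (coeff_of_lt_order (lt_of_lt_of_le (by exact_mod_cast h2) hf2))
      omega
    · exact absurd rfl hd
  have hfq : 3 ≤ (f - (q : MvPowerSeries (Fin n) k)).order := by
    refine le_order fun d hd => ?_
    have hd' : Finsupp.degree d < 3 := by exact_mod_cast hd
    rw [map_sub, MvPolynomial.coeff_coe, hqdef, coeff_truncTotal _ hd', sub_self]
  refine ⟨hq, hfq, ?_⟩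
  -- the linear forms
  set ℓ : Fin n → MvPowerSeries (Fin n) k := fun i =>
    MvPolynomial.aeval (fun i => (X i : MvPowerSeries (Fin n) k)) (MvPolynomial.pderiv i q) with hℓ
  have hℓcoe : ∀ i, ℓ i = ((MvPolynomial.pderiv i q : MvPolynomial (Fin n) k) :
      MvPowerSeries (Fin n) k) := fun i => (coe_eq_aeval_X _).symm
  have hℓpd : ∀ i, pderiv k i f - ℓ i = pderiv k i (f - (q : MvPowerSeries (Fin n) k)) := by
    intro i
    rw [map_sub, pderiv_coe, hℓcoe]
  have hℓhom : ∀ i (d : Fin n →₀ ℕ), Finsupp.degree d ≠ 1 → coeff d (ℓ i) = 0 := by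
    intro i d hd
    rw [hℓcoe, MvPolynomial.coeff_coe]
    exact (hq.pderiv (i := i)).coeff_eq_zero hd
  -- express X j
  have hX : ∀ j : Fin n, ∃ c : Fin n → k, ∑ i, C (c i) * ℓ i = X j := by
    intro j
    have hXm : (X j : MvPowerSeries (Fin n) k) ∈
        Ideal.span (Set.range fun i : Fin n => pderiv k i f) := by
      rw [hJ, mem_maximalIdeal_iff, constantCoeff_X]
    obtain ⟨g, hg⟩ := Ideal.mem_span_range_iff_exists_fun.1 hXm
    refine ⟨fun i => constantCoeff (g i), ?_⟩
    rw [← sub_eq_zero]
    have h2 : 2 ≤ (∑ i, C (constantCoeff (g i)) * ℓ i - X j).order := by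
      have e : ∑ i, C (constantCoeff (g i)) * ℓ i - X j =
          -∑ i, ((g i - C (constantCoeff (g i))) * pderiv k i f +
            C (constantCoeff (g i)) * (pderiv k i f - ℓ i)) := by
        rw [← hg, ← Finset.sum_sub_distrib, ← Finset.sum_neg_distrib]
        refine Finset.sum_congr rfl fun i _ => ?_
        ring
      rw [e, order_neg]
      refine le_order_sum _ _ _ fun i _ => ?_
      refine le_trans (le_min ?_ ?_) min_order_le_add
      · refine le_trans ?_ le_order_mul
        have h1 : (1 : ℕ∞) ≤ (g i - C (constantCoeff (g i))).order := by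
          rw [one_le_order_iff_constCoeff_eq_zero, map_sub, constantCoeff_C, sub_self]
        have h1' : (1 : ℕ∞) ≤ (pderiv k i f).order := by
          rw [one_le_order_iff_constCoeff_eq_zero]; exact hmem i
        calc (2 : ℕ∞) = 1 + 1 := by norm_num
          _ ≤ _ := add_le_add h1 h1'
      · refine le_trans ?_ le_order_mul
        rw [hℓpd]
        exact le_trans (by exact_mod_cast order_pderiv i _ 2 (by exact_mod_cast hfq)) le_add_self
    refine MvPowerSeries.ext fun d => ?_
    rw [map_zero]
    by_cases hd : Finsupp.degree d = 1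
    · exact coeff_of_lt_order (lt_of_lt_of_le (by rw [hd]; norm_num) h2)
    · rw [map_sub, map_sum]
      have : coeff d (X j : MvPowerSeries (Fin n) k) = 0 := by
        rw [coeff_X, if_neg]
        rintro rfl
        exact hd (Finsupp.degree_single _ _)
      rw [this, sub_zero]
      refine Finset.sum_eq_zero fun i _ => ?_
      rw [← smul_eq_C_mul, coeff_smul, hℓhom i d hd, mul_zero]
  choose c hc using hX
  intro r h hr
  have h0 : constantCoeff h = 0 :=
    one_le_order_iff_constCoeff_eq_zero.1 (le_trans (by exact_mod_cast Nat.succ_pos r) hr)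
  refine ⟨fun i => ∑ j, C (c j i) * divPart j h, fun i => ?_, ?_⟩
  · refine le_order_sum _ _ _ fun j _ => ?_
    rw [← smul_eq_C_mul]
    exact le_trans (order_divPart j h r hr) le_order_smul
  · conv_rhs => rw [← sum_X_mul_divPart h h0]
    simp only [Finset.sum_mul]
    rw [Finset.sum_comm]
    refine Finset.sum_congr rfl fun j _ => ?_
    rw [← hc j, Finset.sum_mul]
    refine Finset.sum_congr rfl fun i _ => ?_
    ring

/-- the defect `f - q(X + ε)` -/
noncomputable def morseE (f : MvPowerSeries (Fin n) k) (q : MvPolynomial (Fin n) k)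
    (ε : Fin n → MvPowerSeries (Fin n) k) : MvPowerSeries (Fin n) k :=
  f - MvPolynomial.aeval (fun i => X i + ε i) q

theorem morseE_add (f : MvPowerSeries (Fin n) k) (q : MvPolynomial (Fin n) k)
    (hq : q.IsHomogeneous 2) (ε η : Fin n → MvPowerSeries (Fin n) k) :
    morseE f q (ε + η) = morseE f q ε -
      ∑ i, η i * MvPolynomial.aeval (fun i => (X i : MvPowerSeries (Fin n) k))
        (MvPolynomial.pderiv i q) -
      ∑ i, η i * MvPolynomial.aeval ε (MvPolynomial.pderiv i q) - MvPolynomial.aeval η q := by
  classical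
  have e1 : (fun i => X i + (ε + η) i) =
      ((fun i => (X i : MvPowerSeries (Fin n) k)) + ε) + η := by
    ext i : 1; simp [add_assoc]
  have e2 : (fun i => X i + ε i) = (fun i => (X i : MvPowerSeries (Fin n) k)) + ε := rfl
  rw [morseE, morseE, e1, e2, taylor2 q hq]
  have e3 : ∀ i, MvPolynomial.aeval ((fun i => (X i : MvPowerSeries (Fin n) k)) + ε)
      (MvPolynomial.pderiv i q) =
      MvPolynomial.aeval (fun i => (X i : MvPowerSeries (Fin n) k)) (MvPolynomial.pderiv i q) +
        MvPolynomial.aeval ε (MvPolynomial.pderiv i q) := by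
    intro i
    exact taylor1 _ (hq.pderiv) _ _
  simp only [e3, mul_add, Finset.sum_add_distrib]
  ring

theorem morse_one_step (f : MvPowerSeries (Fin n) k) (q : MvPolynomial (Fin n) k)
    (hq : q.IsHomogeneous 2) (hdec : MorseDec q) (ε : Fin n → MvPowerSeries (Fin n) k)
    (hε : ∀ i, 2 ≤ (ε i).order) (h3 : 3 ≤ (morseE f q ε).order) :
    ∃ η : Fin n → MvPowerSeries (Fin n) k,
      (∀ i, (morseE f q ε).order ≤ (η i).order + 1) ∧
      (morseE f q ε).order + 1 ≤ (morseE f q (ε + η)).order := by
  by_cases h0 : morseE f q ε = 0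
  · refine ⟨0, fun i => ?_, ?_⟩
    · simp
    · rw [add_zero, h0, order_zero]; simp
  · have hfin := ne_zero_iff_order_finite.1 h0
    set r' := (morseE f q ε).order.toNat with hr'
    have h3' : 3 ≤ r' := by
      have : ((3 : ℕ) : ℕ∞) ≤ ((r' : ℕ) : ℕ∞) := by rw [hfin]; exact h3
      exact_mod_cast this
    obtain ⟨r, hr⟩ : ∃ r, r' = r + 3 := ⟨r' - 3, by omega⟩
    obtain ⟨η, hη1, hη2⟩ := hdec (r + 2) (morseE f q ε) (by
      rw [← hfin, hr])
    refine ⟨η, fun i => ?_, ?_⟩
    · rw [← hfin, hr]
      refine le_trans ?_ (add_le_add_left (hη1 i) 1)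
      push_cast
      rw [add_assoc]
      norm_num
    · rw [morseE_add f q hq, hη2, sub_self, zero_sub, ← hfin, hr]
      rw [sub_eq_add_neg]
      refine le_trans (le_min ?_ ?_) min_order_le_add
      · rw [order_neg]
        refine le_order_sum _ _ _ fun i _ => ?_
        refine le_trans ?_ le_order_mul
        have h1 := order_aeval_homog (MvPolynomial.pderiv i q) 1 hq.pderiv ε 2 hε
        rw [one_smul] at h1
        refine le_trans ?_ (add_le_add (hη1 i) h1)
        push_cast
        rw [add_assoc, add_assoc]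
        norm_num
      · rw [order_neg]
        refine le_trans ?_ (order_aeval_homog q 2 hq η _ hη1)
        rw [two_nsmul]
        push_cast
        calc ((r : ℕ∞) + 3 + 1) = r + 2 + 2 := by rw [add_assoc, add_assoc]; norm_num
          _ ≤ r + 2 + (r + 2) := by gcongr; exact le_add_self

theorem morse_iter (f : MvPowerSeries (Fin n) k) (q : MvPolynomial (Fin n) k)
    (hq : q.IsHomogeneous 2) (hdec : MorseDec q) (h3 : 3 ≤ (morseE f q 0).order) :
    ∃ ε : Fin n → MvPowerSeries (Fin n) k, (∀ i, 2 ≤ (ε i).order) ∧ morseE f q ε = 0 := by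
  classical
  let corr : (Fin n → MvPowerSeries (Fin n) k) → (Fin n → MvPowerSeries (Fin n) k) := fun ε =>
    if h : ∃ η : Fin n → MvPowerSeries (Fin n) k,
      (∀ i, (morseE f q ε).order ≤ (η i).order + 1) ∧
      (morseE f q ε).order + 1 ≤ (morseE f q (ε + η)).order then Classical.choose h else 0
  have hcorr : ∀ ε : Fin n → MvPowerSeries (Fin n) k, (∀ i, 2 ≤ (ε i).order) →
      3 ≤ (morseE f q ε).order →
      (∀ i, (morseE f q ε).order ≤ (corr ε i).order + 1) ∧
      (morseE f q ε).order + 1 ≤ (morseE f q (ε + corr ε)).order := by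
    intro ε hε h3
    have h := morse_one_step f q hq hdec ε hε h3
    simp only [corr]
    rw [dif_pos h]
    exact Classical.choose_spec h
  let g : ℕ → (Fin n → MvPowerSeries (Fin n) k) := fun m =>
    Nat.rec 0 (fun _ gm => gm + corr gm) m
  have gs : ∀ m, g (m + 1) = g m + corr (g m) := fun m => rfl
  have hinv : ∀ m : ℕ, (∀ i, 2 ≤ (g m i).order) ∧
      ((m : ℕ∞) + 3) ≤ (morseE f q (g m)).order := by
    intro m
    induction m with
    | zero =>
      refine ⟨fun i => ?_, ?_⟩
      · have : g 0 i = 0 := rfl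
        rw [this, order_zero]; exact le_top
      · have : ((0 : ℕ) : ℕ∞) + 3 = 3 := by simp
        rw [this]; exact h3
    | succ m ih =>
      have h3' : 3 ≤ (morseE f q (g m)).order := le_trans le_add_self ih.2
      obtain ⟨hc1, hc2⟩ := hcorr (g m) ih.1 h3'
      have hc : ∀ i, ((m : ℕ∞) + 2) ≤ (corr (g m) i).order := by
        intro i
        have := le_trans ih.2 (hc1 i)
        have e : (m : ℕ∞) + 3 = (m + 2) + 1 := by rw [add_assoc]; norm_num
        rw [e] at this
        exact (ENat.add_le_add_iff_right ENat.one_ne_top).1 this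
      refine ⟨fun i => ?_, ?_⟩
      · rw [gs, Pi.add_apply]
        exact le_trans (le_min (ih.1 i) (le_trans le_add_self (hc i))) min_order_le_add
      · rw [gs]
        refine le_trans ?_ hc2
        push_cast
        calc (m : ℕ∞) + 1 + 3 = (m + 3) + 1 := by ring
          _ ≤ _ := by gcongr; exact ih.2
  have hc : ∀ (m : ℕ) i, ((m : ℕ∞) + 2) ≤ (corr (g m) i).order := by
    intro m i
    have h3' : 3 ≤ (morseE f q (g m)).order := le_trans le_add_self (hinv m).2
    obtain ⟨hc1, hc2⟩ := hcorr (g m) (hinv m).1 h3'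
    have := le_trans (hinv m).2 (hc1 i)
    have e : (m : ℕ∞) + 3 = (m + 2) + 1 := by rw [add_assoc]; norm_num
    rw [e] at this
    exact (ENat.add_le_add_iff_right ENat.one_ne_top).1 this
  have hstep : ∀ i (m : ℕ), (m : ℕ∞) ≤ (g (m + 1) i - g m i).order := by
    intro i m
    rw [gs, Pi.add_apply, add_sub_cancel_left]
    exact le_trans le_self_add (hc m i)
  choose G hG using fun i => exists_limit_of_order (fun m => g m i) (hstep i)
  refine ⟨G, fun i => ?_, ?_⟩
  · have e : G i = (G i - g 2 i) + g 2 i := by ring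
    rw [e]
    exact le_trans (le_min (by simpa using hG i 2) ((hinv 2).1 i)) min_order_le_add
  · rw [← order_eq_top_iff]
    refine ENat.eq_top_iff_forall_ge.2 fun m => ?_
    have e : G = g m + (G - g m) := by ring
    rw [e, morseE_add f q hq]
    have hη : ∀ i, (m : ℕ∞) ≤ ((G - g m) i).order := fun i => hG i m
    rw [sub_eq_add_neg, sub_eq_add_neg, sub_eq_add_neg]
    refine le_trans (le_min (le_trans (le_min (le_trans (le_min ?_ ?_) min_order_le_add) ?_)
      min_order_le_add) ?_) min_order_le_add
    · exact le_trans le_self_add (hinv m).2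
    · rw [order_neg]
      refine le_order_sum _ _ _ fun i _ => ?_
      exact le_trans (le_trans (hη i) le_self_add) le_order_mul
    · rw [order_neg]
      refine le_order_sum _ _ _ fun i _ => ?_
      exact le_trans (le_trans (hη i) le_self_add) le_order_mul
    · rw [order_neg]
      refine le_trans ?_ (order_aeval_homog q 2 hq _ _ hη)
      rw [two_nsmul]
      exact le_self_add


theorem formal_morse (k : Type) [Field k] (n : ℕ) (f : MvPowerSeries (Fin n) k)
    (hf0 : MvPowerSeries.constantCoeff f = 0)
    (hJ : Ideal.span (Set.range fun i : Fin n => MvPowerSeries.pderiv k i f) =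
      IsLocalRing.maximalIdeal (MvPowerSeries (Fin n) k)) :
    ∃ (ε : Fin n → MvPowerSeries (Fin n) k)
      (_ : ∀ i (m : Fin n →₀ ℕ), m.degree < 2 → MvPowerSeries.coeff m (ε i) = 0)
      (q : MvPolynomial (Fin n) k) (_ : q.IsHomogeneous 2)
      (_ : MvPowerSeries.HasSubst (fun i : Fin n => MvPowerSeries.X i + ε i)),
      f = MvPowerSeries.subst (fun i : Fin n => MvPowerSeries.X i + ε i)
        (q : MvPowerSeries (Fin n) k) := by
  obtain ⟨hq, hfq, hdec⟩ := morse_setup f hf0 hJ
  set q := truncTotal 3 f with hqdef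
  have h3 : 3 ≤ (morseE f q 0).order := by
    have e : morseE f q 0 = f - (q : MvPowerSeries (Fin n) k) := by
      rw [morseE, coe_eq_aeval_X]
      simp
    rw [e]; exact hfq
  obtain ⟨ε, hε, hE⟩ := morse_iter f q hq hdec h3
  refine ⟨ε, ?_, q, hq, ?_, ?_⟩
  · intro i m hm
    exact coeff_of_lt_order (lt_of_lt_of_le (by exact_mod_cast hm) (hε i))
  · refine hasSubst_of_constantCoeff_zero fun i => ?_
    rw [map_add, constantCoeff_X, zero_add]
    exact one_le_order_iff_constCoeff_eq_zero.1 (le_trans (by norm_num) (hε i))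
  · rw [subst_coe]
    exact sub_eq_zero.1 hE

end morse

end Groth.Agent.H75
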