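import Mathlib
import Groth.Agent.H75.Morse

set_option autoImplicit false
universe u

namespace Groth.Agent.H75

open MvPowerSeries

section linsubst

variable {n : ℕ} {k : Type*} [CommRing k]

/-- the linear substitution attached to a matrix -/
noncomputable def linForm (b : Matrix (Fin n) (Fin n) k) (i : Fin n) : MvPowerSeries (Fin n) k :=
  ∑ j, C (b i j) * X j

theorem constantCoeff_linForm (b : Matrix (Fin n) (Fin n) k) (i : Fin n) :
    constantCoeff (linForm b i) = 0 := by
  rw [linForm, map_sum]
  exact Finset.sum_eq_zero fun j _ => by rw [map_mul, constantCoeff_X, mul_zero]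

theorem subst_linForm (b c : Matrix (Fin n) (Fin n) k) (i : Fin n) :
    subst (linForm b) (linForm c i) = linForm (c * b) i := by
  have hs : HasSubst (linForm b) := hasSubst_of_constantCoeff_zero (constantCoeff_linForm b)
  rw [linForm, ← coe_substAlgHom hs, map_sum]
  simp only [map_mul, coe_substAlgHom, subst_X hs, subst_C]
  rw [linForm]
  simp only [linForm, Finset.mul_sum, Matrix.mul_apply, map_sum, Finset.sum_mul]
  rw [Finset.sum_comm]
  refine Finset.sum_congr rfl fun l _ => Finset.sum_congr rfl fun j _ => ?_
  rw [map_mul]; ring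

theorem linForm_one (i : Fin n) : linForm (1 : Matrix (Fin n) (Fin n) k) i = X i := by
  classical
  rw [linForm, Finset.sum_eq_single i]
  · rw [Matrix.one_apply_eq, map_one, one_mul]
  · intro j _ hj
    rw [Matrix.one_apply_ne (Ne.symm hj), map_zero, zero_mul]
  · intro h; exact absurd (Finset.mem_univ _) h

theorem coeff_single_linForm (b : Matrix (Fin n) (Fin n) k) (i l : Fin n) :
    coeff (Finsupp.single l 1) (linForm b i) = b i l := by
  classical
  rw [linForm, map_sum, Finset.sum_eq_single l]
  · rw [← smul_eq_C_mul, coeff_smul, coeff_index_single_self_X, mul_one]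
  · intro j _ hj
    rw [← smul_eq_C_mul, coeff_smul, coeff_index_single_X, if_neg (Ne.symm hj), mul_zero]
  · intro h; exact absurd (Finset.mem_univ _) h

end linsubst

theorem coeff_single_mul_of_const_zero {σ : Type*} {k : Type*} [CommRing k]
    (g y : MvPowerSeries σ k) (hy : constantCoeff y = 0) (l : σ) :
    coeff (Finsupp.single l 1) (g * y) = constantCoeff g * coeff (Finsupp.single l 1) y := by
  have e : g * y = C (constantCoeff g) * y + (g - C (constantCoeff g)) * y := by ring
  rw [e, map_add, ← smul_eq_C_mul, coeff_smul,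
    coeff_of_lt_order (f := (g - C (constantCoeff g)) * y), add_zero]
  rw [Finsupp.degree_single]
  refine lt_of_lt_of_le ?_ le_order_mul
  have h1 : (1 : ℕ∞) ≤ (g - C (constantCoeff g)).order := by
    rw [one_le_order_iff_constCoeff_eq_zero, map_sub, constantCoeff_C, sub_self]
  have h2 : (1 : ℕ∞) ≤ y.order := one_le_order_iff_constCoeff_eq_zero.2 hy
  calc ((1 : ℕ) : ℕ∞) < 1 + 1 := by norm_num
    _ ≤ _ := add_le_add h1 h2

theorem subst_bijective_of_span {K : Type*} [Field K] (n : ℕ)
    (y : Fin n → MvPowerSeries (Fin n) K)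
    (hy : Ideal.span (Set.range y) = IsLocalRing.maximalIdeal (MvPowerSeries (Fin n) K)) :
    Function.Bijective (MvPowerSeries.subst y : MvPowerSeries (Fin n) K → MvPowerSeries (Fin n) K) := by
  classical
  have hy0 : ∀ i, constantCoeff (y i) = 0 := by
    intro i
    rw [← mem_maximalIdeal_iff, ← hy]
    exact Ideal.subset_span ⟨i, rfl⟩
  have hX : ∀ j : Fin n, ∃ g : Fin n → MvPowerSeries (Fin n) K, ∑ i, g i * y i = X j := by
    intro j
    have hXm : (X j : MvPowerSeries (Fin n) K) ∈ Ideal.span (Set.range y) := by
      rw [hy, mem_maximalIdeal_iff, constantCoeff_X]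
    exact Ideal.mem_span_range_iff_exists_fun.1 hXm
  choose g hg using hX
  let b : Matrix (Fin n) (Fin n) K := fun i l => coeff (Finsupp.single l 1) (y i)
  let c : Matrix (Fin n) (Fin n) K := fun j i => constantCoeff (g j i)
  have hcb : c * b = 1 := by
    ext j l
    have := congrArg (coeff (Finsupp.single l 1)) (hg j)
    rw [map_sum, coeff_index_single_X] at this
    rw [Matrix.mul_apply, Matrix.one_apply]
    simp only [eq_comm (a := l) (b := j)] at this
    rw [← this]
    refine Finset.sum_congr rfl fun i _ => ?_
    rw [coeff_single_mul_of_const_zero _ _ (hy0 i)]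
  have hbc : b * c = 1 := mul_eq_one_comm.1 hcb
  refine H65.ift_bijective (ℓ := linForm b) (ℓ' := linForm c) hy0 (constantCoeff_linForm b)
    (constantCoeff_linForm c) ?_ ?_ ?_
  · intro i; rw [subst_linForm, hcb, linForm_one]
  · intro i; rw [subst_linForm, hbc, linForm_one]
  · intro i
    refine two_le_order_sub (hy0 i) (constantCoeff_linForm b i) fun l => ?_
    rw [coeff_single_linForm]

end Groth.Agent.H75
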