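import Mathlib
import Groth.Agent.H75.LinSubst

set_option autoImplicit false
universe u

namespace Groth.Agent.H75

open MvPowerSeries

theorem subst_bijective_of_span_insert {Λ : Type*} [CommRing Λ] [IsLocalRing Λ] (π : Λ)
    (hπ : π ∈ IsLocalRing.maximalIdeal Λ) (n : ℕ)
    (y : Fin n → MvPowerSeries (Fin n) Λ) (hy0 : ∀ i, constantCoeff (y i) = 0)
    (hy : ∀ j : Fin n, (X j : MvPowerSeries (Fin n) Λ) ∈
      Ideal.span (insert (C π : MvPowerSeries (Fin n) Λ) (Set.range y))) :
    Function.Bijective (MvPowerSeries.subst y : MvPowerSeries (Fin n) Λ → MvPowerSeries (Fin n) Λ) := by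
  classical
  have hX : ∀ j : Fin n, ∃ (g0 : MvPowerSeries (Fin n) Λ) (g : Fin n → MvPowerSeries (Fin n) Λ),
      g0 * C π + ∑ i, g i * y i = X j := by
    intro j
    obtain ⟨a, z, hz, e⟩ := Ideal.mem_span_insert.1 (hy j)
    obtain ⟨g, hg⟩ := Ideal.mem_span_range_iff_exists_fun.1 hz
    exact ⟨a, g, by rw [hg, ← e]⟩
  choose g0 g hg using hX
  let b : Matrix (Fin n) (Fin n) Λ := fun i l => coeff (Finsupp.single l 1) (y i)
  let c : Matrix (Fin n) (Fin n) Λ := fun j i => constantCoeff (g j i)
  let d : Matrix (Fin n) (Fin n) Λ := fun j l => coeff (Finsupp.single l 1) (g0 j)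
  have hcb : c * b = 1 - π • d := by
    ext j l
    have := congrArg (coeff (Finsupp.single l 1)) (hg j)
    rw [map_add, map_sum, coeff_index_single_X] at this
    simp only [eq_comm (a := l) (b := j)] at this
    rw [Matrix.mul_apply, Matrix.sub_apply, Matrix.one_apply, Matrix.smul_apply, ← this]
    have e1 : coeff (Finsupp.single l 1) (g0 j * C π) = π • d j l := by
      rw [mul_comm, ← smul_eq_C_mul, coeff_smul]; rfl
    rw [e1, add_sub_cancel_left]
    refine Finset.sum_congr rfl fun i _ => ?_
    rw [coeff_single_mul_of_const_zero _ _ (hy0 i)]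
  have hdet : IsUnit (c * b).det := by
    rw [hcb]
    have hmem : (1 - π • d).det - 1 ∈ IsLocalRing.maximalIdeal Λ := by
      have h1 : Ideal.Quotient.mk (IsLocalRing.maximalIdeal Λ) ((1 - π • d).det) = 1 := by
        have := RingHom.map_det (Ideal.Quotient.mk (IsLocalRing.maximalIdeal Λ)) (1 - π • d)
        rw [this]
        have e : (Ideal.Quotient.mk (IsLocalRing.maximalIdeal Λ)).mapMatrix (1 - π • d) = 1 := by
          ext i j
          simp only [RingHom.mapMatrix_apply, Matrix.map_apply, Matrix.sub_apply,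
            Matrix.smul_apply, map_sub, smul_eq_mul, map_mul,
            Ideal.Quotient.eq_zero_iff_mem.2 hπ, zero_mul, sub_zero]
          by_cases hij : i = j
          · subst hij; simp
          · simp [hij]
        rw [e, Matrix.det_one]
      rw [← Ideal.Quotient.eq_zero_iff_mem, map_sub, h1, map_one, sub_self]
    have : (1 - π • d).det = 1 - (1 - (1 - π • d).det) := by ring
    rw [this]
    refine IsLocalRing.isUnit_one_sub_self_of_mem_nonunits _ ?_
    have h2 : 1 - (1 - π • d).det ∈ IsLocalRing.maximalIdeal Λ := by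
      have := (IsLocalRing.maximalIdeal Λ).neg_mem hmem
      rwa [neg_sub] at this
    exact h2
  rw [Matrix.det_mul] at hdet
  have hbu : IsUnit b.det := isUnit_of_mul_isUnit_right hdet
  have hb1 : b * b⁻¹ = 1 := Matrix.mul_nonsing_inv b hbu
  have hb2 : b⁻¹ * b = 1 := Matrix.nonsing_inv_mul b hbu
  refine H65.ift_bijective (ℓ := linForm b) (ℓ' := linForm b⁻¹) hy0 (constantCoeff_linForm b)
    (constantCoeff_linForm b⁻¹) ?_ ?_ ?_
  · intro i; rw [subst_linForm, hb2, linForm_one]
  · intro i; rw [subst_linForm, hb1, linForm_one]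
  · intro i
    refine two_le_order_sub (hy0 i) (constantCoeff_linForm b i) fun l => ?_
    rw [coeff_single_linForm]

end Groth.Agent.H75
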