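import Mathlib
import Groth.Agent.H75.Morse
import Groth.Agent.H75.LinSubst
import Groth.Agent.H65.FormalIFT
import Groth.Prelude.Def_QuadSing

set_option autoImplicit false
universe u

namespace Groth.Agent.H75

open MvPowerSeries

section iter2

variable {n : ℕ} {k : Type*} [CommRing k]

theorem coe_eq_aeval_X2 (p : MvPolynomial (Fin n) k) :
    (p : MvPowerSeries (Fin n) k) = MvPolynomial.aeval (fun i => (X i : MvPowerSeries (Fin n) k)) p := by
  rw [← subst_coe]
  exact (congrFun subst_self _).symm


def MorseDec2 (q : MvPolynomial (Fin n) k) : Prop :=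
  ∀ (r : ℕ) (h : MvPowerSeries (Fin n) k), ((r + 1 : ℕ) : ℕ∞) ≤ h.order →
    ∃ η : Fin n → MvPowerSeries (Fin n) k, (∀ i, (r : ℕ∞) ≤ (η i).order) ∧
      ∑ i, η i * MvPolynomial.aeval (fun i => (X i : MvPowerSeries (Fin n) k))
        (MvPolynomial.pderiv i q) = h

/-- the defect `f - q(X + ε)` -/
noncomputable def morseE2 (f : MvPowerSeries (Fin n) k) (q : MvPolynomial (Fin n) k)
    (ε : Fin n → MvPowerSeries (Fin n) k) : MvPowerSeries (Fin n) k :=
  f - MvPolynomial.aeval (fun i => X i + ε i) q

theorem morseE2_add2 (f : MvPowerSeries (Fin n) k) (q : MvPolynomial (Fin n) k)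
    (hq : q.IsHomogeneous 2) (ε η : Fin n → MvPowerSeries (Fin n) k) :
    morseE2 f q (ε + η) = morseE2 f q ε -
      ∑ i, η i * MvPolynomial.aeval (fun i => (X i : MvPowerSeries (Fin n) k))
        (MvPolynomial.pderiv i q) -
      ∑ i, η i * MvPolynomial.aeval ε (MvPolynomial.pderiv i q) - MvPolynomial.aeval η q := by
  classical
  have e1 : (fun i => X i + (ε + η) i) =
      ((fun i => (X i : MvPowerSeries (Fin n) k)) + ε) + η := by
    ext i : 1; simp [add_assoc]
  have e2 : (fun i => X i + ε i) = (fun i => (X i : MvPowerSeries (Fin n) k)) + ε := rfl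
  rw [morseE2, morseE2, e1, e2, taylor2 q hq]
  have e3 : ∀ i, MvPolynomial.aeval ((fun i => (X i : MvPowerSeries (Fin n) k)) + ε)
      (MvPolynomial.pderiv i q) =
      MvPolynomial.aeval (fun i => (X i : MvPowerSeries (Fin n) k)) (MvPolynomial.pderiv i q) +
        MvPolynomial.aeval ε (MvPolynomial.pderiv i q) := by
    intro i
    exact taylor1 _ (hq.pderiv) _ _
  simp only [e3, mul_add, Finset.sum_add_distrib]
  ring

theorem morse_one_step2 (f : MvPowerSeries (Fin n) k) (q : MvPolynomial (Fin n) k)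
    (hq : q.IsHomogeneous 2) (hdec : MorseDec2 q) (ε : Fin n → MvPowerSeries (Fin n) k)
    (hε : ∀ i, 2 ≤ (ε i).order) (h3 : 3 ≤ (morseE2 f q ε).order) :
    ∃ η : Fin n → MvPowerSeries (Fin n) k,
      (∀ i, (morseE2 f q ε).order ≤ (η i).order + 1) ∧
      (morseE2 f q ε).order + 1 ≤ (morseE2 f q (ε + η)).order := by
  by_cases h0 : morseE2 f q ε = 0
  · refine ⟨0, fun i => ?_, ?_⟩
    · simp
    · rw [add_zero, h0, order_zero]; simp
  · have hfin := ne_zero_iff_order_finite.1 h0
    set r' := (morseE2 f q ε).order.toNat with hr'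
    have h3' : 3 ≤ r' := by
      have : ((3 : ℕ) : ℕ∞) ≤ ((r' : ℕ) : ℕ∞) := by rw [hfin]; exact h3
      exact_mod_cast this
    obtain ⟨r, hr⟩ : ∃ r, r' = r + 3 := ⟨r' - 3, by omega⟩
    obtain ⟨η, hη1, hη2⟩ := hdec (r + 2) (morseE2 f q ε) (by
      rw [← hfin, hr])
    refine ⟨η, fun i => ?_, ?_⟩
    · rw [← hfin, hr]
      refine le_trans ?_ (add_le_add_left (hη1 i) 1)
      push_cast
      rw [add_assoc]
      norm_num
    · rw [morseE2_add2 f q hq, hη2, sub_self, zero_sub, ← hfin, hr]
      rw [sub_eq_add_neg]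
      refine le_trans (le_min ?_ ?_) min_order_le_add
      · rw [order_neg]
        refine le_order_sum _ _ _ fun i _ => ?_
        refine le_trans ?_ le_order_mul
        have h1 := order_aeval_homog (MvPolynomial.pderiv i q) 1 hq.pderiv ε 2 hε
        rw [one_smul] at h1
        refine le_trans ?_ (add_le_add (hη1 i) h1)
        push_cast
        rw [add_assoc, add_assoc]
        norm_num
      · rw [order_neg]
        refine le_trans ?_ (order_aeval_homog q 2 hq η _ hη1)
        rw [two_nsmul]
        push_cast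
        calc ((r : ℕ∞) + 3 + 1) = r + 2 + 2 := by rw [add_assoc, add_assoc]; norm_num
          _ ≤ r + 2 + (r + 2) := by gcongr; exact le_add_self

theorem morse_iter2 (f : MvPowerSeries (Fin n) k) (q : MvPolynomial (Fin n) k)
    (hq : q.IsHomogeneous 2) (hdec : MorseDec2 q) (s : ℕ)
    (h3 : (s : ℕ∞) + 3 ≤ (morseE2 f q 0).order) :
    ∃ ε : Fin n → MvPowerSeries (Fin n) k, (∀ i, (s : ℕ∞) + 2 ≤ (ε i).order) ∧
      morseE2 f q ε = 0 := by
  classical
  let corr : (Fin n → MvPowerSeries (Fin n) k) → (Fin n → MvPowerSeries (Fin n) k) := fun ε =>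
    if h : ∃ η : Fin n → MvPowerSeries (Fin n) k,
      (∀ i, (morseE2 f q ε).order ≤ (η i).order + 1) ∧
      (morseE2 f q ε).order + 1 ≤ (morseE2 f q (ε + η)).order then Classical.choose h else 0
  have hcorr : ∀ ε : Fin n → MvPowerSeries (Fin n) k, (∀ i, 2 ≤ (ε i).order) →
      3 ≤ (morseE2 f q ε).order →
      (∀ i, (morseE2 f q ε).order ≤ (corr ε i).order + 1) ∧
      (morseE2 f q ε).order + 1 ≤ (morseE2 f q (ε + corr ε)).order := by
    intro ε hε h3
    have h := morse_one_step2 f q hq hdec ε hε h3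
    simp only [corr]
    rw [dif_pos h]
    exact Classical.choose_spec h
  let g : ℕ → (Fin n → MvPowerSeries (Fin n) k) := fun m =>
    Nat.rec 0 (fun _ gm => gm + corr gm) m
  have gs : ∀ m, g (m + 1) = g m + corr (g m) := fun m => rfl
  have hinv : ∀ m : ℕ, (∀ i, (s : ℕ∞) + 2 ≤ (g m i).order) ∧
      ((m : ℕ∞) + ((s : ℕ∞) + 3)) ≤ (morseE2 f q (g m)).order := by
    intro m
    induction m with
    | zero =>
      refine ⟨fun i => ?_, ?_⟩
      · have : g 0 i = 0 := rfl
        rw [this, order_zero]; exact le_top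
      · have : ((0 : ℕ) : ℕ∞) + ((s : ℕ∞) + 3) = (s : ℕ∞) + 3 := by simp
        rw [this]; exact h3
    | succ m ih =>
      have h3' : 3 ≤ (morseE2 f q (g m)).order :=
        le_trans (le_trans le_add_self le_add_self) ih.2
      have h2' : ∀ i, 2 ≤ (g m i).order := fun i => le_trans le_add_self (ih.1 i)
      obtain ⟨hc1, hc2⟩ := hcorr (g m) h2' h3'
      have hc : ∀ i, ((m : ℕ∞) + ((s : ℕ∞) + 2)) ≤ (corr (g m) i).order := by
        intro i
        have := le_trans ih.2 (hc1 i)
        have e : (m : ℕ∞) + ((s : ℕ∞) + 3) = (m + (s + 2)) + 1 := by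
          rw [add_assoc, add_assoc]; norm_num
        rw [e] at this
        exact (ENat.add_le_add_iff_right ENat.one_ne_top).1 this
      refine ⟨fun i => ?_, ?_⟩
      · rw [gs, Pi.add_apply]
        exact le_trans (le_min (ih.1 i) (le_trans le_add_self (hc i))) min_order_le_add
      · rw [gs]
        refine le_trans ?_ hc2
        push_cast
        calc (m : ℕ∞) + 1 + ((s : ℕ∞) + 3) = (m + (s + 3)) + 1 := by ring
          _ ≤ _ := by gcongr; exact ih.2
  have hc : ∀ (m : ℕ) i, ((m : ℕ∞) + ((s : ℕ∞) + 2)) ≤ (corr (g m) i).order := by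
    intro m i
    have h3' : 3 ≤ (morseE2 f q (g m)).order :=
      le_trans (le_trans le_add_self le_add_self) (hinv m).2
    have h2' : ∀ i, 2 ≤ (g m i).order := fun i => le_trans le_add_self ((hinv m).1 i)
    obtain ⟨hc1, hc2⟩ := hcorr (g m) h2' h3'
    have := le_trans (hinv m).2 (hc1 i)
    have e : (m : ℕ∞) + ((s : ℕ∞) + 3) = (m + (s + 2)) + 1 := by
      rw [add_assoc, add_assoc]; norm_num
    rw [e] at this
    exact (ENat.add_le_add_iff_right ENat.one_ne_top).1 this
  have hstep : ∀ i (m : ℕ), (m : ℕ∞) ≤ (g (m + 1) i - g m i).order := by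
    intro i m
    rw [gs, Pi.add_apply, add_sub_cancel_left]
    exact le_trans le_self_add (hc m i)
  choose G hG using fun i => exists_limit_of_order (fun m => g m i) (hstep i)
  refine ⟨G, fun i => ?_, ?_⟩
  · have e : G i = (G i - g (s + 2) i) + g (s + 2) i := by ring
    rw [e]
    refine le_trans (le_min ?_ ((hinv (s + 2)).1 i)) min_order_le_add
    have := hG i (s + 2)
    push_cast at this
    exact this
  · rw [← order_eq_top_iff]
    refine ENat.eq_top_iff_forall_ge.2 fun m => ?_
    have e : G = g m + (G - g m) := by ring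
    rw [e, morseE2_add2 f q hq]
    have hη : ∀ i, (m : ℕ∞) ≤ ((G - g m) i).order := fun i => hG i m
    rw [sub_eq_add_neg, sub_eq_add_neg, sub_eq_add_neg]
    refine le_trans (le_min (le_trans (le_min (le_trans (le_min ?_ ?_) min_order_le_add) ?_)
      min_order_le_add) ?_) min_order_le_add
    · exact le_trans le_self_add (hinv m).2
    · rw [order_neg]
      refine le_order_sum _ _ _ fun i _ => ?_
      exact le_trans (le_trans (hη i) le_self_add) le_order_mul
    · rw [order_neg]
      refine le_order_sum _ _ _ fun i _ => ?_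
      exact le_trans (le_trans (hη i) le_self_add) le_order_mul
    · rw [order_neg]
      refine le_trans ?_ (order_aeval_homog q 2 hq _ _ hη)
      rw [two_nsmul]
      exact le_self_add

end iter2

section quadpoly

variable {n : ℕ} {A : Type u} [CommRing A]

theorem quadPoly_isHomogeneous (q : Fin n → Fin n → A) :
    (VanCyc.quadPoly q).IsHomogeneous 2 := by
  rw [VanCyc.quadPoly]
  refine MvPolynomial.IsHomogeneous.sum _ _ _ fun i _ => ?_
  refine MvPolynomial.IsHomogeneous.sum _ _ _ fun j _ => ?_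
  split_ifs
  · exact ((MvPolynomial.isHomogeneous_C _ _).mul (MvPolynomial.isHomogeneous_X _ i)).mul
      (MvPolynomial.isHomogeneous_X _ j)
  · exact MvPolynomial.isHomogeneous_zero _ _ _

theorem pderiv_quadPoly (q : Fin n → Fin n → A) (l : Fin n) :
    MvPolynomial.pderiv l (VanCyc.quadPoly q) =
      ∑ j, MvPolynomial.C (VanCyc.polarMatrix q l j) * MvPolynomial.X j := by
  classical
  rw [VanCyc.quadPoly, map_sum]
  simp only [map_sum]
  have e : ∀ i j : Fin n, MvPolynomial.pderiv l
      (if i ≤ j then MvPolynomial.C (q i j) * MvPolynomial.X i * MvPolynomial.X j else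
        (0 : MvPolynomial (Fin n) A)) =
      (if i = l then (if l ≤ j then MvPolynomial.C (q l j) * MvPolynomial.X j else 0) else 0) +
      (if j = l then (if i ≤ l then MvPolynomial.C (q i l) * MvPolynomial.X i else 0) else 0) := by
    intro i j
    by_cases hij : i ≤ j
    · rw [if_pos hij, mul_assoc, MvPolynomial.pderiv_C_mul, Derivation.leibniz,
        MvPolynomial.pderiv_X, MvPolynomial.pderiv_X]
      by_cases hi : i = l
      · subst hi
        by_cases hj : j = i
        · subst hj
          simp [mul_add]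
        · simp [hij, hj]
      · by_cases hj : j = l
        · subst hj
          simp [hi, hij]
        · simp [hi, hj]
    · rw [if_neg hij, map_zero]
      by_cases hi : i = l
      · subst hi
        by_cases hj : j = i
        · subst hj; exact absurd le_rfl hij
        · simp [hij, hj]
      · by_cases hj : j = l
        · subst hj
          simp [hi, hij]
        · simp [hi, hj]
  simp only [e, Finset.sum_add_distrib]
  have s1 : (∑ x, ∑ x_1, if x = l then
      (if l ≤ x_1 then MvPolynomial.C (q l x_1) * MvPolynomial.X x_1 else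
        (0 : MvPolynomial (Fin n) A)) else 0) =
      ∑ x_1, if l ≤ x_1 then MvPolynomial.C (q l x_1) * MvPolynomial.X x_1 else 0 := by
    rw [Finset.sum_eq_single l]
    · simp
    · intro b _ hb; simp [hb]
    · simp
  have s2 : (∑ x, ∑ x_1, if x_1 = l then
      (if x ≤ l then MvPolynomial.C (q x l) * MvPolynomial.X x else
        (0 : MvPolynomial (Fin n) A)) else 0) =
      ∑ x, if x ≤ l then MvPolynomial.C (q x l) * MvPolynomial.X x else 0 := by
    refine Finset.sum_congr rfl fun x _ => ?_
    rw [Finset.sum_ite_eq' Finset.univ l, if_pos (Finset.mem_univ _)]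
  rw [s1, s2]
  rw [← Finset.sum_add_distrib]
  refine Finset.sum_congr rfl fun j _ => ?_
  rw [VanCyc.polarMatrix]
  rcases lt_trichotomy l j with h | h | h
  · rw [if_pos h.le, if_neg (not_le.2 h), if_neg (ne_of_lt h), if_pos h, add_zero]
  · subst h
    rw [if_pos le_rfl, if_pos rfl, map_mul, ← two_mul, mul_assoc]
    rfl
  · rw [if_neg (not_le.2 h), if_pos h.le, if_neg (ne_of_gt h), if_neg (not_lt.2 h.le), zero_add]

end quadpoly

section quadpoly2

variable {n : ℕ} {A : Type u} [CommRing A]

theorem aeval_pderiv_quadPoly (q : Fin n → Fin n → A) (l : Fin n) :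
    MvPolynomial.aeval (fun i => (X i : MvPowerSeries (Fin n) A))
      (MvPolynomial.pderiv l (VanCyc.quadPoly q)) = linForm (VanCyc.polarMatrix q) l := by
  rw [pderiv_quadPoly, map_sum, linForm]
  refine Finset.sum_congr rfl fun j _ => ?_
  rw [map_mul, MvPolynomial.aeval_C, MvPolynomial.aeval_X]
  rfl

theorem morseDec2_quadPoly (q : Fin n → Fin n → A) (hq : VanCyc.QuadNondeg q) :
    MorseDec2 (VanCyc.quadPoly q) := by
  classical
  set M := VanCyc.polarMatrix q with hM
  have hdet : IsUnit M.det := hq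
  have hNM : M⁻¹ * M = 1 := Matrix.nonsing_inv_mul M hdet
  have hX : ∀ j : Fin n, ∑ i, C (M⁻¹ j i) * linForm M i = X j := by
    intro j
    have := subst_linForm M M⁻¹ j
    rw [hNM, linForm_one] at this
    rw [← this]
    have hs : HasSubst (linForm M) := hasSubst_of_constantCoeff_zero (constantCoeff_linForm M)
    conv_rhs => rw [linForm, ← coe_substAlgHom hs, map_sum]
    refine Finset.sum_congr rfl fun i _ => ?_
    rw [map_mul, coe_substAlgHom, subst_X hs, subst_C]
  intro r h hr
  have h0 : constantCoeff h = 0 :=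
    one_le_order_iff_constCoeff_eq_zero.1 (le_trans (by exact_mod_cast Nat.succ_pos r) hr)
  refine ⟨fun i => ∑ j, C (M⁻¹ j i) * divPart j h, fun i => ?_, ?_⟩
  · refine le_order_sum _ _ _ fun j _ => ?_
    rw [← smul_eq_C_mul]
    exact le_trans (order_divPart j h r hr) le_order_smul
  · conv_rhs => rw [← sum_X_mul_divPart h h0]
    simp only [aeval_pderiv_quadPoly, Finset.sum_mul]
    rw [Finset.sum_comm]
    refine Finset.sum_congr rfl fun j _ => ?_
    rw [← hX j, Finset.sum_mul]
    refine Finset.sum_congr rfl fun i _ => ?_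
    ring

end quadpoly2

theorem quad_normal_form
    (A : Type u) [CommRing A] (n m : ℕ) (hm : 2 ≤ m)
    (q : Fin n → Fin n → A) (hq : VanCyc.QuadNondeg q) (a : A)
    (F : MvPowerSeries (Fin n) A)
    (hF : ∀ e : Fin n →₀ ℕ, e.degree ≤ m →
      MvPowerSeries.coeff e F = MvPowerSeries.coeff e ((VanCyc.quadPoly q + MvPolynomial.C a : MvPolynomial (Fin n) A) : MvPowerSeries (Fin n) A)) :
    ∃ h : Fin n → MvPowerSeries (Fin n) A,
      (∀ (i : Fin n) (e : Fin n →₀ ℕ), e.degree < m → MvPowerSeries.coeff e (h i) = 0) ∧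
      MvPowerSeries.HasSubst (fun i => MvPowerSeries.X i + h i) ∧
      MvPowerSeries.subst (fun i => MvPowerSeries.X i + h i) F = ((VanCyc.quadPoly q + MvPolynomial.C a : MvPolynomial (Fin n) A) : MvPowerSeries (Fin n) A) ∧
      Nonempty ((MvPowerSeries (Fin n) A ⧸ Ideal.span {F}) ≃ₐ[A]
        (MvPowerSeries (Fin n) A ⧸ Ideal.span {((VanCyc.quadPoly q + MvPolynomial.C a : MvPolynomial (Fin n) A) : MvPowerSeries (Fin n) A)})) := by
  classical
  obtain ⟨s, rfl⟩ : ∃ s, m = s + 2 := ⟨m - 2, by omega⟩
  set Q := VanCyc.quadPoly q with hQ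
  set P : MvPowerSeries (Fin n) A := ((Q + MvPolynomial.C a : MvPolynomial (Fin n) A) :
    MvPowerSeries (Fin n) A) with hP
  have hPe : P = (Q : MvPowerSeries (Fin n) A) + C a := by
    rw [hP, MvPolynomial.coe_add, MvPolynomial.coe_C]
  have hE0 : morseE2 (F - C a) Q 0 = F - P := by
    rw [morseE2, hPe]
    have : (fun i => (X i : MvPowerSeries (Fin n) A) + (0 : Fin n → MvPowerSeries (Fin n) A) i) =
        fun i => X i := by
      ext i : 1; simp
    rw [this, ← coe_eq_aeval_X2]
    ring
  have h3 : (s : ℕ∞) + 3 ≤ (morseE2 (F - C a) Q 0).order := by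
    rw [hE0]
    have : ((s + 3 : ℕ) : ℕ∞) ≤ (F - P).order := by
      refine nat_le_order fun d hd => ?_
      rw [map_sub, hF d (by omega), sub_self]
    exact_mod_cast this
  obtain ⟨ε, hε, hE⟩ := morse_iter2 (F - C a) Q (quadPoly_isHomogeneous q)
    (morseDec2_quadPoly q hq) s h3
  have hε2 : ∀ i, 2 ≤ (ε i).order := fun i => le_trans le_add_self (hε i)
  have hε0 : ∀ i, constantCoeff (ε i) = 0 := fun i =>
    one_le_order_iff_constCoeff_eq_zero.1 (le_trans (by norm_num) (hε2 i))
  set av : Fin n → MvPowerSeries (Fin n) A := fun i => X i + ε i with hav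
  have ha0 : ∀ i, constantCoeff (av i) = 0 := fun i => by
    rw [hav]; simp only [map_add, constantCoeff_X, hε0, add_zero]
  have hsa : HasSubst av := hasSubst_of_constantCoeff_zero ha0
  have hFa : F = subst av P := by
    rw [hP, subst_coe, map_add, MvPolynomial.aeval_C]
    rw [morseE2, sub_eq_zero] at hE
    rw [← hE, ← MvPowerSeries.c_eq_algebraMap]
    ring
  have hX0 : ∀ i : Fin n, constantCoeff (X i : MvPowerSeries (Fin n) A) = 0 :=
    fun i => constantCoeff_X i
  have hXX : ∀ i : Fin n, subst (X : Fin n → MvPowerSeries (Fin n) A) (X i : MvPowerSeries (Fin n) A) = X i :=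
    fun i => by rw [subst_self]; rfl
  have hra : ∀ i, 2 ≤ (av i - X i).order := fun i => by
    rw [hav]; simp only [add_sub_cancel_left]; exact hε2 i
  obtain ⟨b, hb0, hab, hba⟩ := H65.ift_exists_inverse (a := av) (ℓ := X) (ℓ' := X) ha0 hX0 hX0 hXX hXX hra
  have hsb : HasSubst b := hasSubst_of_constantCoeff_zero hb0
  have hbX : ∀ i, b i - X i = - subst b (ε i) := by
    intro i
    have := hba i
    rw [hav] at this
    simp only at this
    rw [subst_add hsb, subst_X hsb] at this
    rw [← this]; ring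
  have hord : ∀ i, ((s + 2 : ℕ) : ℕ∞) ≤ (b i - X i).order := by
    intro i
    rw [hbX, order_neg]
    refine le_trans ?_ (H65.ift_order_le_subst hb0 _)
    exact_mod_cast hε i
  have hfun : (fun i => X i + (b i - X i)) = b := by
    ext i : 1; ring
  have hsubF : subst b F = P := by
    rw [hFa, subst_comp_subst_apply hsa hsb]
    have : (fun s => subst b (av s)) = X := funext hba
    rw [this, subst_self]; rfl
  refine ⟨fun i => b i - X i, fun i e he => ?_, ?_, ?_, ?_⟩
  · exact coeff_of_lt_order (lt_of_lt_of_le (by exact_mod_cast he) (hord i))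
  · rw [hfun]; exact hsb
  · rw [hfun]; exact hsubF
  · have hrb : ∀ i, 2 ≤ (b i - X i).order := fun i =>
      le_trans (by exact_mod_cast (Nat.le_add_left 2 s)) (hord i)
    let φ := H65.iftEquiv (a := b) (ℓ := X) (ℓ' := X) hb0 hX0 hX0 hXX hXX hrb
    have hφ : φ F = P := by
      rw [H65.iftEquiv_apply]; exact hsubF
    refine ⟨Ideal.quotientEquivAlg _ _ φ ?_⟩
    rw [Ideal.map_span, Set.image_singleton]
    congr 2
    exact hφ.symm

end Groth.Agent.H75
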