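import Mathlib
import Groth.Agent.H75.Morse2
import Groth.Agent.H75.AdicTrans

set_option autoImplicit false
universe u

namespace Groth.Agent.H75

section quadcoeff

variable {n : ℕ} {A : Type u} [CommRing A]

theorem single_add_single_inj {i j a b : Fin n} (hij : i ≤ j) (hab : a ≤ b)
    (h : (Finsupp.single i 1 + Finsupp.single j 1 : Fin n →₀ ℕ) =
      Finsupp.single a 1 + Finsupp.single b 1) : i = a ∧ j = b := by
  have hi : i = a ∨ i = b := by
    have := DFunLike.congr_fun h i
    simp only [Finsupp.add_apply, Finsupp.single_apply, if_true] at this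
    by_contra hcon
    push Not at hcon
    rw [if_neg (Ne.symm hcon.1), if_neg (Ne.symm hcon.2)] at this
    omega
  rcases hi with rfl | rfl
  · refine ⟨rfl, ?_⟩
    have := add_left_cancel h
    exact Finsupp.single_left_injective one_ne_zero this
  · have h' : (Finsupp.single j 1 : Fin n →₀ ℕ) = Finsupp.single a 1 := by
      rw [add_comm (Finsupp.single a 1)] at h
      exact add_left_cancel h
    have hja : j = a := Finsupp.single_left_injective one_ne_zero h'
    subst hja
    have : i = j := le_antisymm hij hab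
    exact ⟨this, this.symm⟩

theorem coeff_quadPoly_pair (q : Fin n → Fin n → A) (a b : Fin n) (hab : a ≤ b) :
    MvPolynomial.coeff (Finsupp.single a 1 + Finsupp.single b 1) (VanCyc.quadPoly q) = q a b := by
  classical
  rw [VanCyc.quadPoly, MvPolynomial.coeff_sum]
  simp only [MvPolynomial.coeff_sum]
  have hterm : ∀ i j : Fin n, MvPolynomial.coeff (Finsupp.single a 1 + Finsupp.single b 1)
      (if i ≤ j then MvPolynomial.C (q i j) * MvPolynomial.X i * MvPolynomial.X j else
        (0 : MvPolynomial (Fin n) A)) = if i = a ∧ j = b then q i j else 0 := by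
    intro i j
    by_cases hij : i ≤ j
    · rw [if_pos hij]
      have hm : MvPolynomial.C (q i j) * MvPolynomial.X i * MvPolynomial.X j =
          MvPolynomial.monomial (Finsupp.single i 1 + Finsupp.single j 1) (q i j) := by
        rw [MvPolynomial.X, MvPolynomial.X, MvPolynomial.C_apply, MvPolynomial.monomial_mul,
          MvPolynomial.monomial_mul, zero_add, mul_one, mul_one]
      rw [hm, MvPolynomial.coeff_monomial]
      by_cases h : (Finsupp.single i 1 + Finsupp.single j 1 : Fin n →₀ ℕ) =
          Finsupp.single a 1 + Finsupp.single b 1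
      · rw [if_pos h, if_pos (single_add_single_inj hij hab h)]
      · rw [if_neg h, if_neg]
        rintro ⟨rfl, rfl⟩
        exact h rfl
    · rw [if_neg hij, MvPolynomial.coeff_zero, if_neg]
      rintro ⟨rfl, rfl⟩
      exact hij hab
  simp only [hterm]
  rw [Finset.sum_eq_single a, Finset.sum_eq_single b]
  · rw [if_pos ⟨rfl, rfl⟩]
  · intro j _ hj
    rw [if_neg]; rintro ⟨-, rfl⟩; exact hj rfl
  · intro h; exact absurd (Finset.mem_univ _) h
  · intro i _ hi
    refine Finset.sum_eq_zero fun j _ => ?_
    rw [if_neg]; rintro ⟨rfl, -⟩; exact hi rfl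
  · intro h; exact absurd (Finset.mem_univ _) h

open MvPowerSeries in
theorem polarMatrix_quadPart (G : MvPowerSeries (Fin n) A) (l j : Fin n) :
    VanCyc.polarMatrix (VanCyc.quadPart G) l j =
      coeff (Finsupp.single j 1) (pderiv A l G) := by
  rw [coeff_pderiv, VanCyc.polarMatrix]
  rcases lt_trichotomy l j with h | h | h
  · rw [if_neg (ne_of_lt h), if_pos h, VanCyc.quadPart, if_neg (ne_of_lt h), if_pos h,
      Finsupp.single_apply, if_neg (ne_of_gt h), Nat.cast_zero, zero_add, mul_one, add_comm]
  · subst h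
    rw [if_pos rfl, VanCyc.quadPart, if_pos rfl, Finsupp.single_apply, if_pos rfl, Nat.cast_one,
      ← Finsupp.single_add, mul_comm]
    norm_num
  · rw [if_neg (ne_of_gt h), if_neg (not_lt.2 h.le), VanCyc.quadPart, if_neg (ne_of_lt h), if_pos h,
      Finsupp.single_apply, if_neg (ne_of_lt h), Nat.cast_zero, zero_add, mul_one]

end quadcoeff

section main

open MvPowerSeries
open scoped MvPowerSeries.WithPiTopology

theorem order_pderiv2 {n : ℕ} {A : Type u} [CommRing A] (i : Fin n) (g : MvPowerSeries (Fin n) A)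
    (r : ℕ) (hr : ((r + 1 : ℕ) : ℕ∞) ≤ g.order) : (r : ℕ∞) ≤ (pderiv A i g).order := by
  refine nat_le_order fun d hd => ?_
  rw [coeff_pderiv, coeff_of_lt_order, zero_mul]
  refine lt_of_lt_of_le ?_ hr
  rw [map_add, Finsupp.degree_single]
  exact_mod_cast Nat.succ_lt_succ hd

theorem quad_translate (A : Type u) [CommRing A] [IsLocalRing A]
    [IsAdicComplete (IsLocalRing.maximalIdeal A) A] (n : ℕ)
    (q : Fin n → Fin n → A) (hq : VanCyc.QuadNondeg q)
    (a : A) (ha : a ∈ IsLocalRing.maximalIdeal A)
    (ℓ : Fin n → A) (hℓ : ∀ i, ℓ i ∈ IsLocalRing.maximalIdeal A)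
    (F : MvPowerSeries (Fin n) A)
    (hF : ∀ e : Fin n →₀ ℕ, e.degree ≤ 2 →
      MvPowerSeries.coeff e F = MvPowerSeries.coeff e ((VanCyc.quadPoly q + ∑ i, MvPolynomial.C (ℓ i) * MvPolynomial.X i + MvPolynomial.C a : MvPolynomial (Fin n) A) : MvPowerSeries (Fin n) A)) :
    ∃ (a' : A) (q' : Fin n → Fin n → A), a' ∈ IsLocalRing.maximalIdeal A ∧ VanCyc.QuadNondeg q' ∧
      Nonempty ((MvPowerSeries (Fin n) A ⧸ Ideal.span {F}) ≃ₐ[A]
        (MvPowerSeries (Fin n) A ⧸ Ideal.span {((VanCyc.quadPoly q' + MvPolynomial.C a' : MvPolynomial (Fin n) A) : MvPowerSeries (Fin n) A)})) := by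
  classical
  let _ : WithIdeal A := ⟨IsLocalRing.maximalIdeal A⟩
  have hadic : IsAdic (IsLocalRing.maximalIdeal A) := rfl
  obtain ⟨hcs, ht2⟩ := hadic.isAdicComplete_iff.1 inferInstance
  have := hcs
  have := ht2
  have him : (WithIdeal.i (R := A)) = IsLocalRing.maximalIdeal A := rfl
  set P₀ : MvPolynomial (Fin n) A := VanCyc.quadPoly q +
    ∑ i, MvPolynomial.C (ℓ i) * MvPolynomial.X i + MvPolynomial.C a with hP₀
  set M := VanCyc.polarMatrix q with hM
  have hord : ((2 + 1 : ℕ) : ℕ∞) ≤ (F - (P₀ : MvPowerSeries (Fin n) A)).order := by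
    refine nat_le_order fun d hd => ?_
    rw [map_sub, hF d (by omega), sub_self]
  have hpd : ∀ j, pderiv A j (P₀ : MvPowerSeries (Fin n) A) = linForm M j + C (ℓ j) := by
    intro j
    rw [pderiv_coe, hP₀, map_add, map_add, MvPolynomial.pderiv_C, add_zero, MvPolynomial.coe_add,
      coe_eq_aeval_X2 (MvPolynomial.pderiv j (VanCyc.quadPoly q)), aeval_pderiv_quadPoly]
    congr 1
    rw [map_sum]
    simp only [MvPolynomial.pderiv_C_mul, MvPolynomial.pderiv_X]
    rw [Finset.sum_eq_single j]
    · rw [Pi.single_eq_same, mul_one, MvPolynomial.coe_C]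
    · intro i _ hi
      rw [Pi.single_eq_of_ne hi, mul_zero]
    · intro h; exact absurd (Finset.mem_univ _) h
  set g : Fin n → MvPowerSeries (Fin n) A := fun j => pderiv A j F - C (ℓ j) with hgdef
  have hg : ∀ j, g j = linForm M j + pderiv A j (F - (P₀ : MvPowerSeries (Fin n) A)) := by
    intro j
    rw [map_sub, hpd]
    simp only [hgdef]
    ring
  have hgr : ∀ j, 2 ≤ (g j - linForm M j).order := by
    intro j
    rw [hg, add_sub_cancel_left]
    exact_mod_cast order_pderiv2 j _ 2 hord
  have hg0 : ∀ j, constantCoeff (g j) = 0 := by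
    intro j
    rw [hg, map_add, constantCoeff_linForm, zero_add]
    exact one_le_order_iff_constCoeff_eq_zero.1 (le_trans (by norm_num)
      (order_pderiv2 j _ 2 hord))
  have hdet : IsUnit M.det := hq
  have h1 : ∀ i, subst (linForm M) (linForm M⁻¹ i) = X i := by
    intro i
    rw [subst_linForm, Matrix.nonsing_inv_mul M hdet, linForm_one]
  have h2 : ∀ i, subst (linForm M⁻¹) (linForm M i) = X i := by
    intro i
    rw [subst_linForm, Matrix.mul_nonsing_inv M hdet, linForm_one]
  obtain ⟨b, hb0, hgb, hbg⟩ := H65.ift_exists_inverse (a := g) (ℓ := linForm M)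
    (ℓ' := linForm M⁻¹) hg0 (constantCoeff_linForm M) (constantCoeff_linForm M⁻¹) h1 h2 hgr
  set p : Fin n → A := fun i => - ℓ i with hpdef
  have hp : ∀ i, p i ∈ WithIdeal.i (R := A) := fun i => neg_mem (hℓ i)
  set c : Fin n → A := fun i => evA p hp (b i) with hcdef
  have hc : ∀ i, c i ∈ WithIdeal.i (R := A) := by
    intro i
    have := evA_sub_constantCoeff_mem p hp (b i)
    rwa [hb0 i, sub_zero] at this
  set G := tr c hc F with hG
  have hlin : ∀ j, coeff (Finsupp.single j 1) G = 0 := by
    intro j
    have e1 : coeff (Finsupp.single j 1) G = constantCoeff (pderiv A j G) := by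
      rw [← coeff_zero_eq_constantCoeff_apply, coeff_pderiv, zero_add]
      simp
    rw [e1, hG, pderiv_tr, constantCoeff_tr]
    have e2 : pderiv A j F = g j + C (ℓ j) := by simp [hgdef]
    rw [e2, map_add, evA_C]
    have e3 : evA c hc (g j) = evA p hp (subst b (g j)) := (evA_subst p hp b hb0 hc (g j)).symm
    rw [e3, hbg j, evA_X]
    simp [hpdef]
  have hcong : ∀ e, coeff e G - coeff e F ∈ IsLocalRing.maximalIdeal A :=
    fun e => tr_coeff_sub_mem c hc F e
  set a' := constantCoeff G with ha'
  set q' := VanCyc.quadPart G with hq'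
  have hF0 : constantCoeff F = a := by
    have := hF 0 (by simp)
    rw [coeff_zero_eq_constantCoeff_apply] at this
    rw [this, MvPolynomial.coeff_coe, hP₀, MvPolynomial.coeff_add, MvPolynomial.coeff_add,
      (quadPoly_isHomogeneous q).coeff_eq_zero (by simp), MvPolynomial.coeff_sum]
    simp [MvPolynomial.coeff_C_mul]
  have ha'm : a' ∈ IsLocalRing.maximalIdeal A := by
    have h0 := hcong 0
    rw [coeff_zero_eq_constantCoeff_apply, coeff_zero_eq_constantCoeff_apply, hF0] at h0
    have : a' = (a' - a) + a := by ring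
    rw [this]
    exact Ideal.add_mem _ h0 ha
  have hpolar : ∀ l j, VanCyc.polarMatrix q' l j - M l j ∈ IsLocalRing.maximalIdeal A := by
    intro l j
    rw [hq', polarMatrix_quadPart, coeff_pderiv]
    have hM' : M l j = coeff (Finsupp.single j 1 + Finsupp.single l 1) F *
        ((((Finsupp.single j 1 : Fin n →₀ ℕ) l : ℕ) : A) + 1) := by
      rw [← coeff_pderiv]
      have e2 : pderiv A l F = g l + C (ℓ l) := by simp [hgdef]
      rw [e2, hg, map_add, map_add, coeff_single_linForm, coeff_C, if_neg, add_zero,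
        coeff_of_lt_order, add_zero]
      · rw [Finsupp.degree_single]
        exact lt_of_lt_of_le (by norm_num) (order_pderiv2 l _ 2 hord)
      · intro h0
        have := DFunLike.congr_fun h0 j
        simp at this
    rw [hM', ← sub_mul]
    exact Ideal.mul_mem_right _ _ (hcong _)
  have hnd : VanCyc.QuadNondeg q' := by
    show IsUnit (VanCyc.polarMatrix q').det
    have hmap : (VanCyc.polarMatrix q').map (Ideal.Quotient.mk (IsLocalRing.maximalIdeal A)) =
        M.map (Ideal.Quotient.mk (IsLocalRing.maximalIdeal A)) := by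
      ext l j
      simp only [Matrix.map_apply]
      exact Ideal.Quotient.eq.2 (hpolar l j)
    have hdet' : Ideal.Quotient.mk (IsLocalRing.maximalIdeal A) (VanCyc.polarMatrix q').det =
        Ideal.Quotient.mk (IsLocalRing.maximalIdeal A) M.det := by
      rw [RingHom.map_det, RingHom.map_det]
      exact congrArg Matrix.det hmap
    by_contra hnu
    have hmem : (VanCyc.polarMatrix q').det ∈ IsLocalRing.maximalIdeal A :=
      (IsLocalRing.mem_maximalIdeal _).2 hnu
    have : M.det ∈ IsLocalRing.maximalIdeal A := by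
      rw [← Ideal.Quotient.eq_zero_iff_mem, ← hdet', Ideal.Quotient.eq_zero_iff_mem]
      exact hmem
    exact (IsLocalRing.mem_maximalIdeal _).1 this hdet
  have hG2 : ∀ e : Fin n →₀ ℕ, e.degree ≤ 2 → coeff e G =
      coeff e ((VanCyc.quadPoly q' + MvPolynomial.C a' : MvPolynomial (Fin n) A) :
        MvPowerSeries (Fin n) A) := by
    intro e he
    rw [MvPolynomial.coeff_coe, MvPolynomial.coeff_add]
    have hdeg : e.degree = 0 ∨ e.degree = 1 ∨ e.degree = 2 := by omega
    rcases hdeg with h | h | h
    · have : e = 0 := (Finsupp.degree_eq_zero_iff e).1 h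
      subst this
      rw [(quadPoly_isHomogeneous q').coeff_eq_zero (by rw [h]; norm_num), zero_add,
        MvPolynomial.coeff_zero_C]
      rfl
    · obtain ⟨j, rfl⟩ := degree_eq_one h
      rw [hlin, (quadPoly_isHomogeneous q').coeff_eq_zero (by rw [h]; norm_num), zero_add,
        MvPolynomial.coeff_C, if_neg]
      intro h0
      have := DFunLike.congr_fun h0 j
      simp at this
    · obtain ⟨i, j, rfl⟩ := degree_eq_two h
      have key : ∀ i j : Fin n, i ≤ j → coeff (Finsupp.single i 1 + Finsupp.single j 1) G =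
          MvPolynomial.coeff (Finsupp.single i 1 + Finsupp.single j 1) (VanCyc.quadPoly q') +
          MvPolynomial.coeff (Finsupp.single i 1 + Finsupp.single j 1) (MvPolynomial.C a') := by
        intro i j hij
        rw [coeff_quadPoly_pair q' i j hij, MvPolynomial.coeff_C, if_neg, add_zero]
        · rw [hq', VanCyc.quadPart]
          by_cases h' : i = j
          · subst h'; rw [if_pos rfl, ← Finsupp.single_add]
          · rw [if_neg h', if_pos (lt_of_le_of_ne hij h')]
        · intro h0
          have := DFunLike.congr_fun h0 i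
          simp only [Finsupp.coe_zero, Pi.zero_apply, Finsupp.add_apply,
            Finsupp.single_eq_same] at this
          omega
      rcases le_total i j with hij | hij
      · exact key i j hij
      · rw [add_comm]; exact key j i hij
  obtain ⟨-, -, -, -, ⟨iso2⟩⟩ := quad_normal_form A n 2 le_rfl q' hnd a' G hG2
  have iso1 : (MvPowerSeries (Fin n) A ⧸ Ideal.span {F}) ≃ₐ[A]
      (MvPowerSeries (Fin n) A ⧸ Ideal.span {G}) :=
    Ideal.quotientEquivAlg _ _ (trEquiv c hc) (by
      rw [Ideal.map_span, Set.image_singleton]; rfl)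
  exact ⟨a', q', ha'm, hnd, ⟨iso1.trans iso2⟩⟩

end main

end Groth.Agent.H75
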