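import Groth.Agent.H75.MuTrans3
import Groth.Agent.H91.Attr

/-! Limits under a one-parameter subgroup: uniqueness (separated target), the limit is a fixed point,
a fixed point is its own limit. -/

set_option autoImplicit false
set_option maxHeartbeats 1000000
universe u

open CategoryTheory CategoryTheory.Limits MonoidalCategory CartesianMonoidalCategory MonObj
  AlgebraicGeometry Opposite

namespace Groth.Agent.H75.MuTrans

theorem algebraMap_bijective_of_subsingleton (R : Type u) [CommRing R] (Q : Type) [Monoid Q]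
    [Subsingleton Q] : Function.Bijective (algebraMap R (MonoidAlgebra R Q)) := by
  constructor
  · intro r s h
    have := congrArg (fun f => f.coeff 1) h
    simpa [MonoidAlgebra.coe_algebraMap] using this
  · intro f
    refine ⟨f.coeff 1, ?_⟩
    ext q
    rw [Subsingleton.elim q 1]
    simp [MonoidAlgebra.coe_algebraMap]

theorem isIso_amon_hom (R : Type u) [CommRing R] (M : Type) [AddCommMonoid M] [Subsingleton M] :
    IsIso (Magnet.AMon R M).hom := by
  have hb := algebraMap_bijective_of_subsingleton R (Multiplicative M)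
  have : IsIso (CommRingCat.ofHom (algebraMap R (MonoidAlgebra R (Multiplicative M)))) :=
    (ConcreteCategory.isIso_iff_bijective _).2 hb
  change IsIso (Spec.map (CommRingCat.ofHom (algebraMap R (MonoidAlgebra R (Multiplicative M)))))
  infer_instance

theorem isIso_amonS_hom (S : Scheme.{u}) (M : Type) [AddCommMonoid M] [Subsingleton M] :
    IsIso (Magnet.AMonS S M).hom := by
  have := isIso_amon_hom (ULift.{u} ℤ) M
  change IsIso (pullback.snd (Magnet.AMon (ULift.{u} ℤ) M).hom
    (Limits.IsTerminal.from specULiftZIsTerminal S))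
  infer_instance

theorem amonS_pt_ext (S : Scheme.{u}) (M : Type) [AddCommMonoid M] [Subsingleton M] {T : Over S}
    (p q : T ⟶ Magnet.AMonS S M) : p = q := by
  have := isIso_amonS_hom S M
  apply Over.OverMorphism.ext
  rw [← cancel_mono (Magnet.AMonS S M).hom, Over.w, Over.w]

variable {S : Scheme.{u}} {G X V : Over S} [GrpObj G]

/-- multiplying the zero section of the affine line by a point of the multiplicative group gives
the zero section -/
theorem act_origin (S : Scheme.{u}) {T' : Over S} (g : T' ⟶ Red.Gm S) :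
    lift g (toUnit T' ≫ HMNum.origin S) ≫ (Magnet.subAct S ℤ HMNum.plus).act =
      toUnit T' ≫ HMNum.origin S := by
  have h := (Magnet.MonAct.isEquivariant_iff _ _ _).1
    (Magnet.isEquivariant_faceMapS S HMNum.isFace_bot) T' g
    (toUnit T' ≫ η[Magnet.AMonS S ↥(⊥ : AddSubmonoid ℤ)])
  unfold HMNum.origin
  rw [← Category.assoc (toUnit T'), ← h, ← Category.assoc]
  congr 1
  have : Subsingleton ↥(⊥ : AddSubmonoid ℤ) := by
    constructor
    rintro ⟨p, hp⟩ ⟨q, hq⟩
    rw [AddSubmonoid.mem_bot] at hp hq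
    subst hp
    subst hq
    rfl
  exact amonS_pt_ext S _ _ _

theorem isFixedBy_of_isLimitPt (a : AlgGrp.Action G X) (l : Red.Gm S ⟶ G) [IsMonHom l]
    {T : Over S} (x y : T ⟶ X) (h : HMNum.IsLimitPt a l x y) : HMNum.IsFixedBy a l y := by
  obtain ⟨φ, -, rfl⟩ := h
  rw [HMNum.limitPt_eq]
  intro T' t g
  have hφ := (Magnet.MonAct.mem_eqvHom_iff φ.1).1 φ.2 T' g (toUnit T' ≫ HMNum.origin S) t
  rw [act_origin] at hφ
  have e : t ≫ lift (toUnit T ≫ HMNum.origin S) (𝟙 T) = lift (toUnit T' ≫ HMNum.origin S) t := by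
    rw [comp_lift, ← Category.assoc, toUnit_unique (t ≫ toUnit T) (toUnit T'), Category.comp_id]
  rw [← Category.assoc t, e]
  rw [Magnet.MonAct.lift_restrict_act, Magnet.MonAct.ofAction_act] at hφ
  exact hφ.symm

theorem isLimitPt_self (a : AlgGrp.Action G X) (l : Red.Gm S ⟶ G) [IsMonHom l]
    {T : Over S} (y : T ⟶ X) (h : HMNum.IsFixedBy a l y) : HMNum.IsLimitPt a l y y := by
  have hψ : Magnet.MonAct.IsEquivariant
      ((Magnet.subAct S ℤ HMNum.plus).prod (Magnet.MonAct.trivial _ T)) (HMNum.gmAct a l)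
      (snd (HMNum.A1 S) T ≫ y) := by
    rw [Magnet.MonAct.mem_eqvHom_iff]
    intro T' g b t
    rw [lift_snd_assoc, lift_snd_assoc, Magnet.MonAct.lift_restrict_act,
      Magnet.MonAct.ofAction_act]
    exact (h T' t g).symm
  let ψ' : (HMNum.attrPlus a l).obj (op T) := ⟨snd (HMNum.A1 S) T ≫ y, hψ⟩
  refine ⟨ψ', ?_, ?_⟩
  · change lift (toUnit T ≫ η[HMNum.A1 S]) (𝟙 T) ≫ snd (HMNum.A1 S) T ≫ y = y
    rw [lift_snd_assoc, Category.id_comp]
  · rw [HMNum.limitPt_eq]
    change lift (toUnit T ≫ HMNum.origin S) (𝟙 T) ≫ snd (HMNum.A1 S) T ≫ y = y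
    rw [lift_snd_assoc, Category.id_comp]

/-- uniqueness of the attractor point with a given base point, for a separated target -/
theorem attr_ext [IsSeparated X.hom] (a : AlgGrp.Action G X) (l : Red.Gm S ⟶ G) [IsMonHom l]
    {T : Over S} (φ ψ : (HMNum.attrPlus a l).obj (op T))
    (h : (Magnet.attrToX (HMNum.gmAct a l) HMNum.plus).app (op T) φ =
      (Magnet.attrToX (HMNum.gmAct a l) HMNum.plus).app (op T) ψ) : φ.1 = ψ.1 := by
  change lift (toUnit T ≫ η[HMNum.A1 S]) (𝟙 T) ≫ φ.1 = lift (toUnit T ≫ η[HMNum.A1 S]) (𝟙 T) ≫ ψ.1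
    at h
  apply Groth.Agent.H91.whiskerRight_cancel S HMNum.plus.subtype Subtype.val_injective T X
  rw [Groth.Agent.H91.whiskerRight_attr_eq, Groth.Agent.H91.whiskerRight_attr_eq, h]

theorem isLimitPt_unique [IsSeparated X.hom] (a : AlgGrp.Action G X) (l : Red.Gm S ⟶ G)
    [IsMonHom l] {T : Over S} (x y y' : T ⟶ X) (h : HMNum.IsLimitPt a l x y)
    (h' : HMNum.IsLimitPt a l x y') : y = y' := by
  obtain ⟨φ, h1, h2⟩ := h
  obtain ⟨ψ, h3, h4⟩ := h'
  have := attr_ext a l φ ψ (h1.trans h3.symm)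
  rw [← h2, ← h4, HMNum.limitPt_eq, HMNum.limitPt_eq, this]

/-- the numerical function at a point equals the numerical function at its limit -/
theorem isMu_limit_iff [IsSeparated X.hom] {a : AlgGrp.Action G X} (B : GLinSh.LinBun G a)
    (l : Red.Gm S ⟶ G) [IsMonHom l] {T : Over S} (x y : T ⟶ X) (hy : HMNum.IsLimitPt a l x y)
    (m : ℤ) : HMNum.IsMu B l x m ↔ HMNum.IsMu B l y m := by
  have hfix := isFixedBy_of_isLimitPt a l x y hy
  have hself := isLimitPt_self a l y hfix
  constructor
  · rintro ⟨y', h1, h2⟩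
    have e := isLimitPt_unique a l x y y' hy h1
    subst e
    exact ⟨y, hself, h2⟩
  · rintro ⟨y', h1, h2⟩
    have e := isLimitPt_unique a l y y y' hself h1
    subst e
    exact ⟨y, hy, h2⟩

end Groth.Agent.H75.MuTrans
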