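import Groth.Agent.H75.MuLim

/-! Invariance of the numerical function under the parabolic subgroup of a one-parameter subgroup. -/

set_option autoImplicit false
set_option maxHeartbeats 1000000
universe u

open CategoryTheory CategoryTheory.Limits MonoidalCategory CartesianMonoidalCategory MonObj
  AlgebraicGeometry Opposite

namespace Groth.Agent.H75.MuTrans

variable {S : Scheme.{u}} {G X V : Over S} [GrpObj G]

theorem subAct_plus_pt (S : Scheme.{u}) {T : Over S} (w v : T ⟶ Red.Gm S) :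
    lift w (v ≫ HMNum.incl S) ≫ (Magnet.subAct S ℤ HMNum.plus).act = (w * v) ≫ HMNum.incl S := by
  rw [Magnet.subAct, Magnet.MonAct.lift_restrict_act, Magnet.MonAct.lift_regular_act,
    MonObj.mul_comp]

theorem conj_pt (l : Red.Gm S ⟶ G) [IsMonHom l] (g₀ : 𝟙_ (Over S) ⟶ G) {T : Over S}
    (v : T ⟶ Red.Gm S) :
    v ≫ (l * (toUnit _ ≫ g₀) * l⁻¹) = (v ≫ l) * (toUnit T ≫ g₀) * (v ≫ l)⁻¹ := by
  rw [MonObj.comp_mul, MonObj.comp_mul, GrpObj.comp_inv, comp_toUnit_comp]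

/-- if `u ↦ l(u) g₀ l(u)⁻¹` extends to `f` on the affine line then `f (g • u) = l(g) f(u) l(g)⁻¹` -/
theorem par_conj [IsSeparated G.hom] (l : Red.Gm S ⟶ G) [IsMonHom l] (g₀ : 𝟙_ (Over S) ⟶ G)
    (f : HMNum.A1 S ⟶ G) (hf : HMNum.incl S ≫ f = l * (toUnit _ ≫ g₀) * l⁻¹)
    {T' : Over S} (g : T' ⟶ Red.Gm S) (u : T' ⟶ HMNum.A1 S) :
    (lift g u ≫ (Magnet.subAct S ℤ HMNum.plus).act) ≫ f = (g ≫ l) * (u ≫ f) * (g ≫ l)⁻¹ := by
  have H1 : ∀ (T : Over S) (p : T ⟶ HMNum.A1 S) (q : T ⟶ Red.Gm S),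
      lift p q ≫ (lift (snd (HMNum.A1 S) (Red.Gm S)) (fst (HMNum.A1 S) (Red.Gm S)) ≫
        (Magnet.subAct S ℤ HMNum.plus).act ≫ f) =
      (lift q p ≫ (Magnet.subAct S ℤ HMNum.plus).act) ≫ f := by
    intro T p q
    rw [← Category.assoc, comp_lift, lift_snd, lift_fst, Category.assoc]
  have H2 : ∀ (T : Over S) (p : T ⟶ HMNum.A1 S) (q : T ⟶ Red.Gm S),
      lift p q ≫ ((snd (HMNum.A1 S) (Red.Gm S) ≫ l) * (fst (HMNum.A1 S) (Red.Gm S) ≫ f) *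
        (snd (HMNum.A1 S) (Red.Gm S) ≫ l)⁻¹) = (q ≫ l) * (p ≫ f) * (q ≫ l)⁻¹ := by
    intro T p q
    rw [MonObj.comp_mul, MonObj.comp_mul, GrpObj.comp_inv, lift_snd_assoc, lift_fst_assoc]
  have key : lift (snd (HMNum.A1 S) (Red.Gm S)) (fst (HMNum.A1 S) (Red.Gm S)) ≫
      (Magnet.subAct S ℤ HMNum.plus).act ≫ f =
      (snd (HMNum.A1 S) (Red.Gm S) ≫ l) * (fst (HMNum.A1 S) (Red.Gm S) ≫ f) *
        (snd (HMNum.A1 S) (Red.Gm S) ≫ l)⁻¹ := by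
    apply Groth.Agent.H91.whiskerRight_cancel S HMNum.plus.subtype Subtype.val_injective
      (Red.Gm S) G
    apply Magnet.hom_ext_lift₂
    intro T'' v w
    rw [lift_whiskerRight_assoc, lift_whiskerRight_assoc]
    change lift (v ≫ HMNum.incl S) w ≫ _ = lift (v ≫ HMNum.incl S) w ≫ _
    rw [H1, H2, subAct_plus_pt, Category.assoc,
      Category.assoc, hf, conj_pt, conj_pt, MonObj.mul_comp]
    group
  have := H1 T' u g
  rw [key, H2] at this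
  exact this.symm

theorem unit_comp_ext (l : Red.Gm S ⟶ G) [IsMonHom l] (g₀ : 𝟙_ (Over S) ⟶ G)
    (f : HMNum.A1 S ⟶ G) (hf : HMNum.incl S ≫ f = l * (toUnit _ ≫ g₀) * l⁻¹) :
    η[HMNum.A1 S] ≫ f = g₀ := by
  have h1 : η[Red.Gm S] ≫ HMNum.incl S = η[HMNum.A1 S] := IsMonHom.one_hom (HMNum.incl S)
  have h2 : (η[Red.Gm S] ≫ l : 𝟙_ (Over S) ⟶ G) = 1 := by
    rw [IsMonHom.one_hom l, Hom.one_def, toUnit_unique (toUnit (𝟙_ (Over S))) (𝟙 _),
      Category.id_comp]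
  rw [← h1, Category.assoc, hf, conj_pt, h2, toUnit_unique (toUnit (𝟙_ (Over S))) (𝟙 _),
    Category.id_comp]
  group

/-- the limit of `g₀ · x` for `g₀` in the parabolic subgroup -/
theorem isLimitPt_par [IsSeparated G.hom] (a : AlgGrp.Action G X) (l : Red.Gm S ⟶ G) [IsMonHom l]
    (g₀ : 𝟙_ (Over S) ⟶ G) (f : HMNum.A1 S ⟶ G)
    (hf : HMNum.incl S ≫ f = l * (toUnit _ ≫ g₀) * l⁻¹) {T : Over S} (x y : T ⟶ X)
    (h : HMNum.IsLimitPt a l x y) :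
    HMNum.IsLimitPt a l (lift (toUnit T ≫ g₀) x ≫ a.act)
      (lift (toUnit T ≫ HMNum.origin S ≫ f) y ≫ a.act) := by
  obtain ⟨φ, hφx, hφy⟩ := h
  have hφeq := φ.2
  rw [Magnet.MonAct.mem_eqvHom_iff] at hφeq
  let ψ : HMNum.A1 S ⊗ T ⟶ X := lift (fst _ _ ≫ f) φ.1 ≫ a.act
  have hψpt : ∀ {T' : Over S} (P : T' ⟶ HMNum.A1 S ⊗ T),
      P ≫ ψ = lift (P ≫ fst _ _ ≫ f) (P ≫ φ.1) ≫ a.act := by
    intro T' P
    simp only [ψ]
    rw [← Category.assoc, comp_lift]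
  have hψ : Magnet.MonAct.IsEquivariant
      ((Magnet.subAct S ℤ HMNum.plus).prod (Magnet.MonAct.trivial _ T)) (HMNum.gmAct a l) ψ := by
    rw [Magnet.MonAct.mem_eqvHom_iff]
    intro T' g b t
    rw [hψpt, hψpt, lift_fst_assoc, lift_fst_assoc, hφeq T' g b t, par_conj l g₀ f hf g b]
    rw [Magnet.MonAct.lift_restrict_act, Magnet.MonAct.lift_restrict_act,
      Magnet.MonAct.ofAction_act, ← act_mul, ← act_mul]
    congr 2
    group
  let ψ' : (HMNum.attrPlus a l).obj (op T) := ⟨ψ, hψ⟩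
  refine ⟨ψ', ?_, ?_⟩
  · change lift (toUnit T ≫ η[HMNum.A1 S]) (𝟙 T) ≫ ψ = _
    change lift (toUnit T ≫ η[HMNum.A1 S]) (𝟙 T) ≫ φ.1 = _ at hφx
    rw [hψpt, lift_fst_assoc, hφx, Category.assoc, unit_comp_ext l g₀ f hf]
  · rw [HMNum.limitPt_eq] at hφy ⊢
    change lift (toUnit T ≫ HMNum.origin S) (𝟙 T) ≫ ψ = _
    rw [hψpt, lift_fst_assoc, hφy, Category.assoc]

/-- the value of the extension at the origin commutes with the one-parameter subgroup -/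
theorem isConj_origin [IsSeparated G.hom] (l : Red.Gm S ⟶ G) [IsMonHom l]
    (g₀ : 𝟙_ (Over S) ⟶ G) (f : HMNum.A1 S ⟶ G)
    (hf : HMNum.incl S ≫ f = l * (toUnit _ ≫ g₀) * l⁻¹) {T : Over S} :
    IsConj l l (toUnit T ≫ HMNum.origin S ≫ f) := by
  intro T' g t
  have h := par_conj l g₀ f hf g (toUnit T' ≫ HMNum.origin S)
  rw [act_origin] at h
  have e : t ≫ toUnit T ≫ HMNum.origin S ≫ f = (toUnit T' ≫ HMNum.origin S) ≫ f := by
    rw [← Category.assoc, toUnit_unique (t ≫ toUnit T) (toUnit T'), Category.assoc]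
  rw [e]
  -- P = L P L⁻¹ gives L = P⁻¹ L P
  have h' : (g ≫ l) * ((toUnit T' ≫ HMNum.origin S) ≫ f) =
      ((toUnit T' ≫ HMNum.origin S) ≫ f) * (g ≫ l) := by
    conv_rhs => rw [h]
    group
  calc g ≫ l = ((toUnit T' ≫ HMNum.origin S) ≫ f)⁻¹ *
        (((toUnit T' ≫ HMNum.origin S) ≫ f) * (g ≫ l)) := by group
    _ = _ := by rw [← h', _root_.mul_assoc]

/-- invariance of the numerical function under translation by a point of the parabolic subgroup -/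
theorem isMu_par [IsSeparated G.hom] {a : AlgGrp.Action G X} (B : GLinSh.LinBun G a)
    (l : Red.Gm S ⟶ G) [IsMonHom l] (g₀ : 𝟙_ (Over S) ⟶ G) (f : HMNum.A1 S ⟶ G)
    (hf : HMNum.incl S ≫ f = l * (toUnit _ ≫ g₀) * l⁻¹) {T : Over S} [Nonempty T.left]
    (hT : ∀ p q : T.left, p = q) (x : T ⟶ X) (m : ℤ) (h : HMNum.IsMu B l x m) :
    HMNum.IsMu B l (lift (toUnit T ≫ g₀) x ≫ a.act) m := by
  obtain ⟨y, hlim, hwt⟩ := h
  refine ⟨lift (toUnit T ≫ HMNum.origin S ≫ f) y ≫ a.act, isLimitPt_par a l g₀ f hf x y hlim, ?_⟩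
  have hc : IsConj l l (toUnit T ≫ HMNum.origin S ≫ f)⁻¹ :=
    isConj_inv l l _ (isConj_origin l g₀ f hf)
  have := hasFibreWt_conj B l l hT _ hc y (-m) hwt
  rw [inv_inv] at this
  exact this

end Groth.Agent.H75.MuTrans
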