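import Groth.Prelude.Def_HMNum
import Mathlib

/-! Transport of limit points and fibre weights under translation by a point of the group. -/

set_option autoImplicit false
set_option maxHeartbeats 1000000
universe u

open CategoryTheory CategoryTheory.Limits MonoidalCategory CartesianMonoidalCategory MonObj
  AlgebraicGeometry Opposite

namespace Groth.Agent.H75.MuTrans

variable {S : Scheme.{u}} {G X V : Over S} [GrpObj G]

theorem act_mul (a : AlgGrp.Action G X) {T : Over S} (g h : T ⟶ G) (x : T ⟶ X) :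
    lift (g * h) x ≫ a.act = lift g (lift h x ≫ a.act) ≫ a.act :=
  (Magnet.MonAct.ofAction a).lift_mul_act g h x

theorem act_one (a : AlgGrp.Action G X) {T : Over S} (x : T ⟶ X) :
    lift (1 : T ⟶ G) x ≫ a.act = x :=
  (Magnet.MonAct.ofAction a).lift_one_act x

theorem act_inv_act (a : AlgGrp.Action G X) {T : Over S} (g : T ⟶ G) (x : T ⟶ X) :
    lift g⁻¹ (lift g x ≫ a.act) ≫ a.act = x := by
  rw [← act_mul, inv_mul_cancel, act_one]

theorem act_act_inv (a : AlgGrp.Action G X) {T : Over S} (g : T ⟶ G) (x : T ⟶ X) :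
    lift g (lift g⁻¹ x ≫ a.act) ≫ a.act = x := by
  rw [← act_mul, mul_inv_cancel, act_one]

theorem comp_act (a : AlgGrp.Action G X) {T T' : Over S} (t : T' ⟶ T) (g : T ⟶ G) (x : T ⟶ X) :
    t ≫ lift g x ≫ a.act = lift (t ≫ g) (t ≫ x) ≫ a.act := by
  rw [← Category.assoc, comp_lift]

/-- the conjugation relation between two one-parameter subgroups, on points -/
def IsConj {T : Over S} (l l' : Red.Gm S ⟶ G) (gT : T ⟶ G) : Prop :=
  ∀ (T' : Over S) (g : T' ⟶ Red.Gm S) (t : T' ⟶ T), g ≫ l' = (t ≫ gT)⁻¹ * (g ≫ l) * (t ≫ gT)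

theorem isLimitPt_conj (a : AlgGrp.Action G X) (l l' : Red.Gm S ⟶ G) [IsMonHom l] [IsMonHom l']
    {T : Over S} (gT : T ⟶ G) (hconj : IsConj l l' gT) (x y : T ⟶ X)
    (h : HMNum.IsLimitPt a l (lift gT x ≫ a.act) y) :
    HMNum.IsLimitPt a l' x (lift gT⁻¹ y ≫ a.act) := by
  obtain ⟨φ, hφx, hφy⟩ := h
  have hφeq := φ.2
  rw [Magnet.MonAct.mem_eqvHom_iff] at hφeq
  -- the translated extension
  let ψ : HMNum.A1 S ⊗ T ⟶ X := lift ((snd _ _ ≫ gT)⁻¹) φ.1 ≫ a.act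
  have hψpt : ∀ {T' : Over S} (P : T' ⟶ HMNum.A1 S ⊗ T),
      P ≫ ψ = lift ((P ≫ snd _ _ ≫ gT)⁻¹) (P ≫ φ.1) ≫ a.act := by
    intro T' P
    simp only [ψ]
    rw [← Category.assoc, comp_lift, GrpObj.comp_inv]
  have hψ : Magnet.MonAct.IsEquivariant
      ((Magnet.subAct S ℤ HMNum.plus).prod (Magnet.MonAct.trivial _ T)) (HMNum.gmAct a l') ψ := by
    rw [Magnet.MonAct.mem_eqvHom_iff]
    intro T' g b t
    rw [hψpt, hψpt, lift_snd_assoc, lift_snd_assoc, hφeq T' g b t]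
    rw [Magnet.MonAct.lift_restrict_act, Magnet.MonAct.lift_restrict_act,
      Magnet.MonAct.ofAction_act, ← act_mul, ← act_mul, hconj T' g t]
    congr 2
    group
  let ψ' : (HMNum.attrPlus a l').obj (op T) := ⟨ψ, hψ⟩
  refine ⟨ψ', ?_, ?_⟩
  · change lift (toUnit T ≫ η[HMNum.A1 S]) (𝟙 T) ≫ ψ = x
    change lift (toUnit T ≫ η[HMNum.A1 S]) (𝟙 T) ≫ φ.1 = _ at hφx
    rw [hψpt, lift_snd_assoc, Category.id_comp, hφx, act_inv_act]
  · rw [HMNum.limitPt_eq] at hφy ⊢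
    change lift (toUnit T ≫ HMNum.origin S) (𝟙 T) ≫ ψ = _
    rw [hψpt, lift_snd_assoc, Category.id_comp, hφy]

end Groth.Agent.H75.MuTrans
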