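import Groth.Agent.H75.MuTrans

/-! Transport of fibre weights under translation by a point of the group. -/

set_option autoImplicit false
set_option maxHeartbeats 1000000
universe u

open CategoryTheory CategoryTheory.Limits MonoidalCategory CartesianMonoidalCategory MonObj
  AlgebraicGeometry Opposite

namespace Groth.Agent.H75.MuTrans

variable {S : Scheme.{u}} {G X V : Over S} [GrpObj G]

theorem isFixedBy_conj (a : AlgGrp.Action G X) (l l' : Red.Gm S ⟶ G) {T : Over S} (gT : T ⟶ G)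
    (hconj : IsConj l l' gT) (y : T ⟶ X) (h : HMNum.IsFixedBy a l y) :
    HMNum.IsFixedBy a l' (lift gT⁻¹ y ≫ a.act) := by
  intro T' t g
  rw [comp_act, GrpObj.comp_inv, ← act_mul, hconj T' g t]
  have : (t ≫ gT)⁻¹ * (g ≫ l) * (t ≫ gT) * (t ≫ gT)⁻¹ = (t ≫ gT)⁻¹ * (g ≫ l) := by group
  rw [this, act_mul, h T' t g]

theorem appLE_appLE_apply {X Y Z : Scheme.{u}} (f : Y ⟶ Z) (g : X ⟶ Y) {U : Z.Opens} {V : Y.Opens}
    {W : X.Opens} (e₁ : V ≤ f ⁻¹ᵁ U) (e₂ : W ≤ g ⁻¹ᵁ V) (s : Γ(Z, U)) :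
    (g.appLE V W e₂).hom ((f.appLE U V e₁).hom s) =
      ((g ≫ f).appLE U W (e₂.trans (g.preimage_mono e₁))).hom s := by
  rw [← Scheme.Hom.appLE_comp_appLE g f U V W e₁ e₂]
  rfl

theorem appLE_congr_hom {X Y : Scheme.{u}} {f f' : X ⟶ Y} (hf : f = f') {U : Y.Opens} {W : X.Opens}
    (e : W ≤ f ⁻¹ᵁ U) (e' : W ≤ f' ⁻¹ᵁ U) (s : Γ(Y, U)) :
    (f.appLE U W e).hom s = (f'.appLE U W e').hom s := by
  subst hf
  rfl

theorem evalFn_congr (π : V ⟶ X) {U : X.left.Opens} (y : Γ(V.left, π.left ⁻¹ᵁ U)) {T' : Over S}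
    {v v' : T' ⟶ V} (hv : v = v') (h : ⊤ ≤ v.left ⁻¹ᵁ (π.left ⁻¹ᵁ U))
    (h' : ⊤ ≤ v'.left ⁻¹ᵁ (π.left ⁻¹ᵁ U)) :
    HMNum.evalFn π y v h = HMNum.evalFn π y v' h' := by
  subst hv
  rfl

theorem eval_lift {a : AlgGrp.Action G X} (B : GLinSh.LinBun G a) (U U' : X.left.Opens)
    (yc : Γ(B.V.left, B.π.left ⁻¹ᵁ U)) (yc' : Γ(B.V.left, B.π.left ⁻¹ᵁ U'))
    (hyc : yc ∈ B.atlas.chart U) (hyc' : yc' ∈ B.atlas.chart U') :
    ∃ c : Γ((G ⊗ X).left, a.act.left ⁻¹ᵁ U' ⊓ (snd G X).left ⁻¹ᵁ U),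
      ∀ (T' : Over S) (gg : T' ⟶ G) (x₁ : T' ⟶ X) (u : T' ⟶ B.V) (hx : u ≫ B.π = x₁)
        (h1 : ⊤ ≤ u.left ⁻¹ᵁ (B.π.left ⁻¹ᵁ U))
        (h2 : ⊤ ≤ (lift gg u ≫ B.lift.act).left ⁻¹ᵁ (B.π.left ⁻¹ᵁ U'))
        (h3 : ⊤ ≤ (lift gg x₁).left ⁻¹ᵁ (a.act.left ⁻¹ᵁ U' ⊓ (snd G X).left ⁻¹ᵁ U)),
        HMNum.evalFn B.π yc' (lift gg u ≫ B.lift.act) h2 =
          ((lift gg x₁).left.appLE _ ⊤ h3).hom c * HMNum.evalFn B.π yc u h1 := by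
  obtain ⟨c, hc⟩ := B.lift_linear U U' yc yc' hyc hyc'
  refine ⟨c, ?_⟩
  intro T' gg x₁ u hx h1 h2 h3
  have hP1 : lift gg x₁ = lift gg u ≫ (G ◁ B.π) := by rw [lift_whiskerLeft, hx]
  have hP : ⊤ ≤ (lift gg u).left ⁻¹ᵁ (GLinSh.liftOpen a B.π U U') := by
    have h3' := h3
    rw [hP1] at h3'
    exact h3'
  have := congrArg ((lift gg u).left.appLE (GLinSh.liftOpen a B.π U U') ⊤ hP).hom hc
  rw [map_mul, appLE_appLE_apply, appLE_appLE_apply, appLE_appLE_apply] at this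
  unfold HMNum.evalFn
  refine (appLE_congr_hom (Over.comp_left _ _ _ (lift gg u) B.lift.act) h2 _ yc').trans (this.trans ?_)
  refine congrArg₂ (· * ·) ?_ ?_
  · exact appLE_congr_hom ((Over.comp_left _ _ _ (lift gg u) (G ◁ B.π)).symm.trans
      (congrArg (fun q => Over.Hom.left q) hP1.symm)) _ h3 c
  · exact appLE_congr_hom ((Over.comp_left _ _ _ (lift gg u) (snd G B.V)).symm.trans
      (congrArg (fun q => Over.Hom.left q) (lift_snd gg u))) _ h1 yc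

theorem lift_act_π {a : AlgGrp.Action G X} (B : GLinSh.LinBun G a) {T' : Over S} (g : T' ⟶ G)
    (u : T' ⟶ B.V) : (lift g u ≫ B.lift.act) ≫ B.π = lift g (u ≫ B.π) ≫ a.act := by
  rw [Category.assoc, B.lift_π, ← Category.assoc, lift_whiskerLeft]

theorem hasFibreWt_conj {a : AlgGrp.Action G X} (B : GLinSh.LinBun G a) (l l' : Red.Gm S ⟶ G)
    {T : Over S} [hne : Nonempty T.left] (hT : ∀ p q : T.left, p = q)
    (gT : T ⟶ G) (hconj : IsConj l l' gT) (y : T ⟶ X) (w : ℤ)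
    (h : HMNum.HasFibreWt a B.π B.atlas.chart B.lift l y w) :
    HMNum.HasFibreWt a B.π B.atlas.chart B.lift l' (lift gT⁻¹ y ≫ a.act) w := by
  obtain ⟨hfix, U, yc, hyc, hU, hw⟩ := h
  refine ⟨isFixedBy_conj a l l' gT hconj y hfix, ?_⟩
  obtain ⟨p⟩ := hne
  obtain ⟨U', hpU', yc', hyc'⟩ := B.atlas.cover ((lift gT⁻¹ y ≫ a.act).left.base p)
  have hU' : (lift gT⁻¹ y ≫ a.act).left ⁻¹ᵁ U' = ⊤ := by
    apply le_antisymm le_top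
    intro q _
    rw [hT q p]
    exact hpU'
  refine ⟨U', yc', hyc', hU', ?_⟩
  intro T' t g v' hv' hgv'
  obtain ⟨c, hc⟩ := eval_lift B U U' yc yc' hyc hyc'
  have hy' : t ≫ lift gT⁻¹ y ≫ a.act = lift (t ≫ gT)⁻¹ (t ≫ y) ≫ a.act := by
    rw [comp_act, GrpObj.comp_inv]
  -- v := gg⁻¹ · v'
  have hv : (lift (t ≫ gT)⁻¹⁻¹ v' ≫ B.lift.act) ≫ B.π = t ≫ y := by
    rw [lift_act_π, hv', hy', act_inv_act]
  have hvg : (lift (g ≫ l) (lift (t ≫ gT)⁻¹⁻¹ v' ≫ B.lift.act) ≫ B.lift.act) ≫ B.π = t ≫ y := by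
    rw [lift_act_π, hv, hfix T' t g]
  have hv2 : (lift (t ≫ gT)⁻¹ (lift (t ≫ gT)⁻¹⁻¹ v' ≫ B.lift.act) ≫ B.lift.act) ≫ B.π =
      t ≫ lift gT⁻¹ y ≫ a.act := by
    rw [lift_act_π, hv, hy']
  have hvg2 : (lift (t ≫ gT)⁻¹ (lift (g ≫ l) (lift (t ≫ gT)⁻¹⁻¹ v' ≫ B.lift.act) ≫ B.lift.act) ≫
      B.lift.act) ≫ B.π = t ≫ lift gT⁻¹ y ≫ a.act := by
    rw [lift_act_π, hvg, hy']
  have h3 : ⊤ ≤ (lift (t ≫ gT)⁻¹ (t ≫ y)).left ⁻¹ᵁ
      (a.act.left ⁻¹ᵁ U' ⊓ (snd G X).left ⁻¹ᵁ U) := by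
    rw [Scheme.Hom.preimage_inf]
    exact le_inf (HMNum.top_le_preimage a.act hU' hy'.symm)
      (HMNum.top_le_preimage (snd G X) hU (lift_snd _ _))
  have e1 := hc T' (t ≫ gT)⁻¹ (t ≫ y) _ hv (HMNum.top_le_preimage B.π hU hv)
    (HMNum.top_le_preimage B.π hU' hv2) h3
  have e2 := hc T' (t ≫ gT)⁻¹ (t ≫ y) _ hvg (HMNum.top_le_preimage B.π hU hvg)
    (HMNum.top_le_preimage B.π hU' hvg2) h3
  have e3 := hw T' t g _ hv hvg
  have k1 : lift (t ≫ gT)⁻¹ (lift (t ≫ gT)⁻¹⁻¹ v' ≫ B.lift.act) ≫ B.lift.act = v' :=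
    act_act_inv B.lift _ v'
  have k2 : lift (t ≫ gT)⁻¹ (lift (g ≫ l) (lift (t ≫ gT)⁻¹⁻¹ v' ≫ B.lift.act) ≫ B.lift.act) ≫
      B.lift.act = lift (g ≫ l') v' ≫ B.lift.act := by
    rw [← act_mul, ← act_mul, hconj T' g t, inv_inv, _root_.mul_assoc]
  rw [evalFn_congr B.π yc' k2.symm _ (HMNum.top_le_preimage B.π hU' hvg2), e2, e3,
    evalFn_congr B.π yc' k1.symm _ (HMNum.top_le_preimage B.π hU' hv2), e1]
  ring

theorem isMu_conj {a : AlgGrp.Action G X} (B : GLinSh.LinBun G a) (l l' : Red.Gm S ⟶ G)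
    [IsMonHom l] [IsMonHom l'] {T : Over S} [Nonempty T.left] (hT : ∀ p q : T.left, p = q)
    (gT : T ⟶ G) (hconj : IsConj l l' gT) (x : T ⟶ X) (m : ℤ)
    (h : HMNum.IsMu B l (lift gT x ≫ a.act) m) : HMNum.IsMu B l' x m := by
  obtain ⟨y, hy, hw⟩ := h
  exact ⟨lift gT⁻¹ y ≫ a.act, isLimitPt_conj a l l' gT hconj x y hy,
    hasFibreWt_conj B l l' hT gT hconj y (-m) hw⟩

theorem isConj_inv {T : Over S} (l l' : Red.Gm S ⟶ G) (gT : T ⟶ G) (h : IsConj l l' gT) :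
    IsConj l' l gT⁻¹ := by
  intro T' g t
  rw [h T' g t, GrpObj.comp_inv]
  group

theorem isMu_conj_iff {a : AlgGrp.Action G X} (B : GLinSh.LinBun G a) (l l' : Red.Gm S ⟶ G)
    [IsMonHom l] [IsMonHom l'] {T : Over S} [Nonempty T.left] (hT : ∀ p q : T.left, p = q)
    (gT : T ⟶ G) (hconj : IsConj l l' gT) (x : T ⟶ X) (m : ℤ) :
    HMNum.IsMu B l (lift gT x ≫ a.act) m ↔ HMNum.IsMu B l' x m := by
  constructor
  · exact isMu_conj B l l' hT gT hconj x m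
  · intro h
    have := isMu_conj B l' l hT gT⁻¹ (isConj_inv l l' gT hconj) (lift gT x ≫ a.act) m
    rw [act_inv_act] at this
    exact this h

theorem isConj_of_eq (l l' : Red.Gm S ⟶ G) (g₀ : 𝟙_ (Over S) ⟶ G)
    (hl' : l' = (toUnit _ ≫ g₀)⁻¹ * l * (toUnit _ ≫ g₀)) : IsConj l l' g₀ := by
  intro T' g t
  have ht : g ≫ toUnit (Red.Gm S) = t := toUnit_unique _ _
  rw [hl', MonObj.comp_mul, MonObj.comp_mul, GrpObj.comp_inv, ← Category.assoc, ht]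

end Groth.Agent.H75.MuTrans
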