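import Groth.Agent.H75.MuTrans2

/-! Conjugates of one-parameter subgroups by a point of the group. -/

set_option autoImplicit false
set_option maxHeartbeats 1000000
universe u

open CategoryTheory CategoryTheory.Limits MonoidalCategory CartesianMonoidalCategory MonObj
  AlgebraicGeometry Opposite

namespace Groth.Agent.H75.MuTrans

variable {S : Scheme.{u}} {G X V : Over S} [GrpObj G]

theorem comp_toUnit_comp {H T' : Over S} (p : T' ⟶ H) (g₀ : 𝟙_ (Over S) ⟶ G) :
    p ≫ toUnit H ≫ g₀ = toUnit T' ≫ g₀ := by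
  rw [← Category.assoc, toUnit_unique (p ≫ toUnit H) (toUnit T')]

/-- the conjugate of a homomorphism by a point of the group is a homomorphism -/
theorem isMonHom_conj {H : Over S} [MonObj H] (l : H ⟶ G) [IsMonHom l] (g₀ : 𝟙_ (Over S) ⟶ G) :
    IsMonHom ((toUnit _ ≫ g₀)⁻¹ * l * (toUnit _ ≫ g₀)) where
  one_hom := by
    rw [MonObj.comp_mul, MonObj.comp_mul, GrpObj.comp_inv, IsMonHom.one_hom l]
    have : (η[G] : 𝟙_ (Over S) ⟶ G) = 1 := by
      rw [Hom.one_def, toUnit_unique (toUnit (𝟙_ (Over S))) (𝟙 _), Category.id_comp]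
    rw [this]
    group
  mul_hom := by
    have hμ : (μ[H] : H ⊗ H ⟶ H) = fst H H * snd H H := by
      rw [Hom.mul_def, lift_fst_snd, Category.id_comp]
    have hR : ∀ f : H ⟶ G, (f ⊗ₘ f) ≫ μ[G] = (fst H H ≫ f) * (snd H H ≫ f) := by
      intro f
      rw [Hom.mul_def, lift_fst_comp_snd_comp]
    rw [hR, hμ, MonObj.comp_mul, MonObj.comp_mul, MonObj.comp_mul, MonObj.comp_mul,
      MonObj.comp_mul, MonObj.comp_mul, GrpObj.comp_inv, GrpObj.comp_inv, GrpObj.comp_inv,
      MonObj.mul_comp _ _ l, comp_toUnit_comp, comp_toUnit_comp, comp_toUnit_comp]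
    group

end Groth.Agent.H75.MuTrans
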