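import Mathlib

set_option autoImplicit false
universe u

namespace Groth.Agent.H75

open Module

/-- In a commutative algebra of dimension `d` over a field, the `d`-th power of a nil ideal
vanishes. -/
theorem pow_finrank_eq_bot_of_le_nilradical (K : Type*) (R : Type*) [Field K] [CommRing R]
    [Algebra K R] [FiniteDimensional K R] (J : Ideal R) (hJ : J ≤ nilradical R) :
    J ^ (finrank K R) = ⊥ := by
  have : IsArtinianRing R := IsArtinianRing.of_finite K R
  have : IsNoetherianRing R := inferInstance
  have hjac : J ≤ Ideal.jacobson ⊥ := by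
    refine hJ.trans ?_
    intro x hx
    rw [Ideal.mem_jacobson_bot]
    intro y
    have hx' : IsNilpotent x := mem_nilradical.mp hx
    have hn : IsNilpotent (x * y) := (Commute.all x y).isNilpotent_mul_right hx'
    exact hn.isUnit_add_one
  have key : ∀ k : ℕ, J ^ k = ⊥ ∨
      finrank K ((J ^ k).restrictScalars K) + k ≤ finrank K R := by
    intro k
    induction k with
    | zero =>
      right
      rw [add_zero]
      exact Submodule.finrank_le _
    | succ k ih =>
      rcases ih with h0 | hle
      · left
        rw [pow_succ, h0, Ideal.bot_mul]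
      · by_cases hk : J ^ k = ⊥
        · left
          rw [pow_succ, hk, Ideal.bot_mul]
        · right
          have hle' : J ^ (k + 1) ≤ J ^ k := Ideal.pow_le_pow_right (Nat.le_succ k)
          have hne : J ^ (k + 1) ≠ J ^ k := by
            intro heq
            apply hk
            apply Submodule.eq_bot_of_le_smul_of_le_jacobson_bot J (J ^ k)
              (IsNoetherian.noetherian _) _ hjac
            rw [smul_eq_mul, ← pow_succ', heq]
          have hlt : (J ^ (k + 1)).restrictScalars K < (J ^ k).restrictScalars K := by
            refine lt_of_le_of_ne (fun x hx => hle' hx) ?_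
            intro heq
            apply hne
            ext x
            have := congrArg (fun N : Submodule K R => x ∈ N) heq
            simpa using this
          have := Submodule.finrank_lt_finrank_of_lt hlt
          omega
  rcases key (finrank K R) with h | h
  · exact h
  · have h0 : finrank K ((J ^ finrank K R).restrictScalars K) = 0 := by omega
    have hb : (J ^ finrank K R).restrictScalars K = ⊥ := by
      rwa [Submodule.finrank_eq_zero] at h0
    ext x
    have := congrArg (fun N : Submodule K R => x ∈ N) hb
    simpa using this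

open TensorProduct in
theorem pow_ker_le_of_rank (A : Type u) [CommRing A] [IsReduced A]
    (S : Type u) [CommRing S] [Algebra A S] (π : S →ₐ[A] A) (I : Ideal S) (d : ℕ)
    [Module.Finite A (S ⧸ I)] [Module.Projective A (S ⧸ I)]
    (hrank : ∀ p : PrimeSpectrum A, Module.rankAtStalk (R := A) (S ⧸ I) p = d)
    (hsupp : RingHom.ker π ≤ I.radical) :
    RingHom.ker π ^ d ≤ I := by
  intro x hx
  by_contra hxI
  have hb : (Ideal.Quotient.mk I x) ≠ 0 := by
    rwa [Ne, Ideal.Quotient.eq_zero_iff_mem]
  obtain ⟨φ, hφ⟩ := Module.Projective.exists_dual_ne_zero A hb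
  have hnn : ¬ IsNilpotent (φ (Ideal.Quotient.mk I x)) := by
    intro hn
    exact hφ (IsReduced.eq_zero _ hn)
  rw [nilpotent_iff_mem_prime] at hnn
  push Not at hnn
  obtain ⟨p, hp, hpx⟩ := hnn
  let K := p.ResidueField
  let F := K ⊗[A] (S ⧸ I)
  have hfr : finrank K F = d := by
    have := Ideal.finrank_fiber_eq_rankAtStalk (M := S ⧸ I) p
    rw [hrank] at this
    exact this
  let ψ : S →+* F :=
    (Algebra.TensorProduct.includeRight (R := A) (A := K) (B := S ⧸ I)).toRingHom.comp
      (Ideal.Quotient.mk I)
  have hψ : ∀ y, ψ y = (1 : K) ⊗ₜ[A] (Ideal.Quotient.mk I y) := fun y => rfl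
  have hnil : Ideal.map ψ (RingHom.ker π) ≤ nilradical F := by
    rw [Ideal.map_le_iff_le_comap]
    intro y hy
    obtain ⟨n, hn⟩ := hsupp hy
    rw [Ideal.mem_comap, mem_nilradical]
    refine ⟨n, ?_⟩
    rw [← map_pow, hψ, Ideal.Quotient.eq_zero_iff_mem.mpr hn, TensorProduct.tmul_zero]
  have hpow := pow_finrank_eq_bot_of_le_nilradical K F _ hnil
  rw [hfr, ← Ideal.map_pow] at hpow
  have hψx : ψ x = 0 := by
    have : ψ x ∈ Ideal.map ψ (RingHom.ker π ^ d) := Ideal.mem_map_of_mem ψ hx
    rwa [hpow, Ideal.mem_bot] at this
  have h1 := congrArg (LinearMap.lTensor K φ) hψx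
  rw [hψ, LinearMap.lTensor_tmul, map_zero] at h1
  have h2 := congrArg (TensorProduct.rid A K) h1
  rw [TensorProduct.rid_tmul, map_zero, Algebra.smul_def, mul_one] at h2
  exact hpx (Ideal.algebraMap_residueField_eq_zero.mp h2)

end Groth.Agent.H75
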