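import Mathlib

/-! The conormal map of a first-order deformation of a node is injective. -/

set_option autoImplicit false
open scoped TensorProduct LaurentPolynomial
universe u

namespace Groth.Agent.H75.NodalKer

section defs

variable (A : Type u) [CommRing A] (J : Type u) [AddCommGroup J] [Module A J] [Module Aᵐᵒᵖ J]
    [IsCentralScalar A J]

/-- the coefficient module -/
abbrev NN : Type u := A[T;T⁻¹] ⊗[A] J

/-- the target ring -/
abbrev EE : Type u := TrivSqZeroExt (A[T;T⁻¹]) (NN A J)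

/-- the linear part of `phi0` -/
noncomputable def gmap : J →ₗ[A] EE A J where
  toFun j := TrivSqZeroExt.inr ((1 : A[T;T⁻¹]) ⊗ₜ[A] j)
  map_add' j j' := by rw [TensorProduct.tmul_add, TrivSqZeroExt.inr_add]
  map_smul' r j := by
    rw [TensorProduct.tmul_smul, RingHom.id_apply, TrivSqZeroExt.inr_smul]

/-- the map `A ⊕ εJ → E` -/
noncomputable def phi0 : TrivSqZeroExt A J →ₐ[A] EE A J :=
  TrivSqZeroExt.lift (Algebra.ofId A (EE A J)) (gmap A J)
    (fun j j' => by simp [gmap])
    (fun r j => by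
      simp only [gmap, LinearMap.coe_mk, AddHom.coe_mk, Algebra.ofId_apply]
      rw [TrivSqZeroExt.algebraMap_eq_inl', TrivSqZeroExt.inl_mul_inr, TensorProduct.smul_tmul',
        smul_eq_mul, mul_one, Algebra.algebraMap_eq_smul_one, TensorProduct.smul_tmul])
    (fun r j => by
      rw [op_smul_eq_smul, mul_comm]
      simp only [gmap, LinearMap.coe_mk, AddHom.coe_mk, Algebra.ofId_apply]
      rw [TrivSqZeroExt.algebraMap_eq_inl', TrivSqZeroExt.inl_mul_inr, TensorProduct.smul_tmul',
        smul_eq_mul, mul_one, Algebra.algebraMap_eq_smul_one, TensorProduct.smul_tmul])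

theorem phi0_inr (j : J) : phi0 A J (TrivSqZeroExt.inr j) = TrivSqZeroExt.inr ((1 : A[T;T⁻¹]) ⊗ₜ[A] j) := by
  rw [phi0, TrivSqZeroExt.lift_apply_inr]; rfl

theorem phi0_inl (a : A) : phi0 A J (TrivSqZeroExt.inl a) = TrivSqZeroExt.inl (algebraMap A (A[T;T⁻¹]) a) := by
  rw [phi0, TrivSqZeroExt.lift_apply_inl]; rfl

theorem fst_phi0 (a : TrivSqZeroExt A J) :
    (phi0 A J a).fst = algebraMap A (A[T;T⁻¹]) a.fst := by
  conv_lhs => rw [← TrivSqZeroExt.inl_fst_add_inr_snd_eq a]
  rw [map_add, phi0_inl, phi0_inr]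
  simp

/-- `E` as an algebra over `A ⊕ εJ` -/
@[reducible] noncomputable def algE : Algebra (TrivSqZeroExt A J) (EE A J) := (phi0 A J).toRingHom.toAlgebra

end defs

section psi

variable {A : Type u} [CommRing A] {J : Type u} [AddCommGroup J] [Module A J] [Module Aᵐᵒᵖ J]
    [IsCentralScalar A J]
variable {B' : Type u} [CommRing B'] [Algebra (TrivSqZeroExt A J) B']

attribute [local instance] algE

theorem algebraMap_EE (a : TrivSqZeroExt A J) :
    algebraMap (TrivSqZeroExt A J) (EE A J) a = phi0 A J a := rfl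

/-- the homomorphism out of `B'` determined by a pair with product `τ` -/
noncomputable def Psi (τ : TrivSqZeroExt A J) (x y : B')
    (hsurj : Function.Surjective
      (MvPolynomial.aeval ![x, y] : MvPolynomial (Fin 2) (TrivSqZeroExt A J) →ₐ[TrivSqZeroExt A J] B'))
    (hker : RingHom.ker
      (MvPolynomial.aeval ![x, y] : MvPolynomial (Fin 2) (TrivSqZeroExt A J) →ₐ[TrivSqZeroExt A J] B') =
      Ideal.span {MvPolynomial.X 0 * MvPolynomial.X 1 - MvPolynomial.C τ})
    (ξ η : EE A J) (h : ξ * η = phi0 A J τ) : B' →ₐ[TrivSqZeroExt A J] EE A J :=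
  AlgHom.liftOfSurjective _ hsurj (MvPolynomial.aeval ![ξ, η]) (by
    have h1 : RingHom.ker (MvPolynomial.aeval ![x, y] :
        MvPolynomial (Fin 2) (TrivSqZeroExt A J) →ₐ[TrivSqZeroExt A J] B').toRingHom =
        Ideal.span {MvPolynomial.X 0 * MvPolynomial.X 1 - MvPolynomial.C τ} := hker
    rw [h1, Ideal.span_singleton_le_iff_mem, RingHom.mem_ker]
    show MvPolynomial.aeval ![ξ, η] (MvPolynomial.X 0 * MvPolynomial.X 1 - MvPolynomial.C τ) = 0
    rw [map_sub, map_mul, MvPolynomial.aeval_X, MvPolynomial.aeval_X, MvPolynomial.aeval_C]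
    simp [h, algebraMap_EE])

variable (τ : TrivSqZeroExt A J) (x y : B')
    (hsurj : Function.Surjective
      (MvPolynomial.aeval ![x, y] : MvPolynomial (Fin 2) (TrivSqZeroExt A J) →ₐ[TrivSqZeroExt A J] B'))
    (hker : RingHom.ker
      (MvPolynomial.aeval ![x, y] : MvPolynomial (Fin 2) (TrivSqZeroExt A J) →ₐ[TrivSqZeroExt A J] B') =
      Ideal.span {MvPolynomial.X 0 * MvPolynomial.X 1 - MvPolynomial.C τ})
    (ξ η : EE A J) (h : ξ * η = phi0 A J τ)

theorem Psi_x : Psi τ x y hsurj hker ξ η h x = ξ := by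
  have h2 : Psi τ x y hsurj hker ξ η h ((MvPolynomial.aeval ![x, y] :
      MvPolynomial (Fin 2) (TrivSqZeroExt A J) →ₐ[TrivSqZeroExt A J] B') (MvPolynomial.X 0)) =
      MvPolynomial.aeval ![ξ, η] (MvPolynomial.X 0) :=
    AlgHom.liftOfSurjective_apply _ _ _ _ _
  simpa using h2

theorem Psi_y : Psi τ x y hsurj hker ξ η h y = η := by
  have h2 : Psi τ x y hsurj hker ξ η h ((MvPolynomial.aeval ![x, y] :
      MvPolynomial (Fin 2) (TrivSqZeroExt A J) →ₐ[TrivSqZeroExt A J] B') (MvPolynomial.X 1)) =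
      MvPolynomial.aeval ![ξ, η] (MvPolynomial.X 1) :=
    AlgHom.liftOfSurjective_apply _ _ _ _ _
  simpa using h2

theorem Psi_algebraMap (a : TrivSqZeroExt A J) :
    Psi τ x y hsurj hker ξ η h (algebraMap (TrivSqZeroExt A J) B' a) = phi0 A J a :=
  (Psi τ x y hsurj hker ξ η h).commutes a

end psi

section detect

variable {A : Type u} [CommRing A] {J : Type u} [AddCommGroup J] [Module A J] [Module Aᵐᵒᵖ J]
    [IsCentralScalar A J]
variable {B' : Type u} [CommRing B'] [Algebra (TrivSqZeroExt A J) B'] [Algebra A B']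
    [IsScalarTower A (TrivSqZeroExt A J) B']

attribute [local instance] algE

variable (Ψ : B' →ₐ[TrivSqZeroExt A J] EE A J)

/-- the ring homomorphism `B' → A[T;T⁻¹]` -/
noncomputable def psi : B' →+* A[T;T⁻¹] :=
  (TrivSqZeroExt.fstHom A[T;T⁻¹] A[T;T⁻¹] (NN A J)).toRingHom.comp Ψ.toRingHom

theorem psi_apply (b : B') : psi Ψ b = (Ψ b).fst := rfl

theorem psi_algebraMap' (a : TrivSqZeroExt A J) :
    psi Ψ (algebraMap (TrivSqZeroExt A J) B' a) = algebraMap A A[T;T⁻¹] a.fst := by
  rw [psi_apply, Ψ.commutes, algebraMap_EE, fst_phi0]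

theorem psi_algebraMap (a : A) : psi Ψ (algebraMap A B' a) = algebraMap A A[T;T⁻¹] a := by
  rw [IsScalarTower.algebraMap_apply A (TrivSqZeroExt A J) B', psi_algebraMap']
  rfl

/-- the ideal generated by `εJ` -/
noncomputable abbrev II (A : Type u) [CommRing A] (J : Type u) [AddCommGroup J] [Module A J]
    [Module Aᵐᵒᵖ J] [IsCentralScalar A J] (B' : Type u) [CommRing B']
    [Algebra (TrivSqZeroExt A J) B'] : Ideal B' :=
  Ideal.map (algebraMap (TrivSqZeroExt A J) B') (TrivSqZeroExt.kerIdeal A J)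

theorem psi_eq_zero_of_mem (b : B') (hb : b ∈ II A J B') : psi Ψ b = 0 := by
  have h : II A J B' ≤ RingHom.ker (psi Ψ) := by
    rw [II, Ideal.map_le_iff_le_comap]
    intro a ha
    rw [Ideal.mem_comap, RingHom.mem_ker, psi_algebraMap']
    have h0 : a.fst = 0 := by
      simpa [TrivSqZeroExt.kerIdeal] using ha
    rw [h0, map_zero]
  exact h hb

/-- the induced ring homomorphism on the quotient -/
noncomputable def psiBar : B' ⧸ II A J B' →+* A[T;T⁻¹] :=
  Ideal.Quotient.lift (II A J B') (psi Ψ) (psi_eq_zero_of_mem Ψ)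

theorem psiBar_mk (b : B') : psiBar Ψ (Ideal.Quotient.mk _ b) = psi Ψ b := rfl

theorem snd_eq_zero_of_kerToTensor
    (z : RingHom.ker (algebraMap B' (B' ⧸ II A J B')))
    (hz : KaehlerDifferential.kerToTensor A B' (B' ⧸ II A J B') z = 0) :
    (Ψ (z : B')).snd = 0 := by
  letI modN : Module B' (NN A J) := Module.compHom (NN A J) (psi Ψ)
  letI modNq : Module (B' ⧸ II A J B') (NN A J) := Module.compHom (NN A J) (psiBar Ψ)
  have smul_def : ∀ (b : B') (n : NN A J), b • n = psi Ψ b • n := fun _ _ => rfl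
  have smul_defq : ∀ (q : B' ⧸ II A J B') (n : NN A J), q • n = psiBar Ψ q • n := fun _ _ => rfl
  haveI : IsScalarTower A B' (NN A J) := by
    constructor
    intro a b n
    rw [smul_def, smul_def, Algebra.smul_def, map_mul, psi_algebraMap, mul_smul,
      algebraMap_smul]
  haveI : IsScalarTower B' (B' ⧸ II A J B') (NN A J) := by
    constructor
    intro b q n
    rw [smul_def, smul_defq, smul_defq, Algebra.smul_def, map_mul, mul_smul]
    rfl
  let d : Derivation A B' (NN A J) :=
    { toFun := fun b => (Ψ b).snd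
      map_add' := fun b b' => by rw [map_add, TrivSqZeroExt.snd_add]
      map_smul' := fun a b => by
        rw [RingHom.id_apply, Algebra.smul_def, map_mul,
          IsScalarTower.algebraMap_apply A (TrivSqZeroExt A J) B', Ψ.commutes, algebraMap_EE]
        have h1 : algebraMap A (TrivSqZeroExt A J) a = TrivSqZeroExt.inl a := rfl
        rw [h1, phi0_inl, TrivSqZeroExt.snd_mul, TrivSqZeroExt.snd_inl, TrivSqZeroExt.fst_inl,
          smul_zero, add_zero, algebraMap_smul]
      map_one_eq_zero' := by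
        show (Ψ 1).snd = 0
        rw [map_one, TrivSqZeroExt.snd_one]
      leibniz' := fun b b' => by
        show (Ψ (b * b')).snd = b • (Ψ b').snd + b' • (Ψ b).snd
        rw [map_mul, TrivSqZeroExt.snd_mul, op_smul_eq_smul, smul_def, smul_def, psi_apply,
          psi_apply] }
  have hd : ∀ b : B', d b = (Ψ b).snd := fun _ => rfl
  let F := LinearMap.liftBaseChange (B' ⧸ II A J B') d.liftKaehlerDifferential
  have h1 := congrArg F hz
  rw [KaehlerDifferential.kerToTensor_apply, map_zero, LinearMap.liftBaseChange_tmul,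
    Derivation.liftKaehlerDifferential_comp_D, one_smul, hd] at h1
  exact h1

end detect

section span

variable {A : Type u} [CommRing A] {J : Type u} [AddCommGroup J] [Module A J] [Module Aᵐᵒᵖ J]
    [IsCentralScalar A J]
variable {B' : Type u} [CommRing B'] [Algebra (TrivSqZeroExt A J) B']

/-- the monomials -/
def mono (x y : B') (k : ℤ) : B' := x ^ k.toNat * y ^ (-k).toNat

/-- `j ↦ ι (ε j)` -/
noncomputable def iotaR (A : Type u) [CommRing A] (J : Type u) [AddCommGroup J] [Module A J]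
    [Module Aᵐᵒᵖ J] [IsCentralScalar A J] (B' : Type u) [CommRing B']
    [Algebra (TrivSqZeroExt A J) B'] : J →+ B' :=
  (algebraMap (TrivSqZeroExt A J) B' : TrivSqZeroExt A J →+ B').comp
    (TrivSqZeroExt.inrHom A J).toAddMonoidHom

theorem iotaR_apply (j : J) :
    iotaR A J B' j = algebraMap (TrivSqZeroExt A J) B' (TrivSqZeroExt.inr j) := rfl

theorem algebraMap_mul_iotaR (a : TrivSqZeroExt A J) (j : J) :
    algebraMap (TrivSqZeroExt A J) B' a * iotaR A J B' j = iotaR A J B' (a.fst • j) := by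
  rw [iotaR_apply, iotaR_apply, ← map_mul]
  congr 1
  ext <;> simp

/-- the generators of the additive group -/
def gen (x y : B') : Set B' := {b | ∃ (j : J) (k : ℤ), b = iotaR A J B' j * mono x y k}

/-- the additive group spanned by the generators -/
noncomputable def SS (x y : B') : AddSubgroup B' := AddSubgroup.closure (gen (A := A) (J := J) x y)

theorem gen_mem_SS (x y : B') (j : J) (k : ℤ) :
    iotaR A J B' j * mono x y k ∈ SS (A := A) (J := J) x y :=
  AddSubgroup.subset_closure ⟨j, k, rfl⟩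

theorem mul_mem_SS (x y : B') (w : B')
    (hw : ∀ (j : J) (k : ℤ), w * (iotaR A J B' j * mono x y k) ∈ SS (A := A) (J := J) x y) :
    ∀ s ∈ SS (A := A) (J := J) x y, w * s ∈ SS (A := A) (J := J) x y := by
  intro s hs
  induction hs using AddSubgroup.closure_induction with
  | mem s hs => obtain ⟨j, k, rfl⟩ := hs; exact hw j k
  | zero => rw [mul_zero]; exact zero_mem _
  | add a b _ _ ha hb => rw [mul_add]; exact add_mem ha hb
  | neg a _ ha => rw [mul_neg]; exact neg_mem ha

theorem x_mul_mono (x y : B') (k : ℤ) (hk : 0 ≤ k) : x * mono x y k = mono x y (k + 1) := by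
  have h1 : (k + 1).toNat = k.toNat + 1 := by omega
  have h2 : (-k).toNat = 0 := by omega
  have h3 : (-(k + 1)).toNat = 0 := by omega
  rw [mono, mono, h1, h2, h3, pow_succ]
  ring

theorem x_mul_mono_neg (x y : B') (k : ℤ) (hk : k < 0) :
    x * mono x y k = (x * y) * mono x y (k + 1) := by
  have h1 : (k + 1).toNat = 0 := by omega
  have h2 : k.toNat = 0 := by omega
  have h3 : (-k).toNat = (-(k + 1)).toNat + 1 := by omega
  rw [mono, mono, h1, h2, h3, pow_succ]
  ring

theorem y_mul_mono (x y : B') (k : ℤ) (hk : k ≤ 0) : y * mono x y k = mono x y (k - 1) := by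
  have h1 : (-(k - 1)).toNat = (-k).toNat + 1 := by omega
  have h2 : k.toNat = 0 := by omega
  have h3 : (k - 1).toNat = 0 := by omega
  rw [mono, mono, h1, h2, h3, pow_succ]
  ring

theorem y_mul_mono_pos (x y : B') (k : ℤ) (hk : 0 < k) :
    y * mono x y k = (x * y) * mono x y (k - 1) := by
  have h1 : (-(k - 1)).toNat = 0 := by omega
  have h2 : (-k).toNat = 0 := by omega
  have h3 : k.toNat = (k - 1).toNat + 1 := by omega
  rw [mono, mono, h1, h2, h3, pow_succ]
  ring

theorem mono_zero (x y : B') : mono x y 0 = 1 := by simp [mono]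

variable (τ : TrivSqZeroExt A J) (x y : B')
    (hsurj : Function.Surjective
      (MvPolynomial.aeval ![x, y] : MvPolynomial (Fin 2) (TrivSqZeroExt A J) →ₐ[TrivSqZeroExt A J] B'))
    (hker : RingHom.ker
      (MvPolynomial.aeval ![x, y] : MvPolynomial (Fin 2) (TrivSqZeroExt A J) →ₐ[TrivSqZeroExt A J] B') =
      Ideal.span {MvPolynomial.X 0 * MvPolynomial.X 1 - MvPolynomial.C τ})

include hker in
theorem xy_eq : x * y = algebraMap (TrivSqZeroExt A J) B' τ := by
  have h1 : (MvPolynomial.X 0 * MvPolynomial.X 1 - MvPolynomial.C τ :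
      MvPolynomial (Fin 2) (TrivSqZeroExt A J)) ∈ RingHom.ker
      (MvPolynomial.aeval ![x, y] : MvPolynomial (Fin 2) (TrivSqZeroExt A J) →ₐ[TrivSqZeroExt A J] B') := by
    rw [hker]; exact Ideal.subset_span rfl
  rw [RingHom.mem_ker, map_sub, map_mul, MvPolynomial.aeval_X, MvPolynomial.aeval_X,
    MvPolynomial.aeval_C, sub_eq_zero] at h1
  simpa using h1

include hker in
theorem x_mul_mem_SS : ∀ s ∈ SS (A := A) (J := J) x y, x * s ∈ SS (A := A) (J := J) x y := by
  apply mul_mem_SS
  intro j k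
  rw [mul_left_comm]
  rcases le_or_gt 0 k with hk | hk
  · rw [x_mul_mono x y k hk]; exact gen_mem_SS x y j _
  · rw [x_mul_mono_neg x y k hk, xy_eq τ x y hker, ← mul_assoc, mul_comm (iotaR A J B' j),
      algebraMap_mul_iotaR]
    exact gen_mem_SS x y _ _

include hker in
theorem y_mul_mem_SS : ∀ s ∈ SS (A := A) (J := J) x y, y * s ∈ SS (A := A) (J := J) x y := by
  apply mul_mem_SS
  intro j k
  rw [mul_left_comm]
  rcases le_or_gt k 0 with hk | hk
  · rw [y_mul_mono x y k hk]; exact gen_mem_SS x y j _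
  · rw [y_mul_mono_pos x y k hk, xy_eq τ x y hker, ← mul_assoc, mul_comm (iotaR A J B' j),
      algebraMap_mul_iotaR]
    exact gen_mem_SS x y _ _

theorem algebraMap_mul_mem_SS (a : TrivSqZeroExt A J) :
    ∀ s ∈ SS (A := A) (J := J) x y, algebraMap (TrivSqZeroExt A J) B' a * s ∈ SS (A := A) (J := J) x y := by
  apply mul_mem_SS
  intro j k
  rw [← mul_assoc, algebraMap_mul_iotaR]
  exact gen_mem_SS x y _ _

include hker in
theorem aeval_mul_mem_SS (p : MvPolynomial (Fin 2) (TrivSqZeroExt A J)) :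
    ∀ s ∈ SS (A := A) (J := J) x y,
      (MvPolynomial.aeval ![x, y] : MvPolynomial (Fin 2) (TrivSqZeroExt A J) →ₐ[TrivSqZeroExt A J] B') p * s ∈
        SS (A := A) (J := J) x y := by
  induction p using MvPolynomial.induction_on with
  | C a =>
    intro s hs
    rw [MvPolynomial.aeval_C]
    exact algebraMap_mul_mem_SS x y a s hs
  | add p q hp hq =>
    intro s hs
    rw [map_add, add_mul]
    exact add_mem (hp s hs) (hq s hs)
  | mul_X p i hp =>
    intro s hs
    rw [map_mul, MvPolynomial.aeval_X, mul_assoc]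
    apply hp
    fin_cases i
    · exact x_mul_mem_SS τ x y hker s hs
    · exact y_mul_mem_SS τ x y hker s hs

include hsurj hker in
theorem II_le_SS : ∀ z ∈ II A J B', z ∈ SS (A := A) (J := J) x y := by
  intro z hz
  rw [II, Ideal.map] at hz
  induction hz using Submodule.span_induction with
  | mem z hz =>
    obtain ⟨a, ha, rfl⟩ := hz
    have h0 : a.fst = 0 := by
      simpa [TrivSqZeroExt.kerIdeal] using ha
    have h1 : a = TrivSqZeroExt.inr a.snd := by
      ext <;> simp [h0]
    have h2 : algebraMap (TrivSqZeroExt A J) B' a = iotaR A J B' a.snd * mono x y 0 := by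
      rw [mono_zero, mul_one, iotaR_apply, ← h1]
    show algebraMap (TrivSqZeroExt A J) B' a ∈ _
    rw [h2]
    exact gen_mem_SS x y _ _
  | zero => exact zero_mem _
  | add a b _ _ ha hb => exact add_mem ha hb
  | smul b s _ hs =>
    obtain ⟨p, rfl⟩ := hsurj b
    rw [smul_eq_mul]
    exact aeval_mul_mem_SS τ x y hker p s hs

end span

section final

variable {A : Type u} [CommRing A] {J : Type u} [AddCommGroup J] [Module A J] [Module Aᵐᵒᵖ J]
    [IsCentralScalar A J]
variable {B' : Type u} [CommRing B'] [Algebra (TrivSqZeroExt A J) B'] [Algebra A B']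
    [IsScalarTower A (TrivSqZeroExt A J) B']

attribute [local instance] algE

open LaurentPolynomial

/-- the parametrisation of the additive group -/
noncomputable def Theta (A : Type u) [CommRing A] {J : Type u} [AddCommGroup J] [Module A J]
    [Module Aᵐᵒᵖ J] [IsCentralScalar A J] {B' : Type u} [CommRing B']
    [Algebra (TrivSqZeroExt A J) B'] (x y : B') : (ℤ →₀ J) →+ B' :=
  Finsupp.liftAddHom (fun k => (AddMonoidHom.mulRight (mono x y k)).comp (iotaR A J B'))

theorem Theta_single (x y : B') (k : ℤ) (j : J) :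
    Theta A x y (Finsupp.single k j) = iotaR A J B' j * mono x y k := by
  rw [Theta, Finsupp.liftAddHom_apply_single]
  rfl

theorem SS_le_range (x y : B') : SS (A := A) (J := J) x y ≤ (Theta A (J := J) x y).range := by
  rw [SS, AddSubgroup.closure_le]
  rintro _ ⟨j, k, rfl⟩
  exact ⟨Finsupp.single k j, Theta_single x y k j⟩

/-- coefficient extraction -/
noncomputable def ex (A : Type u) [CommRing A] (J : Type u) [AddCommGroup J] [Module A J]
    (k : ℤ) : NN A J →ₗ[A] J :=
  (TensorProduct.lid A J).toLinearMap ∘ₗ LinearMap.rTensor J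
    ((Finsupp.lapply k) ∘ₗ (AddMonoidAlgebra.coeffLinearEquiv A).toLinearMap)

theorem ex_tmul (k : ℤ) (p : A[T;T⁻¹]) (j : J) : ex A J k (p ⊗ₜ[A] j) = p.coeff k • j := by
  simp [ex]

theorem ex_C_mul_T (k k' : ℤ) (r : A) (j : J) :
    ex A J k ((C r * T k') ⊗ₜ[A] j) = if k' = k then r • j else 0 := by
  rw [ex_tmul, ← single_eq_C_mul_T, AddMonoidAlgebra.coeff_single, Finsupp.single_apply]
  split_ifs <;> simp

theorem snd_Psi_gen (Ψ : B' →ₐ[TrivSqZeroExt A J] EE A J) (x y : B') (j : J) (k : ℤ) :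
    (Ψ (iotaR A J B' j * mono x y k)).snd = (psi Ψ (mono x y k)) ⊗ₜ[A] j := by
  rw [map_mul, iotaR_apply, Ψ.commutes, algebraMap_EE, phi0_inr, TrivSqZeroExt.snd_mul,
    TrivSqZeroExt.fst_inr, zero_smul, zero_add, TrivSqZeroExt.snd_inr, op_smul_eq_smul,
    TensorProduct.smul_tmul', smul_eq_mul, mul_one, psi_apply]

theorem laurent_calc (t : A) (k : ℤ) :
    (T 1 : A[T;T⁻¹]) ^ k.toNat * (C t * T (-1)) ^ (-k).toNat = C (t ^ (-k).toNat) * T k := by
  rw [T_pow, mul_pow, T_pow, ← map_pow, mul_left_comm, ← T_add]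
  congr 2
  have := Int.toNat_sub_toNat_neg k
  omega

theorem laurent_calc' (t : A) (k : ℤ) :
    (C t * T (-1) : A[T;T⁻¹]) ^ k.toNat * (T 1) ^ (-k).toNat = C (t ^ k.toNat) * T (-k) := by
  rw [T_pow, mul_pow, T_pow, ← map_pow, mul_assoc, ← T_add]
  congr 2
  have := Int.toNat_sub_toNat_neg k
  omega

theorem ex_snd_Theta (Ψ : B' →ₐ[TrivSqZeroExt A J] EE A J) (x y : B') (q k' : ℤ) (r : ℤ → A)
    (e : ℤ → ℤ) (he : ∀ k, e k = q ↔ k = k')
    (hΨ : ∀ k, psi Ψ (mono x y k) = C (r k) * T (e k)) (c : ℤ →₀ J) :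
    ex A J q (Ψ (Theta A x y c)).snd = r k' • c k' := by
  induction c using Finsupp.induction_linear with
  | zero => simp
  | add c c' hc hc' =>
    rw [map_add, map_add, TrivSqZeroExt.snd_add, map_add, hc, hc', Finsupp.add_apply, smul_add]
  | single k j =>
    rw [Theta_single, snd_Psi_gen, hΨ, ex_C_mul_T, Finsupp.single_apply]
    by_cases hk : k = k'
    · subst hk
      rw [if_pos ((he k).mpr rfl), if_pos rfl]
    · rw [if_neg (fun h => hk ((he k).mp h)), if_neg hk, smul_zero]

theorem kerToTensor_injective (τ : TrivSqZeroExt A J) (x y : B')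
    (hsurj : Function.Surjective
      (MvPolynomial.aeval ![x, y] : MvPolynomial (Fin 2) (TrivSqZeroExt A J) →ₐ[TrivSqZeroExt A J] B'))
    (hker : RingHom.ker
      (MvPolynomial.aeval ![x, y] : MvPolynomial (Fin 2) (TrivSqZeroExt A J) →ₐ[TrivSqZeroExt A J] B') =
      Ideal.span {MvPolynomial.X 0 * MvPolynomial.X 1 - MvPolynomial.C τ}) :
    Function.Injective (KaehlerDifferential.kerToTensor A B' (B' ⧸ II A J B')) := by
  rw [injective_iff_map_eq_zero]
  intro z hz
  have hzI : (z : B') ∈ II A J B' := by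
    have h := z.2
    rw [RingHom.mem_ker] at h
    exact Ideal.Quotient.eq_zero_iff_mem.mp h
  obtain ⟨c, hc⟩ := SS_le_range x y (II_le_SS τ x y hsurj hker _ hzI)
  have hTT : (TrivSqZeroExt.inl (T 1) : EE A J) * (phi0 A J τ * TrivSqZeroExt.inl (T (-1))) =
      phi0 A J τ := by
    rw [mul_left_comm, ← TrivSqZeroExt.inl_mul, ← T_add]
    simp
  have hTT' : (phi0 A J τ * TrivSqZeroExt.inl (T (-1)) : EE A J) * TrivSqZeroExt.inl (T 1) =
      phi0 A J τ := by
    rw [mul_comm, hTT]
  have hfst : (phi0 A J τ * TrivSqZeroExt.inl (T (-1)) : EE A J).fst = C τ.fst * T (-1) := by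
    rw [TrivSqZeroExt.fst_mul, fst_phi0, TrivSqZeroExt.fst_inl, C_eq_algebraMap]
  let Ψx := Psi τ x y hsurj hker _ _ hTT
  let Ψy := Psi τ x y hsurj hker _ _ hTT'
  have hx1 : psi Ψx x = T 1 := by
    rw [psi_apply, Psi_x, TrivSqZeroExt.fst_inl]
  have hx2 : psi Ψx y = C τ.fst * T (-1) := by
    rw [psi_apply, Psi_y, hfst]
  have hy1 : psi Ψy x = C τ.fst * T (-1) := by
    rw [psi_apply, Psi_x, hfst]
  have hy2 : psi Ψy y = T 1 := by
    rw [psi_apply, Psi_y, TrivSqZeroExt.fst_inl]
  have hmx : ∀ k, psi Ψx (mono x y k) = C (τ.fst ^ (-k).toNat) * T k := by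
    intro k
    rw [mono, map_mul, map_pow, map_pow, hx1, hx2, laurent_calc]
  have hmy : ∀ k, psi Ψy (mono x y k) = C (τ.fst ^ k.toNat) * T (-k) := by
    intro k
    rw [mono, map_mul, map_pow, map_pow, hy1, hy2, laurent_calc']
  have hsx : (Ψx (z : B')).snd = 0 := snd_eq_zero_of_kerToTensor Ψx z hz
  have hsy : (Ψy (z : B')).snd = 0 := snd_eq_zero_of_kerToTensor Ψy z hz
  have hc0 : c = 0 := by
    ext k
    rw [Finsupp.zero_apply]
    rcases le_or_gt 0 k with hk | hk
    · have h1 := ex_snd_Theta Ψx x y k k (fun k => τ.fst ^ (-k).toNat) (fun k => k)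
        (fun _ => Iff.rfl) hmx c
      rw [hc, hsx, map_zero] at h1
      have h2 : (-k).toNat = 0 := by omega
      rw [h2, pow_zero, one_smul] at h1
      exact h1.symm
    · have h1 := ex_snd_Theta Ψy x y (-k) k (fun k => τ.fst ^ k.toNat) (fun k => -k)
        (fun k' => by constructor <;> intro h <;> omega) hmy c
      rw [hc, hsy, map_zero] at h1
      have h2 : k.toNat = 0 := by omega
      rw [h2, pow_zero, one_smul] at h1
      exact h1.symm
  apply Subtype.ext
  rw [← hc, hc0, map_zero]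
  rfl

end final

end Groth.Agent.H75.NodalKer
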