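import Mathlib.Data.Nat.Nth
import Mathlib.Data.Set.Card
import Mathlib.Algebra.Order.Group.Nat

set_option autoImplicit false

namespace Groth.Agent.H75

open Nat

theorem count_add_count_not' (p : ℕ → Prop) [DecidablePred p] (n : ℕ) :
    count p n + count (fun m => ¬ p m) n = n := by
  induction n with
  | zero => simp
  | succ n ih =>
    rw [count_succ, count_succ]
    by_cases h : p n <;> simp [h] <;> omega

theorem count_insert' (S : Set ℕ) (s : ℕ) (hs : s ∉ S) [DecidablePred (fun m => m ∈ S)]
    [DecidablePred (fun m => m ∈ insert s S)] (m : ℕ) :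
    count (fun m => m ∈ insert s S) m = count (fun m => m ∈ S) m + if s < m then 1 else 0 := by
  induction m with
  | zero => simp
  | succ m ih =>
    rw [count_succ, count_succ, ih]
    by_cases hm : m = s
    · subst hm
      have h1 : m ∈ insert m S := Set.mem_insert _ _
      simp [hs]
    · have h1 : m ∈ insert s S ↔ m ∈ S := by
        simp [Set.mem_insert_iff, hm]
      by_cases h2 : m ∈ S
      · have h3 : m ∈ insert s S := h1.mpr h2
        simp only [h2, h3, if_true]
        by_cases h4 : s < m
        · have : s < m + 1 := by omega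
          simp [h4, this]
        · have : ¬ s < m + 1 := by omega
          simp [h4, this]
      · have h3 : m ∉ insert s S := fun h => h2 (h1.mp h)
        simp only [h2, h3, if_false]
        by_cases h4 : s < m
        · have : s < m + 1 := by omega
          simp [h4, this]
        · have : ¬ s < m + 1 := by omega
          simp [h4, this]

theorem infinite_of_conductor (S : Set ℕ) (cS : ℕ) (hcS : ∀ n : ℕ, cS ≤ n → n ∈ S) :
    (Set.ofPred (fun m => m ∈ S)).Infinite := by
  apply Set.infinite_of_not_bddAbove
  rintro ⟨b, hb⟩
  have h1 : cS + b + 1 ∈ S := hcS _ (by omega)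
  have := hb h1
  omega

/-- Facts on the increasing enumeration of a cofinite set with conductor `cS`. -/
theorem nth_facts (S : Set ℕ) (cS : ℕ) (hcS : ∀ n : ℕ, cS ≤ n → n ∈ S)
    (hcS1 : cS = 0 ∨ cS - 1 ∉ S) (i : ℕ) :
    (nth (fun m => m ∈ S) i ≤ i + Sᶜ.ncard) ∧
    ((S ∩ Set.Iio cS).ncard ≤ i → nth (fun m => m ∈ S) i = i + Sᶜ.ncard) ∧
    (i < (S ∩ Set.Iio cS).ncard → nth (fun m => m ∈ S) i < i + Sᶜ.ncard) := by
  classical
  have hinf := infinite_of_conductor S cS hcS
  have hδ : Sᶜ.ncard = count (fun m => ¬ m ∈ S) cS := by
    rw [count_eq_card_filter_range, ← Set.ncard_coe_finset]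
    congr 1
    ext m
    simp only [Set.mem_compl_iff, Finset.coe_filter, Finset.mem_range, Set.mem_ofPred_eq]
    constructor
    · intro h
      refine ⟨?_, h⟩
      by_contra hlt
      exact h (hcS m (not_lt.mp hlt))
    · exact fun h => h.2
  have hr : (S ∩ Set.Iio cS).ncard = count (fun m => m ∈ S) cS := by
    rw [count_eq_card_filter_range, ← Set.ncard_coe_finset]
    congr 1
    ext m
    simp only [Set.mem_inter_iff, Set.mem_Iio, Finset.coe_filter, Finset.mem_range,
      Set.mem_ofPred_eq]
    tauto
  have hsum := count_add_count_not' (fun m => m ∈ S)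
  set n := nth (fun m => m ∈ S) i with hn
  have hcount : count (fun m => m ∈ S) n = i := count_nth_of_infinite hinf i
  have hnS : n ∈ S := nth_mem_of_infinite hinf i
  have hmono : Monotone (count (fun m => ¬ m ∈ S)) := count_monotone _
  have hge : ∀ m, cS ≤ m → count (fun m => ¬ m ∈ S) m = count (fun m => ¬ m ∈ S) cS := by
    intro m hm
    obtain ⟨k, rfl⟩ := Nat.exists_eq_add_of_le hm
    induction k with
    | zero => rfl
    | succ k ih =>
      rw [← add_assoc, count_succ, ih (by omega)]
      have : cS + k ∈ S := hcS _ (by omega)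
      simp [this]
  have hle : count (fun m => ¬ m ∈ S) n ≤ count (fun m => ¬ m ∈ S) cS := by
    by_cases h : n ≤ cS
    · exact hmono h
    · exact (hge n (by omega)).le
  have hlt : n < cS → count (fun m => ¬ m ∈ S) n < count (fun m => ¬ m ∈ S) cS := by
    intro h
    rcases hcS1 with h0 | h1
    · omega
    · have h2 : n ≠ cS - 1 := fun e => h1 (e ▸ hnS)
      have h3 : n ≤ cS - 1 := by omega
      have h4 := hmono h3
      have h5 : count (fun m => ¬ m ∈ S) (cS - 1 + 1) = count (fun m => ¬ m ∈ S) (cS - 1) + 1 := by
        rw [count_succ]; simp [h1]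
      have h6 : cS - 1 + 1 = cS := by omega
      rw [h6] at h5
      omega
  have hs := hsum n
  refine ⟨by omega, ?_, ?_⟩
  · intro hri
    have hncS : cS ≤ n := by
      by_contra h
      push Not at h
      have := count_strict_mono (p := fun m => m ∈ S) hnS h
      omega
    have := hge n hncS
    omega
  · intro hir
    have hncS : n < cS := by
      by_contra h
      push Not at h
      have := count_monotone (fun m => m ∈ S) h
      omega
    have := hlt hncS
    omega

end Groth.Agent.H75
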