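import Mathlib
import Groth.Agent.H75.ExtSelfDual
import Groth.Agent.H2.GorensteinCM

set_option autoImplicit false
universe u

namespace Groth.Agent.H75.Canon

open CategoryTheory Abelian

/-- `Ext` groups only depend on the isomorphism class of the first argument -/
noncomputable def extAddEquivOfIsoLeft {R : Type u} [CommRing R] {X X' Y : ModuleCat.{u} R}
    (a : X ≅ X') (n : ℕ) : Ext X Y n ≃+ Ext X' Y n where
  toFun x := (Ext.mk₀ a.inv).comp x (zero_add n)
  invFun x := (Ext.mk₀ a.hom).comp x (zero_add n)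
  left_inv x := by
    simp
  right_inv x := by
    simp
  map_add' x y := by
    rw [Ext.comp_add]

section Frac

variable {O : Type u} [CommRing O] [IsDomain O] {K : Type u} [Field K] [Algebra O K]
  [IsFractionRing O K]

/-- the colon module as a module of homomorphisms -/
noncomputable def divHom (ω I : Submodule O K) : ↥(ω / I) →ₗ[O] (↥I →ₗ[O] ↥ω) where
  toFun y := mulHom ω I y y.2
  map_add' y y' := by
    ext x
    simp [mulHom, add_mul]
  map_smul' r y := by
    ext x
    simp [mulHom, Algebra.smul_def, mul_assoc]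

theorem divHom_apply (ω I : Submodule O K) (y : ↥(ω / I)) (x : ↥I) :
    ((divHom ω I y x : ↥ω) : K) = (y : K) * (x : K) := rfl

theorem divHom_bijective (ω I : Submodule O K) (hI0 : I ≠ ⊥) :
    Function.Bijective (divHom ω I) := by
  constructor
  · intro y y' h
    obtain ⟨i₀, hi₀I, hi₀⟩ := Submodule.exists_mem_ne_zero_of_ne_bot hI0
    have h1 := congrArg (fun f => ((f ⟨i₀, hi₀I⟩ : ↥ω) : K)) h
    simp only [divHom_apply] at h1
    exact Subtype.ext (mul_right_cancel₀ hi₀ h1)
  · intro φ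
    obtain ⟨y, hy⟩ := exists_mul_eq I hI0 (ω.subtype ∘ₗ φ)
    have hyω : y ∈ ω / I := by
      rw [Submodule.mem_div_iff_forall_mul_mem]
      intro x hx
      have := hy ⟨x, hx⟩
      simp only [LinearMap.coe_comp, Submodule.coe_subtype, Function.comp_apply] at this
      rw [← this]
      exact (φ ⟨x, hx⟩).2
    refine ⟨⟨y, hyω⟩, ?_⟩
    ext x
    rw [divHom_apply]
    have := hy x
    simp only [LinearMap.coe_comp, Submodule.coe_subtype, Function.comp_apply] at this
    exact this.symm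

end Frac

end Groth.Agent.H75.Canon

namespace Groth.Agent.H75.Canon

open CategoryTheory Abelian

theorem overring_ext {O : Type u} [CommRing O] [IsDomain O] [LocCoh.IsGorensteinLocalRing O]
    (hdim : ringKrullDim O = 1) {K : Type u} [Field K] [Algebra O K] [IsFractionRing O K]
    (J : Submodule O K) (hJfg : J.FG) (h1J : (1 : K) ∈ J) (hJmul : ∀ x ∈ J, ∀ y ∈ J, x * y ∈ J) :
    Nonempty (Ext (ModuleCat.of O ↥J) (ModuleCat.of O ↥J) 1 ≃+
      (↥((1 : Submodule O K) / J) →ₗ[O]
        (O ⧸ Submodule.comap (Algebra.linearMap O K) ((1 : Submodule O K) / J)))) := by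
  classical
  have hinjO : HasInjectiveDimensionLT (ModuleCat.of O O) 2 :=
    Groth.Agent.H2.GorensteinCM.hasInjectiveDimensionLT_of_ringKrullDim O 1 (by rw [hdim]; rfl)
  have hKD : Ring.KrullDimLE 1 O := Ring.krullDimLE_iff.mpr (by simp [hdim])
  obtain ⟨a, ham, ha0⟩ := OneDim.exists_ne_zero_mem_maximalIdeal O hdim
  have hinj : Function.Injective (Algebra.linearMap O K) := IsFractionRing.injective O K
  set ω : Submodule O K := 1 with hω
  let eO : O ≃ₗ[O] ↥ω := (LinearEquiv.ofInjective (Algebra.linearMap O K) hinj).trans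
    (LinearEquiv.ofEq _ _ Submodule.one_eq_range.symm)
  have heO : ∀ r : O, ((eO r : ↥ω) : K) = algebraMap O K r := fun r => rfl
  have hωinj : HasInjectiveDimensionLT (ModuleCat.of O ↥ω) 2 :=
    hasInjectiveDimensionLT_of_iso eO.toModuleIso 2
  have hωfg : ω.FG := by
    rw [hω, Submodule.one_eq_span]; exact Submodule.fg_span_singleton 1
  have hω1 : (1 : K) ∈ ω := Submodule.one_le.mp le_rfl
  have hω0 : ω ≠ ⊥ := by
    intro h
    rw [h, Submodule.mem_bot] at hω1
    exact one_ne_zero hω1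
  have hJ0 : J ≠ ⊥ := by
    intro h
    rw [h, Submodule.mem_bot] at h1J
    exact one_ne_zero h1J
  have : NoZeroSMulDivisors O K := ⟨fun {c x} h => by
    rw [Algebra.smul_def] at h
    rcases mul_eq_zero.mp h with h1 | h1
    · left
      exact IsFractionRing.injective O K (by rw [h1, map_zero])
    · exact Or.inr h1⟩
  have htf : ∀ P : Submodule O K, NoZeroSMulDivisors O ↥P := fun P =>
    Function.Injective.noZeroSMulDivisors P.subtype (Submodule.subtype_injective _) (map_zero _)
      (fun c x => map_smul _ c x)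
  have := htf J
  have : Module.Finite O ↥J := Module.Finite.iff_fg.mpr hJfg
  set I' : Submodule O K := ω / J with hI'
  have hI'0 : I' ≠ ⊥ := div_ne_bot ω J hω0 hJfg
  have hI'fg : I'.FG := div_fg ω J hωfg hJ0
  have := htf I'
  have : Module.Finite O ↥I' := Module.Finite.iff_fg.mpr hI'fg
  have hI'ω : I' ≤ ω := by
    intro y hy
    have := Submodule.mem_div_iff_forall_mul_mem.mp hy 1 h1J
    rwa [mul_one] at this
  -- step 1
  obtain ⟨e1⟩ := ext_self_dual hdim ω hω0 hωfg hωinj ↥J 1
  -- step 2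
  let eD : ↥I' ≃ₗ[O] (↥J →ₗ[O] ↥ω) := LinearEquiv.ofBijective (divHom ω J) (divHom_bijective ω J hJ0)
  have e2 : Ext (ModuleCat.of O (↥J →ₗ[O] ↥ω)) (ModuleCat.of O (↥J →ₗ[O] ↥ω)) 1 ≃+
      Ext (ModuleCat.of O ↥I') (ModuleCat.of O ↥I') 1 :=
    (extAddEquivOfIsoLeft eD.symm.toModuleIso 1).trans (extAddEquivOfIsoRight eD.symm.toModuleIso 1)
  -- step 3
  set I : Submodule O O := Submodule.comap (Algebra.linearMap O K) I' with hI
  let f : ↥I' →ₗ[O] O := eO.symm.toLinearMap ∘ₗ Submodule.inclusion hI'ω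
  have hf_spec : ∀ y : ↥I', algebraMap O K (f y) = (y : K) := by
    intro y
    have h1 : eO (f y) = Submodule.inclusion hI'ω y := by simp [f]
    have h2 := congrArg Subtype.val h1
    rw [heO] at h2
    exact h2
  have hf : Function.Injective f := by
    intro y y' h
    apply Subtype.ext
    rw [← hf_spec y, ← hf_spec y', h]
  have hfg : Function.Exact f I.mkQ := by
    intro r
    rw [Submodule.mkQ_apply, Submodule.Quotient.mk_eq_zero, hI, Submodule.mem_comap]
    constructor
    · intro hr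
      refine ⟨⟨_, hr⟩, ?_⟩
      apply hinj
      exact hf_spec _
    · rintro ⟨y, rfl⟩
      change algebraMap O K (f y) ∈ I'
      rw [hf_spec]
      exact y.2
  have hS := shortExact_of f I.mkQ hf (Submodule.mkQ_surjective _) hfg
  -- every map `I' → O` lands in `I'`
  have hJJ : ω / I' = J := div_div_eq ω hωfg hω0 a ham ha0 J hJfg hJ0
  have hfactor : ∀ ψ : ↥I' →ₗ[O] O, ∃ ψ' : ↥I' →ₗ[O] ↥I', f ∘ₗ ψ' = ψ := by
    intro ψ
    obtain ⟨y, hy⟩ := exists_mul_eq I' hI'0 (Algebra.linearMap O K ∘ₗ ψ)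
    have hyJ : y ∈ J := by
      rw [← hJJ, Submodule.mem_div_iff_forall_mul_mem]
      intro x hx
      rw [← hy ⟨x, hx⟩]
      exact Submodule.mem_one.mpr ⟨ψ ⟨x, hx⟩, rfl⟩
    have hyI' : y ∈ I' / I' := by
      rw [Submodule.mem_div_iff_forall_mul_mem]
      intro x hx
      rw [hI', Submodule.mem_div_iff_forall_mul_mem]
      intro j hj
      have h1 : y * x * j = x * (y * j) := by ring
      rw [h1]
      exact Submodule.mem_div_iff_forall_mul_mem.mp hx _ (hJmul y hyJ j hj)
    refine ⟨mulHom I' I' y hyI', ?_⟩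
    ext x
    apply hinj
    change algebraMap O K (f (mulHom I' I' y hyI' x)) = algebraMap O K (ψ x)
    rw [hf_spec]
    exact (hy x).symm
  let δ : (↥I' →ₗ[O] (O ⧸ I)) →+ Ext (ModuleCat.of O ↥I') (ModuleCat.of O ↥I') 1 :=
    AddMonoidHom.mk' (fun g => (Ext.mk₀ (ModuleCat.ofHom g)).comp hS.extClass (show 0 + 1 = 1 from rfl))
      (by
        intro g g'
        rw [ModuleCat.ofHom_add, Ext.mk₀_add, Ext.add_comp])
  have hδ : Function.Bijective δ := by
    constructor
    · rw [injective_iff_map_eq_zero]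
      intro g hg
      obtain ⟨x₂, hx₂⟩ := Ext.covariant_sequence_exact₃ _ hS _ (show 0 + 1 = 1 from rfl) hg
      obtain ⟨ψ, rfl⟩ := exists_mk₀ x₂
      rw [Ext.mk₀_comp_mk₀] at hx₂
      have h3 := (Ext.mk₀_bijective _ _).1 hx₂
      have h4 : I.mkQ ∘ₗ ψ.hom = g := by
        have := congrArg ModuleCat.Hom.hom h3
        simpa using this
      obtain ⟨ψ', hψ'⟩ := hfactor ψ.hom
      rw [← h4, ← hψ', ← LinearMap.comp_assoc, hfg.linearMap_comp_eq_zero, LinearMap.zero_comp]
    · intro x₁
      have h1 : x₁.comp (Ext.mk₀ (ModuleCat.ofHom f)) (add_zero 1) = 0 :=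
        ExtDual.ext_eq_zero_of_torsionFree (R := O) (W := O) ↥I' 1 le_rfl _
      obtain ⟨x₃, hx₃⟩ := Ext.covariant_sequence_exact₁ _ hS x₁ h1 (show 0 + 1 = 1 from rfl)
      obtain ⟨g, rfl⟩ := exists_mk₀ x₃
      exact ⟨g.hom, hx₃⟩
  have e3 := AddEquiv.ofBijective δ hδ
  exact ⟨(e1.trans e2).trans e3.symm⟩

end Groth.Agent.H75.Canon
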