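import Groth.Agent.H75.PSOrder

set_option autoImplicit false
universe u

namespace Groth.Agent.H75

open PowerSeries

variable {k : Type u} [Field k]

/-- division with control of the order of the quotient -/
theorem exists_mul_eq_of_order_add_le (p q : PowerSeries k) (l c : ℕ)
    (hp : PowerSeries.order p = l) (hq : ((l + c : ℕ) : ℕ∞) ≤ PowerSeries.order q) :
    ∃ w : PowerSeries k, (c : ℕ∞) ≤ PowerSeries.order w ∧ w * p = q := by
  have hp0 : p ≠ 0 := by
    rintro rfl
    simp at hp
  have h1 : (PowerSeries.X : PowerSeries k) ^ (l + c) ∣ q := by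
    rw [PowerSeries.X_pow_dvd_iff]
    intro m hm
    apply PowerSeries.coeff_of_lt_order
    refine lt_of_lt_of_le ?_ hq
    exact_mod_cast hm
  obtain ⟨h', rfl⟩ := h1
  have hu : IsUnit (PowerSeries.divXPowOrder p) := by
    rw [PowerSeries.isUnit_iff_constantCoeff, isUnit_iff_ne_zero]
    intro h0
    exact hp0 (PowerSeries.constantCoeff_divXPowOrder_eq_zero_iff.mp h0)
  obtain ⟨u, hu⟩ := hu
  obtain ⟨w, hw⟩ : ∃ w : PowerSeries k, w * PowerSeries.divXPowOrder p = 1 :=
    ⟨((u⁻¹ : (PowerSeries k)ˣ) : PowerSeries k), by rw [← hu]; exact Units.inv_mul u⟩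
  have hl : p.order.toNat = l := by rw [hp]; rfl
  refine ⟨PowerSeries.X ^ c * (h' * w), ?_, ?_⟩
  · rw [PowerSeries.order_mul, PowerSeries.order_X_pow]
    exact le_self_add
  · conv_lhs => rw [← PowerSeries.X_pow_order_mul_divXPowOrder (f := p), hl]
    calc PowerSeries.X ^ c * (h' * w) * (PowerSeries.X ^ l * p.divXPowOrder)
        = PowerSeries.X ^ (l + c) * h' * (w * p.divXPowOrder) := by ring
      _ = _ := by rw [hw, mul_one]

end Groth.Agent.H75
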