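import Mathlib

/-! Lattices over `ℤ_[ℓ]` with an automorphism of order `ℓ`: torsion of the coinvariants. -/

set_option autoImplicit false

namespace Groth.Agent.H75.PadicLattice

open Finset Pointwise

section card

variable {ℓ : ℕ} [Fact ℓ.Prime]

theorem index_smul_top (L : Type*) [AddCommGroup L] [Module ℤ_[ℓ] L] [Module.Free ℤ_[ℓ] L]
    [Module.Finite ℤ_[ℓ] L] :
    ((ℓ : ℤ_[ℓ]) • (⊤ : Submodule ℤ_[ℓ] L)).toAddSubgroup.index =
      ℓ ^ Module.finrank ℤ_[ℓ] L := by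
  classical
  let b := Module.finBasis ℤ_[ℓ] L
  let φ : L →+ (Fin (Module.finrank ℤ_[ℓ] L) → ZMod ℓ) :=
    { toFun := fun x i => PadicInt.toZMod (b.repr x i)
      map_zero' := by ext i; simp
      map_add' := fun x y => by ext i; simp }
  have hφ : ∀ x i, φ x i = PadicInt.toZMod (b.repr x i) := fun _ _ => rfl
  have hsurj : Function.Surjective φ := by
    intro y
    have h : ∀ i, ∃ r : ℤ_[ℓ], PadicInt.toZMod r = y i :=
      fun i => ZMod.ringHom_surjective PadicInt.toZMod (y i)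
    choose r hr using h
    refine ⟨b.repr.symm (Finsupp.equivFunOnFinite.symm r), ?_⟩
    ext i
    rw [hφ]
    simp [hr]
  have hker : φ.ker = ((ℓ : ℤ_[ℓ]) • (⊤ : Submodule ℤ_[ℓ] L)).toAddSubgroup := by
    ext x
    rw [AddMonoidHom.mem_ker, Submodule.mem_toAddSubgroup,
      Submodule.mem_smul_pointwise_iff_exists]
    constructor
    · intro h
      have h1 : ∀ i, ∃ s : ℤ_[ℓ], b.repr x i = (ℓ : ℤ_[ℓ]) * s := by
        intro i
        have h2 : b.repr x i ∈ RingHom.ker (PadicInt.toZMod (p := ℓ)) := by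
          rw [RingHom.mem_ker, ← hφ, h]; rfl
        rw [PadicInt.ker_toZMod, PadicInt.maximalIdeal_eq_span_p,
          Ideal.mem_span_singleton] at h2
        exact h2
      choose s hs using h1
      refine ⟨b.repr.symm (Finsupp.equivFunOnFinite.symm s), trivial, ?_⟩
      apply b.repr.injective
      ext i
      simp [hs]
    · rintro ⟨y, -, rfl⟩
      ext i
      rw [hφ]
      simp
  rw [← hker, AddSubgroup.index_ker, AddMonoidHom.range_eq_top.mpr hsurj]
  rw [Nat.card_congr (AddSubgroup.topEquiv (G := Fin (Module.finrank ℤ_[ℓ] L) → ZMod ℓ)).toEquiv]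
  simp

end card

section struct

variable {ℓ : ℕ} [Fact ℓ.Prime]
variable {M : Type*} [AddCommGroup M] [Module ℤ_[ℓ] M] [Module.Free ℤ_[ℓ] M]
  [Module.Finite ℤ_[ℓ] M]

/-- the norm element of an endomorphism -/
noncomputable def nrm (ℓ : ℕ) [Fact ℓ.Prime] {M : Type*} [AddCommGroup M] [Module ℤ_[ℓ] M]
    (a : Module.End ℤ_[ℓ] M) : Module.End ℤ_[ℓ] M :=
  ∑ i ∈ range ℓ, a ^ i

theorem sub_one_mul_nrm (a : Module.End ℤ_[ℓ] M) (ha : a ^ ℓ = 1) : (a - 1) * nrm ℓ a = 0 := by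
  rw [nrm, mul_geom_sum, ha, sub_self]

theorem nrm_mul_sub_one (a : Module.End ℤ_[ℓ] M) (ha : a ^ ℓ = 1) : nrm ℓ a * (a - 1) = 0 := by
  rw [nrm, geom_sum_mul, ha, sub_self]

theorem nrm_apply_sub_one (a : Module.End ℤ_[ℓ] M) (ha : a ^ ℓ = 1) (m : M) :
    nrm ℓ a ((a - 1) m) = 0 := by
  have h := LinearMap.congr_fun (nrm_mul_sub_one a ha) m
  simpa using h

theorem sub_one_apply_nrm (a : Module.End ℤ_[ℓ] M) (ha : a ^ ℓ = 1) (m : M) :
    (a - 1) (nrm ℓ a m) = 0 := by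
  have h := LinearMap.congr_fun (sub_one_mul_nrm a ha) m
  simpa using h

theorem natCast_eq (a : Module.End ℤ_[ℓ] M) :
    (ℓ : Module.End ℤ_[ℓ] M) =
      nrm ℓ a - (a - 1) * ∑ i ∈ range ℓ, ∑ j ∈ range i, a ^ j := by
  rw [Finset.mul_sum]
  simp_rw [mul_geom_sum]
  rw [Finset.sum_sub_distrib, nrm]
  simp

theorem smul_mem_range_of_nrm_eq_zero (a : Module.End ℤ_[ℓ] M) (m : M) (hm : nrm ℓ a m = 0) :
    (ℓ : ℤ_[ℓ]) • m ∈ LinearMap.range (a - 1) := by
  have h := LinearMap.congr_fun (natCast_eq (ℓ := ℓ) a) m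
  rw [Module.End.natCast_apply, LinearMap.sub_apply, hm, zero_sub, Module.End.mul_apply] at h
  rw [Nat.cast_smul_eq_nsmul, h]
  exact (LinearMap.range (a - 1)).neg_mem ⟨_, rfl⟩

theorem nrm_eq_zero_of_torsion (a : Module.End ℤ_[ℓ] M) (ha : a ^ ℓ = 1) (m : M) (r : ℤ_[ℓ])
    (hr : r ≠ 0) (h : r • m ∈ LinearMap.range (a - 1)) : nrm ℓ a m = 0 := by
  obtain ⟨y, hy⟩ := h
  have h1 : r • nrm ℓ a m = 0 := by
    rw [← map_smul, ← hy, nrm_apply_sub_one a ha]
  exact (smul_eq_zero.mp h1).resolve_left hr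

theorem mem_torsion_iff (a : Module.End ℤ_[ℓ] M) (ha : a ^ ℓ = 1) (m : M) :
    (LinearMap.range (a - 1)).mkQ m ∈ Submodule.torsion ℤ_[ℓ] (M ⧸ LinearMap.range (a - 1)) ↔
      nrm ℓ a m = 0 := by
  rw [Submodule.mem_torsion_iff]
  constructor
  · rintro ⟨r, hr⟩
    have h1 : (r : ℤ_[ℓ]) • m ∈ LinearMap.range (a - 1) := by
      rw [← Submodule.Quotient.mk_eq_zero, Submodule.Quotient.mk_smul]
      exact hr
    exact nrm_eq_zero_of_torsion a ha m r (nonZeroDivisors.coe_ne_zero r) h1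
  · intro h
    have hℓ : (ℓ : ℤ_[ℓ]) ≠ 0 := by
      exact_mod_cast (Fact.out : ℓ.Prime).ne_zero
    refine ⟨⟨(ℓ : ℤ_[ℓ]), mem_nonZeroDivisors_of_ne_zero hℓ⟩, ?_⟩
    have h1 := smul_mem_range_of_nrm_eq_zero a m h
    rw [← Submodule.Quotient.mk_eq_zero, Submodule.Quotient.mk_smul] at h1
    exact h1

theorem smul_torsion_eq_zero (a : Module.End ℤ_[ℓ] M) (ha : a ^ ℓ = 1)
    (x : M ⧸ LinearMap.range (a - 1))
    (hx : x ∈ Submodule.torsion ℤ_[ℓ] (M ⧸ LinearMap.range (a - 1))) :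
    (ℓ : ℤ_[ℓ]) • x = 0 := by
  obtain ⟨m, rfl⟩ := Submodule.Quotient.mk_surjective _ x
  have h := (mem_torsion_iff a ha m).mp hx
  have h1 := smul_mem_range_of_nrm_eq_zero a m h
  rw [← Submodule.Quotient.mk_eq_zero, Submodule.Quotient.mk_smul] at h1
  exact h1

end struct

section count

variable {ℓ : ℕ} [Fact ℓ.Prime]
variable {M : Type*} [AddCommGroup M] [Module ℤ_[ℓ] M] [Module.Free ℤ_[ℓ] M]
  [Module.Finite ℤ_[ℓ] M]

theorem natCast_ne_zero' : (ℓ : ℤ_[ℓ]) ≠ 0 := by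
  exact_mod_cast (Fact.out : ℓ.Prime).ne_zero

/-- the kernel of the norm -/
noncomputable abbrev kerN (a : Module.End ℤ_[ℓ] M) : Submodule ℤ_[ℓ] M := LinearMap.ker (nrm ℓ a)

/-- restriction of `a - 1` to the kernel of the norm -/
noncomputable def gL (a : Module.End ℤ_[ℓ] M) (ha : a ^ ℓ = 1) : kerN a →ₗ[ℤ_[ℓ]] kerN a :=
  (a - 1).restrict (p := kerN a) (q := kerN a) (fun x _ => by
    rw [LinearMap.mem_ker]; exact nrm_apply_sub_one a ha x)

theorem gL_coe (a : Module.End ℤ_[ℓ] M) (ha : a ^ ℓ = 1) (x : kerN a) :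
    ((gL a ha x : kerN a) : M) = (a - 1) (x : M) := rfl

/-- the map from the kernel of the norm to the torsion of the coinvariants -/
noncomputable def toTors (a : Module.End ℤ_[ℓ] M) (ha : a ^ ℓ = 1) :
    kerN a →ₗ[ℤ_[ℓ]] Submodule.torsion ℤ_[ℓ] (M ⧸ LinearMap.range (a - 1)) :=
  LinearMap.codRestrict _ ((LinearMap.range (a - 1)).mkQ ∘ₗ (kerN a).subtype)
    (fun x => (mem_torsion_iff a ha x).mpr (LinearMap.mem_ker.mp x.2))

theorem toTors_coe (a : Module.End ℤ_[ℓ] M) (ha : a ^ ℓ = 1) (x : kerN a) :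
    ((toTors a ha x : Submodule.torsion ℤ_[ℓ] (M ⧸ LinearMap.range (a - 1))) :
      M ⧸ LinearMap.range (a - 1)) = (LinearMap.range (a - 1)).mkQ (x : M) := rfl

theorem toTors_surjective (a : Module.End ℤ_[ℓ] M) (ha : a ^ ℓ = 1) :
    Function.Surjective (toTors a ha) := by
  rintro ⟨t, ht⟩
  obtain ⟨m, rfl⟩ := Submodule.Quotient.mk_surjective _ t
  have h := (mem_torsion_iff a ha m).mp ht
  exact ⟨⟨m, LinearMap.mem_ker.mpr h⟩, Subtype.ext rfl⟩

/-- the decomposition hypothesis -/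
def Dec (a : Module.End ℤ_[ℓ] M) : Prop :=
  ∀ m : M, ∃ k l : M, (a - 1) k = 0 ∧ nrm ℓ a l = 0 ∧ m = k + l

theorem ker_toTors (a : Module.End ℤ_[ℓ] M) (ha : a ^ ℓ = 1) (hdec : Dec a) :
    LinearMap.ker (toTors a ha) = LinearMap.range (gL a ha) := by
  ext x
  rw [LinearMap.mem_ker, LinearMap.mem_range]
  constructor
  · intro h
    have h1 : (LinearMap.range (a - 1)).mkQ (x : M) = 0 := by
      rw [← toTors_coe a ha, h]; rfl
    rw [Submodule.mkQ_apply, Submodule.Quotient.mk_eq_zero] at h1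
    obtain ⟨m, hm⟩ := h1
    obtain ⟨k, l, hk, hl, rfl⟩ := hdec m
    refine ⟨⟨l, LinearMap.mem_ker.mpr hl⟩, Subtype.ext ?_⟩
    rw [gL_coe, ← hm, map_add, hk, zero_add]
  · rintro ⟨y, rfl⟩
    apply Subtype.ext
    rw [toTors_coe, gL_coe, Submodule.mkQ_apply]
    exact (Submodule.Quotient.mk_eq_zero _).mpr ⟨_, rfl⟩

theorem card_torsion (a : Module.End ℤ_[ℓ] M) (ha : a ^ ℓ = 1) (hdec : Dec a) :
    Nat.card (Submodule.torsion ℤ_[ℓ] (M ⧸ LinearMap.range (a - 1))) =
      (LinearMap.range (gL a ha)).toAddSubgroup.index := by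
  have h1 := AddSubgroup.index_ker (toTors a ha).toAddMonoidHom
  have h2 : (toTors a ha).toAddMonoidHom.ker = (LinearMap.range (gL a ha)).toAddSubgroup := by
    rw [← ker_toTors a ha hdec]; rfl
  have h3 : (toTors a ha).toAddMonoidHom.range = ⊤ :=
    AddMonoidHom.range_eq_top.mpr (toTors_surjective a ha)
  rw [h2, h3] at h1
  rw [h1]
  exact (Nat.card_congr (AddSubgroup.topEquiv
    (G := Submodule.torsion ℤ_[ℓ] (M ⧸ LinearMap.range (a - 1)))).toEquiv).symm

theorem pow_apply_of_fixed (a : Module.End ℤ_[ℓ] M) (x : M) (hx : (a - 1) x = 0) (i : ℕ) :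
    (a ^ i) x = x := by
  have h : a x = x := by
    rw [LinearMap.sub_apply, Module.End.one_apply, sub_eq_zero] at hx; exact hx
  induction i with
  | zero => simp
  | succ n ih => rw [pow_succ, Module.End.mul_apply, h, ih]

theorem nrm_apply_of_fixed (a : Module.End ℤ_[ℓ] M) (x : M) (hx : (a - 1) x = 0) :
    nrm ℓ a x = (ℓ : ℤ_[ℓ]) • x := by
  rw [nrm, LinearMap.sum_apply]
  simp_rw [pow_apply_of_fixed a x hx]
  simp [Nat.cast_smul_eq_nsmul]

theorem disjoint_ker (a : Module.End ℤ_[ℓ] M) :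
    Disjoint (LinearMap.ker (a - 1)) (kerN a) := by
  rw [Submodule.disjoint_def]
  intro x hx hx'
  rw [LinearMap.mem_ker] at hx hx'
  rw [nrm_apply_of_fixed a x hx] at hx'
  exact (smul_eq_zero.mp hx').resolve_left natCast_ne_zero'

theorem isCompl_ker (a : Module.End ℤ_[ℓ] M) (hdec : Dec a) :
    IsCompl (LinearMap.ker (a - 1)) (kerN a) := by
  refine ⟨disjoint_ker a, ?_⟩
  rw [codisjoint_iff, eq_top_iff]
  intro m _
  obtain ⟨k, l, hk, hl, rfl⟩ := hdec m
  exact Submodule.add_mem_sup (LinearMap.mem_ker.mpr hk) (LinearMap.mem_ker.mpr hl)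

theorem finrank_kerN (a : Module.End ℤ_[ℓ] M) (hdec : Dec a) :
    Module.finrank ℤ_[ℓ] (kerN a) =
      Module.finrank ℤ_[ℓ] M - Module.finrank ℤ_[ℓ] (LinearMap.ker (a - 1)) := by
  have e := Submodule.prodEquivOfIsCompl _ _ (isCompl_ker a hdec)
  have h := e.finrank_eq
  rw [Module.finrank_prod] at h
  omega

theorem gL_injective (a : Module.End ℤ_[ℓ] M) (ha : a ^ ℓ = 1) :
    Function.Injective (gL a ha) := by
  rw [← LinearMap.ker_eq_bot, eq_bot_iff]
  intro x hx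
  rw [LinearMap.mem_ker] at hx
  have h1 : (a - 1) (x : M) = 0 := by rw [← gL_coe a ha, hx]; rfl
  have h2 : (x : M) ∈ LinearMap.ker (a - 1) ⊓ kerN a := ⟨LinearMap.mem_ker.mpr h1, x.2⟩
  rw [(disjoint_ker a).eq_bot] at h2
  exact Subtype.ext h2

theorem index_range_sq {L : Type*} [AddCommGroup L] (g : L →+ L) (hg : Function.Injective g) :
    (g.comp g).range.index = g.range.index ^ 2 := by
  have h1 : (g.comp g).range = g.range.map g := by
    rw [AddMonoidHom.range_eq_map, AddMonoidHom.range_eq_map, AddSubgroup.map_map]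
  have h2 : g.range = (⊤ : AddSubgroup L).map g := AddMonoidHom.range_eq_map g
  have h3 : (g.range.map g).relIndex g.range = g.range.index := by
    have h5 := AddSubgroup.relIndex_map_map_of_injective g.range ⊤ hg
    rw [← h2, AddSubgroup.relIndex_top_right] at h5
    exact h5
  have h4 : g.range.map g ≤ g.range := by
    rintro _ ⟨y, -, rfl⟩; exact ⟨y, rfl⟩
  rw [h1, ← AddSubgroup.relIndex_mul_index h4, h3, sq]

end count

section two

variable [Fact (Nat.Prime 2)] {M : Type*} [AddCommGroup M] [Module ℤ_[2] M] [Module.Free ℤ_[2] M]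
  [Module.Finite ℤ_[2] M]

theorem nrm_two (a : Module.End ℤ_[2] M) : nrm 2 a = 1 + a := by
  simp [nrm, Finset.sum_range_succ]

theorem two_ne_zero' : (2 : ℤ_[2]) ≠ 0 := by
  have h := natCast_ne_zero' (ℓ := 2)
  simpa using h

theorem dec_two (a : Module.End ℤ_[2] M) (ha : a ^ 2 = 1) (B : Module.End ℤ_[2] M)
    (hB : a - 1 = (2 : ℤ_[2]) • B) : Dec a := by
  intro m
  have hBm : a m - m = (2 : ℤ_[2]) • B m := by
    have h := LinearMap.congr_fun hB m
    simpa using h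
  refine ⟨m + B m, -B m, ?_, ?_, by abel⟩
  · have h2 : (2 : ℤ_[2]) • (m + B m) = nrm 2 a m := by
      rw [nrm_two, smul_add, ← hBm, LinearMap.add_apply, Module.End.one_apply, two_smul]
      abel
    have h3 : (2 : ℤ_[2]) • (a - 1) (m + B m) = 0 := by
      rw [← map_smul, h2, sub_one_apply_nrm a ha]
    exact (smul_eq_zero.mp h3).resolve_left two_ne_zero'
  · have h2 : (2 : ℤ_[2]) • (-B m) = -((a - 1) m) := by
      rw [smul_neg, ← hBm]; simp
    have h3 : (2 : ℤ_[2]) • nrm 2 a (-B m) = 0 := by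
      rw [← map_smul, h2, map_neg, nrm_apply_sub_one a ha, neg_zero]
    exact (smul_eq_zero.mp h3).resolve_left two_ne_zero'

theorem range_gL_two (a : Module.End ℤ_[2] M) (ha : a ^ 2 = 1) :
    LinearMap.range (gL a ha) = (2 : ℤ_[2]) • (⊤ : Submodule ℤ_[2] (kerN a)) := by
  have key : ∀ x : kerN a, gL a ha x = (2 : ℤ_[2]) • (-x) := by
    intro x
    apply Subtype.ext
    rw [gL_coe]
    have hx : nrm 2 a (x : M) = 0 := LinearMap.mem_ker.mp x.2
    rw [nrm_two, LinearMap.add_apply, Module.End.one_apply] at hx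
    have hax : a (x : M) = -(x : M) := by
      rw [eq_neg_iff_add_eq_zero, add_comm]; exact hx
    rw [LinearMap.sub_apply, Module.End.one_apply, hax,
      show (((2 : ℤ_[2]) • (-x) : kerN a) : M) = (2 : ℤ_[2]) • (-(x : M)) from rfl, two_smul]
    abel
  ext y
  rw [LinearMap.mem_range, Submodule.mem_smul_pointwise_iff_exists]
  constructor
  · rintro ⟨x, rfl⟩; exact ⟨-x, trivial, (key x).symm⟩
  · rintro ⟨x, -, rfl⟩; exact ⟨-x, by rw [key, neg_neg]⟩

theorem card_torsion_two (a : Module.End ℤ_[2] M) (ha : a ^ 2 = 1) (B : Module.End ℤ_[2] M)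
    (hB : a - 1 = (2 : ℤ_[2]) • B) :
    Nat.card (Submodule.torsion ℤ_[2] (M ⧸ LinearMap.range (a - 1))) =
      2 ^ (Module.finrank ℤ_[2] M - Module.finrank ℤ_[2] (LinearMap.ker (a - 1))) := by
  have hdec := dec_two a ha B hB
  rw [card_torsion a ha hdec, range_gL_two a ha, ← finrank_kerN a hdec]
  have h := index_smul_top (ℓ := 2) (kerN a)
  simpa using h

theorem sub_one_eq_of_sq (a : Module.End ℤ_[2] M) (ha : a ^ 2 = 1) (B : Module.End ℤ_[2] M)
    (hB : (a - 1) ^ 2 = (4 : ℤ_[2]) • B) : a - 1 = (2 : ℤ_[2]) • (-B) := by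
  ext m
  have h1 : a (a m) = m := by
    have h := LinearMap.congr_fun ha m
    simpa [pow_two] using h
  have h2 : (a - 1) ((a - 1) m) = (4 : ℤ_[2]) • B m := by
    have h := LinearMap.congr_fun hB m
    rw [pow_two, Module.End.mul_apply, LinearMap.smul_apply] at h
    exact h
  have h3 : (2 : ℤ_[2]) • ((a - 1) m + (2 : ℤ_[2]) • B m) = 0 := by
    have h4 : (4 : ℤ_[2]) • B m = (2 : ℤ_[2]) • ((2 : ℤ_[2]) • B m) := by
      rw [smul_smul]; norm_num
    rw [smul_add, ← h4, ← h2]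
    simp only [LinearMap.sub_apply, Module.End.one_apply, map_sub, h1, two_smul]
    abel
  have h5 := (smul_eq_zero.mp h3).resolve_left two_ne_zero'
  rw [LinearMap.smul_apply, LinearMap.neg_apply, smul_neg]
  exact eq_neg_of_add_eq_zero_left h5

end two

section three

variable [Fact (Nat.Prime 3)] {M : Type*} [AddCommGroup M] [Module ℤ_[3] M] [Module.Free ℤ_[3] M]
  [Module.Finite ℤ_[3] M]

theorem nrm_three_apply (a : Module.End ℤ_[3] M) (m : M) : nrm 3 a m = m + a m + a (a m) := by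
  simp [nrm, Finset.sum_range_succ, pow_two]

theorem three_ne_zero' : (3 : ℤ_[3]) ≠ 0 := by
  have h := natCast_ne_zero' (ℓ := 3)
  simpa using h

theorem nrm_apply_apply {ℓ : ℕ} [Fact ℓ.Prime] {M : Type*} [AddCommGroup M] [Module ℤ_[ℓ] M]
    [Module.Free ℤ_[ℓ] M] [Module.Finite ℤ_[ℓ] M]
    (a : Module.End ℤ_[ℓ] M) (ha : a ^ ℓ = 1) (m : M) : nrm ℓ a (a m) = nrm ℓ a m := by
  have h := nrm_apply_sub_one a ha m
  rw [LinearMap.sub_apply, Module.End.one_apply, map_sub, sub_eq_zero] at h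
  exact h

theorem sq_apply_three (a : Module.End ℤ_[3] M) (m : M) :
    (a - 1) ((a - 1) m) = nrm 3 a m - (3 : ℤ_[3]) • a m := by
  rw [nrm_three_apply]
  simp only [LinearMap.sub_apply, Module.End.one_apply, map_sub]
  have h3 : (3 : ℤ_[3]) • a m = a m + a m + a m := by
    rw [show (3 : ℤ_[3]) = 1 + 1 + 1 by norm_num, add_smul, add_smul, one_smul]
  rw [h3]
  abel

theorem dec_three (a : Module.End ℤ_[3] M) (ha : a ^ 3 = 1) (B : Module.End ℤ_[3] M)
    (hB : (a - 1) ^ 2 = (3 : ℤ_[3]) • B) : Dec a := by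
  intro m
  have hBm : ∀ x : M, (a - 1) ((a - 1) x) = (3 : ℤ_[3]) • B x := by
    intro x
    have h := LinearMap.congr_fun hB x
    rw [pow_two, Module.End.mul_apply, LinearMap.smul_apply] at h
    exact h
  have hN : ∀ x : M, nrm 3 a x = (3 : ℤ_[3]) • (B x + a x) := by
    intro x
    have h := sq_apply_three a x
    rw [hBm] at h
    rw [smul_add, h]
    abel
  refine ⟨B m + a m, m - (B m + a m), ?_, ?_, by abel⟩
  · have h3 : (3 : ℤ_[3]) • (a - 1) (B m + a m) = 0 := by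
      rw [← map_smul, ← hN, sub_one_apply_nrm a ha]
    exact (smul_eq_zero.mp h3).resolve_left three_ne_zero'
  · have h3 : (3 : ℤ_[3]) • nrm 3 a (m - (B m + a m)) = 0 := by
      rw [← map_smul, smul_sub, ← hN, map_sub,
        nrm_apply_of_fixed a (nrm 3 a m) (sub_one_apply_nrm a ha m), map_smul]
      simp
    exact (smul_eq_zero.mp h3).resolve_left three_ne_zero'

theorem range_gL_sq_three (a : Module.End ℤ_[3] M) (ha : a ^ 3 = 1) :
    LinearMap.range ((gL a ha).comp (gL a ha)) =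
      (3 : ℤ_[3]) • (⊤ : Submodule ℤ_[3] (kerN a)) := by
  have hcube : ∀ x : M, a (a (a x)) = x := by
    intro x
    have h := LinearMap.congr_fun ha x
    simpa [pow_succ] using h
  ext y
  rw [LinearMap.mem_range, Submodule.mem_smul_pointwise_iff_exists]
  constructor
  · rintro ⟨x, rfl⟩
    have hx : nrm 3 a (x : M) = 0 := LinearMap.mem_ker.mp x.2
    have hmem : -(a (x : M)) ∈ kerN a := by
      rw [LinearMap.mem_ker, map_neg, nrm_apply_apply a ha, hx, neg_zero]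
    refine ⟨⟨-(a (x : M)), hmem⟩, trivial, Subtype.ext ?_⟩
    show (3 : ℤ_[3]) • (-(a (x : M))) = (a - 1) ((a - 1) (x : M))
    rw [sq_apply_three, hx, zero_sub, smul_neg]
  · rintro ⟨x, -, rfl⟩
    have hx : nrm 3 a (x : M) = 0 := LinearMap.mem_ker.mp x.2
    have hmem : -(a (a (x : M))) ∈ kerN a := by
      rw [LinearMap.mem_ker, map_neg, nrm_apply_apply a ha, nrm_apply_apply a ha, hx, neg_zero]
    refine ⟨⟨-(a (a (x : M))), hmem⟩, Subtype.ext ?_⟩
    show (a - 1) ((a - 1) (-(a (a (x : M))))) = (3 : ℤ_[3]) • (x : M)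
    rw [sq_apply_three, map_neg, map_neg, nrm_apply_apply a ha, nrm_apply_apply a ha, hx, hcube]
    simp

theorem card_torsion_three (a : Module.End ℤ_[3] M) (ha : a ^ 3 = 1) (B : Module.End ℤ_[3] M)
    (hB : (a - 1) ^ 2 = (3 : ℤ_[3]) • B) :
    ∃ r : ℕ, r * 2 = Module.finrank ℤ_[3] M - Module.finrank ℤ_[3] (LinearMap.ker (a - 1)) ∧
      Nat.card (Submodule.torsion ℤ_[3] (M ⧸ LinearMap.range (a - 1))) = 3 ^ r := by
  have hdec := dec_three a ha B hB
  rw [card_torsion a ha hdec, ← finrank_kerN a hdec]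
  have h1 := index_range_sq (gL a ha).toAddMonoidHom (gL_injective a ha)
  have h2 : ((gL a ha).toAddMonoidHom.comp (gL a ha).toAddMonoidHom).range =
      (LinearMap.range ((gL a ha).comp (gL a ha))).toAddSubgroup := rfl
  have h3 : (gL a ha).toAddMonoidHom.range = (LinearMap.range (gL a ha)).toAddSubgroup := rfl
  rw [h2, h3, range_gL_sq_three a ha] at h1
  have h4 := index_smul_top (ℓ := 3) (kerN a)
  simp only [Nat.cast_ofNat] at h4
  rw [h4] at h1
  set d := (LinearMap.range (gL a ha)).toAddSubgroup.index with hd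
  set n := Module.finrank ℤ_[3] (kerN a) with hn
  have h5 : d ∣ 3 ^ n := ⟨d, by rw [h1, sq]⟩
  obtain ⟨r, -, hr⟩ := (Nat.dvd_prime_pow Nat.prime_three).mp h5
  refine ⟨r, ?_, hr⟩
  rw [hr, ← pow_mul] at h1
  exact (Nat.pow_right_injective (by norm_num : 2 ≤ 3) h1).symm

end three

end Groth.Agent.H75.PadicLattice
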