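import Mathlib

/-! Ternary quadratic forms: polynomial, function and matrix descriptions. -/

set_option autoImplicit false
universe u

namespace Groth.Agent.H75.PlaneConic

open MvPolynomial Matrix

variable {k : Type u} [Field k]

/-- the linear form `Σ a_i X_i` -/
noncomputable def lin (a : Fin 3 → k) : MvPolynomial (Fin 3) k := ∑ i : Fin 3, a i • X i

/-- the quadratic form polynomial `Σ Q_ij X_i X_j` -/
noncomputable def qf (Q : Matrix (Fin 3) (Fin 3) k) : MvPolynomial (Fin 3) k :=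
  ∑ i : Fin 3, ∑ j : Fin 3, Q i j • (X i * X j)

/-- the quadratic function `x ↦ Σ x_i Q_ij x_j` -/
def qv (Q : Matrix (Fin 3) (Fin 3) k) (x : Fin 3 → k) : k :=
  ∑ i : Fin 3, ∑ j : Fin 3, x i * Q i j * x j

theorem eval_lin (a u : Fin 3 → k) : eval u (lin a) = a ⬝ᵥ u := by
  simp [lin, dotProduct, smul_eval]

theorem eval_qf (Q : Matrix (Fin 3) (Fin 3) k) (u : Fin 3 → k) : eval u (qf Q) = qv Q u := by
  simp only [qf, qv, map_sum, smul_eval, map_mul, eval_X]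
  apply Finset.sum_congr rfl
  intro i _
  apply Finset.sum_congr rfl
  intro j _
  ring

theorem lin_isHomogeneous (a : Fin 3 → k) : (lin a).IsHomogeneous 1 := by
  apply IsHomogeneous.sum
  intro i _
  rw [MvPolynomial.smul_eq_C_mul]
  exact isHomogeneous_C_mul_X _ _

theorem qf_isHomogeneous (Q : Matrix (Fin 3) (Fin 3) k) : (qf Q).IsHomogeneous 2 := by
  apply IsHomogeneous.sum
  intro i _
  apply IsHomogeneous.sum
  intro j _
  rw [MvPolynomial.smul_eq_C_mul]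
  have := (isHomogeneous_C (σ := Fin 3) (Q i j)).mul ((isHomogeneous_X k i).mul (isHomogeneous_X k j))
  simpa using this

theorem exists_lin_of_isHomogeneous (g : MvPolynomial (Fin 3) k) (hg : g.IsHomogeneous 1) :
    ∃ a : Fin 3 → k, g = lin a := by
  have h1 : g ∈ homogeneousSubmodule (Fin 3) k 1 := hg
  rw [homogeneousSubmodule_one_eq_span_X, Submodule.mem_span_range_iff_exists_fun] at h1
  obtain ⟨c, hc⟩ := h1
  exact ⟨c, hc.symm⟩

section Inf

variable [Infinite k]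

theorem qf_eq_lin_mul_lin_iff (Q : Matrix (Fin 3) (Fin 3) k) (a b : Fin 3 → k) :
    qf Q = lin a * lin b ↔ ∀ u, qv Q u = (a ⬝ᵥ u) * (b ⬝ᵥ u) := by
  constructor
  · intro h u
    rw [← eval_qf, h, map_mul, eval_lin, eval_lin]
  · intro h
    apply MvPolynomial.funext
    intro u
    rw [eval_qf, map_mul, eval_lin, eval_lin, h]

end Inf

/-- polarization -/
theorem qv_eq_iff (h2 : (2 : k) ≠ 0) (Q : Matrix (Fin 3) (Fin 3) k) (hQ : Q.IsSymm)
    (a b : Fin 3 → k) :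
    (∀ u, qv Q u = (a ⬝ᵥ u) * (b ⬝ᵥ u)) ↔ ∀ i j, 2 * Q i j = a i * b j + b i * a j := by
  have s01 : Q 1 0 = Q 0 1 := hQ.apply 0 1
  have s02 : Q 2 0 = Q 0 2 := hQ.apply 0 2
  have s12 : Q 2 1 = Q 1 2 := hQ.apply 1 2
  constructor
  · intro h
    have h0 := h ![1, 0, 0]
    have h1 := h ![0, 1, 0]
    have h2' := h ![0, 0, 1]
    have h01 := h ![1, 1, 0]
    have h02 := h ![1, 0, 1]
    have h12 := h ![0, 1, 1]
    simp only [qv, dotProduct, Fin.sum_univ_three, Matrix.cons_val_zero, Matrix.cons_val_one,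
      Matrix.cons_val_two, Matrix.head_cons, Matrix.tail_cons, mul_one, one_mul, mul_zero,
      zero_mul, add_zero, zero_add] at h0 h1 h2' h01 h02 h12
    intro i j
    fin_cases i <;> fin_cases j <;> simp only [Fin.zero_eta, Fin.mk_one, Fin.reduceFinMk]
    · linear_combination 2 * h0
    · linear_combination h01 - h0 - h1 - s01
    · linear_combination h02 - h0 - h2' - s02
    · linear_combination h01 - h0 - h1 + s01
    · linear_combination 2 * h1
    · linear_combination h12 - h1 - h2' - s12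
    · linear_combination h02 - h0 - h2' + s02
    · linear_combination h12 - h1 - h2' + s12
    · linear_combination 2 * h2'
  · intro h u
    apply mul_left_cancel₀ h2
    simp only [qv, dotProduct, Fin.sum_univ_three]
    linear_combination u 0 * u 0 * h 0 0 + u 0 * u 1 * h 0 1 + u 0 * u 2 * h 0 2 +
      u 1 * u 0 * h 1 0 + u 1 * u 1 * h 1 1 + u 1 * u 2 * h 1 2 +
      u 2 * u 0 * h 2 0 + u 2 * u 1 * h 2 1 + u 2 * u 2 * h 2 2

theorem det_eq_zero_of_eq (h2 : (2 : k) ≠ 0) (Q : Matrix (Fin 3) (Fin 3) k) (a b : Fin 3 → k)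
    (h : ∀ i j, 2 * Q i j = a i * b j + b i * a j) : Q.det = 0 := by
  have h8 : (8 : k) ≠ 0 := by
    have : (8 : k) = 2 * 2 * 2 := by norm_num
    rw [this]
    exact mul_ne_zero (mul_ne_zero h2 h2) h2
  apply mul_left_cancel₀ h8
  rw [Matrix.det_fin_three, mul_zero]
  linear_combination
    (2 * Q 1 1 * (2 * Q 2 2) - 2 * Q 1 2 * (2 * Q 2 1)) * h 0 0 +
    (a 0 * b 0 + b 0 * a 0) * (2 * Q 2 2) * h 1 1 +
    (a 0 * b 0 + b 0 * a 0) * (a 1 * b 1 + b 1 * a 1) * h 2 2 -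
    (a 0 * b 0 + b 0 * a 0) * (2 * Q 2 1) * h 1 2 -
    (a 0 * b 0 + b 0 * a 0) * (a 1 * b 2 + b 1 * a 2) * h 2 1 -
    (2 * Q 1 0 * (2 * Q 2 2) - 2 * Q 1 2 * (2 * Q 2 0)) * h 0 1 -
    (a 0 * b 1 + b 0 * a 1) * (2 * Q 2 2) * h 1 0 -
    (a 0 * b 1 + b 0 * a 1) * (a 1 * b 0 + b 1 * a 0) * h 2 2 +
    (a 0 * b 1 + b 0 * a 1) * (2 * Q 2 0) * h 1 2 +
    (a 0 * b 1 + b 0 * a 1) * (a 1 * b 2 + b 1 * a 2) * h 2 0 +
    (2 * Q 1 0 * (2 * Q 2 1) - 2 * Q 1 1 * (2 * Q 2 0)) * h 0 2 +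
    (a 0 * b 2 + b 0 * a 2) * (2 * Q 2 1) * h 1 0 +
    (a 0 * b 2 + b 0 * a 2) * (a 1 * b 0 + b 1 * a 0) * h 2 1 -
    (a 0 * b 2 + b 0 * a 2) * (2 * Q 2 0) * h 1 1 -
    (a 0 * b 2 + b 0 * a 2) * (a 1 * b 1 + b 1 * a 1) * h 2 0

end Groth.Agent.H75.PlaneConic
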