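import Mathlib
import Groth.Agent.H75.PlaneConicA

/-! A degenerate ternary quadratic form over an algebraically closed field is a product of
two linear forms. -/

set_option autoImplicit false
set_option maxHeartbeats 1000000
universe u

namespace Groth.Agent.H75.PlaneConic

open MvPolynomial Matrix

variable {k : Type u} [Field k]

theorem qv_shift (Q : Matrix (Fin 3) (Fin 3) k) (hQ : Q.IsSymm) (u x : Fin 3 → k)
    (hu : Q *ᵥ u = 0) : qv Q (x + u) = qv Q x := by
  have s01 : Q 1 0 = Q 0 1 := hQ.apply 0 1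
  have s02 : Q 2 0 = Q 0 2 := hQ.apply 0 2
  have s12 : Q 2 1 = Q 1 2 := hQ.apply 1 2
  have e0 := congrFun hu 0
  have e1 := congrFun hu 1
  have e2 := congrFun hu 2
  simp only [mulVec, dotProduct, Fin.sum_univ_three, Pi.zero_apply] at e0 e1 e2
  simp only [qv, Fin.sum_univ_three, Pi.add_apply]
  rw [s01, s02, s12] at *
  linear_combination (2 * x 0 + u 0) * e0 + (2 * x 1 + u 1) * e1 + (2 * x 2 + u 2) * e2

theorem exists_factor [IsAlgClosed k] (h2 : (2 : k) ≠ 0) (Q : Matrix (Fin 3) (Fin 3) k)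
    (hQ : Q.IsSymm) (hdet : Q.det = 0) :
    ∃ a b : Fin 3 → k, ∀ u, qv Q u = (a ⬝ᵥ u) * (b ⬝ᵥ u) := by
  classical
  haveI : Invertible (2 : k) := invertibleOfNonzero h2
  have hqv : ∀ x, Q.toQuadraticForm' x = qv Q x := by
    intro x
    rw [Matrix.toQuadraticForm', LinearMap.BilinMap.toQuadraticMap_apply,
      Matrix.toLinearMap₂'_apply]
    simp only [qv, smul_eq_mul]
    apply Finset.sum_congr rfl
    intro i _
    apply Finset.sum_congr rfl
    intro j _
    ring
  obtain ⟨w, ⟨e⟩⟩ := (Q.toQuadraticForm').equivalent_weightedSumSquares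
  have hn : Module.finrank k (Fin 3 → k) = 3 := Module.finrank_fin_fun k
  have hS : ∀ x, ∑ i, w i * (e x i * e x i) = qv Q x := by
    intro x
    have := e.map_app x
    rw [QuadraticMap.weightedSumSquares_apply, hqv] at this
    simpa [smul_eq_mul] using this
  obtain ⟨u₀, hu₀, hQu₀⟩ := Matrix.exists_mulVec_eq_zero_iff.mpr hdet
  set y₀ := e u₀ with hy₀
  have hy₀ne : y₀ ≠ 0 := by
    intro h
    apply hu₀
    have : e u₀ = e 0 := by rw [← hy₀, h, map_zero]
    exact e.toLinearEquiv.injective this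
  have hS' : ∀ y : Fin (Module.finrank k (Fin 3 → k)) → k,
      ∑ i, w i * ((y + y₀) i * (y + y₀) i) = ∑ i, w i * (y i * y i) := by
    intro y
    obtain ⟨x, rfl⟩ := e.toLinearEquiv.surjective y
    have h1 : e.toLinearEquiv x + y₀ = e (x + u₀) := by
      rw [hy₀, map_add]
      rfl
    rw [h1]
    have h3 := hS (x + u₀)
    have h4 := hS x
    rw [qv_shift Q hQ u₀ x hQu₀] at h3
    rw [h3]
    exact h4.symm
  have hA : ∑ i, w i * (y₀ i * y₀ i) = 0 := by
    have := hS' 0
    simpa using this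
  have hB : ∀ y : Fin (Module.finrank k (Fin 3 → k)) → k, ∑ i, w i * (y i * y₀ i) = 0 := by
    intro y
    have h1 := hS' y
    have h3 : ∑ i, w i * ((y + y₀) i * (y + y₀) i) =
        ∑ i, w i * (y i * y i) + 2 * ∑ i, w i * (y i * y₀ i) + ∑ i, w i * (y₀ i * y₀ i) := by
      rw [Finset.mul_sum, ← Finset.sum_add_distrib, ← Finset.sum_add_distrib]
      apply Finset.sum_congr rfl
      intro i _
      rw [Pi.add_apply]
      ring
    rw [h3, hA, add_zero] at h1
    have h4 : 2 * ∑ i, w i * (y i * y₀ i) = 0 := by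
      linear_combination h1
    rcases mul_eq_zero.mp h4 with h | h
    · exact absurd h h2
    · exact h
  have hwy : ∀ j, w j * y₀ j = 0 := by
    intro j
    have := hB (Pi.single j 1)
    rw [Finset.sum_eq_single j] at this
    · simpa using this
    · intro i _ hij
      rw [Pi.single_eq_of_ne hij, zero_mul, mul_zero]
    · intro h
      exact absurd (Finset.mem_univ j) h
  obtain ⟨i₀, hi₀⟩ : ∃ j, y₀ j ≠ 0 := by
    by_contra hcon
    push Not at hcon
    exact hy₀ne (funext hcon)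
  have hw0 : w i₀ = 0 := by
    rcases mul_eq_zero.mp (hwy i₀) with h | h
    · exact h
    · exact absurd h hi₀
  have hcard : (Finset.univ.erase i₀).card = 2 := by
    rw [Finset.card_erase_of_mem (Finset.mem_univ _), Finset.card_univ, Fintype.card_fin, hn]
  obtain ⟨i₁, i₂, hne, hpair⟩ := Finset.card_eq_two.mp hcard
  have hsum : ∀ y : Fin (Module.finrank k (Fin 3 → k)) → k,
      ∑ i, w i * (y i * y i) = w i₁ * (y i₁ * y i₁) + w i₂ * (y i₂ * y i₂) := by
    intro y
    rw [← Finset.add_sum_erase _ _ (Finset.mem_univ i₀), hw0, zero_mul, zero_add, hpair,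
      Finset.sum_pair hne]
  obtain ⟨s₁, hs₁⟩ := IsAlgClosed.exists_eq_mul_self (w i₁)
  obtain ⟨s₂, hs₂⟩ := IsAlgClosed.exists_eq_mul_self (w i₂)
  obtain ⟨ι, hι⟩ := IsAlgClosed.exists_eq_mul_self (-1 : k)
  -- the linear functionals
  set c : Fin (Module.finrank k (Fin 3 → k)) → Fin 3 → k :=
    fun j m => e (fun j' => if m = j' then 1 else 0) j with hc
  have hy : ∀ (x : Fin 3 → k) (j : Fin (Module.finrank k (Fin 3 → k))), e x j = c j ⬝ᵥ x := by
    intro x j
    have h1 := LinearMap.pi_apply_eq_sum_univ (e.toLinearEquiv.toLinearMap) x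
    have h3 := congrFun h1 j
    rw [Finset.sum_apply] at h3
    change e x j = _ at h3
    rw [h3, dotProduct]
    apply Finset.sum_congr rfl
    intro m _
    rw [Pi.smul_apply, smul_eq_mul, mul_comm]
    rfl
  refine ⟨fun m => s₁ * c i₁ m + ι * s₂ * c i₂ m, fun m => s₁ * c i₁ m - ι * s₂ * c i₂ m, ?_⟩
  intro u
  have ha : (fun m => s₁ * c i₁ m + ι * s₂ * c i₂ m) ⬝ᵥ u =
      s₁ * (c i₁ ⬝ᵥ u) + ι * s₂ * (c i₂ ⬝ᵥ u) := by
    simp only [dotProduct, Finset.mul_sum, ← Finset.sum_add_distrib]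
    apply Finset.sum_congr rfl
    intro m _
    ring
  have hb : (fun m => s₁ * c i₁ m - ι * s₂ * c i₂ m) ⬝ᵥ u =
      s₁ * (c i₁ ⬝ᵥ u) - ι * s₂ * (c i₂ ⬝ᵥ u) := by
    simp only [dotProduct, Finset.mul_sum, ← Finset.sum_sub_distrib]
    apply Finset.sum_congr rfl
    intro m _
    ring
  rw [ha, hb, ← hS u, hsum, hy u i₁, hy u i₂, hs₁, hs₂]
  linear_combination (-(s₂ * s₂ * (c i₂ ⬝ᵥ u) * (c i₂ ⬝ᵥ u))) * hι

end Groth.Agent.H75.PlaneConic
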