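import Mathlib
import Groth.Agent.H75.PlaneConicB

/-! Plane conics: irreducibility, singular points, and factor shapes versus the rank of the
symmetric matrix. -/

set_option autoImplicit false
set_option maxHeartbeats 1000000
universe u

namespace Groth.Agent.H75.PlaneConic

open MvPolynomial Matrix

variable {k : Type u} [Field k]

theorem not_isUnit_of_totalDegree {g : MvPolynomial (Fin 3) k} (hg : g.totalDegree ≠ 0) :
    ¬ IsUnit g := by
  intro hu
  exact hg (MvPolynomial.isUnit_iff_totalDegree_of_isReduced.mp hu).2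

theorem totalDegree_ne_zero_of_not_isUnit {g : MvPolynomial (Fin 3) k} (hg0 : g ≠ 0)
    (hg : ¬ IsUnit g) : g.totalDegree ≠ 0 := by
  intro h
  apply hg
  rw [totalDegree_eq_zero_iff_eq_C] at h
  rw [h]
  apply IsUnit.map
  rw [isUnit_iff_ne_zero]
  intro h0
  apply hg0
  rw [h, h0, map_zero]

/-- a reducible quadratic form is a product of two linear forms -/
theorem exists_lin_factor (f : MvPolynomial (Fin 3) k) (hf : f.IsHomogeneous 2) (hf0 : f ≠ 0)
    (g h : MvPolynomial (Fin 3) k) (hfgh : f = g * h) (hg : ¬ IsUnit g) (hh : ¬ IsUnit h) :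
    ∃ a b : Fin 3 → k, f = lin a * lin b := by
  have hg0 : g ≠ 0 := by
    rintro rfl
    rw [zero_mul] at hfgh
    exact hf0 hfgh
  have hh0 : h ≠ 0 := by
    rintro rfl
    rw [mul_zero] at hfgh
    exact hf0 hfgh
  have hdeg : g.totalDegree + h.totalDegree = 2 := by
    rw [← totalDegree_mul_of_isDomain hg0 hh0, ← hfgh]
    exact hf.totalDegree hf0
  have hdg := totalDegree_ne_zero_of_not_isUnit hg0 hg
  have hdh := totalDegree_ne_zero_of_not_isUnit hh0 hh
  have hg1 : g.totalDegree = 1 := by omega
  have hh1 : h.totalDegree = 1 := by omega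
  have hgs : g = homogeneousComponent 0 g + homogeneousComponent 1 g := by
    have := sum_homogeneousComponent g
    rw [hg1, Finset.sum_range_succ, Finset.sum_range_one] at this
    exact this.symm
  have hhs : h = homogeneousComponent 0 h + homogeneousComponent 1 h := by
    have := sum_homogeneousComponent h
    rw [hh1, Finset.sum_range_succ, Finset.sum_range_one] at this
    exact this.symm
  have G0 : (homogeneousComponent 0 g).IsHomogeneous 0 := homogeneousComponent_isHomogeneous 0 g
  have G1 : (homogeneousComponent 1 g).IsHomogeneous 1 := homogeneousComponent_isHomogeneous 1 g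
  have H0 : (homogeneousComponent 0 h).IsHomogeneous 0 := homogeneousComponent_isHomogeneous 0 h
  have H1 : (homogeneousComponent 1 h).IsHomogeneous 1 := homogeneousComponent_isHomogeneous 1 h
  have key : f = homogeneousComponent 1 g * homogeneousComponent 1 h := by
    have h1 : homogeneousComponent 2 f = f := homogeneousComponent_eq_self hf
    have h2 : f = homogeneousComponent 0 g * homogeneousComponent 0 h +
        homogeneousComponent 0 g * homogeneousComponent 1 h +
        homogeneousComponent 1 g * homogeneousComponent 0 h +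
        homogeneousComponent 1 g * homogeneousComponent 1 h := by
      conv_lhs => rw [hfgh, hgs, hhs]
      ring
    conv_lhs => rw [← h1, h2]
    rw [map_add, map_add, map_add, homogeneousComponent_of_mem (G0.mul H0),
      homogeneousComponent_of_mem (G0.mul H1), homogeneousComponent_of_mem (G1.mul H0),
      homogeneousComponent_of_mem (G1.mul H1)]
    simp
  obtain ⟨a, ha⟩ := exists_lin_of_isHomogeneous _ G1
  obtain ⟨b, hb⟩ := exists_lin_of_isHomogeneous _ H1
  exact ⟨a, b, by rw [key, ha, hb]⟩

theorem lin_ne_zero_not_isUnit (a : Fin 3 → k) (ha : lin a ≠ 0) : ¬ IsUnit (lin a) := by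
  apply not_isUnit_of_totalDegree
  rw [(lin_isHomogeneous a).totalDegree ha]
  exact one_ne_zero

section Main

variable [IsAlgClosed k] [CharZero k]

theorem two_ne_zero' : (2 : k) ≠ 0 := two_ne_zero

theorem qf_ne_zero (Q : Matrix (Fin 3) (Fin 3) k) (hQ : Q.IsSymm) (hQ0 : Q ≠ 0) : qf Q ≠ 0 := by
  intro h
  apply hQ0
  have h1 : ∀ u, qv Q u = ((0 : Fin 3 → k) ⬝ᵥ u) * ((0 : Fin 3 → k) ⬝ᵥ u) := by
    intro u
    rw [← eval_qf, h, map_zero, zero_dotProduct, zero_mul]
  have h2 := (qv_eq_iff two_ne_zero' Q hQ 0 0).mp h1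
  ext i j
  have := h2 i j
  simp only [Pi.zero_apply, mul_zero, add_zero] at this
  rcases mul_eq_zero.mp this with h | h
  · exact absurd h two_ne_zero
  · exact h

/-- part (1) -/
theorem irreducible_iff (Q : Matrix (Fin 3) (Fin 3) k) (hQ : Q.IsSymm) (hQ0 : Q ≠ 0) :
    Irreducible (qf Q) ↔ Q.det ≠ 0 := by
  have hf0 := qf_ne_zero Q hQ hQ0
  constructor
  · intro hirr hdet
    obtain ⟨a, b, hab⟩ := exists_factor two_ne_zero' Q hQ hdet
    have hfac := (qf_eq_lin_mul_lin_iff Q a b).mpr hab
    have ha0 : lin a ≠ 0 := by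
      intro h
      rw [h, zero_mul] at hfac
      exact hf0 hfac
    have hb0 : lin b ≠ 0 := by
      intro h
      rw [h, mul_zero] at hfac
      exact hf0 hfac
    rcases hirr.isUnit_or_isUnit hfac with h | h
    · exact lin_ne_zero_not_isUnit a ha0 h
    · exact lin_ne_zero_not_isUnit b hb0 h
  · intro hdet
    refine ⟨?_, ?_⟩
    · apply not_isUnit_of_totalDegree
      rw [(qf_isHomogeneous Q).totalDegree hf0]
      norm_num
    · intro g h hgh
      by_contra hcon
      rw [not_or] at hcon
      obtain ⟨a, b, hab⟩ := exists_lin_factor (qf Q) (qf_isHomogeneous Q) hf0 g h hgh hcon.1 hcon.2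
      have h1 := (qf_eq_lin_mul_lin_iff Q a b).mp hab
      have h2 := (qv_eq_iff two_ne_zero' Q hQ a b).mp h1
      exact hdet (det_eq_zero_of_eq two_ne_zero' Q a b h2)

/-- evaluation of the partial derivatives -/
theorem eval_pderiv (Q : Matrix (Fin 3) (Fin 3) k) (hQ : Q.IsSymm) (u : Fin 3 → k) (i : Fin 3) :
    eval u (pderiv i (qf Q)) = 2 * (Q *ᵥ u) i := by
  have s01 : Q 1 0 = Q 0 1 := hQ.apply 0 1
  have s02 : Q 2 0 = Q 0 2 := hQ.apply 0 2
  have s12 : Q 2 1 = Q 1 2 := hQ.apply 1 2
  fin_cases i <;>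
  · simp only [qf, Fin.sum_univ_three, map_add, Derivation.map_smul, Derivation.leibniz,
      pderiv_X, Pi.single_apply, smul_eval, mulVec, dotProduct, smul_eq_mul,
      Fin.zero_eta, Fin.mk_one, Fin.reduceFinMk, Fin.isValue]
    simp
    try simp only [s01, s02, s12]
    ring

/-- part (2) -/
theorem singular_iff (Q : Matrix (Fin 3) (Fin 3) k) (hQ : Q.IsSymm) :
    (∃ u : Fin 3 → k, u ≠ 0 ∧ ∀ i : Fin 3, eval u (pderiv i (qf Q)) = 0) ↔ Q.det = 0 := by
  rw [← Matrix.exists_mulVec_eq_zero_iff]
  constructor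
  · rintro ⟨u, hu, h⟩
    refine ⟨u, hu, ?_⟩
    funext i
    have := h i
    rw [eval_pderiv Q hQ] at this
    rcases mul_eq_zero.mp this with h' | h'
    · exact absurd h' two_ne_zero
    · exact h'
  · rintro ⟨u, hu, h⟩
    refine ⟨u, hu, ?_⟩
    intro i
    rw [eval_pderiv Q hQ, h, Pi.zero_apply, mul_zero]

end Main

end Groth.Agent.H75.PlaneConic
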