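import Mathlib
import Groth.Agent.H75.PlaneConicC

/-! Rank of a ternary quadratic form that is a product of two linear forms. -/

set_option autoImplicit false
set_option maxHeartbeats 1000000
universe u

namespace Groth.Agent.H75.PlaneConic

open MvPolynomial Matrix

variable {k : Type u} [Field k]

theorem two_smul_mulVec (Q : Matrix (Fin 3) (Fin 3) k) (a b : Fin 3 → k)
    (h : ∀ i j, 2 * Q i j = a i * b j + b i * a j) (u : Fin 3 → k) :
    (2 : k) • (Q *ᵥ u) = (b ⬝ᵥ u) • a + (a ⬝ᵥ u) • b := by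
  funext i
  simp only [mulVec, dotProduct, Fin.sum_univ_three, Pi.smul_apply, Pi.add_apply, smul_eq_mul]
  linear_combination u 0 * h i 0 + u 1 * h i 1 + u 2 * h i 2

/-- two distinct lines have rank two -/
theorem rank_eq_two (h2 : (2 : k) ≠ 0) (Q : Matrix (Fin 3) (Fin 3) k) (a b : Fin 3 → k)
    (hab : LinearIndependent k ![a, b])
    (h : ∀ i j, 2 * Q i j = a i * b j + b i * a j) : Q.rank = 2 := by
  have hmul := two_smul_mulVec Q a b h
  have hc : a ⨯₃ b ≠ 0 := crossProduct_ne_zero_iff_linearIndependent.mpr hab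
  have hker : LinearMap.ker Q.mulVecLin = Submodule.span k {a ⨯₃ b} := by
    ext u
    rw [LinearMap.mem_ker, Matrix.mulVecLin_apply, Submodule.mem_span_singleton]
    constructor
    · intro hu
      have h0 := hmul u
      rw [hu, smul_zero] at h0
      obtain ⟨hbu, hau⟩ := LinearIndependent.pair_iff.mp hab (b ⬝ᵥ u) (a ⬝ᵥ u) h0.symm
      have hcu : (a ⨯₃ b) ⨯₃ u = 0 := by
        rw [cross_cross_eq_smul_sub_smul, hau, hbu, zero_smul, zero_smul, sub_zero]
      by_contra hne
      have hli : LinearIndependent k ![a ⨯₃ b, u] := by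
        rw [LinearIndependent.pair_iff' hc]
        intro t ht
        exact hne ⟨t, ht⟩
      exact (crossProduct_ne_zero_iff_linearIndependent.mpr hli) hcu
    · rintro ⟨t, rfl⟩
      have h0 := hmul (t • (a ⨯₃ b))
      rw [dotProduct_smul, dotProduct_smul, dot_self_cross, dot_cross_self, smul_zero, zero_smul,
        zero_smul, add_zero] at h0
      exact (smul_eq_zero.mp h0).resolve_left h2
  have hrn := LinearMap.finrank_range_add_finrank_ker Q.mulVecLin
  rw [hker, finrank_span_singleton hc, Module.finrank_fin_fun] at hrn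
  unfold Matrix.rank
  omega

/-- a nonzero square of a linear form has rank one -/
theorem rank_eq_one (Q : Matrix (Fin 3) (Fin 3) k) (hQ0 : Q ≠ 0) (a : Fin 3 → k)
    (h : ∀ i j, Q i j = a i * a j) : Q.rank = 1 := by
  have hQ : Q = vecMulVec a a := by
    ext i j
    rw [h i j, vecMulVec_apply]
  have hle : Q.rank ≤ 1 := by
    rw [hQ]
    exact rank_vecMulVec_le a a
  have hne : Q.rank ≠ 0 := by
    intro h0
    apply hQ0
    have hr : LinearMap.range Q.mulVecLin = ⊥ := by
      apply Submodule.finrank_eq_zero.mp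
      exact h0
    have hz : Q.mulVecLin = 0 := LinearMap.range_eq_bot.mp hr
    ext i j
    have := congrFun (LinearMap.congr_fun hz (Pi.single j 1)) i
    simpa using this
  omega

/-- dependent linear forms multiply to a square (over an algebraically closed field) -/
theorem exists_sq_of_dependent [IsAlgClosed k] (a b : Fin 3 → k)
    (hab : ¬ LinearIndependent k ![a, b]) :
    ∃ c : Fin 3 → k, ∀ i j, a i * b j + b i * a j = 2 * (c i * c j) := by
  by_cases ha : a = 0
  · refine ⟨0, ?_⟩
    intro i j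
    simp [ha]
  · rw [LinearIndependent.pair_iff' ha, not_forall_not] at hab
    obtain ⟨t, rfl⟩ := hab
    obtain ⟨s, hs⟩ := IsAlgClosed.exists_eq_mul_self t
    refine ⟨s • a, ?_⟩
    intro i j
    simp only [Pi.smul_apply, smul_eq_mul]
    rw [hs]
    ring

section Main

variable [IsAlgClosed k] [CharZero k]

theorem det_eq_zero_of_rank_lt (Q : Matrix (Fin 3) (Fin 3) k) (h : Q.rank < 3) : Q.det = 0 := by
  by_contra hdet
  have := Matrix.rank_of_det_ne_zero (A := Q) hdet
  rw [Fintype.card_fin] at this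
  omega

theorem two_lines_iff (Q : Matrix (Fin 3) (Fin 3) k) (hQ : Q.IsSymm) (hQ0 : Q ≠ 0) :
    (∃ a b : Fin 3 → k, LinearIndependent k ![a, b] ∧ qf Q = lin a * lin b) ↔ Q.rank = 2 := by
  have h2 : (2 : k) ≠ 0 := two_ne_zero'
  constructor
  · rintro ⟨a, b, hab, hf⟩
    have h1 := (qv_eq_iff h2 Q hQ a b).mp ((qf_eq_lin_mul_lin_iff Q a b).mp hf)
    exact rank_eq_two h2 Q a b hab h1
  · intro hr
    have hdet : Q.det = 0 := det_eq_zero_of_rank_lt Q (by omega)
    obtain ⟨a, b, hab⟩ := exists_factor h2 Q hQ hdet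
    have h1 := (qv_eq_iff h2 Q hQ a b).mp hab
    refine ⟨a, b, ?_, (qf_eq_lin_mul_lin_iff Q a b).mpr hab⟩
    by_contra hdep
    obtain ⟨c, hc⟩ := exists_sq_of_dependent a b hdep
    have hQc : ∀ i j, Q i j = c i * c j := by
      intro i j
      apply mul_left_cancel₀ h2
      rw [h1 i j, hc i j]
    have := rank_eq_one Q hQ0 c hQc
    omega

theorem double_line_iff (Q : Matrix (Fin 3) (Fin 3) k) (hQ : Q.IsSymm) (hQ0 : Q ≠ 0) :
    (∃ a : Fin 3 → k, qf Q = lin a ^ 2) ↔ Q.rank = 1 := by
  have h2 : (2 : k) ≠ 0 := two_ne_zero'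
  constructor
  · rintro ⟨a, hf⟩
    rw [pow_two] at hf
    have h1 := (qv_eq_iff h2 Q hQ a a).mp ((qf_eq_lin_mul_lin_iff Q a a).mp hf)
    apply rank_eq_one Q hQ0 a
    intro i j
    apply mul_left_cancel₀ h2
    rw [h1 i j]
    ring
  · intro hr
    have hdet : Q.det = 0 := det_eq_zero_of_rank_lt Q (by omega)
    obtain ⟨a, b, hab⟩ := exists_factor h2 Q hQ hdet
    have h1 := (qv_eq_iff h2 Q hQ a b).mp hab
    have hdep : ¬ LinearIndependent k ![a, b] := by
      intro hli
      have := rank_eq_two h2 Q a b hli h1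
      omega
    obtain ⟨c, hc⟩ := exists_sq_of_dependent a b hdep
    refine ⟨c, ?_⟩
    rw [pow_two]
    apply (qf_eq_lin_mul_lin_iff Q c c).mpr
    apply (qv_eq_iff h2 Q hQ c c).mpr
    intro i j
    rw [h1 i j, hc i j]
    ring

end Main

end Groth.Agent.H75.PlaneConic
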