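import Mathlib
import Groth.Agent.H75.PlaneConicA

/-! Determinants of 2 x 2 matrices of ternary linear forms. -/

set_option autoImplicit false
set_option maxHeartbeats 1000000
universe u

namespace Groth.Agent.H75.PlaneConic

open MvPolynomial Matrix

variable {k : Type u} [Field k]

/-- a pencil of 2x2 matrices over an algebraically closed field has a singular member -/
theorem exists_singular_pencil [IsAlgClosed k] (A B : Matrix (Fin 2) (Fin 2) k) :
    ∃ s t : k, (s ≠ 0 ∨ t ≠ 0) ∧ (s • A + t • B).det = 0 := by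
  by_cases hB : B.det = 0
  · exact ⟨0, 1, Or.inr one_ne_zero, by simpa using hB⟩
  · set p : Polynomial k := Polynomial.C B.det * Polynomial.X ^ 2 +
        Polynomial.C (A 0 0 * B 1 1 + B 0 0 * A 1 1 - A 0 1 * B 1 0 - B 0 1 * A 1 0) *
          Polynomial.X + Polynomial.C A.det with hp
    have hdeg : p.degree = 2 := Polynomial.degree_quadratic hB
    obtain ⟨t, ht⟩ := IsAlgClosed.exists_root p (by rw [hdeg]; norm_num)
    refine ⟨1, t, Or.inl one_ne_zero, ?_⟩
    rw [Polynomial.IsRoot.def, hp] at ht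
    simp only [Polynomial.eval_add, Polynomial.eval_mul, Polynomial.eval_C, Polynomial.eval_pow,
      Polynomial.eval_X, Matrix.det_fin_two] at ht
    rw [Matrix.det_fin_two]
    simp only [one_smul, Matrix.add_apply, Matrix.smul_apply, smul_eq_mul]
    linear_combination ht

theorem exists_common_isotropic [IsAlgClosed k] (A B : Matrix (Fin 2) (Fin 2) k) :
    ∃ r c : Fin 2 → k, r ≠ 0 ∧ c ≠ 0 ∧ (∑ a, ∑ b, r a * c b * A a b = 0) ∧
      (∑ a, ∑ b, r a * c b * B a b = 0) := by
  obtain ⟨s, t, hst, hdet⟩ := exists_singular_pencil A B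
  obtain ⟨c, hc, hDc⟩ := Matrix.exists_mulVec_eq_zero_iff.mpr hdet
  have h0 := congrFun hDc 0
  have h1 := congrFun hDc 1
  simp only [mulVec, dotProduct, Fin.sum_univ_two, Matrix.add_apply, Matrix.smul_apply,
    smul_eq_mul, Pi.zero_apply] at h0 h1
  set x0 := A 0 0 * c 0 + A 0 1 * c 1 with hx0
  set x1 := A 1 0 * c 0 + A 1 1 * c 1 with hx1
  set y0 := B 0 0 * c 0 + B 0 1 * c 1 with hy0
  set y1 := B 1 0 * c 0 + B 1 1 * c 1 with hy1
  have e0 : s * x0 + t * y0 = 0 := by rw [hx0, hy0]; linear_combination h0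
  have e1 : s * x1 + t * y1 = 0 := by rw [hx1, hy1]; linear_combination h1
  have hdep : x1 * y0 - x0 * y1 = 0 := by
    rcases hst with hs | ht
    · apply mul_left_cancel₀ hs
      linear_combination y0 * e1 - y1 * e0
    · apply mul_left_cancel₀ ht
      linear_combination x1 * e0 - x0 * e1
  have key : ∀ r : Fin 2 → k, r 0 * x0 + r 1 * x1 = 0 → r 0 * y0 + r 1 * y1 = 0 → r ≠ 0 →
      ∃ r c : Fin 2 → k, r ≠ 0 ∧ c ≠ 0 ∧ (∑ a, ∑ b, r a * c b * A a b = 0) ∧
      (∑ a, ∑ b, r a * c b * B a b = 0) := by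
    intro r hrx hry hr
    refine ⟨r, c, hr, hc, ?_, ?_⟩
    · simp only [Fin.sum_univ_two]
      rw [hx0, hx1] at hrx
      linear_combination hrx
    · simp only [Fin.sum_univ_two]
      rw [hy0, hy1] at hry
      linear_combination hry
  by_cases hx : x0 = 0 ∧ x1 = 0
  · by_cases hy : y0 = 0 ∧ y1 = 0
    · apply key ![1, 0]
      · simp [hx.1]
      · simp [hy.1]
      · intro h
        have := congrFun h 0
        simp at this
    · apply key ![y1, -y0]
      · simp [hx.1, hx.2]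
      · simp only [Matrix.cons_val_zero, Matrix.cons_val_one]
        ring
      · intro h
        apply hy
        have h0' := congrFun h 0
        have h1' := congrFun h 1
        simp at h0' h1'
        exact ⟨h1', h0'⟩
  · apply key ![x1, -x0]
    · simp only [Matrix.cons_val_zero, Matrix.cons_val_one]
      ring
    · simp only [Matrix.cons_val_zero, Matrix.cons_val_one]
      linear_combination hdep
    · intro h
      apply hx
      have h0' := congrFun h 0
      have h1' := congrFun h 1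
      simp at h0' h1'
      exact ⟨h1', h0'⟩

theorem exists_rank_one_factor (N : Fin 2 → Fin 2 → k) (hN : ∃ a b, N a b ≠ 0)
    (hdet : N 0 0 * N 1 1 = N 0 1 * N 1 0) :
    ∃ (r c : Fin 2 → k) (l : k), r ≠ 0 ∧ c ≠ 0 ∧ ∀ a b, r a * c b = l * N a b := by
  obtain ⟨a₀, b₀, h⟩ := hN
  refine ⟨fun a => N a b₀, fun b => N a₀ b, N a₀ b₀, ?_, ?_, ?_⟩
  · intro h0
    exact h (congrFun h0 a₀)
  · intro h0
    exact h (congrFun h0 b₀)
  · intro a b
    fin_cases a₀ <;> fin_cases b₀ <;> fin_cases a <;> fin_cases b <;>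
      simp only [Fin.zero_eta, Fin.mk_one, Fin.isValue] <;>
      first | ring1 | linear_combination hdet | linear_combination -hdet

theorem eq_zero_of_dot (v u : Fin 3 → k) (i : Fin 3) (hu : u i ≠ 0) (h0 : v ⬝ᵥ u = 0)
    (h1 : v (i + 1) = 0) (h2 : v (i + 2) = 0) : v = 0 := by
  have hi : v i = 0 := by
    have : v i * u i = 0 := by
      rw [dotProduct, Fin.sum_univ_three] at h0
      fin_cases i
      · simp only [Fin.zero_eta, Fin.isValue, zero_add] at h1 h2 ⊢
        rw [h1, h2] at h0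
        linear_combination h0
      · have e1 : (1 : Fin 3) + 1 = 2 := rfl
        have e2 : (1 : Fin 3) + 2 = 0 := rfl
        simp only [Fin.mk_one, Fin.isValue, e1, e2] at h1 h2 ⊢
        rw [h1, h2] at h0
        linear_combination h0
      · have e1 : (2 : Fin 3) + 1 = 0 := rfl
        have e2 : (2 : Fin 3) + 2 = 1 := rfl
        simp only [Fin.reduceFinMk, Fin.isValue, e1, e2] at h1 h2 ⊢
        rw [h1, h2] at h0
        linear_combination h0
    exact (mul_eq_zero.mp this).resolve_right hu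
  funext l
  have hall : ∀ i l : Fin 3, l = i ∨ l = i + 1 ∨ l = i + 2 := by decide
  have hl : l = i ∨ l = i + 1 ∨ l = i + 2 := hall i l
  rcases hl with rfl | rfl | rfl
  · exact hi
  · exact h1
  · exact h2

/-- if the determinant of a 2x2 matrix of linear forms splits, some bilinear combination of the
entries vanishes -/
theorem exists_rc [IsAlgClosed k] (h2 : (2 : k) ≠ 0) (m : Fin 2 → Fin 2 → Fin 3 → k)
    (a b : Fin 3 → k)
    (h : ∀ x : Fin 3 → k, (m 0 0 ⬝ᵥ x) * (m 1 1 ⬝ᵥ x) - (m 0 1 ⬝ᵥ x) * (m 1 0 ⬝ᵥ x) =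
      (a ⬝ᵥ x) * (b ⬝ᵥ x)) :
    ∃ r c : Fin 2 → k, r ≠ 0 ∧ c ≠ 0 ∧ ∀ l : Fin 3, ∑ i, ∑ j, r i * c j * m i j l = 0 := by
  set Q : Matrix (Fin 3) (Fin 3) k := Matrix.of fun i j =>
    (m 0 0 i * m 1 1 j + m 0 0 j * m 1 1 i - m 0 1 i * m 1 0 j - m 0 1 j * m 1 0 i) / 2 with hQdef
  have hQ : ∀ i j, 2 * Q i j =
      m 0 0 i * m 1 1 j + m 0 0 j * m 1 1 i - m 0 1 i * m 1 0 j - m 0 1 j * m 1 0 i := by
    intro i j
    rw [hQdef, Matrix.of_apply, mul_div_cancel₀ _ h2]
  have hQsymm : Q.IsSymm := by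
    apply Matrix.IsSymm.ext
    intro i j
    apply mul_left_cancel₀ h2
    rw [hQ, hQ]
    ring
  have hqv : ∀ x, qv Q x = (m 0 0 ⬝ᵥ x) * (m 1 1 ⬝ᵥ x) - (m 0 1 ⬝ᵥ x) * (m 1 0 ⬝ᵥ x) := by
    intro x
    apply mul_left_cancel₀ h2
    simp only [qv, dotProduct, Fin.sum_univ_three]
    linear_combination x 0 * x 0 * hQ 0 0 + x 0 * x 1 * hQ 0 1 + x 0 * x 2 * hQ 0 2 +
      x 1 * x 0 * hQ 1 0 + x 1 * x 1 * hQ 1 1 + x 1 * x 2 * hQ 1 2 +
      x 2 * x 0 * hQ 2 0 + x 2 * x 1 * hQ 2 1 + x 2 * x 2 * hQ 2 2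
  have hpol := (qv_eq_iff h2 Q hQsymm a b).mp (fun x => (hqv x).trans (h x))
  have hdet : Q.det = 0 := det_eq_zero_of_eq h2 Q a b hpol
  obtain ⟨u, hu, hQu⟩ := Matrix.exists_mulVec_eq_zero_iff.mpr hdet
  set P : Fin 2 → Fin 2 → k := fun i j => m i j ⬝ᵥ u with hP
  have hrow : ∀ l : Fin 3,
      P 1 1 * m 0 0 l + P 0 0 * m 1 1 l - P 1 0 * m 0 1 l - P 0 1 * m 1 0 l = 0 := by
    intro l
    have := congrFun hQu l
    simp only [mulVec, dotProduct, Fin.sum_univ_three, Pi.zero_apply] at this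
    simp only [hP, dotProduct, Fin.sum_univ_three]
    linear_combination 2 * this - u 0 * hQ l 0 - u 1 * hQ l 1 - u 2 * hQ l 2
  have hdetP : P 0 0 * P 1 1 - P 0 1 * P 1 0 = 0 := by
    apply mul_left_cancel₀ h2
    have e : ∀ i j, P i j = m i j 0 * u 0 + m i j 1 * u 1 + m i j 2 * u 2 := by
      intro i j
      simp only [hP, dotProduct, Fin.sum_univ_three]
    have e00 := e 0 0
    have e11 := e 1 1
    have e01 := e 0 1
    have e10 := e 1 0
    linear_combination u 0 * hrow 0 + u 1 * hrow 1 + u 2 * hrow 2 + P 1 1 * e00 + P 0 0 * e11 -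
      P 1 0 * e01 - P 0 1 * e10
  set N : Fin 2 → Fin 2 → k := ![![P 1 1, - P 1 0], ![- P 0 1, P 0 0]] with hN
  have hNrow : ∀ l : Fin 3, ∑ i, ∑ j, N i j * m i j l = 0 := by
    intro l
    simp only [Fin.sum_univ_two, hN, Matrix.cons_val_zero, Matrix.cons_val_one]
    linear_combination hrow l
  by_cases hN0 : ∃ i j, N i j ≠ 0
  · have hNdet : N 0 0 * N 1 1 = N 0 1 * N 1 0 := by
      simp only [hN, Matrix.cons_val_zero, Matrix.cons_val_one]
      linear_combination hdetP
    obtain ⟨r, c, t, hr, hc, hrc⟩ := exists_rank_one_factor N hN0 hNdet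
    refine ⟨r, c, hr, hc, ?_⟩
    intro l
    have := hNrow l
    simp only [Fin.sum_univ_two] at this ⊢
    rw [hrc, hrc, hrc, hrc]
    linear_combination t * this
  · rw [not_exists] at hN0
    have hN0' : ∀ i j, N i j = 0 := by
      intro i j
      by_contra hne
      exact hN0 i ⟨j, hne⟩
    have p11 : P 1 1 = 0 := by simpa [hN] using hN0' 0 0
    have p10 : P 1 0 = 0 := by simpa [hN] using hN0' 0 1
    have p01 : P 0 1 = 0 := by simpa [hN] using hN0' 1 0
    have p00 : P 0 0 = 0 := by simpa [hN] using hN0' 1 1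
    obtain ⟨i₀, hi₀⟩ := Function.ne_iff.mp hu
    rw [Pi.zero_apply] at hi₀
    obtain ⟨r, c, hr, hc, hA, hB⟩ := exists_common_isotropic
      (Matrix.of fun i j => m i j (i₀ + 1)) (Matrix.of fun i j => m i j (i₀ + 2))
    refine ⟨r, c, hr, hc, ?_⟩
    set v : Fin 3 → k := fun l => ∑ i, ∑ j, r i * c j * m i j l with hv
    have hv0 : v = 0 := by
      apply eq_zero_of_dot v u i₀ hi₀
      · simp only [hv, dotProduct, Fin.sum_univ_three, Fin.sum_univ_two]
        have e : ∀ i j, P i j = m i j 0 * u 0 + m i j 1 * u 1 + m i j 2 * u 2 := by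
          intro i j
          simp only [hP, dotProduct, Fin.sum_univ_three]
        have e00 := e 0 0
        have e11 := e 1 1
        have e01 := e 0 1
        have e10 := e 1 0
        rw [p00] at e00
        rw [p11] at e11
        rw [p01] at e01
        rw [p10] at e10
        linear_combination - r 0 * c 0 * e00 - r 0 * c 1 * e01 - r 1 * c 0 * e10 - r 1 * c 1 * e11
      · simpa [hv] using hA
      · simpa [hv] using hB
    intro l
    have := congrFun hv0 l
    simpa [hv] using this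

theorem exists_GL_row (r : Fin 2 → k) (hr : r ≠ 0) :
    ∃ g : GL (Fin 2) k, ∀ i, g.val 0 i = r i := by
  by_cases h0 : r 0 = 0
  · have h1 : r 1 ≠ 0 := by
      intro h1
      apply hr
      funext i
      fin_cases i
      · exact h0
      · exact h1
    refine ⟨Matrix.GeneralLinearGroup.mkOfDetNeZero !![r 0, r 1; 1, 0] ?_, ?_⟩
    · rw [Matrix.det_fin_two_of]
      simpa using h1
    · intro i
      fin_cases i <;> simp
  · refine ⟨Matrix.GeneralLinearGroup.mkOfDetNeZero !![r 0, r 1; 0, 1] ?_, ?_⟩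
    · rw [Matrix.det_fin_two_of]
      simpa using h0
    · intro i
      fin_cases i <;> simp

theorem exists_GL_col (c : Fin 2 → k) (hc : c ≠ 0) :
    ∃ g : GL (Fin 2) k, ∀ j, g.val j 1 = c j := by
  by_cases h0 : c 0 = 0
  · have h1 : c 1 ≠ 0 := by
      intro h1
      apply hc
      funext i
      fin_cases i
      · exact h0
      · exact h1
    refine ⟨Matrix.GeneralLinearGroup.mkOfDetNeZero !![1, c 0; 0, c 1] ?_, ?_⟩
    · rw [Matrix.det_fin_two_of]
      simpa using h1
    · intro i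
      fin_cases i <;> simp
  · refine ⟨Matrix.GeneralLinearGroup.mkOfDetNeZero !![0, c 0; 1, c 1] ?_, ?_⟩
    · rw [Matrix.det_fin_two_of]
      simpa using h0
    · intro i
      fin_cases i <;> simp

end Groth.Agent.H75.PlaneConic
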