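import Mathlib
import Groth.Agent.H75.PlaneConicE

/-! Determinants of 2 x 2 matrices of ternary linear forms: splitting criterion. -/

set_option autoImplicit false
set_option maxHeartbeats 1000000
universe u

namespace Groth.Agent.H75.PlaneConic

open MvPolynomial Matrix

variable {k : Type u} [Field k]

theorem conj_apply (g h : Matrix (Fin 2) (Fin 2) k)
    (M : Matrix (Fin 2) (Fin 2) (MvPolynomial (Fin 3) k)) (a b : Fin 2) :
    ((C : k →+* MvPolynomial (Fin 3) k).mapMatrix g * M *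
      (C : k →+* MvPolynomial (Fin 3) k).mapMatrix h) a b =
      ∑ j, (∑ i, C (g a i) * M i j) * C (h j b) := by
  simp only [Matrix.mul_apply, RingHom.mapMatrix_apply, Matrix.map_apply]

theorem conj_isHomogeneous (g h : Matrix (Fin 2) (Fin 2) k)
    (M : Matrix (Fin 2) (Fin 2) (MvPolynomial (Fin 3) k))
    (hM : ∀ a b : Fin 2, (M a b).IsHomogeneous 1) (a b : Fin 2) :
    (((C : k →+* MvPolynomial (Fin 3) k).mapMatrix g * M *
      (C : k →+* MvPolynomial (Fin 3) k).mapMatrix h) a b).IsHomogeneous 1 := by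
  rw [conj_apply]
  apply IsHomogeneous.sum
  intro j _
  rw [mul_comm]
  apply IsHomogeneous.C_mul
  apply IsHomogeneous.sum
  intro i _
  exact (hM i j).C_mul _

theorem det_splits_iff [IsAlgClosed k] [CharZero k]
    (M : Matrix (Fin 2) (Fin 2) (MvPolynomial (Fin 3) k))
    (hM : ∀ a b : Fin 2, (M a b).IsHomogeneous 1) :
    (∃ l₁ l₂ : MvPolynomial (Fin 3) k, l₁.IsHomogeneous 1 ∧ l₂.IsHomogeneous 1 ∧
      M.det = l₁ * l₂) ↔
    ∃ g h : GL (Fin 2) k,
      ((C : k →+* MvPolynomial (Fin 3) k).mapMatrix g.val * M *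
        (C : k →+* MvPolynomial (Fin 3) k).mapMatrix h.val) 0 1 = 0 := by
  have h2 : (2 : k) ≠ 0 := two_ne_zero
  constructor
  · rintro ⟨l₁, l₂, hl₁, hl₂, hdet⟩
    obtain ⟨a, rfl⟩ := exists_lin_of_isHomogeneous l₁ hl₁
    obtain ⟨b, rfl⟩ := exists_lin_of_isHomogeneous l₂ hl₂
    choose m hm using fun i j => exists_lin_of_isHomogeneous (M i j) (hM i j)
    have hx : ∀ x : Fin 3 → k, (m 0 0 ⬝ᵥ x) * (m 1 1 ⬝ᵥ x) - (m 0 1 ⬝ᵥ x) * (m 1 0 ⬝ᵥ x) =
        (a ⬝ᵥ x) * (b ⬝ᵥ x) := by
      intro x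
      have := congrArg (eval x) hdet
      rw [Matrix.det_fin_two, hm, hm, hm, hm, map_sub, map_mul, map_mul, map_mul, eval_lin,
        eval_lin, eval_lin, eval_lin, eval_lin, eval_lin] at this
      exact this
    obtain ⟨r, c, hr, hc, hrc⟩ := exists_rc h2 m a b hx
    obtain ⟨g, hg⟩ := exists_GL_row r hr
    obtain ⟨h, hh⟩ := exists_GL_col c hc
    refine ⟨g, h, ?_⟩
    rw [conj_apply]
    apply MvPolynomial.funext
    intro x
    simp only [Fin.sum_univ_two, map_add, map_mul, eval_C, hm, eval_lin, hg, hh, map_zero,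
      dotProduct, Fin.sum_univ_three]
    have e0 := hrc 0
    have e1 := hrc 1
    have e2 := hrc 2
    simp only [Fin.sum_univ_two] at e0 e1 e2
    linear_combination x 0 * e0 + x 1 * e1 + x 2 * e2
  · rintro ⟨g, h, hgh⟩
    set M' := (C : k →+* MvPolynomial (Fin 3) k).mapMatrix g.val * M *
        (C : k →+* MvPolynomial (Fin 3) k).mapMatrix h.val with hM'
    have hdg : g.val.det ≠ 0 := (Matrix.isUnits_det_units g).ne_zero
    have hdh : h.val.det ≠ 0 := (Matrix.isUnits_det_units h).ne_zero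
    have hdetM' : M'.det = C g.val.det * M.det * C h.val.det := by
      rw [hM', Matrix.det_mul, Matrix.det_mul, ← RingHom.map_det, ← RingHom.map_det]
    have hdetM'2 : M'.det = M' 0 0 * M' 1 1 := by
      rw [Matrix.det_fin_two, hgh, zero_mul, sub_zero]
    refine ⟨C (g.val.det⁻¹ * h.val.det⁻¹) * M' 0 0, M' 1 1, ?_, ?_, ?_⟩
    · exact (conj_isHomogeneous g.val h.val M hM 0 0).C_mul _
    · exact conj_isHomogeneous g.val h.val M hM 1 1
    · have e : C (g.val.det⁻¹ * h.val.det⁻¹) * (C g.val.det * M.det * C h.val.det) = M.det := by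
        have : C (g.val.det⁻¹ * h.val.det⁻¹) * (C g.val.det * M.det * C h.val.det) =
            C (g.val.det⁻¹ * g.val.det * (h.val.det⁻¹ * h.val.det)) * M.det := by
          simp only [map_mul]
          ring
        rw [this, inv_mul_cancel₀ hdg, inv_mul_cancel₀ hdh, mul_one, map_one, one_mul]
      rw [← e, ← hdetM', hdetM'2]
      ring

end Groth.Agent.H75.PlaneConic
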