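import Mathlib
import Groth.Agent.H75.GCIField
import Groth.Agent.H75.FrobSynt

set_option autoImplicit false
universe u

namespace Groth.Agent.H75.PthRootCover

open Polynomial CategoryTheory AlgebraicGeometry

/-- `T[y]/(P)` in multivariate clothing is `AdjoinRoot P` -/
noncomputable def mqEquiv (T : Type u) [CommRing T] (P : T[X]) :
    GCIField.MQ T P ≃ₐ[T] AdjoinRoot P :=
  Ideal.quotientEquivAlg (Ideal.span (Set.range (GCIField.relOf T P))) (Ideal.span {P})
    (MvPolynomial.uniqueAlgEquiv T Unit) (by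
      rw [Ideal.map_span]
      congr 1
      ext y
      simp only [Set.mem_singleton_iff, Set.mem_image, Set.mem_range, exists_exists_eq_and]
      constructor
      · intro h
        refine ⟨(), ?_⟩
        rw [h]
        exact (MvPolynomial.uniqueAlgEquiv T Unit).apply_symm_apply P
      · rintro ⟨_, rfl⟩
        exact ((MvPolynomial.uniqueAlgEquiv T Unit).apply_symm_apply P))

/-- presentation of `AdjoinRoot P` with one generator and one relation -/
noncomputable def presAdjoinRoot (T : Type u) [CommRing T] (P : T[X]) :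
    Algebra.Presentation T (AdjoinRoot P) Unit Unit :=
  (Algebra.Presentation.naive (v := GCIField.relOf T P)).ofAlgEquiv (mqEquiv T P)

theorem isSyntomic_adjoinRoot (T : Type u) [CommRing T] (P : T[X]) (hP : P.Monic) :
    Synt.IsSyntomic T (AdjoinRoot P) := by
  haveI : Module.Free T (AdjoinRoot P) := Module.Free.of_basis (AdjoinRoot.powerBasis' hP).basis
  haveI : Module.Finite T (AdjoinRoot P) := (AdjoinRoot.powerBasis' hP).finite
  exact FrobSynt.isSyntomic_of_free_pres (presAdjoinRoot T P)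

section Scheme

variable {X : Scheme.{u}} (p : ℕ) (a : Γ(X, ⊤)) (V : X.Opens)

/-- restriction of the global section -/
noncomputable def aV : Γ(X, V) := X.presheaf.map (homOfLE (le_top : V ≤ ⊤)).op a

/-- the polynomial `T^p - a` -/
noncomputable def fV : Polynomial Γ(X, V) := Polynomial.X ^ p - Polynomial.C (aV a V)

theorem fV_monic (hp : p ≠ 0) : (fV p a V).Monic := Polynomial.monic_X_pow_sub_C _ hp

/-- the ring `Γ(V)[T]/(T^p - a)` -/
abbrev SV : Type u := AdjoinRoot (fV p a V)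

/-- the structure map as a morphism of `CommRingCat` -/
noncomputable def psi : Γ(X, V) ⟶ CommRingCat.of (SV p a V) :=
  CommRingCat.ofHom (algebraMap Γ(X, V) (SV p a V))

variable {V}

/-- the covering morphism -/
noncomputable def hV (hV : IsAffineOpen V) : Spec (CommRingCat.of (SV p a V)) ⟶ X :=
  Spec.map (psi p a V) ≫ hV.fromSpec

theorem fromSpec_appLE_top (hV' : IsAffineOpen V) (e₁ : ⊤ ≤ hV'.fromSpec ⁻¹ᵁ V) :
    hV'.fromSpec.appLE V ⊤ e₁ = (Scheme.ΓSpecIso Γ(X, V)).inv := by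
  rw [Scheme.Hom.appLE, hV'.fromSpec_app_self, Category.assoc, ← Functor.map_comp]
  have : (eqToHom hV'.fromSpec_preimage_self).op ≫ (homOfLE e₁).op = 𝟙 _ := Subsingleton.elim _ _
  rw [this, CategoryTheory.Functor.map_id, Category.comp_id]

theorem specMap_appLE_top {R S : CommRingCat.{u}} (ψ : R ⟶ S) (e₂ : ⊤ ≤ (Spec.map ψ) ⁻¹ᵁ ⊤) :
    (Spec.map ψ).appLE ⊤ ⊤ e₂ ≫ (Scheme.ΓSpecIso S).hom = (Scheme.ΓSpecIso R).hom ≫ ψ := by
  have h1 : (Spec.map ψ).appLE ⊤ ⊤ e₂ = (Spec.map ψ).appTop :=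
    Scheme.Hom.appLE_eq_app (Spec.map ψ) (U := ⊤)
  rw [h1, Scheme.ΓSpecIso_naturality]

theorem key' (hV' : IsAffineOpen V) {S : CommRingCat.{u}} (ψ : Γ(X, V) ⟶ S)
    (e : ⊤ ≤ (Spec.map ψ ≫ hV'.fromSpec) ⁻¹ᵁ V) :
    (Spec.map ψ ≫ hV'.fromSpec).appLE V ⊤ e ≫ (Scheme.ΓSpecIso S).hom = ψ := by
  have e₁ : ⊤ ≤ hV'.fromSpec ⁻¹ᵁ V := hV'.fromSpec_preimage_self.ge
  have e₂ : ⊤ ≤ (Spec.map ψ) ⁻¹ᵁ ⊤ := le_rfl
  rw [← Scheme.Hom.appLE_comp_appLE (Spec.map ψ) hV'.fromSpec V ⊤ ⊤ e₁ e₂, Category.assoc,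
    specMap_appLE_top, fromSpec_appLE_top, Iso.inv_hom_id_assoc]

theorem preimage_hV (hV' : IsAffineOpen V) : (hV p a hV') ⁻¹ᵁ V = ⊤ := by
  rw [hV, Scheme.Hom.comp_preimage, hV'.fromSpec_preimage_self]
  rfl

theorem key (hV' : IsAffineOpen V) (e : ⊤ ≤ (hV p a hV') ⁻¹ᵁ V) :
    (hV p a hV').appLE V ⊤ e ≫ (Scheme.ΓSpecIso _).hom = psi p a V :=
  key' hV' (psi p a V) e

theorem isSyntomicMor_hV (hp : p ≠ 0) (hV' : IsAffineOpen V) : Synt.IsSyntomicMor (hV p a hV') := by
  intro y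
  have e : (⊤ : (Spec (CommRingCat.of (SV p a V))).Opens) ≤ (hV p a hV') ⁻¹ᵁ V :=
    (preimage_hV p a hV').ge
  refine ⟨⟨⊤, isAffineOpen_top _⟩, ⟨V, hV'⟩, e, trivial, ?_⟩
  letI : Algebra Γ(X, V) Γ(Spec (CommRingCat.of (SV p a V)), ⊤) :=
    ((hV p a hV').appLE V ⊤ e).hom.toAlgebra
  -- the algebra isomorphism with `SV`
  let eB : SV p a V ≃ₐ[Γ(X, V)] Γ(Spec (CommRingCat.of (SV p a V)), ⊤) :=
    { (Scheme.ΓSpecIso (CommRingCat.of (SV p a V))).symm.commRingCatIsoToRingEquiv with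
      commutes' := fun r => by
        have h := key p a hV' e
        have h2 := congrArg (fun φ => (Scheme.ΓSpecIso (CommRingCat.of (SV p a V))).inv.hom
          (φ.hom r)) h
        simp only [CommRingCat.hom_comp, RingHom.comp_apply] at h2
        change (Scheme.ΓSpecIso (CommRingCat.of (SV p a V))).inv.hom
          (algebraMap Γ(X, V) (SV p a V) r) = ((hV p a hV').appLE V ⊤ e).hom r
        rw [show (algebraMap Γ(X, V) (SV p a V) r) = (psi p a V).hom r from rfl, ← h2]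
        exact congrFun (congrArg DFunLike.coe (congrArg CommRingCat.Hom.hom
          (Scheme.ΓSpecIso (CommRingCat.of (SV p a V))).hom_inv_id)) _ }
  have hmon := fV_monic p a V hp
  haveI : Module.Free Γ(X, V) (SV p a V) :=
    Module.Free.of_basis (AdjoinRoot.powerBasis' hmon).basis
  haveI : Module.Finite Γ(X, V) (SV p a V) := (AdjoinRoot.powerBasis' hmon).finite
  haveI : Module.Free Γ(X, V) Γ(Spec (CommRingCat.of (SV p a V)), ⊤) :=
    Module.Free.of_equiv eB.toLinearEquiv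
  haveI : Module.Finite Γ(X, V) Γ(Spec (CommRingCat.of (SV p a V)), ⊤) :=
    Module.Finite.equiv eB.toLinearEquiv
  exact FrobSynt.isSyntomic_of_free_pres ((presAdjoinRoot Γ(X, V) (fV p a V)).ofAlgEquiv eB)

theorem faithfullyFlat_SV (hp : p ≠ 0) : Module.FaithfullyFlat Γ(X, V) (SV p a V) := by
  have hmon := fV_monic p a V hp
  rcases subsingleton_or_nontrivial Γ(X, V) with hs | hn
  · haveI : Subsingleton (SV p a V) := Module.subsingleton Γ(X, V) _
    exact ⟨fun m hm => absurd (Subsingleton.elim m ⊤) hm.ne_top⟩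
  · have hdim : (AdjoinRoot.powerBasis' hmon).dim = p := by
      rw [AdjoinRoot.powerBasis'_dim, fV, Polynomial.natDegree_X_pow_sub_C]
    haveI : Nonempty (Fin (AdjoinRoot.powerBasis' hmon).dim) := by
      rw [hdim]; exact ⟨⟨0, Nat.pos_of_ne_zero hp⟩⟩
    exact Module.FaithfullyFlat.of_linearEquiv _ _ (AdjoinRoot.powerBasis' hmon).basis.repr

theorem surjective_specMap_psi (hp : p ≠ 0) : Surjective (Spec.map (psi p a V)) := by
  have h : (psi p a V).hom.FaithfullyFlat := by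
    haveI := faithfullyFlat_SV p a (V := V) hp
    exact (RingHom.faithfullyFlat_algebraMap_iff).mpr inferInstance
  exact ((flat_and_surjective_SpecMap_iff (psi p a V)).mpr h).2

theorem exists_pth_root (hV' : IsAffineOpen V) :
    ∃ b : Γ(Spec (CommRingCat.of (SV p a V)), ⊤), b ^ p = (hV p a hV').appTop a := by
  have e : (⊤ : (Spec (CommRingCat.of (SV p a V))).Opens) ≤ (hV p a hV') ⁻¹ᵁ V :=
    (preimage_hV p a hV').ge
  refine ⟨(Scheme.ΓSpecIso (CommRingCat.of (SV p a V))).inv.hom (AdjoinRoot.root (fV p a V)), ?_⟩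
  have h1 : (hV p a hV').appTop a = ((hV p a hV').appLE V ⊤ e).hom (aV a V) := by
    have := Scheme.Hom.map_appLE (hV p a hV') e (homOfLE (le_top : V ≤ ⊤)).op
    rw [aV, ← RingHom.comp_apply, ← CommRingCat.hom_comp, this]
    rfl
  have h2 : ((hV p a hV').appLE V ⊤ e).hom (aV a V) =
      (Scheme.ΓSpecIso (CommRingCat.of (SV p a V))).inv.hom
        (algebraMap Γ(X, V) (SV p a V) (aV a V)) := by
    have h := key p a hV' e
    have h3 := congrArg (fun φ => (Scheme.ΓSpecIso (CommRingCat.of (SV p a V))).inv.hom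
      (φ.hom (aV a V))) h
    simp only [CommRingCat.hom_comp, RingHom.comp_apply] at h3
    rw [show (algebraMap Γ(X, V) (SV p a V) (aV a V)) = (psi p a V).hom (aV a V) from rfl, ← h3]
    exact (congrFun (congrArg DFunLike.coe (congrArg CommRingCat.Hom.hom
      (Scheme.ΓSpecIso (CommRingCat.of (SV p a V))).hom_inv_id)) _).symm
  have h4 : AdjoinRoot.root (fV p a V) ^ p = algebraMap Γ(X, V) (SV p a V) (aV a V) := by
    have := AdjoinRoot.eval₂_root (fV p a V)
    rw [fV, Polynomial.eval₂_sub, Polynomial.eval₂_pow, Polynomial.eval₂_X, Polynomial.eval₂_C,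
      sub_eq_zero] at this
    exact this
  rw [h1, h2, ← map_pow, h4]

end Scheme

theorem main (p : ℕ) (hp : p ≠ 0) (X : Scheme.{u}) (a : Γ(X, ⊤)) :
    ∃ 𝒰 : Scheme.Cover.{u} (Scheme.precoverage @Synt.IsSyntomicMor) X,
      ∀ i : 𝒰.I₀, ∃ b : Γ(𝒰.X i, ⊤), b ^ p = (𝒰.f i).appTop a := by
  refine ⟨Scheme.Cover.mkOfCovers X.affineOpens
    (fun V => Spec (CommRingCat.of (SV p a V.1))) (fun V => hV p a V.2) ?_
    (fun V => isSyntomicMor_hV p a hp V.2), fun V => exists_pth_root p a V.2⟩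
  intro x
  obtain ⟨_, ⟨V, hV', rfl⟩, hx, -⟩ := X.isBasis_affineOpens.exists_subset_of_mem_open
    (Set.mem_univ x) isOpen_univ
  have hx' : x ∈ Set.range hV'.fromSpec := by rw [hV'.range_fromSpec]; exact hx
  obtain ⟨z, rfl⟩ := hx'
  obtain ⟨y, rfl⟩ := (surjective_specMap_psi p a hp (V := V)).surj z
  exact ⟨⟨V, hV'⟩, y, rfl⟩

end Groth.Agent.H75.PthRootCover
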