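import Mathlib

set_option autoImplicit false
universe u

namespace Groth.Agent.H75

open PowerSeries

section resdet

variable {R : Type u} [CommRing R]

/-- geometric series `1/(1 + a t)` -/
noncomputable def geomS (a : R) : PowerSeries R := PowerSeries.mk (fun m => (-a) ^ m)

theorem one_add_mul_geomS (a : R) : (1 + C a * X) * geomS a = 1 := by
  ext n
  rw [add_mul, one_mul, mul_assoc, map_add, coeff_C_mul]
  cases n with
  | zero =>
    rw [coeff_zero_X_mul, mul_zero, add_zero, geomS, coeff_mk, pow_zero, coeff_zero_one]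
  | succ n =>
    rw [coeff_succ_X_mul, geomS, coeff_mk, coeff_mk, coeff_one, if_neg (Nat.succ_ne_zero n), pow_succ]
    ring

theorem coeff_succ_one_add_mul (a : R) (P : PowerSeries R) (N : ℕ) :
    coeff (N + 1) ((1 + C a * X) * P) = coeff (N + 1) P + a * coeff N P := by
  rw [add_mul, one_mul, mul_assoc, map_add, coeff_C_mul, coeff_succ_X_mul]

theorem coeff_zero_one_add_mul (a : R) (P : PowerSeries R) :
    coeff 0 ((1 + C a * X) * P) = coeff 0 P := by
  rw [add_mul, one_mul, mul_assoc, map_add, coeff_C_mul, coeff_zero_X_mul, mul_zero, add_zero]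

/-- the matrix of the statement -/
noncomputable def resMat (e d : ℕ) (α : Fin d → R) (b : PowerSeries R) : Matrix (Fin d) (Fin d) R :=
  Matrix.of fun i j : Fin d =>
    if (i : ℕ) ≤ e + (j : ℕ) then
      PowerSeries.coeff (e + (j : ℕ) - (i : ℕ))
        (b * ∏ l : Fin d, if l ≤ i then PowerSeries.mk (fun m => (-α l) ^ m) else 1)
    else 0

theorem prodG_succ {d : ℕ} (α : Fin (d + 1) → R) (i : Fin d) :
    (∏ l : Fin (d + 1), if l ≤ i.succ then PowerSeries.mk (fun m => (-α l) ^ m) else 1) =
      geomS (α 0) * ∏ l : Fin d, if l ≤ i then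
        PowerSeries.mk (fun m => (-(fun l : Fin d => α l.succ) l) ^ m) else 1 := by
  rw [Fin.prod_univ_succ, if_pos (Fin.zero_le _)]
  congr 1
  refine Finset.prod_congr rfl fun l _ => ?_
  simp only [Fin.succ_le_succ_iff]

theorem prodG_zero {d : ℕ} (α : Fin (d + 1) → R) :
    (∏ l : Fin (d + 1), if l ≤ (0 : Fin (d + 1)) then PowerSeries.mk (fun m => (-α l) ^ m) else 1) =
      geomS (α 0) := by
  rw [Fin.prod_univ_succ, if_pos le_rfl, Finset.prod_eq_one, mul_one]
  · rfl
  · intro l _
    rw [if_neg]
    exact not_le.2 (Fin.succ_pos l)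

theorem det_resMat (e : ℕ) (b : PowerSeries R) (hb : ∀ m, e < m → coeff m b = 0) :
    ∀ (d : ℕ) (α : Fin d → R),
      (resMat e d α b).det = ∏ i, coeff e (b * geomS (α i)) := by
  intro d
  induction d with
  | zero => intro α; simp
  | succ d ih =>
    intro α
    set A := resMat e (d + 1) α b with hA
    let B : Matrix (Fin (d + 1)) (Fin (d + 1)) R := fun i j =>
      Fin.cases (A i 0) (fun j' => A i j'.succ + α 0 * A i j'.castSucc) j
    have hAB : A.det = B.det := by
      refine Matrix.det_eq_of_forall_col_eq_smul_add_pred (fun _ => -α 0) (fun i => rfl) ?_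
      intro i j
      simp only [B, Fin.cases_succ]
      ring
    have hB00 : B 0 0 = coeff e (b * geomS (α 0)) := by
      simp only [B, Fin.cases_zero, hA, resMat, Matrix.of_apply]
      rw [if_pos (by simp), prodG_zero]
      simp
    have hB0 : ∀ j : Fin d, B 0 j.succ = 0 := by
      intro j
      simp only [B, Fin.cases_succ, hA, resMat, Matrix.of_apply]
      rw [if_pos (by simp), if_pos (by simp), prodG_zero]
      simp only [Fin.val_zero, Nat.sub_zero, Fin.val_succ, Fin.val_castSucc]
      have := coeff_succ_one_add_mul (α 0) (b * geomS (α 0)) (e + j)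
      rw [← add_assoc] 
      rw [← this]
      have e1 : (1 + C (α 0) * X) * (b * geomS (α 0)) = b := by
        rw [mul_comm b, ← mul_assoc, one_add_mul_geomS, one_mul]
      rw [e1]
      exact hb _ (by omega)
    have hBss : B.submatrix Fin.succ Fin.succ = resMat e d (fun l => α l.succ) b := by
      ext i j
      rw [Matrix.submatrix_apply]
      have hBs : B i.succ j.succ = A i.succ j.succ + α 0 * A i.succ j.castSucc := rfl
      rw [hBs]
      simp only [hA, resMat, Matrix.of_apply]
      rw [prodG_succ]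
      simp only [Fin.val_succ, Fin.val_castSucc]
      set P := b * (geomS (α 0) * ∏ l : Fin d, if l ≤ i then
        PowerSeries.mk (fun m => (-(fun l : Fin d => α l.succ) l) ^ m) else 1) with hP
      have e1 : (1 + C (α 0) * X) * P = b * ∏ l : Fin d, if l ≤ i then
          PowerSeries.mk (fun m => (-(fun l : Fin d => α l.succ) l) ^ m) else 1 := by
        rw [hP, mul_left_comm, ← mul_assoc (1 + C (α 0) * X), one_add_mul_geomS, one_mul]
      rw [← e1]
      by_cases h1 : (i : ℕ) ≤ e + j
      · rw [if_pos (by omega), if_pos h1]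
        by_cases h2 : (i : ℕ) + 1 ≤ e + j
        · rw [if_pos h2]
          obtain ⟨N, hN⟩ : ∃ N, e + (j : ℕ) - (i : ℕ) = N + 1 := ⟨e + j - i - 1, by omega⟩
          have hN1 : e + ((j : ℕ) + 1) - ((i : ℕ) + 1) = N + 1 := by omega
          have hN2 : e + (j : ℕ) - ((i : ℕ) + 1) = N := by omega
          rw [hN, hN1, hN2, coeff_succ_one_add_mul]
        · rw [if_neg h2, mul_zero, add_zero]
          have hN : e + (j : ℕ) - (i : ℕ) = 0 := by omega
          have hN1 : e + ((j : ℕ) + 1) - ((i : ℕ) + 1) = 0 := by omega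
          rw [hN, hN1, coeff_zero_one_add_mul]
      · rw [if_neg (by omega), if_neg (by omega), if_neg h1, mul_zero, add_zero]
    rw [hAB, Matrix.det_succ_row_zero, Fin.sum_univ_succ]
    rw [Finset.sum_eq_zero (fun j _ => by rw [hB0 j, mul_zero, zero_mul]), add_zero]
    rw [Fin.succAbove_zero, hBss, ih, hB00, Fin.prod_univ_succ]
    simp

theorem prodB_props (a : R) : ∀ (e : ℕ) (β : Fin e → R),
    (∀ m, e < m → coeff m (∏ j : Fin e, (1 + C (β j) * X)) = 0) ∧
      coeff e ((∏ j : Fin e, (1 + C (β j) * X)) * geomS a) = ∏ j, (β j - a) := by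
  intro e
  induction e with
  | zero =>
    intro β
    refine ⟨fun m hm => ?_, ?_⟩
    · rw [Fin.prod_univ_zero, coeff_one, if_neg (by omega)]
    · rw [Fin.prod_univ_zero, Fin.prod_univ_zero, one_mul, geomS, coeff_mk, pow_zero]
  | succ e ih =>
    intro β
    obtain ⟨ih1, ih2⟩ := ih (fun j => β j.castSucc)
    set Be := ∏ j : Fin e, (1 + C (β j.castSucc) * X) with hBe
    have hprod : (∏ j : Fin (e + 1), (1 + C (β j) * X)) = (1 + C (β (Fin.last e)) * X) * Be := by
      rw [Fin.prod_univ_castSucc, mul_comm]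
    refine ⟨fun m hm => ?_, ?_⟩
    · obtain ⟨m', rfl⟩ : ∃ m', m = m' + 1 := ⟨m - 1, by omega⟩
      rw [hprod, coeff_succ_one_add_mul, ih1 _ (by omega), ih1 _ (by omega), mul_zero, add_zero]
    · rw [hprod, Fin.prod_univ_castSucc]
      have e1 : (1 + C (β (Fin.last e)) * X) * Be * geomS a =
          Be + C (β (Fin.last e) - a) * (X * (Be * geomS a)) := by
        have : (1 + C (β (Fin.last e)) * X : PowerSeries R) =
            (1 + C a * X) + C (β (Fin.last e) - a) * X := by
          rw [map_sub]; ring
        rw [this, add_mul, add_mul, mul_right_comm, one_add_mul_geomS, one_mul]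
        ring
      rw [e1, map_add, ih1 _ (by omega), zero_add, coeff_C_mul, coeff_succ_X_mul, ih2, mul_comm]

end resdet

end Groth.Agent.H75
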