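import Mathlib
import Groth.Agent.H87.ThickAffG

/-!
# A closed immersion criterion for morphisms out of a square-zero thickening
-/

universe u
open AlgebraicGeometry CategoryTheory CategoryTheory.Limits

namespace Groth.Agent.H75.RibbonImm

/-- Ring level: if `A → B / I` is onto, `I ^ 2 = 0` and `I = J B` for an ideal `J` of `A`,
then `A → B` is onto. -/
theorem surjective_of_sq_zero {A B : Type*} [CommRing A] [CommRing B] (φ : A →+* B)
    (I : Ideal B) (J : Ideal A) (hI : I ^ 2 = ⊥)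
    (hsurj : ∀ b : B, ∃ a : A, b - φ a ∈ I) (hIJ : I ≤ Ideal.map φ J)
    (hJI : Ideal.map φ J ≤ I) : Function.Surjective φ := by
  have hzero : ∀ x ∈ I, ∀ y ∈ I, x * y = 0 := by
    intro x hx y hy
    have : x * y ∈ I ^ 2 := by
      rw [pow_two]; exact Ideal.mul_mem_mul hx hy
    rw [hI] at this
    exact this
  have key : ∀ x ∈ Ideal.map φ J, x ∈ φ.range ∧ x ∈ I := by
    intro x hx
    refine Submodule.span_induction (p := fun x _ => x ∈ φ.range ∧ x ∈ I) ?_ ?_ ?_ ?_ hx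
    · rintro _ ⟨j, hj, rfl⟩
      exact ⟨⟨j, rfl⟩, hJI (Ideal.mem_map_of_mem φ hj)⟩
    · exact ⟨⟨0, map_zero φ⟩, I.zero_mem⟩
    · rintro x y _ _ ⟨⟨a, rfl⟩, hx⟩ ⟨⟨b, rfl⟩, hy⟩
      exact ⟨⟨a + b, map_add φ a b⟩, I.add_mem hx hy⟩
    · rintro b x _ ⟨⟨a', rfl⟩, hx⟩
      obtain ⟨a, ha⟩ := hsurj b
      refine ⟨⟨a * a', ?_⟩, I.mul_mem_left b hx⟩
      have h0 := hzero _ ha _ hx
      rw [smul_eq_mul, map_mul]
      have : b * φ a' = φ a * φ a' + (b - φ a) * φ a' := by ring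
      rw [this, h0, add_zero]
  intro b
  obtain ⟨a, ha⟩ := hsurj b
  obtain ⟨⟨a', ha'⟩, -⟩ := key _ (hIJ ha)
  exact ⟨a + a', by rw [map_add, ha']; ring⟩

/-- In a pushout square of commutative rings with `γ` onto, the kernel of the map opposite to `γ`
is generated by the image of the kernel of `γ`. -/
theorem ker_le_map_of_isPushout {A B Abar P : CommRingCat.{u}} {φ : A ⟶ B} {γ : A ⟶ Abar}
    {ψ : B ⟶ P} {δ : Abar ⟶ P} (h : IsPushout φ γ ψ δ) (hγ : Function.Surjective γ.hom) :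
    RingHom.ker ψ.hom ≤ Ideal.map φ.hom (RingHom.ker γ.hom) := by
  let K : Ideal B := Ideal.map φ.hom (RingHom.ker γ.hom)
  let q : B ⟶ CommRingCat.of (B ⧸ K) := CommRingCat.ofHom (Ideal.Quotient.mk K)
  have hker : RingHom.ker γ.hom ≤ RingHom.ker ((Ideal.Quotient.mk K).comp φ.hom) := by
    intro a ha
    rw [RingHom.mem_ker, RingHom.comp_apply, Ideal.Quotient.eq_zero_iff_mem]
    exact Ideal.mem_map_of_mem _ ha
  let r : Abar ⟶ CommRingCat.of (B ⧸ K) :=
    CommRingCat.ofHom (RingHom.liftOfSurjective γ.hom hγ ⟨(Ideal.Quotient.mk K).comp φ.hom, hker⟩)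
  have hw : φ ≫ q = γ ≫ r := by
    ext a
    show (Ideal.Quotient.mk K) (φ.hom a) =
      (RingHom.liftOfSurjective γ.hom hγ ⟨(Ideal.Quotient.mk K).comp φ.hom, hker⟩) (γ.hom a)
    rw [RingHom.liftOfRightInverse_comp_apply]
    rfl
  intro x hx
  have h1 : ψ ≫ h.desc q r hw = q := h.inl_desc q r hw
  have h2 : q.hom x = 0 := by
    rw [← h1]
    show (h.desc q r hw).hom (ψ.hom x) = 0
    rw [RingHom.mem_ker] at hx
    rw [hx, map_zero]
  exact Ideal.Quotient.eq_zero_iff_mem.mp h2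

/-- A closed immersion with nilpotent ideal is surjective. -/
theorem surjective_of_ker_pow_eq_bot {D C : Scheme.{u}} (i : D ⟶ C) [IsClosedImmersion i]
    (n : ℕ) (hn : n ≠ 0) (h : i.ker ^ n = ⊥) : Surjective i := by
  have h1 : i.ker.support = ⊤ := by
    rw [← Scheme.IdealSheafData.support_pow _ n hn, h, Scheme.IdealSheafData.support_bot]
  have h2 : (i.ker.support : Set C) = closure (Set.range i) := Scheme.Hom.support_ker i
  rw [h1, i.isClosedEmbedding.isClosed_range.closure_eq] at h2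
  constructor
  intro x
  have : x ∈ Set.range i := by
    rw [← h2]; trivial
  exact this

theorem isClosedImmersion_of_isPullback {D C X : Scheme.{u}} (i : D ⟶ C) (f : C ⟶ X)
    [IsClosedImmersion i] [IsClosedImmersion (i ≫ f)] (hsq : i.ker ^ 2 = ⊥)
    (hpb : IsPullback i (𝟙 D) f (i ≫ f)) : IsClosedImmersion f := by
  have hsurj : Surjective i := surjective_of_ker_pow_eq_bot i 2 (by norm_num) hsq
  have haff : IsAffineHom f :=
    (Groth.Agent.H87.ThickAff.isAffineHom_iff_of_thickening i (𝟙 X) (i ≫ f) f (by simp)).mp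
      inferInstance
  rw [isClosedImmersion_iff_isAffineHom]
  refine ⟨haff, fun U hU => ?_⟩
  have hV : IsAffineOpen (f ⁻¹ᵁ U) := hU.preimage f
  have hW : IsAffineOpen ((i ≫ f) ⁻¹ᵁ U) := hU.preimage (i ≫ f)
  have hUY : i ⁻¹ᵁ (f ⁻¹ᵁ U) = i ⁻¹ᵁ (f ⁻¹ᵁ U) ⊓ (𝟙 D) ⁻¹ᵁ ((i ≫ f) ⁻¹ᵁ U) := by
    ext x; simp
  have hiso := isIso_pushoutSection_of_isAffineOpen hpb (US := U) (UT := (i ≫ f) ⁻¹ᵁ U)
    (UX := f ⁻¹ᵁ U) le_rfl le_rfl hUY hU hW hV
  have hpo := (isIso_pushoutSection_iff hpb le_rfl le_rfl hUY).mp hiso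
  have hγ : Function.Surjective ((i ≫ f).appLE U ((i ≫ f) ⁻¹ᵁ U) le_rfl).hom := by
    rw [← Scheme.Hom.app_eq_appLE]
    exact Scheme.Hom.app_surjective (i ≫ f) U hU
  have hle := ker_le_map_of_isPushout hpo hγ
  rw [← Scheme.Hom.app_eq_appLE, ← Scheme.Hom.app_eq_appLE, ← Scheme.Hom.app_eq_appLE] at hle
  have hcomp : (i ≫ f).app U = f.app U ≫ i.app (f ⁻¹ᵁ U) := Scheme.Hom.comp_app i f U
  refine surjective_of_sq_zero (f.app U).hom (RingHom.ker (i.app (f ⁻¹ᵁ U)).hom)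
    (RingHom.ker ((i ≫ f).app U).hom) ?_ ?_ hle ?_
  · have h1 : (i.ker ^ 2).ideal ⟨f ⁻¹ᵁ U, hV⟩ = (⊥ : C.IdealSheafData).ideal ⟨f ⁻¹ᵁ U, hV⟩ := by
      rw [hsq]
    rw [Scheme.IdealSheafData.ideal_pow, Pi.pow_apply, Scheme.Hom.ker_apply,
      Scheme.IdealSheafData.ideal_bot] at h1
    exact h1
  · intro b
    obtain ⟨a, ha⟩ := Scheme.Hom.app_surjective (i ≫ f) U hU ((i.app (f ⁻¹ᵁ U)).hom b)
    refine ⟨a, ?_⟩
    rw [RingHom.mem_ker, map_sub, sub_eq_zero]
    rw [hcomp] at ha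
    exact ha.symm
  · rw [Ideal.map_le_iff_le_comap]
    intro a ha
    rw [RingHom.mem_ker] at ha
    rw [Ideal.mem_comap, RingHom.mem_ker]
    rw [hcomp] at ha
    exact ha

/-- For a monomorphism `f`, the square with top edge the identity is a pullback. -/
theorem isPullback_of_mono {D C X : Scheme.{u}} (i : D ⟶ C) (f : C ⟶ X) [Mono f] :
    IsPullback i (𝟙 D) f (i ≫ f) := by
  refine IsPullback.of_isLimit' ⟨by simp⟩ (PullbackCone.IsLimit.mk _ (fun s => s.snd) ?_ ?_ ?_)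
  · intro s
    rw [← cancel_mono f, Category.assoc]
    exact s.condition.symm
  · intro s
    exact Category.comp_id _
  · intro s m _ h2
    rw [← h2]
    exact (Category.comp_id _).symm

theorem comap_ker_comp_of_isClosedImmersion {D C X : Scheme.{u}} (i : D ⟶ C) (f : C ⟶ X)
    [IsClosedImmersion i] [IsClosedImmersion f] : (i ≫ f).ker.comap f = i.ker := by
  have hpb := isPullback_of_mono i f
  rw [← Scheme.IdealSheafData.ker_fst_of_isClosedImmersion (i ≫ f) f]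
  have h1 : hpb.isoPullback.hom ≫ pullback.fst f (i ≫ f) = i := hpb.isoPullback_hom_fst
  rw [← Scheme.Hom.ker_comp_of_isIso hpb.isoPullback.hom, h1]

theorem isClosedImmersion_iff {D C X : Scheme.{u}} (i : D ⟶ C) (f : C ⟶ X)
    [IsClosedImmersion i] (hsq : i.ker ^ 2 = ⊥) :
    IsClosedImmersion f ↔ (IsClosedImmersion (i ≫ f) ∧ (i ≫ f).ker.comap f = i.ker) := by
  constructor
  · intro hf
    exact ⟨inferInstance, comap_ker_comp_of_isClosedImmersion i f⟩
  · rintro ⟨h1, h2⟩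
    have hpb : IsPullback i (𝟙 D) f (i ≫ f) :=
      isPullback_of_isClosedImmersion i (i ≫ f) (𝟙 D) f (by simp) h2
    exact isClosedImmersion_of_isPullback i f hsq hpb

end Groth.Agent.H75.RibbonImm
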