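import Mathlib
import Groth.Agent.H75.KernelPoints

/-!
# Rigidity: morphisms into the fibre of a quasi-finite morphism are constant
(over an algebraically closed field)
-/

set_option autoImplicit false
set_option linter.style.haveILetI false
universe u

open CategoryTheory CategoryTheory.Limits MonoidalCategory CartesianMonoidalCategory MonObj
  AlgebraicGeometry

namespace Groth.Agent.H75.Rigid

variable (k : Type u) [Field k] [IsAlgClosed k]

/-- A morphism from a connected reduced scheme locally of finite type over `k` whose composite with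
a quasi-finite morphism is constant is itself constant. -/
theorem const_of_comp_const (X A B : Over (Spec (CommRingCat.of k)))
    [LocallyOfFiniteType X.hom] [IsReduced X.left] [PreconnectedSpace ↥X.left]
    [LocallyOfFiniteType A.hom] [IsSeparated A.hom]
    (δ : X ⟶ A) (ψ : A ⟶ B) [LocallyQuasiFinite ψ.left]
    (Q : 𝟙_ (Over (Spec (CommRingCat.of k))) ⟶ B)
    (h : δ ≫ ψ = toUnit X ≫ Q) (x₀ : 𝟙_ (Over (Spec (CommRingCat.of k))) ⟶ X) :
    δ = toUnit X ≫ (x₀ ≫ δ) := by
  apply Over.OverMorphism.ext
  have hlft' : LocallyOfFiniteType (δ.left ≫ A.hom) := by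
    rw [Over.w]
    infer_instance
  refine ext_of_apply_eq A.hom Set.univ isOpen_univ.isLocallyClosed dense_univ
    (fun z _ _ => ?_) ?_
  · have hF : _root_.IsDiscrete (ψ.left.base ⁻¹' {Q.left (Groth.Agent.H75.KernelPoints.pt k)}) :=
      ψ.left.isDiscrete_preimage_singleton _
    have hsub : ∀ w : ↥(𝟙_ (Over (Spec (CommRingCat.of k)))).left,
        w = Groth.Agent.H75.KernelPoints.pt k := fun w =>
      (inferInstance : Subsingleton ↥(Spec (CommRingCat.of k))).elim _ _
    have hmaps : Set.MapsTo δ.left.base Set.univ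
        (ψ.left.base ⁻¹' {Q.left (Groth.Agent.H75.KernelPoints.pt k)}) := by
      intro w _
      have h1 := congr($(h).left w)
      change ψ.left (δ.left w) = Q.left ((toUnit X).left w) at h1
      rw [hsub ((toUnit X).left w)] at h1
      exact h1
    let z₀ : ↥X.left := x₀.left (Groth.Agent.H75.KernelPoints.pt k)
    have hconst := (isPreconnected_univ (α := ↥X.left)).constant_of_mapsTo hF
      δ.left.continuous.continuousOn hmaps (Set.mem_univ z) (Set.mem_univ z₀)
    change δ.left z = δ.left (x₀.left ((toUnit X).left z))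
    rw [hsub ((toUnit X).left z)]
    exact hconst
  · rw [Over.w, Over.w]

/-- A geometric point of the fibre of a quasi-finite morphism over a rational point comes from a
rational point. -/
theorem exists_pt_of_comp_const {Ω : Type u} [Field Ω] (τ : Spec (CommRingCat.of Ω) ⟶ Spec (CommRingCat.of k))
    (A B : Over (Spec (CommRingCat.of k)))
    [LocallyOfFiniteType A.hom] [LocallyOfFiniteType B.hom]
    (δ : Over.mk τ ⟶ A) (ψ : A ⟶ B) [LocallyQuasiFinite ψ.left]
    (Q : 𝟙_ (Over (Spec (CommRingCat.of k))) ⟶ B)
    (h : δ ≫ ψ = toUnit (Over.mk τ) ≫ Q) :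
    ∃ a : 𝟙_ (Over (Spec (CommRingCat.of k))) ⟶ A, δ = toUnit (Over.mk τ) ≫ a ∧ a ≫ ψ = Q := by
  let x : ↥A.left := δ.left (IsLocalRing.closedPoint Ω)
  have hsub : ∀ w : ↥(𝟙_ (Over (Spec (CommRingCat.of k)))).left,
      w = Groth.Agent.H75.KernelPoints.pt k := fun w =>
    (inferInstance : Subsingleton ↥(Spec (CommRingCat.of k))).elim _ _
  have hx : ψ.left.base x = Q.left (Groth.Agent.H75.KernelPoints.pt k) := by
    have h1 := congr($(h).left (IsLocalRing.closedPoint Ω))
    have h2 := hsub ((toUnit (Over.mk τ)).left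
      (show ↥(Spec (CommRingCat.of Ω)) from IsLocalRing.closedPoint Ω))
    change ψ.left (δ.left _) = Q.left ((toUnit (Over.mk τ)).left _) at h1
    exact h1.trans (congrArg _ h2)
  have hxc : IsClosed ({x} : Set A.left) := by
    refine isClosed_of_subset_discrete_closed
      (t := ψ.left.base ⁻¹' {Q.left (Groth.Agent.H75.KernelPoints.pt k)}) ?_
      (ψ.left.isDiscrete_preimage_singleton _)
      ((Groth.Agent.H75.KernelPoints.isClosed_pt k Q).preimage ψ.left.continuous)
    simpa using hx
  let a : 𝟙_ (Over (Spec (CommRingCat.of k))) ⟶ A :=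
    Over.homMk (pointOfClosedPoint A.hom x hxc) (by simp)
  have hfac : δ.left = Spec.map (Scheme.descResidueField (Scheme.stalkClosedPointTo δ.left)) ≫
      A.left.fromSpecResidueField x :=
    (Scheme.descResidueField_stalkClosedPointTo_fromSpecResidueField Ω A.left δ.left).symm
  let g : Spec (CommRingCat.of Ω) ⟶ Spec (CommRingCat.of k) :=
    Spec.map (Scheme.descResidueField (Scheme.stalkClosedPointTo δ.left)) ≫
      Spec.map (residueFieldIsoBase A.hom x hxc).inv
  have hga : g ≫ a.left = δ.left := by
    change (Spec.map _ ≫ Spec.map _) ≫ (Spec.map _ ≫ _) = _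
    rw [Category.assoc, ← Spec.map_comp_assoc (residueFieldIsoBase A.hom x hxc).hom, Iso.hom_inv_id,
      Spec.map_id, Category.id_comp]
    exact hfac.symm
  have hg : g = τ := by
    have h1 : g ≫ a.left ≫ A.hom = τ := by
      rw [← Category.assoc, hga]
      exact Over.w δ
    rw [Over.w a] at h1
    simpa using h1
  have hδ : δ = toUnit (Over.mk τ) ≫ a := by
    apply Over.OverMorphism.ext
    change δ.left = (toUnit (Over.mk τ)).left ≫ a.left
    have hu : (toUnit (Over.mk τ)).left = τ := by simp
    rw [← hga, hg, hu]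
  refine ⟨a, hδ, ?_⟩
  apply Groth.Agent.H75.KernelPoints.hom_ext_pt k
  change ψ.left (a.left (Groth.Agent.H75.KernelPoints.pt k)) = _
  have : a.left (Groth.Agent.H75.KernelPoints.pt k) = x :=
    pointOfClosedPoint_apply A.hom x hxc (Groth.Agent.H75.KernelPoints.pt k)
  rw [this]
  exact hx

end Groth.Agent.H75.Rigid
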