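import Mathlib

set_option autoImplicit false
universe u

namespace Groth.Agent.H75

theorem weyl_W {K A : Type*} [Field K] [Ring A] [Algebra K A] (E F : A)
    (hEE : E * E = 0) (hEFE : E * F * E = E)
    (u v : K) (huv : u * v = -1) :
    (1 + u • E) * (1 + v • F) * (1 + u • E) = 1 - E * F - F * E + u • E + v • F := by
  have h1 : (1 + u • E) * (1 + v • F) * (1 + u • E) =
      1 + u • E + v • F + (u * v) • (E * F) + u • E + (u * u) • (E * E) + (u * v) • (F * E)
        + (u * v * u) • (E * F * E) := by
    simp only [mul_add, add_mul, mul_one, one_mul, smul_mul_assoc, mul_smul_comm,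
      mul_assoc]
    module
  rw [h1, hEE, hEFE, huv]
  module

theorem weyl_D {K A : Type*} [Field K] [Ring A] [Algebra K A] (E F : A)
    (hEE : E * E = 0) (hFF : F * F = 0) (hEFE : E * F * E = E) (hFEF : F * E * F = F)
    (u v u' v' : K) :
    (1 - E * F - F * E + u • E + v • F) * (1 - E * F - F * E + u' • E + v' • F) =
      1 - E * F - F * E + (u * v') • (E * F) + (v * u') • (F * E) := by
  have a1 : E * (E * F) = 0 := by rw [← mul_assoc, hEE, zero_mul]
  have a2 : F * (F * E) = 0 := by rw [← mul_assoc, hFF, zero_mul]
  have a3 : E * F * F = 0 := by rw [mul_assoc, hFF, mul_zero]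
  have a4 : F * E * E = 0 := by rw [mul_assoc, hEE, mul_zero]
  have a5 : E * (F * E) = E := by rw [← mul_assoc, hEFE]
  have a6 : F * (E * F) = F := by rw [← mul_assoc, hFEF]
  have a7 : E * F * (E * F) = E * F := by rw [← mul_assoc, hEFE]
  have a8 : F * E * (F * E) = F * E := by rw [← mul_assoc, hFEF]
  have a9 : E * F * (F * E) = 0 := by rw [mul_assoc, a2, mul_zero]
  have a10 : F * E * (E * F) = 0 := by rw [mul_assoc, a1, mul_zero]
  simp only [mul_add, add_mul, mul_sub, sub_mul, mul_one, one_mul, smul_mul_assoc, mul_smul_comm,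
    smul_smul, hEE, hFF, hEFE, hFEF, a1, a2, a3, a4, a5, a6, a7, a8, a9, a10, smul_zero, sub_zero,
    add_zero]
  module

open Matrix

variable {ι : Type*} [Fintype ι] [DecidableEq ι]

/-- transvection as an element of `SL` over any commutative ring -/
def tv {R : Type*} [CommRing R] {i j : ι} (hij : i ≠ j) (c : R) : SpecialLinearGroup ι R :=
  ⟨Matrix.transvection i j c, Matrix.det_transvection_of_ne _ _ hij c⟩

theorem tv_map {R S : Type*} [CommRing R] [CommRing S] (f : R →+* S) {i j : ι} (hij : i ≠ j)
    (c : R) : SpecialLinearGroup.map f (tv hij c) = tv hij (f c) := by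
  apply Subtype.ext
  show (Matrix.transvection i j c).map f = Matrix.transvection i j (f c)
  unfold Matrix.transvection
  rw [Matrix.map_add f (map_add f), Matrix.map_one f (map_zero f) (map_one f)]
  congr 1
  ext a b
  simp only [Matrix.map_apply, Matrix.single_apply]
  split_ifs <;> simp

theorem tv_zero {R : Type*} [CommRing R] {i j : ι} (hij : i ≠ j) :
    tv hij (0 : R) = 1 := by
  apply Subtype.ext
  show Matrix.transvection i j (0 : R) = 1
  simp [Matrix.transvection]

theorem diag2n_eq_prod {K : Type*} [Field K] {i j : ι} (hij : i ≠ j) (c : K) (hc : c ≠ 0) :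
    SpecialLinearGroup.diag2n hij c hc =
      tv hij c * tv hij.symm (-c⁻¹) * tv hij c * (tv hij (-1) * tv hij.symm 1 * tv hij (-1)) := by
  apply Subtype.ext
  rw [SpecialLinearGroup.diag2n_coe]
  show _ = Matrix.transvection i j c * Matrix.transvection j i (-c⁻¹) * Matrix.transvection i j c *
    (Matrix.transvection i j (-1) * Matrix.transvection j i 1 * Matrix.transvection i j (-1))
  have hE : ∀ a : K, Matrix.transvection i j a = 1 + a • Matrix.single i j (1 : K) := by
    intro a
    simp [Matrix.transvection, Matrix.smul_single]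
  have hF : ∀ a : K, Matrix.transvection j i a = 1 + a • Matrix.single j i (1 : K) := by
    intro a
    simp [Matrix.transvection, Matrix.smul_single]
  have hEE : Matrix.single i j (1 : K) * Matrix.single i j (1 : K) = 0 :=
    Matrix.single_mul_single_of_ne _ _ _ _ hij.symm _
  have hFF : Matrix.single j i (1 : K) * Matrix.single j i (1 : K) = 0 :=
    Matrix.single_mul_single_of_ne _ _ _ _ hij _
  have hEF : Matrix.single i j (1 : K) * Matrix.single j i (1 : K) = Matrix.single i i 1 := by
    rw [Matrix.single_mul_single_same, mul_one]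
  have hFE : Matrix.single j i (1 : K) * Matrix.single i j (1 : K) = Matrix.single j j 1 := by
    rw [Matrix.single_mul_single_same, mul_one]
  have hEFE : Matrix.single i j (1 : K) * Matrix.single j i (1 : K) * Matrix.single i j (1 : K) =
      Matrix.single i j 1 := by
    rw [hEF, Matrix.single_mul_single_same, mul_one]
  have hFEF : Matrix.single j i (1 : K) * Matrix.single i j (1 : K) * Matrix.single j i (1 : K) =
      Matrix.single j i 1 := by
    rw [hFE, Matrix.single_mul_single_same, mul_one]
  rw [hE, hE, hF, hF, weyl_W _ _ hEE hEFE c (-c⁻¹) (by field_simp),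
    weyl_W _ _ hEE hEFE (-1) 1 (by ring), weyl_D _ _ hEE hFF hEFE hFEF, hEF, hFE]
  ext k l
  simp only [Matrix.diagonal_apply, Matrix.add_apply, Matrix.sub_apply, Matrix.one_apply,
    Matrix.smul_apply, Matrix.single_apply, smul_eq_mul]
  by_cases hkl : k = l
  · subst hkl
    by_cases hki : k = i
    · subst hki
      have h0 : ¬ j = k := fun h => hij h.symm
      simp [h0]
    · by_cases hkj : k = j
      · subst hkj
        have h0 : ¬ i = k := fun h => hki h.symm
        simp [h0, hki]
      · have h1 : ¬ i = k := fun h => hki h.symm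
        have h2 : ¬ j = k := fun h => hkj h.symm
        simp [hki, hkj, h1, h2]
  · have : ¬ (i = k ∧ i = l) := fun h => hkl (h.1.symm.trans h.2)
    have : ¬ (j = k ∧ j = l) := fun h => hkl (h.1.symm.trans h.2)
    simp [hkl, *]

end Groth.Agent.H75
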