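import Mathlib.Algebra.Group.Submonoid.Basic
import Mathlib.Algebra.Group.Submonoid.Operations
import Mathlib.Algebra.Group.Submonoid.Membership
import Mathlib.Algebra.Order.Group.Nat
import Mathlib.Data.Nat.ModEq
import Mathlib.Order.Interval.Finset.Nat
import Mathlib.Data.Set.Card

set_option autoImplicit false

namespace Groth.Agent.H75

/-- In a symmetric numerical semigroup of multiplicity `e > 2`, the largest Apery element
`c - 1 + e` splits as a sum of two smaller Apery elements. -/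
theorem symm_split (Γ : AddSubmonoid ℕ) (c : ℕ) (hc : ∀ n : ℕ, c ≤ n → n ∈ Γ) (hc0 : c ≠ 0)
    (hc1 : c - 1 ∉ Γ) (hsymm : ∀ x : ℕ, x < c → (x ∉ Γ ↔ c - 1 - x ∈ Γ))
    (h1 : (1 : ℕ) ∉ Γ) (h2 : (2 : ℕ) ∉ Γ)
    (e : ℕ) (he : e ∈ Γ) (he0 : e ≠ 0) (hemin : ∀ γ : ℕ, γ ∈ Γ → γ ≠ 0 → e ≤ γ) :
    ∃ a b : ℕ, a ∈ Γ ∧ b ∈ Γ ∧ a < c ∧ b < c ∧ a + b = c - 1 + e ∧ e ≤ a ∧ a - e ∉ Γ ∧
      e ≤ b ∧ b - e ∉ Γ := by
  have hc3 : 3 ≤ c := by
    by_contra h
    have : c = 1 ∨ c = 2 := by omega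
    rcases this with rfl | rfl
    · exact hc1 Γ.zero_mem
    · exact h2 (hc 2 le_rfl)
  have hcm2 : c - 2 ∈ Γ := by
    have := (hsymm 1 (by omega)).mp h1
    have e1 : c - 1 - 1 = c - 2 := by omega
    rwa [e1] at this
  have hcm3 : c - 3 ∈ Γ := by
    have := (hsymm 2 (by omega)).mp h2
    have e1 : c - 1 - 2 = c - 3 := by omega
    rwa [e1] at this
  have he3 : 3 ≤ e := by
    by_contra h
    have : e = 1 ∨ e = 2 := by omega
    rcases this with rfl | rfl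
    · exact h1 he
    · exact h2 he
  have hex : ∃ x, x ∈ Γ ∧ ¬ e ∣ x := by
    by_cases hd : e ∣ c - 2
    · refine ⟨c - 3, hcm3, fun hd' => ?_⟩
      have h3 : e ∣ (c - 2) - (c - 3) := Nat.dvd_sub hd hd'
      have h4 : (c - 2) - (c - 3) = 1 := by omega
      rw [h4] at h3
      have := Nat.le_of_dvd one_pos h3
      omega
    · exact ⟨c - 2, hcm2, hd⟩
  have hexc : ∃ x, x ∈ Γ ∧ ¬ e ∣ x ∧ x < c := by
    by_cases hd : e ∣ c - 2
    · refine ⟨c - 3, hcm3, fun hd' => ?_, by omega⟩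
      have h3 : e ∣ (c - 2) - (c - 3) := Nat.dvd_sub hd hd'
      have h4 : (c - 2) - (c - 3) = 1 := by omega
      rw [h4] at h3
      have := Nat.le_of_dvd one_pos h3
      omega
    · exact ⟨c - 2, hcm2, hd, by omega⟩
  classical
  let a := Nat.find hex
  have ha : a ∈ Γ ∧ ¬ e ∣ a := Nat.find_spec hex
  have hamin : ∀ m, m < a → ¬ (m ∈ Γ ∧ ¬ e ∣ m) := fun m hm => Nat.find_min hex hm
  have hac : a < c := by
    obtain ⟨x, hx1, hx2, hx3⟩ := hexc
    have : a ≤ x := Nat.find_min' hex ⟨hx1, hx2⟩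
    omega
  have ha0 : a ≠ 0 := by
    intro h
    exact ha.2 (h ▸ dvd_zero e)
  have hea : e ≤ a := hemin a ha.1 ha0
  have hae : a - e ∉ Γ := by
    intro hmem
    refine hamin (a - e) (by omega) ⟨hmem, fun hd => ha.2 ?_⟩
    have := Nat.dvd_add hd (dvd_refl e)
    have e2 : a - e + e = a := by omega
    rwa [e2] at this
  have hb : c - 1 - (a - e) ∈ Γ := (hsymm (a - e) (by omega)).mp hae
  have hb0 : c - 1 - (a - e) ≠ 0 := by omega
  have heb : e ≤ c - 1 - (a - e) := hemin _ hb hb0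
  have hbe : c - 1 - (a - e) - e ∉ Γ := by
    have h5 : c - 1 - (a - e) - e = c - 1 - a := by omega
    rw [h5]
    intro hmem
    exact ((hsymm a hac).mpr hmem) ha.1
  exact ⟨a, c - 1 - (a - e), ha.1, hb, hac, by omega, by omega, hea, hae, heb, hbe⟩

end Groth.Agent.H75
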