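import Mathlib
import Groth.Prelude.Def_W4c2movlemaddchowShuffle

set_option autoImplicit false

namespace Groth.Agent.H75

open Equiv W4c2movlemaddchow

theorem shuffle_core_unique {n N : ℕ} (e : Fin n → Fin N) (he : Function.Injective e)
    (E : Perm (Fin n) → Perm (Fin N)) (hE : ∀ σ i, E σ (e i) = e (σ i))
    (τ τ' : Perm (Fin N)) (σ σ' : Perm (Fin n))
    (hτ : Monotone (fun i => τ (e i))) (hτ' : Monotone (fun i => τ' (e i)))
    (h : τ * E σ = τ' * E σ') : σ = σ' := by
  let f : Fin n → Fin N := fun i => (τ * E σ) (e i)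
  have hf1 : ∀ i, f i = τ (e (σ i)) := fun i => by
    show τ (E σ (e i)) = _
    rw [hE]
  have hf2 : ∀ i, f i = τ' (e (σ' i)) := fun i => by
    show (τ * E σ) (e i) = _
    rw [h]
    show τ' (E σ' (e i)) = _
    rw [hE]
  have hfinj : Function.Injective f := by
    intro i j hij
    rw [hf1, hf1] at hij
    exact σ.injective (he (τ.injective hij))
  have m1 : Monotone (f ∘ (σ⁻¹ : Perm (Fin n))) := by
    have : f ∘ (σ⁻¹ : Perm (Fin n)) = fun i => τ (e i) := by
      funext i
      simp [hf1]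
    rw [this]
    exact hτ
  have m2 : Monotone (f ∘ (σ'⁻¹ : Perm (Fin n))) := by
    have : f ∘ (σ'⁻¹ : Perm (Fin n)) = fun i => τ' (e i) := by
      funext i
      simp [hf2]
    rw [this]
    exact hτ'
  have h3 := Tuple.unique_monotone m1 m2
  have h4 : (σ⁻¹ : Perm (Fin n)) = σ'⁻¹ := by
    ext i
    have := congrFun h3 i
    exact congrArg Fin.val (hfinj this)
  exact inv_injective h4

theorem shuffle_core_exists {n N : ℕ} (e : Fin n → Fin N) (he : Function.Injective e)
    (ν : Perm (Fin N)) :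
    ∃ ρ : Perm (Fin n), Monotone (fun i => ν (e (ρ i))) ∧
      ∀ {m : ℕ} (b : Fin m → Fin n), Monotone (fun j => ν (e (b j))) →
        Monotone (fun j => (ρ⁻¹ : Perm (Fin n)) (b j)) := by
  let f : Fin n → Fin N := fun i => ν (e i)
  refine ⟨Tuple.sort f, Tuple.monotone_sort f, ?_⟩
  intro m b hb
  have hg : StrictMono (f ∘ Tuple.sort f) := by
    apply (Tuple.monotone_sort f).strictMono_of_injective
    intro i j hij
    exact (Tuple.sort f).injective (he (ν.injective hij))
  intro i i' hii'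
  have h1 := hb hii'
  have h2 : ∀ j, (f ∘ Tuple.sort f) ((Tuple.sort f)⁻¹ (b j)) = ν (e (b j)) := by
    intro j
    simp [f]
  simp only at h1
  rw [← h2 i, ← h2 i'] at h1
  exact hg.le_iff_le.mp h1

/-! ### extRight -/

theorem extRight_castAdd (a t : ℕ) (σ : Perm (Fin a)) (i : Fin a) :
    extRight a t σ (Fin.castAdd t i) = Fin.castAdd t (σ i) := by
  simp [extRight, Equiv.permCongr_apply]

theorem extRight_natAdd (a t : ℕ) (σ : Perm (Fin a)) (l : Fin t) :
    extRight a t σ (Fin.natAdd a l) = Fin.natAdd a l := by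
  simp [extRight, Equiv.permCongr_apply]

theorem extRight_mul_inv (a t : ℕ) (σ : Perm (Fin a)) :
    extRight a t σ * extRight a t σ⁻¹ = 1 := by
  ext x
  refine Fin.addCases (fun i => ?_) (fun l => ?_) x
  · simp [extRight_castAdd]
  · simp [extRight_natAdd]

theorem sign_extRight (a t : ℕ) (σ : Perm (Fin a)) :
    Equiv.Perm.sign (extRight a t σ) = Equiv.Perm.sign σ := by
  unfold extRight
  rw [Equiv.Perm.sign_permCongr, Equiv.Perm.sign_sumCongr, Equiv.Perm.sign_refl, mul_one]

end Groth.Agent.H75
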