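import Groth.Agent.H75.Shuffle

set_option autoImplicit false

namespace Groth.Agent.H75

open Equiv W4c2movlemaddchow

/-- embedding of the last `s + t` positions -/
def e23 (r s t : ℕ) (j : Fin (s + t)) : Fin (r + s + t) :=
  (finCongr (Nat.add_assoc r s t)).symm (Fin.natAdd r j)

/-- embedding of the first `r` positions -/
def e1 (r s t : ℕ) (i : Fin r) : Fin (r + s + t) := Fin.castAdd t (Fin.castAdd s i)

theorem e23_val (r s t : ℕ) (j : Fin (s + t)) : (e23 r s t j : ℕ) = r + j := by
  simp [e23]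

theorem e1_val (r s t : ℕ) (i : Fin r) : (e1 r s t i : ℕ) = i := by
  simp [e1]

theorem e23_injective (r s t : ℕ) : Function.Injective (e23 r s t) := by
  intro j j' h
  have := congrArg Fin.val h
  rw [e23_val, e23_val] at this
  exact Fin.ext (by omega)

theorem e23_castAdd (r s t : ℕ) (j : Fin s) :
    e23 r s t (Fin.castAdd t j) = Fin.castAdd t (Fin.natAdd r j) := by
  apply Fin.ext
  rw [e23_val]
  simp

theorem e23_natAdd (r s t : ℕ) (l : Fin t) :
    e23 r s t (Fin.natAdd s l) = Fin.natAdd (r + s) l := by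
  apply Fin.ext
  rw [e23_val]
  simp [Nat.add_assoc]

theorem cases_e1_e23 (r s t : ℕ) (x : Fin (r + s + t)) :
    (∃ i, x = e1 r s t i) ∨ (∃ j, x = e23 r s t j) := by
  by_cases h : (x : ℕ) < r
  · left
    exact ⟨⟨x, h⟩, Fin.ext (by rw [e1_val])⟩
  · right
    refine ⟨⟨x - r, by omega⟩, Fin.ext ?_⟩
    rw [e23_val]
    simp only
    omega

theorem extLeft_e23 (r s t : ℕ) (σ : Perm (Fin (s + t))) (j : Fin (s + t)) :
    extLeft r s t σ (e23 r s t j) = e23 r s t (σ j) := by
  simp [extLeft, e23, Equiv.permCongr_apply]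

theorem extLeft_e1 (r s t : ℕ) (σ : Perm (Fin (s + t))) (i : Fin r) :
    extLeft r s t σ (e1 r s t i) = e1 r s t i := by
  have h1 : (finCongr (Nat.add_assoc r s t)) (e1 r s t i) = Fin.castAdd (s + t) i := by
    apply Fin.ext
    simp [e1]
  have h2 : (finCongr (Nat.add_assoc r s t)).symm (Fin.castAdd (s + t) i) = e1 r s t i := by
    rw [← h1]
    simp
  simp only [extLeft, Equiv.permCongr_apply, Equiv.symm_symm, h1, finSumFinEquiv_symm_apply_castAdd,
    Equiv.sumCongr_apply, Sum.map_inl, Equiv.refl_apply, finSumFinEquiv_apply_left, h2]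

theorem extLeft_mul_inv (r s t : ℕ) (σ : Perm (Fin (s + t))) :
    extLeft r s t σ * extLeft r s t σ⁻¹ = 1 := by
  ext x
  rcases cases_e1_e23 r s t x with ⟨i, rfl⟩ | ⟨j, rfl⟩
  · simp [extLeft_e1]
  · simp [extLeft_e23]

theorem sign_extLeft (r s t : ℕ) (σ : Perm (Fin (s + t))) :
    Equiv.Perm.sign (extLeft r s t σ) = Equiv.Perm.sign σ := by
  unfold extLeft
  rw [Equiv.Perm.sign_permCongr, Equiv.Perm.sign_permCongr, Equiv.Perm.sign_sumCongr,
    Equiv.Perm.sign_refl, one_mul]

theorem isShuffle₂_permCongr_iff (r s t : ℕ) (τ : Perm (Fin (r + s + t))) :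
    IsShuffle₂ r (s + t) ((finCongr (Nat.add_assoc r s t)).permCongr τ) ↔
      Monotone (fun i => τ (e1 r s t i)) ∧ Monotone (fun j => τ (e23 r s t j)) := by
  unfold IsShuffle₂
  have h2 : ∀ i : Fin r, (finCongr (Nat.add_assoc r s t)).symm (Fin.castAdd (s + t) i) = e1 r s t i := by
    intro i
    apply Fin.ext
    simp [e1]
  have hle : ∀ x y : Fin (r + s + t), (finCongr (Nat.add_assoc r s t)) x ≤
      (finCongr (Nat.add_assoc r s t)) y ↔ x ≤ y := by
    intro x y
    rw [Fin.le_iff_val_le_val, Fin.le_iff_val_le_val, finCongr_apply_coe, finCongr_apply_coe]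
  constructor
  · rintro ⟨m1, m2⟩
    refine ⟨?_, ?_⟩
    · intro i i' hii'
      have := m1 hii'
      simp only [Equiv.permCongr_apply, h2, hle] at this
      exact this
    · intro j j' hjj'
      have := m2 hjj'
      simp only [Equiv.permCongr_apply, hle] at this
      exact this
  · rintro ⟨m1, m2⟩
    refine ⟨?_, ?_⟩
    · intro i i' hii'
      simp only [Equiv.permCongr_apply, h2, hle]
      exact m1 hii'
    · intro j j' hjj'
      simp only [Equiv.permCongr_apply, hle]
      exact m2 hjj'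

end Groth.Agent.H75
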