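import Mathlib.RingTheory.GradedAlgebra.Basic
import Mathlib.RingTheory.Derivation.Basic
import Mathlib.RingTheory.Ideal.Maximal
import Mathlib.Tactic

set_option autoImplicit false
universe u v w

namespace Groth.Agent.H75

open DirectSum

/-- Existence of a homogeneous slice for a homogeneous derivation on a "positively" graded
algebra. -/
theorem exists_slice (k : Type u) [CommRing k] (A : Type v) [CommRing A] [Algebra k A]
    (Λ : Type w) [AddCommGroup Λ] [DecidableEq Λ]
    (𝒜 : Λ → Submodule k A) [GradedAlgebra 𝒜]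
    (hpos : ∀ (p : Λ) (a x : A), a ∈ 𝒜 p → x ∈ 𝒜 (-p) → a * x ≠ 0 → p = 0)
    (D : Derivation k A A) (l : Λ)
    (hD : ∀ (i : Λ) (a : A), a ∈ 𝒜 i → D a ∈ 𝒜 (i + l)) (hl : 𝒜 l = ⊥)
    (hmax : ∀ m : Ideal A, m.IsMaximal → (∀ w : Λ, w ≠ 0 → (𝒜 w : Set A) ⊆ m) → ∃ a : A, D a ∉ m) :
    ∃ s ∈ 𝒜 (-l), D s = 1 := by
  -- projection to degree 0
  let π : Λ → A → A := fun i x => (decompose 𝒜 x i : A)
  have hπadd : ∀ i x y, π i (x + y) = π i x + π i y := by
    intro i x y
    simp only [π, decompose_add, DirectSum.add_apply, Submodule.coe_add]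
  have hπzero : ∀ i, π i 0 = 0 := by
    intro i; simp [π]
  have hπmul : ∀ a x, π 0 (a * x) = π 0 a * π 0 x := by
    intro a x
    induction a using Decomposition.inductionOn 𝒜 with
    | zero => simp [hπzero]
    | add a a' ha ha' => rw [add_mul, hπadd, ha, ha', hπadd, add_mul]
    | @homogeneous p a =>
      induction x using Decomposition.inductionOn 𝒜 with
      | zero => simp [hπzero]
      | add x x' hx hx' => rw [mul_add, hπadd, hx, hx', hπadd, mul_add]
      | @homogeneous q x =>
        have hax : (a : A) * (x : A) ∈ 𝒜 (p + q) := SetLike.mul_mem_graded a.2 x.2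
        by_cases hp : p = 0
        · by_cases hq : q = 0
          · subst hp; subst hq
            have hax' : (a : A) * (x : A) ∈ 𝒜 0 := by
              rw [add_zero] at hax; exact hax
            simp only [π]
            rw [decompose_of_mem_same 𝒜 a.2, decompose_of_mem_same 𝒜 x.2,
              decompose_of_mem_same 𝒜 hax']
          · subst hp
            simp only [π]
            rw [decompose_of_mem_ne 𝒜 x.2 hq, mul_zero,
              decompose_of_mem_ne 𝒜 hax (by simpa using hq)]
        · simp only [π]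
          rw [decompose_of_mem_ne 𝒜 a.2 hp, zero_mul]
          by_cases hpq : p + q = 0
          · have hq : q = -p := by
              rw [eq_neg_iff_add_eq_zero, add_comm]; exact hpq
            by_contra hne
            have hne' : (a : A) * (x : A) ≠ 0 := by
              intro h0
              apply hne
              rw [h0]; simp
            exact hp (hpos p a x a.2 (hq ▸ x.2) hne')
          · exact decompose_of_mem_ne 𝒜 hax hpq
  have hπD : ∀ x, π 0 (D x) = D (π (-l) x) := by
    intro x
    induction x using Decomposition.inductionOn 𝒜 with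
    | zero => simp [hπzero]
    | add x x' hx hx' => rw [map_add, hπadd, hx, hx', hπadd, map_add]
    | @homogeneous q x =>
      have hDx : D (x : A) ∈ 𝒜 (q + l) := hD q x x.2
      simp only [π]
      by_cases hq : q = -l
      · subst hq
        have hDx' : D (x : A) ∈ 𝒜 0 := by
          rw [neg_add_cancel] at hDx; exact hDx
        rw [decompose_of_mem_same 𝒜 x.2, decompose_of_mem_same 𝒜 hDx']
      · rw [decompose_of_mem_ne 𝒜 x.2 hq, map_zero]
        apply decompose_of_mem_ne 𝒜 hDx
        intro h
        apply hq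
        rw [eq_neg_iff_add_eq_zero]; exact h
  have hπmem : ∀ i x, π i x ∈ 𝒜 i := fun i x => SetLike.coe_mem _
  -- the ideal J
  let J : Ideal A :=
    { carrier := {x | ∃ γ ∈ 𝒜 (-l), D γ = π 0 x}
      zero_mem' := ⟨0, Submodule.zero_mem _, by simp [hπzero]⟩
      add_mem' := by
        rintro x y ⟨γ, hγ, e⟩ ⟨γ', hγ', e'⟩
        exact ⟨γ + γ', Submodule.add_mem _ hγ hγ', by rw [map_add, e, e', hπadd]⟩
      smul_mem' := by
        rintro a x ⟨γ, hγ, e⟩
        refine ⟨π 0 a * γ, ?_, ?_⟩
        · have := SetLike.mul_mem_graded (hπmem 0 a) hγ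
          rwa [zero_add] at this
        · have hDβ : D (π 0 a) = 0 := by
            have := hD 0 (π 0 a) (hπmem 0 a)
            rw [zero_add, hl] at this
            exact (Submodule.mem_bot k).mp this
          rw [smul_eq_mul, hπmul, ← e, Derivation.leibniz, hDβ, smul_zero, add_zero, smul_eq_mul] }
  have hJtop : J = ⊤ := by
    by_contra hne
    obtain ⟨m, hm, hJm⟩ := Ideal.exists_le_maximal J hne
    obtain ⟨a, ha⟩ := hmax m hm (by
      intro w hw x hx
      apply hJm
      refine ⟨0, Submodule.zero_mem _, ?_⟩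
      rw [map_zero]
      exact (decompose_of_mem_ne 𝒜 hx hw).symm)
    apply ha
    apply hJm
    exact ⟨π (-l) a, hπmem _ _, (hπD a).symm⟩
  have h1 : (1 : A) ∈ J := hJtop ▸ Submodule.mem_top
  obtain ⟨γ, hγ, e⟩ := h1
  refine ⟨γ, hγ, ?_⟩
  rw [e]
  exact decompose_of_mem_same 𝒜 SetLike.GradedOne.one_mem

end Groth.Agent.H75
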