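import Mathlib
import Groth.Agent.H75.FlatClosureGrp2

universe v₁ v₂ v₃ u₁ u₂ u₃ u
open AlgebraicGeometry CategoryTheory CategoryTheory.Limits TopologicalSpace
open MonoidalCategory CartesianMonoidalCategory MonObj GrpObj
open Groth.Agent.H75.FlatClosure Groth.Agent.H75.FlatClosureGrp Groth.Agent.H75.FlatClosureGrp2

namespace Groth.Agent.H75.SpreadSubgroupA

section cat
variable {C : Type u₁} [Category.{v₁} C] [CartesianMonoidalCategory C]
  {D : Type u₂} [Category.{v₂} D] [CartesianMonoidalCategory D]
  {E : Type u₃} [Category.{v₃} E] [CartesianMonoidalCategory E]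
  (F : C ⥤ D) (F' : D ⥤ E) (K : C ⥤ E) [F.Monoidal] [F'.Monoidal] [K.Monoidal]

/-- A natural transformation from a monoidal functor to a composite of monoidal functors (between
cartesian monoidal categories) is a homomorphism at every monoid object, for the iterated monoid
structure on the target. -/
theorem isMonHom_app (θ : K ⟶ F ⋙ F') (M : C) [MonObj M] :
    @IsMonHom E _ _ (K.obj M) (F'.obj (F.obj M)) (K.monObjObj (X := M))
      (@Functor.monObjObj D _ _ E _ _ F' _ (F.obj M) (F.monObjObj (X := M))) (θ.app M) := by
  have hmon : NatTrans.IsMonoidal θ := inferInstance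
  let i1 : MonObj (K.obj M) := K.monObjObj (X := M)
  let i2 : MonObj (F.obj M) := F.monObjObj (X := M)
  let i3 : MonObj (F'.obj (F.obj M)) := F'.monObjObj (X := F.obj M)
  refine @IsMonHom.mk E _ _ (K.obj M) (F'.obj (F.obj M)) i1 i3 (θ.app M) ?_ ?_
  · have h1 := NatTrans.IsMonoidal.unit (τ := θ)
    have h2 := θ.naturality (η[M])
    show (Functor.LaxMonoidal.ε K ≫ K.map η[M]) ≫ θ.app M =
      Functor.LaxMonoidal.ε F' ≫ F'.map (Functor.LaxMonoidal.ε F ≫ F.map η[M])
    rw [Category.assoc, h2, reassoc_of% h1]
    simp
  · have h1 := NatTrans.IsMonoidal.tensor (τ := θ) M M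
    have h2 := θ.naturality (μ[M])
    show (Functor.LaxMonoidal.μ K M M ≫ K.map μ[M]) ≫ θ.app M =
      (θ.app M ⊗ₘ θ.app M) ≫ Functor.LaxMonoidal.μ F' (F.obj M) (F.obj M) ≫
        F'.map (Functor.LaxMonoidal.μ F M M ≫ F.map μ[M])
    rw [Category.assoc, h2, reassoc_of% h1]
    simp
end cat

section theta
variable {S T W : Scheme.{u}} (f : W ⟶ T) (g : T ⟶ S)

theorem pullback_map_left_snd {X Y : Over S} (u : X ⟶ Y) :
    ((Over.pullback g).map u).left ≫ pullback.snd Y.hom g = pullback.snd X.hom g := by
  simp only [Over.pullback_map_left, pullback.lift_snd]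

/-- The comparison from base change along a composite to the iterated base change. -/
noncomputable def theta : Over.pullback (f ≫ g) ⟶ Over.pullback g ⋙ Over.pullback f where
  app G := Over.homMk (pullbackLeftPullbackSndIso G.hom g f).inv (by
    simp)
  naturality G G' a := by
    ext1
    simp only [Functor.comp_obj, Functor.comp_map, Over.comp_left, Over.homMk_left]
    have h1 := pullback_map_left_fst (f ≫ g) a
    have h1' := pullback_map_left_snd (f ≫ g) a
    have h2 := pullback_map_left_fst f ((Over.pullback g).map a)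
    have h2' := pullback_map_left_snd f ((Over.pullback g).map a)
    have h3 := pullback_map_left_fst g a
    have h3' := pullback_map_left_snd g a
    simp only [Over.pullback_obj_hom, Over.pullback_obj_left] at h1 h2 h3 h1' h2' h3' ⊢
    apply pullback.hom_ext
    · apply pullback.hom_ext
      · rw [Category.assoc, Category.assoc, pullbackLeftPullbackSndIso_inv_fst, h1,
          Category.assoc, Category.assoc, reassoc_of% h2, h3,
          pullbackLeftPullbackSndIso_inv_fst_assoc]
      · rw [Category.assoc, Category.assoc, pullbackLeftPullbackSndIso_inv_fst_snd,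
          reassoc_of% h1', Category.assoc, Category.assoc, reassoc_of% h2, h3',
          pullbackLeftPullbackSndIso_inv_fst_snd]
    · rw [Category.assoc, pullbackLeftPullbackSndIso_inv_snd_snd, h1', Category.assoc, h2',
        pullbackLeftPullbackSndIso_inv_snd_snd]

theorem theta_app_left (G : Over S) :
    ((theta f g).app G).left = (pullbackLeftPullbackSndIso G.hom g f).inv := rfl

instance (G : Over S) : IsIso ((theta f g).app G).left := by
  rw [theta_app_left]; infer_instance

end theta

section iter
variable {S S' SK : Scheme.{u}}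

/-- A closed subgroup of the base change along a composite, seen in the iterated base change. -/
theorem exists_iterated (u : S' ⟶ S) (e1 : SK ⟶ S') (e0 : SK ⟶ S) (h : e1 ≫ u = e0)
    (G : Over S) [GrpObj G] (HK : Over SK) [GrpObj HK]
    (i : HK ⟶ Red.bc e0 G) [IsMonHom i] [IsClosedImmersion i.left] :
    ∃ i' : HK ⟶ Red.bc e1 (Red.bc u G), IsMonHom i' ∧ IsClosedImmersion i'.left ∧
      i'.left ≫ pullback.fst (pullback.snd G.hom u) e1 ≫ pullback.fst G.hom u =
        i.left ≫ pullback.fst G.hom e0 := by
  subst h
  let t : Red.bc (e1 ≫ u) G ⟶ Red.bc e1 (Red.bc u G) := (theta e1 u).app G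
  have ht : IsMonHom t :=
    isMonHom_app (Over.pullback u) (Over.pullback e1) (Over.pullback (e1 ≫ u)) (theta e1 u) G
  have htl : t.left = (pullbackLeftPullbackSndIso G.hom u e1).inv := rfl
  have hiso : IsIso t.left := by rw [htl]; infer_instance
  refine ⟨i ≫ t, inferInstance, ?_, ?_⟩
  · rw [Over.comp_left]; infer_instance
  · rw [Over.comp_left, Category.assoc, htl]
    erw [pullbackLeftPullbackSndIso_inv_fst]

end iter

end Groth.Agent.H75.SpreadSubgroupA
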