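import Mathlib
import Groth.Agent.H75.SpreadSubgroupA
import Groth.Agent.H46.GenFree.Scheme

universe u
open AlgebraicGeometry CategoryTheory CategoryTheory.Limits TopologicalSpace
open MonoidalCategory CartesianMonoidalCategory MonObj GrpObj
open Groth.Agent.H75.FlatClosure Groth.Agent.H75.FlatClosureGrp Groth.Agent.H75.FlatClosureGrp2
open Groth.Agent.H75.SpreadSubgroupA

namespace Groth.Agent.H75.SpreadSubgroupB

theorem schDominant_fromSpecStalk_genericPoint (X : Scheme.{u}) [IsIntegral X] :
    IsSchemeTheoreticallyDominant (X.fromSpecStalk (genericPoint X)) := by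
  have hdom : IsDominant (X.fromSpecStalk (genericPoint X)) := by
    rw [isDominant_iff]
    have hmem : genericPoint X ∈ Set.range (X.fromSpecStalk (genericPoint X)).base := by
      rw [Scheme.range_fromSpecStalk]
      exact specializes_rfl
    have hd : Dense ({genericPoint X} : Set X) :=
      dense_iff_closure_eq.mpr (genericPoint_spec X)
    exact hd.mono (Set.singleton_subset_iff.mpr hmem)
  exact IsSchemeTheoreticallyDominant.of_isDominant _

/-- A dense open of an integral scheme contains the generic point. -/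
theorem genericPoint_mem_of_dense (X : Scheme.{u}) [IsIntegral X] (U : X.Opens)
    (hU : Dense (U : Set X)) : genericPoint X ∈ U := by
  have h := (genericPoint_spec X).mem_open_set_iff U.isOpen
  obtain ⟨x, hx⟩ := hU.nonempty
  exact h.mpr ⟨x, Set.mem_univ x, hx⟩

section lift
variable (X : Scheme.{u}) [IsIntegral X] (U : X.Opens) (hU : genericPoint X ∈ U)

theorem flat_lift : Flat (U.fromSpecStalkOfMem (genericPoint X) hU) := by
  have hpb := (isPullback_id_of_mono (U.fromSpecStalkOfMem (genericPoint X) hU) U.ι).flip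
  rw [Scheme.Opens.fromSpecStalkOfMem_ι] at hpb
  exact MorphismProperty.of_isPullback (P := @Flat) hpb (flat_fromSpecStalk X _)

theorem mono_lift : Mono (U.fromSpecStalkOfMem (genericPoint X) hU) := by
  have : Mono (U.fromSpecStalkOfMem (genericPoint X) hU ≫ U.ι) := by
    rw [Scheme.Opens.fromSpecStalkOfMem_ι]; infer_instance
  exact mono_of_mono (U.fromSpecStalkOfMem (genericPoint X) hU) U.ι

theorem quasiCompact_lift : QuasiCompact (U.fromSpecStalkOfMem (genericPoint X) hU) :=
  inferInstance

theorem schDominant_lift :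
    IsSchemeTheoreticallyDominant (U.fromSpecStalkOfMem (genericPoint X) hU) := by
  have hpb := (isPullback_id_of_mono (U.fromSpecStalkOfMem (genericPoint X) hU) U.ι)
  rw [Scheme.Opens.fromSpecStalkOfMem_ι] at hpb
  have h1 := schDominant_fromSpecStalk_genericPoint X
  have h2 : QuasiCompact (X.fromSpecStalk (genericPoint X)) := inferInstance
  exact IsSchemeTheoreticallyDominant.of_isPullback hpb.flip
end lift

/-- Base change of a closed immersion over `S` along `u` is a closed immersion. -/
theorem isClosedImmersion_pullback_map {S S' : Scheme.{u}} (u : S' ⟶ S) {H G : Over S} (j : H ⟶ G)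
    [IsClosedImmersion j.left] : IsClosedImmersion ((Over.pullback u).map j).left := by
  have hbot : IsPullback (pullback.fst G.hom u) (pullback.snd G.hom u) G.hom u :=
    IsPullback.of_hasPullback _ _
  have hbig : IsPullback (pullback.fst H.hom u) (pullback.snd H.hom u) H.hom u :=
    IsPullback.of_hasPullback _ _
  have htop : IsPullback (pullback.fst H.hom u) ((Over.pullback u).map j).left j.left
      (pullback.fst G.hom u) := by
    refine IsPullback.of_bot ?_ (pullback_map_left_fst u j).symm hbot
    rw [pullback_map_left_snd, Over.w j]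
    exact hbig
  exact MorphismProperty.of_isPullback (P := @IsClosedImmersion) htop inferInstance

theorem spread (X : Scheme.{u}) [IsIntegral X] (G : Over X) [GrpObj G]
    [IsAffineHom G.hom] [LocallyOfFinitePresentation G.hom]
    (Hη : Over (Spec X.functionField)) [GrpObj Hη]
    (i : Hη ⟶ Red.bc (X.fromSpecStalk (genericPoint X)) G) [IsMonHom i] [IsClosedImmersion i.left] :
    ∃ (U : X.Opens) (ηU : Spec X.functionField ⟶ (U : Scheme.{u})) (HU : Over (U : Scheme.{u}))
      (_ : GrpObj HU) (j : HU ⟶ Red.bc U.ι G) (φ : Hη.left ⟶ HU.left),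
      ηU ≫ U.ι = X.fromSpecStalk (genericPoint X) ∧ IsMonHom j ∧ IsClosedImmersion j.left ∧
      IsPullback φ Hη.hom HU.hom ηU ∧
      φ ≫ j.left ≫ pullback.fst G.hom U.ι =
        i.left ≫ pullback.fst G.hom (X.fromSpecStalk (genericPoint X)) := by
  have hqcη : QuasiCompact (X.fromSpecStalk (genericPoint X)) := inferInstance
  have hcl : IsClosedImmersion (i.left : Hη.left ⟶ pullback G.hom (X.fromSpecStalk (genericPoint X))) :=
    ‹IsClosedImmersion i.left›
  let c : Hη.left ⟶ G.left :=
    (i.left : Hη.left ⟶ pullback G.hom (X.fromSpecStalk (genericPoint X))) ≫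
      pullback.fst G.hom (X.fromSpecStalk (genericPoint X))
  have hqcc : QuasiCompact c := inferInstance
  let HX : Over X := Over.mk (c.imageι ≫ G.hom)
  let jX : HX ⟶ G := Over.homMk c.imageι rfl
  have hjX : IsClosedImmersion jX.left := by
    show IsClosedImmersion c.imageι
    infer_instance
  have hft : LocallyOfFiniteType HX.hom := by
    show LocallyOfFiniteType (c.imageι ≫ G.hom)
    infer_instance
  have hqcH : QuasiCompact HX.hom := by
    show QuasiCompact (c.imageι ≫ G.hom)
    infer_instance
  obtain ⟨U, hUdense, hUflat, -⟩ := Groth.Agent.H46.GenFree.generic_flatness HX.hom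
  have hηU : genericPoint X ∈ U := genericPoint_mem_of_dense X U hUdense
  let ηU : Spec X.functionField ⟶ (U : Scheme.{u}) := U.fromSpecStalkOfMem (genericPoint X) hηU
  have hηUι : ηU ≫ U.ι = X.fromSpecStalk (genericPoint X) := U.fromSpecStalkOfMem_ι _ _
  have h1 : Flat ηU := flat_lift X U hηU
  have h2 : Mono ηU := mono_lift X U hηU
  have h3 : QuasiCompact ηU := quasiCompact_lift X U hηU
  have h4 : IsSchemeTheoreticallyDominant ηU := schDominant_lift X U hηU
  obtain ⟨i', hi'mon, hi'cl, hi'⟩ := exists_iterated U.ι ηU _ hηUι G Hη i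
  let HU : Over (U : Scheme.{u}) := Red.bc U.ι HX
  let jU : HU ⟶ Red.bc U.ι G := (Over.pullback U.ι).map jX
  have hjU : IsClosedImmersion jU.left := isClosedImmersion_pullback_map U.ι jX
  have hflatHU : Flat HU.hom := by
    show Flat (pullback.snd HX.hom U.ι)
    rw [← pullbackRestrictIsoRestrict_hom_morphismRestrict]
    infer_instance
  have hcomm : c.toImage ≫ HX.hom = (Hη.hom ≫ ηU) ≫ U.ι := by
    show c.toImage ≫ c.imageι ≫ G.hom = _
    rw [Scheme.Hom.toImage_imageι_assoc, Category.assoc Hη.hom, hηUι]
    show (i.left ≫ pullback.fst _ _) ≫ G.hom = _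
    rw [Category.assoc, pullback.condition, ← Over.w i]
    rfl
  let φ : Hη.left ⟶ HU.left := pullback.lift c.toImage (Hη.hom ≫ ηU) hcomm
  have hφfst : φ ≫ pullback.fst HX.hom U.ι = c.toImage := pullback.lift_fst _ _ _
  have hφsnd : φ ≫ pullback.snd HX.hom U.ι = Hη.hom ≫ ηU := pullback.lift_snd _ _ _
  have hsdφ : IsSchemeTheoreticallyDominant φ := by
    have hpb := isPullback_id_of_mono φ (pullback.fst HX.hom U.ι)
    rw [hφfst] at hpb
    have := isSchemeTheoreticallyDominant_toImage c
    exact IsSchemeTheoreticallyDominant.of_isPullback hpb.flip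
  have hφj : φ ≫ jU.left = i'.left ≫ pullback.fst (Red.bc U.ι G).hom ηU := by
    apply pullback.hom_ext
    · rw [Category.assoc, pullback_map_left_fst, reassoc_of% hφfst, Category.assoc]
      show c.toImage ≫ c.imageι = _
      rw [Scheme.Hom.toImage_imageι]
      exact hi'.symm
    · rw [Category.assoc, pullback_map_left_snd, hφsnd, Category.assoc]
      have hw := Over.w i'
      simp only [Over.pullback_obj_hom] at hw
      rw [← hw, Category.assoc]
      congr 1
      exact pullback.condition.symm
  obtain ⟨hgrp, hmon, hpb⟩ := grpObj_of_schDominant ηU (Red.bc U.ι G) Hη i' HU jU φ hφj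
  refine ⟨U, ηU, HU, hgrp, jU, φ, hηUι, hmon, hjU, hpb, ?_⟩
  rw [pullback_map_left_fst, reassoc_of% hφfst]
  show c.toImage ≫ c.imageι = _
  rw [Scheme.Hom.toImage_imageι]

end Groth.Agent.H75.SpreadSubgroupB
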