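import Groth.Agent.H84.SympDet

/-!
# Determinants of "symplectically self-adjoint" matrices are squares (helper75)

Uses helper84's polynomial square root `pfPoly` of the generic alternating determinant.
-/

set_option autoImplicit false

namespace Groth.Agent.H75.SympPf

open Matrix Groth.Agent.H84

variable {m : ℕ}

/-- The standard symplectic matrix. -/
def Jm (m : ℕ) (R : Type*) [CommRing R] : Matrix (Fin m ⊕ Fin m) (Fin m ⊕ Fin m) R :=
  Matrix.fromBlocks 0 1 (-1) 0

section Basic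

variable {R : Type*} [CommRing R]

lemma Jm_transpose : (Jm m R)ᵀ = -Jm m R := by
  unfold Jm
  rw [fromBlocks_transpose, fromBlocks_neg]
  simp

lemma Jm_mul_Jm : Jm m R * Jm m R = -1 := by
  unfold Jm
  rw [fromBlocks_multiply]
  simp only [mul_zero, add_zero, zero_add, mul_one, mul_neg]
  rw [← fromBlocks_one, fromBlocks_neg]
  simp

lemma det_Jm_sq : (Jm m R).det * (Jm m R).det = 1 := by
  rw [← det_mul, Jm_mul_Jm, det_neg, det_one, mul_one]
  simp only [Fintype.card_sum, Fintype.card_fin]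
  rw [← two_mul, pow_mul]
  simp

lemma Jm_map {R' : Type*} [CommRing R'] (f : R →+* R') : (Jm m R).map f = Jm m R' := by
  unfold Jm
  rw [fromBlocks_map]
  simp [Matrix.map_zero, Matrix.map_one, Matrix.map_neg]

/-- The matrix whose alternation is `J * B`. -/
noncomputable def halfMat (half : R) (B : Matrix (Fin m ⊕ Fin m) (Fin m ⊕ Fin m) R) :
    Matrix (Fin (m + m)) (Fin (m + m)) R :=
  Matrix.reindex finSumFinEquiv finSumFinEquiv (half • (Jm m R * B))

lemma halfMat_map {R' : Type*} [CommRing R'] (f : R →+* R') (half : R)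
    (B : Matrix (Fin m ⊕ Fin m) (Fin m ⊕ Fin m) R) :
    (halfMat half B).map f = halfMat (f half) (B.map f) := by
  unfold halfMat
  ext i j
  simp only [reindex_apply, map_apply, submatrix_apply, Matrix.smul_apply, smul_eq_mul, map_mul]
  rw [← Jm_map f, ← Matrix.map_mul]
  rfl

/-- Key identity: `det B = det J * pf(…)^2` when `J * B` is skew. -/
lemma det_eq (half : R) (h2 : 2 * half = 1) (B : Matrix (Fin m ⊕ Fin m) (Fin m ⊕ Fin m) R)
    (hB : (Jm m R * B)ᵀ = -(Jm m R * B)) :
    B.det = (Jm m R).det * pfEval (halfMat half B) ^ 2 := by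
  rw [pfEval_sq]
  have h1 : halfMat half B - (halfMat half B)ᵀ =
      Matrix.reindex finSumFinEquiv finSumFinEquiv (Jm m R * B) := by
    unfold halfMat
    ext i j
    simp only [reindex_apply, Matrix.sub_apply, transpose_apply, submatrix_apply,
      Matrix.smul_apply, smul_eq_mul]
    have := congrFun (congrFun hB (finSumFinEquiv.symm i)) (finSumFinEquiv.symm j)
    rw [transpose_apply, Matrix.neg_apply] at this
    rw [this]
    linear_combination ((Jm m R * B) (finSumFinEquiv.symm i) (finSumFinEquiv.symm j)) * h2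
  rw [h1, det_reindex_self, det_mul, ← mul_assoc, det_Jm_sq, one_mul]

end Basic

section Generic

variable {S : Type*} [CommRing S]

/-- The generic matrix over `S[x_ij]`. -/
noncomputable def genM (m : ℕ) (S : Type*) [CommRing S] :
    Matrix (Fin m ⊕ Fin m) (Fin m ⊕ Fin m)
      (MvPolynomial ((Fin m ⊕ Fin m) × (Fin m ⊕ Fin m)) S) :=
  Matrix.of fun i j => MvPolynomial.X (i, j)

lemma genM_map (a : Matrix (Fin m ⊕ Fin m) (Fin m ⊕ Fin m) S) :
    (genM m S).map (MvPolynomial.eval (fun ij => a ij.1 ij.2)) = a := by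
  ext i j
  simp [genM]

/-- Evaluating the "generic Pfaffian expression" at a matrix. -/
lemma eval_pf (half c : S)
    (B₀ : Matrix (Fin m ⊕ Fin m) (Fin m ⊕ Fin m)
      (MvPolynomial ((Fin m ⊕ Fin m) × (Fin m ⊕ Fin m)) S))
    (a : Matrix (Fin m ⊕ Fin m) (Fin m ⊕ Fin m) S) :
    MvPolynomial.eval (fun ij => a ij.1 ij.2)
      (MvPolynomial.C c * pfEval (halfMat (MvPolynomial.C half) B₀)) =
      c * pfEval (halfMat half (B₀.map (MvPolynomial.eval (fun ij => a ij.1 ij.2)))) := by
  rw [map_mul, MvPolynomial.eval_C, pfEval_map, halfMat_map, MvPolynomial.eval_C]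

end Generic

section Skew

variable {R : Type*} [CommRing R]

lemma skew_of_comm (A : Matrix (Fin m ⊕ Fin m) (Fin m ⊕ Fin m) R)
    (hA : Aᵀ * Jm m R = Jm m R * A) : (Jm m R * A)ᵀ = -(Jm m R * A) := by
  rw [Matrix.transpose_mul, Jm_transpose, Matrix.mul_neg, hA]

lemma scalar_mul_Jm (x : R) :
    Matrix.scalar (Fin m ⊕ Fin m) x * Jm m R = Jm m R * Matrix.scalar (Fin m ⊕ Fin m) x :=
  (Matrix.scalar_commute x (fun r => Commute.all _ r) (Jm m R)).eq

open Polynomial in
lemma skew_charmatrix (A : Matrix (Fin m ⊕ Fin m) (Fin m ⊕ Fin m) R)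
    (hA : Aᵀ * Jm m R = Jm m R * A) :
    (Jm m R[X] * A.charmatrix)ᵀ = -(Jm m R[X] * A.charmatrix) := by
  have hJ : Jm m R[X] = (Jm m R).map (C : R →+* R[X]) := (Jm_map (C : R →+* R[X])).symm
  have hchar : A.charmatrix = Matrix.scalar (Fin m ⊕ Fin m) (X : R[X]) - A.map C := rfl
  have hst : (Matrix.scalar (Fin m ⊕ Fin m) (X : R[X]))ᵀ =
      Matrix.scalar (Fin m ⊕ Fin m) (X : R[X]) := by
    rw [Matrix.scalar_apply, Matrix.diagonal_transpose]
  have e2 : (A.map C)ᵀ * Jm m R[X] = Jm m R[X] * A.map C := by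
    rw [hJ, ← Matrix.transpose_map, ← Matrix.map_mul, ← Matrix.map_mul, hA]
  rw [hchar, Matrix.mul_sub, Matrix.transpose_sub, Matrix.transpose_mul, Matrix.transpose_mul,
    Jm_transpose, hst, Matrix.mul_neg, Matrix.mul_neg, scalar_mul_Jm, e2]
  abel

open Polynomial in
lemma charmatrix_eq_map (A : Matrix (Fin m ⊕ Fin m) (Fin m ⊕ Fin m) R) :
    (Matrix.scalar (Fin m ⊕ Fin m) (MvPolynomial.C (X : R[X])) - genM m R[X]).map
      (MvPolynomial.eval (fun ij : (Fin m ⊕ Fin m) × (Fin m ⊕ Fin m) =>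
        (A.map (C : R →+* R[X])) ij.1 ij.2)) = A.charmatrix := by
  ext i j
  rw [Matrix.map_apply, Matrix.sub_apply, map_sub, Matrix.charmatrix_apply]
  have h1 : MvPolynomial.eval (fun ij : (Fin m ⊕ Fin m) × (Fin m ⊕ Fin m) =>
        (A.map (C : R →+* R[X])) ij.1 ij.2)
      (Matrix.scalar (Fin m ⊕ Fin m) (MvPolynomial.C (X : R[X])) i j) =
      Matrix.diagonal (fun _ => (X : R[X])) i j := by
    rw [Matrix.scalar_apply, Matrix.diagonal_apply, Matrix.diagonal_apply]
    split_ifs
    · rw [MvPolynomial.eval_C]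
    · rw [map_zero]
  have h2 : MvPolynomial.eval (fun ij : (Fin m ⊕ Fin m) × (Fin m ⊕ Fin m) =>
        (A.map (C : R →+* R[X])) ij.1 ij.2) (genM m R[X] i j) = C (A i j) := by
    simp [genM]
  rw [h1, h2]

end Skew

end Groth.Agent.H75.SympPf
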