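import Mathlib
import Groth.Agent.H72.LDLes
import Groth.Agent.H72.LDLinear

/-! Helper for S15024/S15025: consequences of the long exact sequence of left derived functors
for a short exact sequence `0 → P → M → T → 0` with `P` projective and `T` killed by a scalar
acting injectively on `L₀F(P)`. -/

set_option autoImplicit false
universe v v' u u'

open CategoryTheory CategoryTheory.Limits

namespace Groth.Agent.H75.TorTorsion

variable {R : Type*} [CommRing R]
variable {C : Type u} [Category.{v} C] [Abelian C] [Linear R C] [EnoughProjectives C]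
variable {D : Type u'} [Category.{v'} D] [Abelian D] [Linear R D]
variable (F : C ⥤ D) [F.Additive] [F.Linear R]

theorem les_consequences (S : ShortComplex C) (hS : S.ShortExact) [Projective S.X₁] (x : R)
    (hx3 : x • 𝟙 S.X₃ = 0) (hx1 : Mono (x • 𝟙 ((F.leftDerived 0).obj S.X₁))) :
    IsIso ((F.leftDerived 1).map S.g) ∧ Mono ((F.leftDerived 0).map S.f) ∧
      ∃ δ : (F.leftDerived 1).obj S.X₃ ⟶ (F.leftDerived 0).obj S.X₁, δ = 0 ∧
        ∃ (w₂ : δ ≫ (F.leftDerived 0).map S.f = 0), (ShortComplex.mk _ _ w₂).Exact := by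
  obtain ⟨-, hmid, δ, hδ⟩ := Groth.Agent.H72.LDLes.exists_les F S hS
  obtain ⟨w₁, w₂, e₁, e₂⟩ := hδ 0
  -- x kills L₁F(X₃)
  have hkill : x • 𝟙 ((F.leftDerived 1).obj S.X₃) = 0 := by
    rw [← Groth.Agent.H72.LDLinear.leftDerived_map_smul_id F 1 S.X₃ x, hx3, Functor.map_zero]
  -- hence δ 0 = 0
  have hδ0 : δ 0 = 0 := by
    have h1 : δ 0 ≫ (x • 𝟙 ((F.leftDerived 0).obj S.X₁)) = 0 := by
      rw [Linear.comp_smul, Category.comp_id, ← Category.id_comp (δ 0), ← Linear.smul_comp, hkill,
        zero_comp]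
    exact (cancel_mono (x • 𝟙 ((F.leftDerived 0).obj S.X₁))).1 (h1.trans zero_comp.symm)
  have hz : IsZero ((F.leftDerived 1).obj S.X₁) :=
    Functor.isZero_leftDerived_obj_projective_succ F 0 S.X₁
  have hmono : Mono ((F.leftDerived 1).map S.g) := (hmid 1).mono_g (hz.eq_of_src _ _)
  have hepi : Epi ((F.leftDerived 1).map S.g) := e₁.epi_f hδ0
  have hmono0 : Mono ((F.leftDerived 0).map S.f) := e₂.mono_g hδ0
  exact ⟨isIso_of_mono_of_epi _, hmono0, δ 0, hδ0, w₂, e₂⟩

end Groth.Agent.H75.TorTorsion
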