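import Mathlib
import Groth.Agent.H75.TorTorsion

/-! Concrete module version of `TorTorsion.les_consequences` for `Tor` of modules. -/

set_option autoImplicit false
universe u

open CategoryTheory CategoryTheory.Limits MonoidalCategory TensorProduct

namespace Groth.Agent.H75.TorTorsion

variable {R : Type u} [CommRing R]

/-- the short complex `P → M → M / range f`. -/
noncomputable def sesOf {P M : Type u} [AddCommGroup P] [Module R P] [AddCommGroup M] [Module R M]
    (f : P →ₗ[R] M) : ShortComplex (ModuleCat.{u} R) :=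
  ShortComplex.mk (ModuleCat.ofHom f) (ModuleCat.ofHom (LinearMap.range f).mkQ) (by
    ext p
    simp)

theorem sesOf_shortExact {P M : Type u} [AddCommGroup P] [Module R P] [AddCommGroup M]
    [Module R M] (f : P →ₗ[R] M) (hf : Function.Injective f) : (sesOf f).ShortExact := by
  have hex : (sesOf f).Exact := by
    rw [ShortComplex.moduleCat_exact_iff_range_eq_ker]
    change LinearMap.range f = LinearMap.ker (LinearMap.range f).mkQ
    rw [Submodule.ker_mkQ]
  have hmono : Mono (sesOf f).f := (ModuleCat.mono_iff_injective _).2 hf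
  have hepi : Epi (sesOf f).g :=
    (ModuleCat.epi_iff_surjective _).2 (Submodule.mkQ_surjective _)
  exact ShortComplex.ShortExact.mk hex

theorem tor_iso_and_lTensor_injective (Xm : Type u) [AddCommGroup Xm] [Module R Xm]
    {P M : Type u} [AddCommGroup P] [Module R P] [Module.Projective R P] [AddCommGroup M]
    [Module R M] (f : P →ₗ[R] M) (hf : Function.Injective f) (x : R)
    (hxT : ∀ t : M ⧸ LinearMap.range f, x • t = 0)
    (hxP : ∀ w : Xm ⊗[R] P, x • w = 0 → w = 0) :
    Nonempty (((Tor (ModuleCat.{u} R) 1).obj (ModuleCat.of R Xm)).obj (ModuleCat.of R M) ≅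
      ((Tor (ModuleCat.{u} R) 1).obj (ModuleCat.of R Xm)).obj
        (ModuleCat.of R (M ⧸ LinearMap.range f))) ∧
      Function.Injective (LinearMap.lTensor Xm f) := by
  let F : ModuleCat.{u} R ⥤ ModuleCat.{u} R := (tensoringLeft (ModuleCat.{u} R)).obj (ModuleCat.of R Xm)
  have hFadd : F.Additive := inferInstanceAs (tensorLeft (ModuleCat.of R Xm)).Additive
  have hFlin : F.Linear R := inferInstanceAs ((tensorLeft (ModuleCat.of R Xm)).Linear R)
  have hFcolim : PreservesFiniteColimits F :=
    inferInstanceAs (PreservesFiniteColimits (tensorLeft (ModuleCat.of R Xm)))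
  have hS := sesOf_shortExact f hf
  have hproj : Projective (sesOf f).X₁ := (IsProjective.iff_projective (R := R) P).1 inferInstance
  have hx3 : x • 𝟙 (sesOf f).X₃ = 0 := by
    ext t
    exact hxT t
  let e := F.leftDerivedZeroIsoSelf
  have hmonoF : Mono (x • 𝟙 (F.obj (sesOf f).X₁)) := by
    rw [ModuleCat.mono_iff_injective]
    intro a b hab
    have h1 : x • (a - b) = 0 := by
      rw [smul_sub]
      exact sub_eq_zero.2 hab
    have h2 := hxP (a - b) h1
    exact sub_eq_zero.1 h2
  have hx1 : Mono (x • 𝟙 ((F.leftDerived 0).obj (sesOf f).X₁)) := by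
    have h1 : x • 𝟙 ((F.leftDerived 0).obj (sesOf f).X₁) =
        (e.app (sesOf f).X₁).hom ≫ (x • 𝟙 (F.obj (sesOf f).X₁)) ≫ (e.app (sesOf f).X₁).inv := by
      rw [Linear.smul_comp, Linear.comp_smul, Category.id_comp, Iso.hom_inv_id]
    rw [h1]
    infer_instance
  obtain ⟨hiso, hmono0, -⟩ := les_consequences F (sesOf f) hS x hx3 hx1
  refine ⟨⟨@asIso _ _ _ _ ((F.leftDerived 1).map (sesOf f).g) hiso⟩, ?_⟩
  have hnat : F.map (sesOf f).f =
      e.inv.app (sesOf f).X₁ ≫ (F.leftDerived 0).map (sesOf f).f ≫ e.hom.app (sesOf f).X₂ := by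
    have := e.hom.naturality (sesOf f).f
    rw [this, Iso.inv_hom_id_app_assoc]
  have hi1 : IsIso (e.hom.app (sesOf f).X₂) := (e.app (sesOf f).X₂).isIso_hom
  have hm1 : Mono (e.hom.app (sesOf f).X₂) := @IsIso.mono_of_iso _ _ _ _ _ hi1
  have hm2 : Mono ((F.leftDerived 0).map (sesOf f).f ≫ e.hom.app (sesOf f).X₂) :=
    @mono_comp _ _ _ _ _ _ hmono0 _ hm1
  have hi3 : IsIso (e.inv.app (sesOf f).X₁) := (e.app (sesOf f).X₁).isIso_inv
  have hm3 : Mono (e.inv.app (sesOf f).X₁) := @IsIso.mono_of_iso _ _ _ _ _ hi3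
  have hmonoFf : Mono (F.map (sesOf f).f) := by
    rw [hnat]
    exact @mono_comp _ _ _ _ _ _ hm3 _ hm2
  have hinj : Function.Injective (F.map (sesOf f).f) :=
    (ModuleCat.mono_iff_injective (F.map (sesOf f).f)).1 hmonoFf
  exact hinj

end Groth.Agent.H75.TorTorsion
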