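import Mathlib
import Groth.Agent.H75.TorTorsion2

/-! Auxiliary facts over a one-dimensional domain for S15024/S15025. -/

set_option autoImplicit false
universe u

open TensorProduct

namespace Groth.Agent.H75.TorTorsion

/-- A finite length module over a domain of Krull dimension one is killed by a nonzero scalar. -/
theorem exists_ne_zero_smul_eq_zero (O : Type u) [CommRing O] [IsDomain O]
    (hdim : ringKrullDim O = 1) (T : Type u) [AddCommGroup T] [Module O T]
    (hT : IsFiniteLength O T) : ∃ x : O, x ≠ 0 ∧ ∀ t : T, x • t = 0 := by
  obtain ⟨hN, hA⟩ := isFiniteLength_iff_isNoetherian_isArtinian.1 hT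
  have hfin : Module.Finite O T := inferInstance
  have htors : Module.IsTorsion O T := by
    intro t
    by_contra hcon
    push Not at hcon
    have hinj : Function.Injective (LinearMap.toSpanSingleton O T t) := by
      rw [← LinearMap.ker_eq_bot, LinearMap.ker_eq_bot']
      intro a ha
      by_contra ha0
      exact hcon ⟨a, mem_nonZeroDivisors_of_ne_zero ha0⟩ (by simpa using ha)
    have hart : IsArtinian O O := isArtinian_of_injective _ hinj
    have hartR : IsArtinianRing O := hart
    have hfield : IsField O := IsArtinianRing.isField_of_isDomain O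
    have := ringKrullDim_eq_zero_of_isField hfield
    rw [hdim] at this
    exact one_ne_zero this
  have hne := Submodule.annihilator_top_inter_nonZeroDivisors htors
  obtain ⟨x, hx1, hx2⟩ := hne
  refine ⟨x, nonZeroDivisors.ne_zero hx2, fun t => ?_⟩
  exact (Submodule.mem_annihilator.1 hx1) t Submodule.mem_top

/-- Scalars act injectively on `Õ ⊗ O^n` for a subalgebra `Õ` of the fraction field. -/
theorem smul_tensor_pi_eq_zero (O : Type u) [CommRing O] [IsDomain O] (K : Type u) [Field K]
    [Algebra O K] [IsFractionRing O K] (B : Subalgebra O K) (n : ℕ) (x : O) (hx : x ≠ 0)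
    (w : B ⊗[O] (Fin n → O)) (hw : x • w = 0) : w = 0 := by
  have h1 : x • (TensorProduct.piScalarRight O O B (Fin n) w) = 0 := by
    rw [← map_smul, hw, map_zero]
  have h2 : TensorProduct.piScalarRight O O B (Fin n) w = 0 := by
    funext i
    have h3 := congrFun h1 i
    rw [Pi.smul_apply, Pi.zero_apply] at h3
    have h4 : algebraMap O K x * ((TensorProduct.piScalarRight O O B (Fin n) w i : B) : K) = 0 := by
      have := congrArg (Subtype.val) h3
      rw [← Algebra.smul_def]
      exact this
    have hxK : algebraMap O K x ≠ 0 := by
      intro h0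
      exact hx ((IsFractionRing.injective O K) (by rw [h0, map_zero]))
    rcases mul_eq_zero.1 h4 with h5 | h5
    · exact absurd h5 hxK
    · exact Subtype.ext h5
  exact (LinearEquiv.map_eq_zero_iff _).1 h2

end Groth.Agent.H75.TorTorsion
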