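import Mathlib
import Groth.Agent.H75.TorTorsion3

/-! For `0 → M → P → T → 0` with `P` projective and `T` killed by a scalar `x` acting injectively on
`X ⊗ P`: the kernel of `X ⊗ M → X ⊗ P` is isomorphic to `Tor₁(X, T)` and is killed by `x`. -/

set_option autoImplicit false
universe v v' u u'

open CategoryTheory CategoryTheory.Limits MonoidalCategory TensorProduct

namespace Groth.Agent.H75.TorTorsion

section abstract

variable {R : Type*} [CommRing R]
variable {C : Type u} [Category.{v} C] [Abelian C] [Linear R C] [EnoughProjectives C]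
variable {D : Type u'} [Category.{v'} D] [Abelian D] [Linear R D]
variable (F : C ⥤ D) [F.Additive] [F.Linear R]

theorem les_consequences_mid (S : ShortComplex C) (hS : S.ShortExact) [Projective S.X₂] (x : R)
    (hx3 : x • 𝟙 S.X₃ = 0) :
    x • 𝟙 ((F.leftDerived 1).obj S.X₃) = 0 ∧
      ∃ δ : (F.leftDerived 1).obj S.X₃ ⟶ (F.leftDerived 0).obj S.X₁, Mono δ ∧
        ∃ (w₂ : δ ≫ (F.leftDerived 0).map S.f = 0), (ShortComplex.mk _ _ w₂).Exact := by
  obtain ⟨-, -, δ, hδ⟩ := Groth.Agent.H72.LDLes.exists_les F S hS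
  obtain ⟨w₁, w₂, e₁, e₂⟩ := hδ 0
  have hkill : x • 𝟙 ((F.leftDerived 1).obj S.X₃) = 0 := by
    rw [← Groth.Agent.H72.LDLinear.leftDerived_map_smul_id F 1 S.X₃ x, hx3, Functor.map_zero]
  have hz : IsZero ((F.leftDerived 1).obj S.X₂) :=
    Functor.isZero_leftDerived_obj_projective_succ F 0 S.X₂
  have hmono : Mono (δ 0) := e₁.mono_g (hz.eq_of_src _ _)
  exact ⟨hkill, δ 0, hmono, w₂, e₂⟩

end abstract

variable {R : Type u} [CommRing R]

/-- the short complex `M → P → P / range g`. -/
theorem ker_lTensor_equiv_tor (Xm : Type u) [AddCommGroup Xm] [Module R Xm]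
    {P M : Type u} [AddCommGroup P] [Module R P] [Module.Projective R P] [AddCommGroup M]
    [Module R M] (g : M →ₗ[R] P) (hg : Function.Injective g) (x : R)
    (hxT : ∀ t : P ⧸ LinearMap.range g, x • t = 0) :
    ∃ φ : ↑(((Tor (ModuleCat.{u} R) 1).obj (ModuleCat.of R Xm)).obj
        (ModuleCat.of R (P ⧸ LinearMap.range g))) →ₗ[R] Xm ⊗[R] M,
      Function.Injective φ ∧ LinearMap.range φ = LinearMap.ker (LinearMap.lTensor Xm g) ∧
      ∀ z, x • φ z = 0 := by
  let F : ModuleCat.{u} R ⥤ ModuleCat.{u} R := (tensoringLeft (ModuleCat.{u} R)).obj (ModuleCat.of R Xm)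
  have hFadd : F.Additive := inferInstanceAs (tensorLeft (ModuleCat.of R Xm)).Additive
  have hFlin : F.Linear R := inferInstanceAs ((tensorLeft (ModuleCat.of R Xm)).Linear R)
  have hFcolim : PreservesFiniteColimits F :=
    inferInstanceAs (PreservesFiniteColimits (tensorLeft (ModuleCat.of R Xm)))
  have hS := sesOf_shortExact g hg
  have hproj : Projective (sesOf g).X₂ := (IsProjective.iff_projective (R := R) P).1 inferInstance
  have hx3 : x • 𝟙 (sesOf g).X₃ = 0 := by
    ext t
    exact hxT t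
  let e := F.leftDerivedZeroIsoSelf
  obtain ⟨hkill, δ, hmono, w₂, hex⟩ := les_consequences_mid F (sesOf g) hS x hx3
  have hi1 : IsIso (e.hom.app (sesOf g).X₁) := (e.app (sesOf g).X₁).isIso_hom
  have hm1 : Mono (e.hom.app (sesOf g).X₁) := @IsIso.mono_of_iso _ _ _ _ _ hi1
  have hmφ : Mono (δ ≫ e.hom.app (sesOf g).X₁) := @mono_comp _ _ _ _ _ _ hmono _ hm1
  have hnat := e.hom.naturality (sesOf g).f
  -- exactness of (δ ≫ e, F.map f)
  have hw : (δ ≫ e.hom.app (sesOf g).X₁) ≫ F.map (sesOf g).f = 0 := by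
    rw [Category.assoc, ← hnat, ← Category.assoc, w₂, zero_comp]
  have hex' : (ShortComplex.mk _ _ hw).Exact := by
    rw [ShortComplex.moduleCat_exact_iff] at hex ⊢
    intro y hy
    have hy' : (F.leftDerived 0).map (sesOf g).f ((e.inv.app (sesOf g).X₁) y) = 0 := by
      have h1 : (e.inv.app (sesOf g).X₁ ≫ (F.leftDerived 0).map (sesOf g).f) =
          F.map (sesOf g).f ≫ e.inv.app (sesOf g).X₂ := (e.inv.naturality (sesOf g).f).symm
      have h2 := congrArg (fun k => k.hom y) h1
      simp only [ModuleCat.hom_comp, LinearMap.comp_apply] at h2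
      rw [h2]
      change (e.inv.app (sesOf g).X₂) ((F.map (sesOf g).f) y) = 0
      rw [show (F.map (sesOf g).f) y = 0 from hy, map_zero]
    obtain ⟨z, hz⟩ := hex _ hy'
    refine ⟨z, ?_⟩
    change (e.hom.app (sesOf g).X₁) (δ z) = y
    rw [show δ z = (e.inv.app (sesOf g).X₁) y from hz]
    have h3 := congrArg (fun k => k.hom y) (e.inv_hom_id_app (sesOf g).X₁)
    simpa using h3
  refine ⟨(δ ≫ e.hom.app (sesOf g).X₁).hom, (ModuleCat.mono_iff_injective _).1 hmφ, ?_, ?_⟩
  · rw [ShortComplex.moduleCat_exact_iff_range_eq_ker] at hex'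
    exact hex'
  · intro z
    have h1 := congrArg (fun k => k.hom z) hkill
    simp only [ModuleCat.hom_smul, ModuleCat.hom_id, LinearMap.smul_apply, LinearMap.id_apply,
      ModuleCat.hom_zero, LinearMap.zero_apply] at h1
    have h1' : x • z = 0 := h1
    have h2 := (δ ≫ e.hom.app (sesOf g).X₁).hom.map_smul x z
    exact h2.symm.trans ((congrArg (δ ≫ e.hom.app (sesOf g).X₁).hom h1').trans (map_zero _))

end Groth.Agent.H75.TorTorsion
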