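import Mathlib

/-!
# Translations of a group object by global points
-/

set_option autoImplicit false
universe v u

open CategoryTheory MonoidalCategory CartesianMonoidalCategory MonObj

namespace Groth.Agent.H75.TransAut

variable {C : Type u} [Category.{v} C] [CartesianMonoidalCategory C] {G : C} [GrpObj G]

/-- Right translation by a global point. -/
def tr (P : 𝟙_ C ⟶ G) : G ⟶ G := 𝟙 G * (toUnit G ≫ P)

theorem tr_comp (P Q : 𝟙_ C ⟶ G) : tr P ≫ tr Q = tr (P * Q) := by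
  unfold tr
  rw [MonObj.comp_mul, Category.comp_id, ← Category.assoc, toUnit_unique (_ ≫ toUnit G) (toUnit G),
    _root_.mul_assoc, ← MonObj.comp_mul]

theorem tr_one : tr (1 : 𝟙_ C ⟶ G) = 𝟙 G := by
  unfold tr
  rw [MonObj.comp_one, _root_.mul_one]

theorem isIso_tr (P : 𝟙_ C ⟶ G) : IsIso (tr P) :=
  ⟨tr P⁻¹, by rw [tr_comp, mul_inv_cancel, tr_one], by rw [tr_comp, inv_mul_cancel, tr_one]⟩

theorem one_comp_tr (P : 𝟙_ C ⟶ G) : η[G] ≫ tr P = P := by
  unfold tr
  rw [MonObj.comp_mul, Category.comp_id, ← Category.assoc,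
    toUnit_unique (η[G] ≫ toUnit G) (𝟙 _), Category.id_comp, MonObj.one_eq_one, _root_.one_mul]

theorem tr_comp_hom {H : C} [GrpObj H] (φ : G ⟶ H) [IsMonHom φ] (P : 𝟙_ C ⟶ G)
    (h : P ≫ φ = η[H]) : tr P ≫ φ = φ := by
  unfold tr
  rw [MonObj.mul_comp, Category.id_comp, Category.assoc, h, MonObj.one_eq_one, MonObj.comp_one,
    _root_.mul_one]

theorem tr_injective {P Q : 𝟙_ C ⟶ G} (h : tr P = tr Q) : P = Q := by
  rw [← one_comp_tr P, h, one_comp_tr]

end Groth.Agent.H75.TransAut
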