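import Mathlib
import Groth.Agent.H75.Rigid
import Groth.Agent.H75.TransAut

/-!
# Automorphisms of a quasi-finite endomorphism of a connected group are translations by the kernel
-/

set_option autoImplicit false
set_option linter.style.haveILetI false
universe u

open CategoryTheory CategoryTheory.Limits MonoidalCategory CartesianMonoidalCategory MonObj
  AlgebraicGeometry

namespace Groth.Agent.H75.TorsTrans

open Groth.Agent.H75.TransAut

variable (k : Type u) [Field k] [IsAlgClosed k]

/-- An endomorphism of the scheme `A` commuting with a quasi-finite homomorphism `N` is the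
translation by a rational point of the kernel of `N`. -/
theorem exists_tr_of_comp_eq (A B : Over (Spec (CommRingCat.of k))) [GrpObj A] [GrpObj B]
    [LocallyOfFiniteType A.hom] [IsSeparated A.hom] [IsReduced A.left] [PreconnectedSpace ↥A.left]
    (N : A ⟶ B) [IsMonHom N] [LocallyQuasiFinite N.left]
    (θ : A ⟶ A) (hθ : θ ≫ N = N) :
    ∃ a : 𝟙_ (Over (Spec (CommRingCat.of k))) ⟶ A, a ≫ N = η[B] ∧ θ = tr a := by
  have hδ : ((𝟙 A)⁻¹ * θ) ≫ N = toUnit A ≫ η[B] := by
    rw [MonObj.mul_comp, GrpObj.inv_comp, Category.id_comp, hθ, inv_mul_cancel, Hom.one_def]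
  have h1 := Groth.Agent.H75.Rigid.const_of_comp_const k A A B ((𝟙 A)⁻¹ * θ) N η[B] hδ η[A]
  refine ⟨η[A] ≫ ((𝟙 A)⁻¹ * θ), ?_, ?_⟩
  · rw [Category.assoc, hδ, ← Category.assoc, toUnit_unique (η[A] ≫ toUnit A) (𝟙 _),
      Category.id_comp]
  · unfold tr
    rw [← h1, mul_inv_cancel_left]

/-- Two geometric points of `A` with the same image under a quasi-finite homomorphism `N` differ
by the translation by a rational point of the kernel of `N`. -/
theorem exists_tr_of_geom_pts (A B : Over (Spec (CommRingCat.of k))) [GrpObj A] [GrpObj B]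
    [LocallyOfFiniteType A.hom] [LocallyOfFiniteType B.hom]
    (N : A ⟶ B) [IsMonHom N] [LocallyQuasiFinite N.left]
    {Ω : Type u} [Field Ω] (τ : Spec (CommRingCat.of Ω) ⟶ Spec (CommRingCat.of k))
    (s t : Over.mk τ ⟶ A) (hst : s ≫ N = t ≫ N) :
    ∃ a : 𝟙_ (Over (Spec (CommRingCat.of k))) ⟶ A, a ≫ N = η[B] ∧ s ≫ tr a = t := by
  have hδ : (s⁻¹ * t) ≫ N = toUnit (Over.mk τ) ≫ η[B] := by
    rw [MonObj.mul_comp, GrpObj.inv_comp, hst, inv_mul_cancel, Hom.one_def]
  obtain ⟨a, ha, haN⟩ :=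
    Groth.Agent.H75.Rigid.exists_pt_of_comp_const k τ A B (s⁻¹ * t) N η[B] hδ
  refine ⟨a, haN, ?_⟩
  unfold tr
  rw [MonObj.comp_mul, Category.comp_id, ← Category.assoc,
    toUnit_unique (s ≫ toUnit A) (toUnit (Over.mk τ)), ← ha, mul_inv_cancel_left]

end Groth.Agent.H75.TorsTrans
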