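import Mathlib
import Groth.Agent.H96.DiagComod

/-! Weight decomposition of comodules over a group algebra `k[M]` for an arbitrary additive monoid
`M` (extending `H96.DiagComod`, which treats finite `M`). -/

set_option autoImplicit false
set_option linter.unusedSectionVars false
universe u v w

open TensorProduct Groth.Agent.H96.DiagComod

namespace Groth.Agent.H75.TorusComod

variable {k : Type u} [CommRing k] {M : Type v}
variable {V : Type w} [AddCommGroup V] [Module k V]

theorem exists_finset_decomp (z : V ⊗[k] AddMonoidAlgebra k M) :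
    ∃ s : Finset M, (∀ a ∉ s, sl a z = 0) ∧
      ∑ a ∈ s, sl a z ⊗ₜ[k] AddMonoidAlgebra.single a (1 : k) = z := by
  classical
  induction z with
  | zero => exact ⟨∅, by simp, by simp⟩
  | tmul v x =>
    refine ⟨x.coeff.support, ?_, ?_⟩
    · intro a ha
      rw [sl_tmul, Finsupp.notMem_support_iff.1 ha, zero_smul]
    · simp only [sl_tmul]
      conv_rhs => rw [← AddMonoidAlgebra.sum_coeff_single x, Finsupp.sum, tmul_sum]
      refine Finset.sum_congr rfl (fun a _ => ?_)
      rw [smul_tmul, AddMonoidAlgebra.smul_single, smul_eq_mul, mul_one]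
  | add x y hx hy =>
    obtain ⟨sx, hx1, hx2⟩ := hx
    obtain ⟨sy, hy1, hy2⟩ := hy
    refine ⟨sx ∪ sy, ?_, ?_⟩
    · intro a ha
      rw [Finset.notMem_union] at ha
      rw [map_add, hx1 a ha.1, hy1 a ha.2, add_zero]
    · simp only [map_add, add_tmul, Finset.sum_add_distrib]
      have h1 : ∑ a ∈ sx ∪ sy, sl a x ⊗ₜ[k] AddMonoidAlgebra.single a (1 : k) =
          ∑ a ∈ sx, sl a x ⊗ₜ[k] AddMonoidAlgebra.single a (1 : k) := by
        symm
        refine Finset.sum_subset Finset.subset_union_left (fun a _ ha => ?_)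
        rw [hx1 a ha, zero_tmul]
      have h2 : ∑ a ∈ sx ∪ sy, sl a y ⊗ₜ[k] AddMonoidAlgebra.single a (1 : k) =
          ∑ a ∈ sy, sl a y ⊗ₜ[k] AddMonoidAlgebra.single a (1 : k) := by
        symm
        refine Finset.sum_subset Finset.subset_union_right (fun a _ ha => ?_)
        rw [hy1 a ha, zero_tmul]
      rw [h1, h2, hx2, hy2]

variable [AddMonoid M] [HopfRep.Comod k (AddMonoidAlgebra k M) V]

theorem exists_finset_coact (f : V) :
    ∃ s : Finset M, (∀ a ∉ s, comp (k := k) a f = 0) ∧
      HopfRep.Comod.coact (k := k) (A := AddMonoidAlgebra k M) f =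
        ∑ a ∈ s, comp (k := k) a f ⊗ₜ[k] AddMonoidAlgebra.single a (1 : k) := by
  obtain ⟨s, h1, h2⟩ := exists_finset_decomp
    (HopfRep.Comod.coact (k := k) (A := AddMonoidAlgebra k M) f)
  exact ⟨s, h1, h2.symm⟩

theorem coact_comp (a : M) (f : V) :
    HopfRep.Comod.coact (k := k) (A := AddMonoidAlgebra k M) (comp (k := k) a f) =
      comp (k := k) a f ⊗ₜ[k] AddMonoidAlgebra.single a (1 : k) := by
  classical
  obtain ⟨s, hs1, hs2⟩ := exists_finset_coact (k := k) (M := M) f
  have h := LinearMap.congr_fun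
    (HopfRep.Comod.coassoc (k := k) (A := AddMonoidAlgebra k M) (V := V)) f
  simp only [LinearMap.comp_apply, LinearEquiv.coe_coe] at h
  rw [hs2] at h
  simp only [map_sum, LinearMap.rTensor_tmul, LinearMap.lTensor_tmul] at h
  have h2 := congrArg (Phi a) h
  simp only [map_sum, Phi_assoc] at h2
  simp only [AddMonoidAlgebra.comul_single, CommSemiring.comul_apply, TensorProduct.map_tmul,
    AddMonoidAlgebra.lsingle_apply, Phi_tmul, AddMonoidAlgebra.coeff_single,
    Finsupp.single_apply] at h2
  by_cases ha : a ∈ s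
  · simpa [Finset.sum_ite_eq', ite_smul, ha] using h2
  · rw [hs1 a ha, map_zero, zero_tmul]

theorem comp_mem_eigenspace (a : M) (f : V) :
    comp (k := k) a f ∈
      HopfRep.eigenspace k (AddMonoidAlgebra k M) V (AddMonoidAlgebra.single a 1) :=
  coact_comp a f

theorem exists_finset_sum_comp (f : V) :
    ∃ s : Finset M, (∀ a ∉ s, comp (k := k) a f = 0) ∧ ∑ a ∈ s, comp (k := k) (M := M) a f = f := by
  obtain ⟨s, hs1, hs2⟩ := exists_finset_coact (k := k) (M := M) f
  refine ⟨s, hs1, ?_⟩
  have h := LinearMap.congr_fun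
    (HopfRep.Comod.counit_comp (k := k) (A := AddMonoidAlgebra k M) (V := V)) f
  simp only [LinearMap.comp_apply] at h
  rw [hs2] at h
  simp only [map_sum, LinearMap.lTensor_tmul, AddMonoidAlgebra.counit_single,
    CommSemiring.counit_apply, LinearMap.flip_apply, TensorProduct.mk_apply] at h
  have h2 := congrArg (TensorProduct.rid k V) h
  simpa using h2

/-- the weight component of an eigenvector -/
theorem comp_eq_self_of_mem_eigenspace (b : M) (f : V)
    (hf : f ∈ HopfRep.eigenspace k (AddMonoidAlgebra k M) V (AddMonoidAlgebra.single b 1)) :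
    comp (k := k) b f = f := by
  classical
  have hf' : HopfRep.Comod.coact (k := k) (A := AddMonoidAlgebra k M) f =
      f ⊗ₜ[k] AddMonoidAlgebra.single b 1 := hf
  unfold comp
  rw [hf', sl_tmul, AddMonoidAlgebra.coeff_single, Finsupp.single_eq_same, one_smul]

theorem comp_eq_zero_of_mem_eigenspace (a b : M) (hab : a ≠ b) (f : V)
    (hf : f ∈ HopfRep.eigenspace k (AddMonoidAlgebra k M) V (AddMonoidAlgebra.single b 1)) :
    comp (k := k) a f = 0 := by
  classical
  have hf' : HopfRep.Comod.coact (k := k) (A := AddMonoidAlgebra k M) f =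
      f ⊗ₜ[k] AddMonoidAlgebra.single b 1 := hf
  unfold comp
  rw [hf', sl_tmul, AddMonoidAlgebra.coeff_single, Finsupp.single_eq_of_ne hab, zero_smul]

end Groth.Agent.H75.TorusComod
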