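import Mathlib
import Groth.Agent.H75.TorusComod
import Groth.Prelude.Def_GLin

/-! For a torus coaction with positive grading monoid, the invariants map isomorphically onto the
quotient by the ideal generated by the eigenvectors of non-zero weight. -/

set_option autoImplicit false
universe u v w

open TensorProduct Groth.Agent.H96.DiagComod Groth.Agent.H75.TorusComod

namespace Groth.Agent.H75.TorusFixed

variable (k : Type u) [Field k] (Λ : Type v) [AddCommGroup Λ]
  (R : Type w) [CommRing R] [Algebra k R]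
  [HopfRep.Comod k (AddMonoidAlgebra k Λ) R] [GLin.IsCoactAlg k (AddMonoidAlgebra k Λ) R]

theorem mul_mem_eigenspace {a b : Λ} {u v : R}
    (hu : u ∈ HopfRep.eigenspace k (AddMonoidAlgebra k Λ) R (AddMonoidAlgebra.single a 1))
    (hv : v ∈ HopfRep.eigenspace k (AddMonoidAlgebra k Λ) R (AddMonoidAlgebra.single b 1)) :
    u * v ∈ HopfRep.eigenspace k (AddMonoidAlgebra k Λ) R (AddMonoidAlgebra.single (a + b) 1) := by
  have hu' : HopfRep.Comod.coact (k := k) (A := AddMonoidAlgebra k Λ) u =
      u ⊗ₜ[k] AddMonoidAlgebra.single a 1 := hu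
  have hv' : HopfRep.Comod.coact (k := k) (A := AddMonoidAlgebra k Λ) v =
      v ⊗ₜ[k] AddMonoidAlgebra.single b 1 := hv
  change HopfRep.Comod.coact (k := k) (A := AddMonoidAlgebra k Λ) (u * v) = _
  rw [GLin.IsCoactAlg.coact_mul, hu', hv', Algebra.TensorProduct.tmul_mul_tmul,
    AddMonoidAlgebra.single_mul_single, mul_one]

theorem mem_invariants_iff_eigenspace_zero (f : R) :
    f ∈ GLin.invariants k (AddMonoidAlgebra k Λ) R ↔
      f ∈ HopfRep.eigenspace k (AddMonoidAlgebra k Λ) R (AddMonoidAlgebra.single 0 1) := by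
  rw [GLin.mem_invariants_iff, AddMonoidAlgebra.one_def]
  rfl

theorem bijective_invariants_quotient
    (hpos : ∀ w : Λ, HopfRep.eigenspace k (AddMonoidAlgebra k Λ) R (AddMonoidAlgebra.single w 1) ≠ ⊥ →
      HopfRep.eigenspace k (AddMonoidAlgebra k Λ) R (AddMonoidAlgebra.single (-w) 1) ≠ ⊥ → w = 0) :
    Function.Bijective
      ((Ideal.Quotient.mkₐ k (Ideal.span {f : R | ∃ w : Λ, w ≠ 0 ∧
          f ∈ HopfRep.eigenspace k (AddMonoidAlgebra k Λ) R (AddMonoidAlgebra.single w 1)})).comp
        (GLin.invariants k (AddMonoidAlgebra k Λ) R).val) := by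
  classical
  set I : Ideal R := Ideal.span {f : R | ∃ w : Λ, w ≠ 0 ∧
      f ∈ HopfRep.eigenspace k (AddMonoidAlgebra k Λ) R (AddMonoidAlgebra.single w 1)} with hI
  -- the weight zero projection as a linear map
  let π : R →ₗ[k] R := (sl (0 : Λ)) ∘ₗ (HopfRep.Comod.coact (k := k) (A := AddMonoidAlgebra k Λ))
  have hπ : ∀ r : R, π r = comp (k := k) (0 : Λ) r := fun r => rfl
  -- π kills r * g for eigenvectors g of nonzero weight
  have hkill : ∀ (w : Λ), w ≠ 0 → ∀ g : R,
      g ∈ HopfRep.eigenspace k (AddMonoidAlgebra k Λ) R (AddMonoidAlgebra.single w 1) →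
      ∀ r : R, π (r * g) = 0 := by
    intro w hw g hg r
    obtain ⟨s, hs1, hs2⟩ := exists_finset_sum_comp (k := k) (M := Λ) r
    have hr : r * g = ∑ a ∈ s, comp (k := k) a r * g := by
      rw [← Finset.sum_mul, hs2]
    rw [hr, map_sum]
    refine Finset.sum_eq_zero fun a _ => ?_
    have hmem := mul_mem_eigenspace k Λ R (comp_mem_eigenspace (k := k) a r) hg
    by_cases haw : a + w = 0
    · -- then comp a r * g = 0 by positivity
      have ha : a = -w := eq_neg_of_add_eq_zero_left haw
      have hzero : comp (k := k) a r * g = 0 := by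
        by_contra hne
        have h1 : comp (k := k) a r ≠ 0 := left_ne_zero_of_mul hne
        have h2 : g ≠ 0 := right_ne_zero_of_mul hne
        have e1 : HopfRep.eigenspace k (AddMonoidAlgebra k Λ) R (AddMonoidAlgebra.single w 1) ≠ ⊥ := by
          intro hbot
          rw [hbot, Submodule.mem_bot] at hg
          exact h2 hg
        have e2 : HopfRep.eigenspace k (AddMonoidAlgebra k Λ) R
            (AddMonoidAlgebra.single (-w) 1) ≠ ⊥ := by
          intro hbot
          have := comp_mem_eigenspace (k := k) a r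
          rw [ha, hbot, Submodule.mem_bot] at this
          exact h1 (ha ▸ this)
        exact hw (hpos w e1 e2)
      rw [hzero, map_zero]
    · rw [hπ]
      exact comp_eq_zero_of_mem_eigenspace (k := k) 0 (a + w) (Ne.symm haw) _ hmem
  -- π kills the ideal I
  have hπI : ∀ x ∈ I, ∀ r : R, π (r * x) = 0 := by
    intro x hx
    refine Submodule.span_induction (p := fun x _ => ∀ r : R, π (r * x) = 0) ?_ ?_ ?_ ?_ hx
    · rintro g ⟨w, hw, hg⟩ r
      exact hkill w hw g hg r
    · intro r
      rw [mul_zero, map_zero]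
    · intro x y _ _ hx hy r
      rw [mul_add, map_add, hx r, hy r, add_zero]
    · intro c x _ hx r
      rw [smul_eq_mul, ← mul_assoc]
      exact hx (r * c)
  constructor
  · -- injective
    rw [injective_iff_map_eq_zero]
    rintro ⟨f, hf⟩ h0
    have hfI : f ∈ I := by
      have : (Ideal.Quotient.mk I) f = 0 := h0
      exact Ideal.Quotient.eq_zero_iff_mem.1 this
    have h1 : π f = 0 := by
      have := hπI f hfI 1
      rwa [one_mul] at this
    have h2 : π f = f := by
      rw [hπ]
      exact comp_eq_self_of_mem_eigenspace (k := k) 0 f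
        ((mem_invariants_iff_eigenspace_zero k Λ R f).1 hf)
    apply Subtype.ext
    change f = 0
    rw [← h2, h1]
  · -- surjective
    intro q
    obtain ⟨r, rfl⟩ := Ideal.Quotient.mk_surjective q
    obtain ⟨s, hs1, hs2⟩ := exists_finset_sum_comp (k := k) (M := Λ) r
    have h0mem : comp (k := k) (0 : Λ) r ∈ GLin.invariants k (AddMonoidAlgebra k Λ) R :=
      (mem_invariants_iff_eigenspace_zero k Λ R _).2 (comp_mem_eigenspace (k := k) 0 r)
    refine ⟨⟨comp (k := k) (0 : Λ) r, h0mem⟩, ?_⟩
    change (Ideal.Quotient.mk I) (comp (k := k) (0 : Λ) r) = (Ideal.Quotient.mk I) r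
    rw [Ideal.Quotient.eq]
    -- comp 0 r - r ∈ I
    have hsum : ∑ a ∈ insert (0 : Λ) s, comp (k := k) a r = r := by
      by_cases h0 : (0 : Λ) ∈ s
      · rw [Finset.insert_eq_of_mem h0, hs2]
      · rw [Finset.sum_insert h0, hs1 0 h0, zero_add, hs2]
    have hsum2 : comp (k := k) (0 : Λ) r + ∑ a ∈ (insert (0 : Λ) s).erase 0, comp (k := k) a r = r := by
      exact (Finset.add_sum_erase (insert (0 : Λ) s) (fun a => comp (k := k) a r)
        (Finset.mem_insert_self 0 s)).trans hsum
    have hdiff : comp (k := k) (0 : Λ) r - r =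
        -∑ a ∈ (insert (0 : Λ) s).erase 0, comp (k := k) a r := by
      linear_combination hsum2
    rw [hdiff]
    refine I.neg_mem (I.sum_mem fun a ha => ?_)
    refine Ideal.subset_span ⟨a, (Finset.mem_erase.1 ha).1, comp_mem_eigenspace (k := k) a r⟩

end Groth.Agent.H75.TorusFixed
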