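import Mathlib
import Groth.Agent.H75.TorusFixed

/-! Closed orbits of a torus coaction with positive grading monoid are the fixed points. -/

set_option autoImplicit false
universe u v w

open TensorProduct Groth.Agent.H96.DiagComod Groth.Agent.H75.TorusComod Groth.Agent.H75.TorusFixed

namespace Groth.Agent.H75.TorusOrbit

variable (k : Type u) [Field k] (Λ : Type v) [AddCommGroup Λ]
  (R : Type w) [CommRing R] [Algebra k R]
  [HopfRep.Comod k (AddMonoidAlgebra k Λ) R] [GLin.IsCoactAlg k (AddMonoidAlgebra k Λ) R]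

theorem exists_finset_sum_comp' (f : R) :
    ∃ s : Finset Λ, (0 : Λ) ∈ s ∧ (∀ a ∉ s, comp (k := k) a f = 0) ∧
      ∑ a ∈ s, comp (k := k) (M := Λ) a f = f := by
  classical
  obtain ⟨s, hs1, hs2⟩ := exists_finset_sum_comp (k := k) (M := Λ) f
  refine ⟨insert 0 s, Finset.mem_insert_self 0 s, ?_, ?_⟩
  · intro a ha
    exact hs1 a (fun h => ha (Finset.mem_insert_of_mem h))
  · by_cases h0 : (0 : Λ) ∈ s
    · rw [Finset.insert_eq_of_mem h0, hs2]
    · rw [Finset.sum_insert h0, hs1 0 h0, zero_add, hs2]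

theorem orbitHom_of_mem_eigenspace (x : R →ₐ[k] k) {w : Λ} {f : R}
    (hf : f ∈ HopfRep.eigenspace k (AddMonoidAlgebra k Λ) R (AddMonoidAlgebra.single w 1)) :
    GLin.orbitHom k (AddMonoidAlgebra k Λ) x f = AddMonoidAlgebra.single w (x f) := by
  have hf' : HopfRep.Comod.coact (k := k) (A := AddMonoidAlgebra k Λ) f =
      f ⊗ₜ[k] AddMonoidAlgebra.single w 1 := hf
  unfold GLin.orbitHom
  simp only [AlgHom.comp_apply, GLin.coactAlgHom_apply, hf', Algebra.TensorProduct.map_tmul,
    AlgHom.id_apply]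
  change (Algebra.TensorProduct.lid k (AddMonoidAlgebra k Λ))
    (x f ⊗ₜ[k] AddMonoidAlgebra.single w 1) = _
  rw [Algebra.TensorProduct.lid_tmul, AddMonoidAlgebra.smul_single, smul_eq_mul, mul_one]

omit [HopfRep.Comod k (AddMonoidAlgebra k Λ) R] [GLin.IsCoactAlg k (AddMonoidAlgebra k Λ) R]
  [CommRing R] [Algebra k R] in
theorem algebraMap_eq_single (c : k) :
    algebraMap k (AddMonoidAlgebra k Λ) c = AddMonoidAlgebra.single 0 c := rfl

theorem orbitHom_eq_sum (x : R →ₐ[k] k) (f : R) (s : Finset Λ)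
    (hs : ∑ a ∈ s, comp (k := k) (M := Λ) a f = f) :
    GLin.orbitHom k (AddMonoidAlgebra k Λ) x f =
      ∑ a ∈ s, AddMonoidAlgebra.single a (x (comp (k := k) a f)) := by
  conv_lhs => rw [← hs]
  rw [map_sum]
  exact Finset.sum_congr rfl fun a _ =>
    orbitHom_of_mem_eigenspace k Λ R x (comp_mem_eigenspace (k := k) a f)

theorem isFixedPt_iff (x : R →ₐ[k] k) :
    GLin.IsFixedPt k (AddMonoidAlgebra k Λ) x ↔
      ∀ w : Λ, w ≠ 0 → ∀ f ∈ HopfRep.eigenspace k (AddMonoidAlgebra k Λ) R
        (AddMonoidAlgebra.single w 1), x f = 0 := by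
  classical
  constructor
  · intro h w hw f hf
    have h1 := AlgHom.congr_fun h f
    rw [orbitHom_of_mem_eigenspace k Λ R x hf] at h1
    have h2 := congrArg (fun z : AddMonoidAlgebra k Λ => z.coeff w) h1
    simp only [AlgHom.comp_apply, Algebra.ofId_apply, AddMonoidAlgebra.coeff_single,
      Finsupp.single_eq_same] at h2
    rw [h2]
    change (algebraMap k (AddMonoidAlgebra k Λ) (x f)).coeff w = 0
    rw [algebraMap_eq_single, AddMonoidAlgebra.coeff_single,
      Finsupp.single_eq_of_ne hw]
  · intro h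
    unfold GLin.IsFixedPt
    apply AlgHom.ext
    intro f
    obtain ⟨s, h0, hs1, hs2⟩ := exists_finset_sum_comp' k Λ R f
    rw [orbitHom_eq_sum k Λ R x f s hs2]
    have hterm : ∀ a ∈ s, a ≠ 0 →
        AddMonoidAlgebra.single a (x (comp (k := k) a f)) = (0 : AddMonoidAlgebra k Λ) := by
      intro a _ ha
      rw [h a ha _ (comp_mem_eigenspace (k := k) a f), AddMonoidAlgebra.single_zero]
    rw [Finset.sum_eq_single_of_mem 0 h0 hterm]
    have hx : x f = x (comp (k := k) (0 : Λ) f) := by
      conv_lhs => rw [← hs2]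
      rw [map_sum]
      refine Finset.sum_eq_single_of_mem 0 h0 fun a has ha => ?_
      exact h a ha _ (comp_mem_eigenspace (k := k) a f)
    rw [AlgHom.comp_apply, Algebra.ofId_apply, algebraMap_eq_single, hx]

theorem isClosedOrbit_iff_isFixedPt
    (hpos : ∀ w : Λ, HopfRep.eigenspace k (AddMonoidAlgebra k Λ) R (AddMonoidAlgebra.single w 1) ≠ ⊥ →
      HopfRep.eigenspace k (AddMonoidAlgebra k Λ) R (AddMonoidAlgebra.single (-w) 1) ≠ ⊥ → w = 0)
    (x : R →ₐ[k] k) :
    GLin.IsClosedOrbit k (AddMonoidAlgebra k Λ) x ↔ GLin.IsFixedPt k (AddMonoidAlgebra k Λ) x := by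
  classical
  constructor
  · intro hcl
    rw [isFixedPt_iff]
    -- the limit point y
    set I : Ideal R := Ideal.span {f : R | ∃ w : Λ, w ≠ 0 ∧
      f ∈ HopfRep.eigenspace k (AddMonoidAlgebra k Λ) R (AddMonoidAlgebra.single w 1)} with hI
    let e : (GLin.invariants k (AddMonoidAlgebra k Λ) R) ≃ₐ[k] R ⧸ I :=
      AlgEquiv.ofBijective _ (bijective_invariants_quotient k Λ R hpos)
    let y : R →ₐ[k] k :=
      x.comp ((GLin.invariants k (AddMonoidAlgebra k Λ) R).val.comp
        (e.symm.toAlgHom.comp (Ideal.Quotient.mkₐ k I)))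
    have hyI : ∀ f ∈ I, y f = 0 := by
      intro f hf
      have : (Ideal.Quotient.mkₐ k I) f = 0 := Ideal.Quotient.eq_zero_iff_mem.2 hf
      simp only [y, AlgHom.comp_apply, this, map_zero]
    have hy0 : ∀ f : R, y f = x (comp (k := k) (0 : Λ) f) := by
      intro f
      have h0mem : comp (k := k) (0 : Λ) f ∈ GLin.invariants k (AddMonoidAlgebra k Λ) R :=
        (mem_invariants_iff_eigenspace_zero k Λ R _).2 (comp_mem_eigenspace (k := k) 0 f)
      obtain ⟨s, h0, hs1, hs2⟩ := exists_finset_sum_comp' k Λ R f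
      have hmk : (Ideal.Quotient.mkₐ k I) f = e ⟨comp (k := k) (0 : Λ) f, h0mem⟩ := by
        change (Ideal.Quotient.mk I) f = (Ideal.Quotient.mk I) (comp (k := k) (0 : Λ) f)
        rw [Ideal.Quotient.eq]
        have hsum2 : comp (k := k) (0 : Λ) f + ∑ a ∈ s.erase 0, comp (k := k) a f = f :=
          (Finset.add_sum_erase s (fun a => comp (k := k) a f) h0).trans hs2
        have hdiff : f - comp (k := k) (0 : Λ) f = ∑ a ∈ s.erase 0, comp (k := k) a f := by
          linear_combination -hsum2
        rw [hdiff]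
        refine I.sum_mem fun a ha => ?_
        exact Ideal.subset_span ⟨a, (Finset.mem_erase.1 ha).1, comp_mem_eigenspace (k := k) a f⟩
      simp only [y, AlgHom.comp_apply, hmk]
      change x ((e.symm (e ⟨comp (k := k) (0 : Λ) f, h0mem⟩) :
        GLin.invariants k (AddMonoidAlgebra k Λ) R) : R) = _
      rw [AlgEquiv.symm_apply_apply]
    -- ker y lies in the closure of the orbit
    have hker : RingHom.ker (GLin.orbitHom k (AddMonoidAlgebra k Λ) x).toRingHom ≤
        RingHom.ker y.toRingHom := by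
      intro f hf
      rw [RingHom.mem_ker] at hf ⊢
      change y f = 0
      rw [hy0]
      obtain ⟨s, h0, hs1, hs2⟩ := exists_finset_sum_comp' k Λ R f
      have h1 : GLin.orbitHom k (AddMonoidAlgebra k Λ) x f = 0 := hf
      rw [orbitHom_eq_sum k Λ R x f s hs2] at h1
      have h2 := congrArg (fun z : AddMonoidAlgebra k Λ => z.coeff (0 : Λ)) h1
      simp only [AddMonoidAlgebra.coeff_sum, Finsupp.coe_finset_sum, Finset.sum_apply,
        AddMonoidAlgebra.coeff_single, AddMonoidAlgebra.coeff_zero, Finsupp.coe_zero,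
        Pi.zero_apply] at h2
      rw [Finset.sum_eq_single_of_mem 0 h0 (fun a _ ha => Finsupp.single_eq_of_ne (Ne.symm ha)),
        Finsupp.single_eq_same] at h2
      exact h2
    have hyprime : (RingHom.ker y.toRingHom).IsPrime := RingHom.ker_isPrime _
    have hmem : (⟨RingHom.ker y.toRingHom, hyprime⟩ : PrimeSpectrum R) ∈
        Set.range (PrimeSpectrum.comap (GLin.orbitHom k (AddMonoidAlgebra k Λ) x).toRingHom) := by
      have hcl' : IsClosed (Set.range (PrimeSpectrum.comap
        (GLin.orbitHom k (AddMonoidAlgebra k Λ) x).toRingHom)) := hcl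
      rw [← hcl'.closure_eq, PrimeSpectrum.closure_range_comap, PrimeSpectrum.mem_zeroLocus]
      exact hker
    obtain ⟨𝔭, h𝔭⟩ := hmem
    intro w hw f hf
    have hfI : f ∈ I := Ideal.subset_span ⟨w, hw, hf⟩
    have hfy : f ∈ RingHom.ker y.toRingHom := by
      rw [RingHom.mem_ker]
      exact hyI f hfI
    have h1 : f ∈ (PrimeSpectrum.comap (GLin.orbitHom k (AddMonoidAlgebra k Λ) x).toRingHom 𝔭).asIdeal := by
      rw [h𝔭]
      exact hfy
    have h2 : GLin.orbitHom k (AddMonoidAlgebra k Λ) x f ∈ 𝔭.asIdeal := h1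
    rw [orbitHom_of_mem_eigenspace k Λ R x hf] at h2
    by_contra hne
    apply 𝔭.isPrime.ne_top
    rw [Ideal.eq_top_iff_one]
    have h3 : (AddMonoidAlgebra.single (-w) (x f)⁻¹ : AddMonoidAlgebra k Λ) *
        AddMonoidAlgebra.single w (x f) = 1 := by
      rw [AddMonoidAlgebra.single_mul_single, neg_add_cancel, inv_mul_cancel₀ hne,
        AddMonoidAlgebra.one_def]
    rw [← h3]
    exact Ideal.mul_mem_left _ _ h2
  · intro hfix
    unfold GLin.IsClosedOrbit
    have hfix' : GLin.orbitHom k (AddMonoidAlgebra k Λ) x = (Algebra.ofId k _).comp x := hfix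
    have hrange : Set.range (PrimeSpectrum.comap
        (GLin.orbitHom k (AddMonoidAlgebra k Λ) x).toRingHom) =
        {⟨RingHom.ker x.toRingHom, RingHom.ker_isPrime _⟩} := by
      ext q
      simp only [Set.mem_range, Set.mem_singleton_iff]
      constructor
      · rintro ⟨𝔭, rfl⟩
        apply PrimeSpectrum.ext
        ext f
        change GLin.orbitHom k (AddMonoidAlgebra k Λ) x f ∈ 𝔭.asIdeal ↔ x f = 0
        rw [hfix', AlgHom.comp_apply, Algebra.ofId_apply]
        constructor
        · intro h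
          by_contra hne
          apply 𝔭.isPrime.ne_top
          rw [Ideal.eq_top_iff_one]
          have : algebraMap k (AddMonoidAlgebra k Λ) (x f)⁻¹ *
              algebraMap k (AddMonoidAlgebra k Λ) (x f) = 1 := by
            rw [← map_mul, inv_mul_cancel₀ hne, map_one]
          rw [← this]
          exact Ideal.mul_mem_left _ _ h
        · intro h
          rw [h, map_zero]
          exact 𝔭.asIdeal.zero_mem
      · rintro rfl
        obtain ⟨m, hm⟩ := Ideal.exists_maximal (AddMonoidAlgebra k Λ)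
        refine ⟨⟨m, hm.isPrime⟩, ?_⟩
        apply PrimeSpectrum.ext
        ext f
        change GLin.orbitHom k (AddMonoidAlgebra k Λ) x f ∈ m ↔ x f = 0
        rw [hfix', AlgHom.comp_apply, Algebra.ofId_apply]
        constructor
        · intro h
          by_contra hne
          apply hm.ne_top
          rw [Ideal.eq_top_iff_one]
          have : algebraMap k (AddMonoidAlgebra k Λ) (x f)⁻¹ *
              algebraMap k (AddMonoidAlgebra k Λ) (x f) = 1 := by
            rw [← map_mul, inv_mul_cancel₀ hne, map_one]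
          rw [← this]
          exact Ideal.mul_mem_left _ _ h
        · intro h
          rw [h, map_zero]
          exact m.zero_mem
    rw [hrange, PrimeSpectrum.isClosed_singleton_iff_isMaximal]
    exact RingHom.ker_isMaximal_of_surjective x.toRingHom (fun c => ⟨algebraMap k R c, by simp⟩)

end Groth.Agent.H75.TorusOrbit
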