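import Mathlib
import Groth.Prelude.Def_CoactBr2
import Groth.Prelude.Def_Hoch

set_option autoImplicit false
universe u v w w'

namespace Groth.Agent.H75

open TensorProduct

theorem descend_total_integral (R : Type u) (C : Type w') (A : Type v) (B : Type w)
    [CommRing R] [CommRing C] [Algebra R C] [CommRing A] [HopfAlgebra R A]
    [CommRing B] [Algebra R B] [HopfRep.Comod R A B] [GLin.IsCoactAlg R A B]
    (ι : C →ₐ[R] B)
    (hι : ∀ c : C, HopfRep.Comod.coact (k := R) (A := A) (ι c) = ι c ⊗ₜ[R] (1 : A))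
    (β : C ⊗[R] A →ₗ[C] C ⊗[R] B)
    (hβ : @Hoch.IsComodHom C _ (C ⊗[R] A) _ _ _ (C ⊗[R] A) _ _
        (HopfRep.Comod.regular C (C ⊗[R] A)) (C ⊗[R] B) _ _
        (CoactBr.Comod.baseChange R C A B) β)
    (hβ1 : β 1 = 1) :
    ∃ α : A →ₗ[R] B, Hoch.IsComodHom A α ∧ α 1 = 1 := by
  classical
  let m : C ⊗[R] B →ₗ[R] B := (LinearMap.mul' R B) ∘ₗ (LinearMap.rTensor B ι.toLinearMap)
  have hm : ∀ (c : C) (b : B), m (c ⊗ₜ[R] b) = ι c * b := by
    intro c b
    simp [m]
  let M : (C ⊗[R] B) ⊗[C] (C ⊗[R] A) →ₗ[R] B ⊗[R] A :=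
    (LinearMap.rTensor A m) ∘ₗ
      ((TensorProduct.AlgebraTensorModule.cancelBaseChange R C C (C ⊗[R] B) A).toLinearMap.restrictScalars R)
  have hM : ∀ (y : C ⊗[R] B) (c : C) (a : A),
      M (y ⊗ₜ[C] (c ⊗ₜ[R] a)) = m (c • y) ⊗ₜ[R] a := by
    intro y c a
    simp [M]
  let α : A →ₗ[R] B := m ∘ₗ (β.restrictScalars R) ∘ₗ (TensorProduct.mk R C A 1)
  have hα : ∀ a, α a = m (β ((1 : C) ⊗ₜ[R] a)) := fun a => rfl
  have I1z : ∀ (c : C) (z : B ⊗[R] A),
      M (TensorProduct.AlgebraTensorModule.tensorTensorTensorComm R C R C C C B A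
          (((1 : C) ⊗ₜ[C] c) ⊗ₜ[R] z)) = (ι c ⊗ₜ[R] (1 : A)) * z := by
    intro c z
    induction z using TensorProduct.induction_on with
    | zero => simp
    | tmul x y =>
      simp only [TensorProduct.AlgebraTensorModule.tensorTensorTensorComm_tmul, hM,
        Algebra.TensorProduct.tmul_mul_tmul, one_mul]
      rw [TensorProduct.smul_tmul', hm]
      simp
    | add x y hx hy =>
      rw [TensorProduct.tmul_add, map_add, map_add, hx, hy, mul_add]
  have I1 : ∀ y : C ⊗[R] B,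
      HopfRep.Comod.coact (k := R) (A := A) (m y) =
        M ((CoactBr.Comod.baseChange R C A B).coact y) := by
    intro y
    induction y using TensorProduct.induction_on with
    | zero => simp
    | tmul c b =>
      have e1 : (CoactBr.Comod.baseChange R C A B).coact (c ⊗ₜ[R] b) =
          TensorProduct.AlgebraTensorModule.tensorTensorTensorComm R C R C C C B A
            (((1 : C) ⊗ₜ[C] c) ⊗ₜ[R] HopfRep.Comod.coact (k := R) (A := A) b) := rfl
      rw [e1, I1z, hm, GLin.IsCoactAlg.coact_mul, hι]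
    | add x y hx hy =>
      rw [map_add, map_add, map_add, map_add, hx, hy]
  have I2 : ∀ z : A ⊗[R] A,
      M (β.rTensor (C ⊗[R] A)
        (TensorProduct.AlgebraTensorModule.tensorTensorTensorComm R C R C C C A A
          (((1 : C) ⊗ₜ[C] (1 : C)) ⊗ₜ[R] z))) = α.rTensor A z := by
    intro z
    induction z using TensorProduct.induction_on with
    | zero => simp
    | tmul x y =>
      simp only [TensorProduct.AlgebraTensorModule.tensorTensorTensorComm_tmul, LinearMap.rTensor_tmul, hM,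
        one_smul, hα]
    | add x y hx hy =>
      rw [TensorProduct.tmul_add, map_add, map_add, map_add, hx, hy, map_add]
  refine ⟨α, ?_, ?_⟩
  · unfold Hoch.IsComodHom
    ext a
    simp only [LinearMap.comp_apply]
    rw [hα, I1]
    have hβa := LinearMap.congr_fun hβ ((1 : C) ⊗ₜ[R] a)
    simp only [LinearMap.comp_apply] at hβa
    rw [hβa]
    have e2 : (HopfRep.Comod.regular C (C ⊗[R] A)).coact ((1 : C) ⊗ₜ[R] a) =
        TensorProduct.AlgebraTensorModule.tensorTensorTensorComm R C R C C C A A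
          (((1 : C) ⊗ₜ[C] (1 : C)) ⊗ₜ[R] CoalgebraStruct.comul (R := R) (A := A) a) := rfl
    rw [e2, I2]
    rfl
  · rw [hα]
    have : ((1 : C) ⊗ₜ[R] (1 : A)) = (1 : C ⊗[R] A) := rfl
    rw [this, hβ1]
    have h1 : (1 : C ⊗[R] B) = (1 : C) ⊗ₜ[R] (1 : B) := rfl
    rw [h1, hm]
    simp

end Groth.Agent.H75
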