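import Mathlib

set_option autoImplicit false

namespace Groth.Agent.H75

open Polynomial

section
variable {R : Type*} [CommRing R]

/-- `q` has degree at most `n` and `n`-th coefficient `c`. -/
def TopC (q : R[X]) (n : ℕ) (c : R) : Prop := q.natDegree ≤ n ∧ q.coeff n = c

theorem TopC.mul {q q' : R[X]} {n n' : ℕ} {c c' : R} (h : TopC q n c) (h' : TopC q' n' c') :
    TopC (q * q') (n + n') (c * c') :=
  ⟨natDegree_mul_le_of_le h.1 h'.1, by
    rw [coeff_mul_add_eq_of_natDegree_le h.1 h'.1, h.2, h'.2]⟩

theorem TopC.pow {q : R[X]} {n : ℕ} {c : R} (h : TopC q n c) (m : ℕ) :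
    TopC (q ^ m) (m * n) (c ^ m) :=
  ⟨natDegree_pow_le_of_le m h.1, by rw [coeff_pow_of_natDegree_le h.1, h.2]⟩

theorem TopC.one : TopC (1 : R[X]) 0 1 := ⟨by simp, by simp⟩

theorem TopC.prod {ι : Type*} (s : Finset ι) (q : ι → R[X]) (n : ι → ℕ) (c : ι → R)
    (h : ∀ i ∈ s, TopC (q i) (n i) (c i)) :
    TopC (∏ i ∈ s, q i) (∑ i ∈ s, n i) (∏ i ∈ s, c i) := by
  classical
  induction s using Finset.induction_on with
  | empty => simpa using TopC.one
  | insert a s ha ih =>
    rw [Finset.prod_insert ha, Finset.sum_insert ha, Finset.prod_insert ha]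
    exact (h a (Finset.mem_insert_self a s)).mul
      (ih fun i hi => h i (Finset.mem_insert_of_mem hi))

theorem TopC.lin (a b : R) (N : ℕ) (hN : 0 < N) : TopC (C a + C b * X ^ N) N b := by
  constructor
  · refine natDegree_add_le_of_degree_le ?_ (natDegree_C_mul_X_pow_le b N)
    rw [natDegree_C]; exact Nat.zero_le _
  · rw [coeff_add, coeff_C_ne_zero hN.ne', coeff_C_mul_X_pow, if_pos rfl, zero_add]

end

section
variable {k : Type*} [CommRing k] {R : Type*} [CommRing R] [Algebra k R] {σ : Type*}

/-- the twisted-translation homomorphism -/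
noncomputable def twist (a b : σ → R) (N : ℕ) : MvPolynomial σ k →ₐ[k] R[X] :=
  MvPolynomial.aeval (fun i => C (a i) + C (b i) * X ^ N)

theorem twist_monomial (a b : σ → R) (N : ℕ) (hN : 0 < N) (d : σ →₀ ℕ) (c : k) :
    TopC (twist a b N (MvPolynomial.monomial d c)) (N * d.degree)
      (MvPolynomial.aeval b (MvPolynomial.monomial d c)) := by
  rw [twist, MvPolynomial.aeval_monomial, MvPolynomial.aeval_monomial]
  have h0 : TopC (algebraMap k R[X] c) 0 (algebraMap k R c) := by
    rw [IsScalarTower.algebraMap_apply k R R[X], Polynomial.algebraMap_apply,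
      Algebra.algebraMap_self, RingHom.id_apply]
    exact ⟨by simp, by simp⟩
  have h1 : TopC (d.prod fun i n => (C (a i) + C (b i) * X ^ N) ^ n)
      (∑ i ∈ d.support, d i * N) (d.prod fun i n => b i ^ n) := by
    rw [Finsupp.prod, Finsupp.prod]
    exact TopC.prod _ _ _ _ fun i _ => (TopC.lin (a i) (b i) N hN).pow (d i)
  have := h0.mul h1
  rw [zero_add, ← Finset.sum_mul, mul_comm _ N] at this
  exact this

theorem twist_topC (a b : σ → R) (N : ℕ) (hN : 0 < N) (p : MvPolynomial σ k) (e : ℕ)
    (he : ∀ d ∈ p.support, d.degree ≤ e) :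
    TopC (twist a b N p) (N * e)
      (MvPolynomial.aeval b (MvPolynomial.homogeneousComponent e p)) := by
  classical
  have hp : twist a b N p
      = ∑ d ∈ p.support, twist a b N (MvPolynomial.monomial d (MvPolynomial.coeff d p)) := by
    rw [← map_sum, MvPolynomial.support_sum_monomial_coeff]
  rw [hp]
  constructor
  · refine natDegree_sum_le_of_forall_le _ _ fun d hd => ?_
    exact (twist_monomial a b N hN d _).1.trans (Nat.mul_le_mul_left N (he d hd))
  · rw [finset_sum_coeff, MvPolynomial.homogeneousComponent_apply, map_sum, Finset.sum_filter]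
    refine Finset.sum_congr rfl fun d hd => ?_
    split_ifs with hde
    · rw [← hde]; exact (twist_monomial a b N hN d _).2
    · apply coeff_eq_zero_of_natDegree_lt
      refine lt_of_le_of_lt (twist_monomial a b N hN d _).1 ?_
      exact Nat.mul_lt_mul_of_pos_left (lt_of_le_of_ne (he d hd) hde) hN

end

section
variable {R : Type*} [CommRing R]

theorem topC_sum_shift (J : Finset ℕ) (q : ℕ → R[X]) (e : ℕ → ℕ) (N E js : ℕ)
    (hN : ∀ j ∈ J, j < N) (hdeg : ∀ j ∈ J, (q j).natDegree ≤ N * e j)
    (hE : ∀ j ∈ J, e j ≤ E) (hjs : js ∈ J) (hmax : ∀ j ∈ J, e j = E → j ≤ js) :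
    TopC (∑ j ∈ J, q j * X ^ j) (N * E + js) ((q js).coeff (N * E)) := by
  classical
  have hNpos : 0 < N := lt_of_le_of_lt (Nat.zero_le _) (hN js hjs)
  have hbound : ∀ j ∈ J, j ≠ js → N * e j + j < N * E + js := by
    intro j hj hne
    rcases lt_or_eq_of_le (hE j hj) with hlt | heq
    · have h1 : N * e j + N ≤ N * E := by
        have : N * (e j + 1) ≤ N * E := Nat.mul_le_mul_left N hlt
        rwa [Nat.mul_add, Nat.mul_one] at this
      have := hN j hj
      omega
    · have h1 := hmax j hj heq
      rw [heq]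
      omega
  constructor
  · refine natDegree_sum_le_of_forall_le _ _ fun j hj => ?_
    refine (natDegree_mul_le_of_le (hdeg j hj) (natDegree_X_pow_le j)).trans ?_
    by_cases hne : j = js
    · rw [hne]
      have := hE js hjs
      have : N * e js ≤ N * E := Nat.mul_le_mul_left N this
      omega
    · exact (hbound j hj hne).le
  · rw [finset_sum_coeff, Finset.sum_eq_single js]
    · rw [coeff_mul_X_pow]
    · intro j hj hne
      apply coeff_eq_zero_of_natDegree_lt
      exact lt_of_le_of_lt (natDegree_mul_le_of_le (hdeg j hj) (natDegree_X_pow_le j))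
        (hbound j hj hne)
    · intro h; exact absurd hjs h

theorem TopC.leadingCoeff {q : R[X]} {n : ℕ} {c : R} (h : TopC q n c) (hc : c ≠ 0) :
    q.leadingCoeff = c := by
  have := natDegree_eq_of_le_of_coeff_ne_zero h.1 (by rw [h.2]; exact hc)
  rw [Polynomial.leadingCoeff, this, h.2]

end

end Groth.Agent.H75
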