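import Mathlib
import Groth.Agent.H75.TwoGen
import Groth.Agent.H75.LenFinrank
import Groth.Agent.H75.CubExt

/-! The two-branch ring `O = {(f, g) ∈ k⟦X⟧² : X^δ ∣ f - g}` (the `A_{2δ-1}` singularity):
local ring structure, the submodules `N(p, q)` and their lengths. -/

set_option autoImplicit false
set_option synthInstance.maxHeartbeats 200000
set_option maxHeartbeats 1000000
universe u

namespace Groth.Agent.H75.TwoBr

open PowerSeries
open Groth.Agent.H75.TwoGen (sh coeff_sh X_pow_mul_sh)

variable {k : Type u} [Field k]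

section Basic

variable (δ : ℕ) (hδ : 1 ≤ δ) (O : Subalgebra k (PowerSeries k × PowerSeries k))
  (hO : ∀ f : PowerSeries k × PowerSeries k, f ∈ O ↔ (X : PowerSeries k) ^ δ ∣ f.1 - f.2)

include hδ hO in
theorem constantCoeff_eq (a : ↥O) :
    constantCoeff (a : PowerSeries k × PowerSeries k).1 =
      constantCoeff (a : PowerSeries k × PowerSeries k).2 := by
  have h := (hO a).mp a.2
  have hX : (X : PowerSeries k) ∣ (a : PowerSeries k × PowerSeries k).1 -
      (a : PowerSeries k × PowerSeries k).2 :=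
    dvd_trans (dvd_pow_self X (by omega)) h
  rw [PowerSeries.X_dvd_iff, map_sub, sub_eq_zero] at hX
  exact hX

include hδ hO in
theorem isUnit_of_ne (a : ↥O)
    (ha : constantCoeff (a : PowerSeries k × PowerSeries k).1 ≠ 0) : IsUnit a := by
  have ha2 : constantCoeff (a : PowerSeries k × PowerSeries k).2 ≠ 0 := by
    rwa [← constantCoeff_eq δ hδ O hO a]
  set f := (a : PowerSeries k × PowerSeries k).1 with hf
  set g := (a : PowerSeries k × PowerSeries k).2 with hg
  have hmem : ((f⁻¹, g⁻¹) : PowerSeries k × PowerSeries k) ∈ O := by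
    rw [hO]
    have h1 := PowerSeries.inv_mul_cancel f ha
    have h2 := PowerSeries.inv_mul_cancel g ha2
    have : f⁻¹ - g⁻¹ = f⁻¹ * g⁻¹ * (-(f - g)) := by
      calc f⁻¹ - g⁻¹ = f⁻¹ * (g⁻¹ * g) - g⁻¹ * (f⁻¹ * f) := by rw [h1, h2, mul_one, mul_one]
        _ = _ := by ring
    change (X : PowerSeries k) ^ δ ∣ f⁻¹ - g⁻¹
    rw [this]
    exact Dvd.dvd.mul_left (dvd_neg.mpr ((hO a).mp a.2)) _
  refine isUnit_iff_exists_inv.mpr ⟨⟨_, hmem⟩, ?_⟩
  apply Subtype.ext
  apply Prod.ext
  · exact PowerSeries.mul_inv_cancel f ha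
  · exact PowerSeries.mul_inv_cancel g ha2

include hδ hO in
theorem isLocalRing : IsLocalRing ↥O := by
  haveI : Nontrivial ↥O := by
    refine ⟨⟨0, 1, ?_⟩⟩
    intro h
    have := congrArg (fun a : ↥O => (a : PowerSeries k × PowerSeries k).1) h
    exact zero_ne_one this
  apply IsLocalRing.of_isUnit_or_isUnit_one_sub_self
  intro a
  by_cases h : constantCoeff (a : PowerSeries k × PowerSeries k).1 = 0
  · right
    apply isUnit_of_ne δ hδ O hO
    have : ((1 - a : ↥O) : PowerSeries k × PowerSeries k).1 =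
        1 - (a : PowerSeries k × PowerSeries k).1 := rfl
    rw [this, map_sub, map_one, h, sub_zero]
    exact one_ne_zero
  · left
    exact isUnit_of_ne δ hδ O hO a h

include hδ hO in
theorem mem_max_iff [IsLocalRing ↥O] (a : ↥O) :
    a ∈ IsLocalRing.maximalIdeal ↥O ↔
      constantCoeff (a : PowerSeries k × PowerSeries k).1 = 0 := by
  rw [IsLocalRing.mem_maximalIdeal, mem_nonunits_iff]
  constructor
  · intro h
    by_contra h0
    exact h (isUnit_of_ne δ hδ O hO a h0)
  · intro h hu
    have h1 : IsUnit (a : PowerSeries k × PowerSeries k) := hu.map O.val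
    have h2 : IsUnit (a : PowerSeries k × PowerSeries k).1 :=
      h1.map (RingHom.fst (PowerSeries k) (PowerSeries k))
    rw [PowerSeries.isUnit_iff_constantCoeff, h] at h2
    exact not_isUnit_zero h2

include hδ hO in
theorem hres [IsLocalRing ↥O] :
    Function.Surjective (algebraMap k (↥O ⧸ IsLocalRing.maximalIdeal ↥O)) := by
  intro y
  obtain ⟨a, rfl⟩ := Ideal.Quotient.mk_surjective y
  refine ⟨constantCoeff (a : PowerSeries k × PowerSeries k).1, ?_⟩
  rw [IsScalarTower.algebraMap_apply k ↥O (↥O ⧸ IsLocalRing.maximalIdeal ↥O)]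
  rw [Ideal.Quotient.algebraMap_eq, Ideal.Quotient.eq]
  rw [mem_max_iff δ hδ O hO]
  have : ((algebraMap k ↥O (constantCoeff (a : PowerSeries k × PowerSeries k).1) - a : ↥O) :
      PowerSeries k × PowerSeries k).1 =
      C (constantCoeff (a : PowerSeries k × PowerSeries k).1) -
        (a : PowerSeries k × PowerSeries k).1 := rfl
  rw [this, map_sub, constantCoeff_C, sub_self]

end Basic

section NNdef

variable (δ : ℕ) (O : Subalgebra k (PowerSeries k × PowerSeries k))
  (hO : ∀ f : PowerSeries k × PowerSeries k, f ∈ O ↔ (X : PowerSeries k) ^ δ ∣ f.1 - f.2)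

/-- the submodule `N(p, q) = {(w₁, w₂) : X^p ∣ w₂, X^q ∣ w₁ - w₂}` -/
def NN (p q : ℕ) (hpq : q ≤ p + δ) : Submodule ↥O (PowerSeries k × PowerSeries k) where
  carrier := {w | (X : PowerSeries k) ^ p ∣ w.2 ∧ (X : PowerSeries k) ^ q ∣ w.1 - w.2}
  add_mem' := by
    rintro a b ⟨ha1, ha2⟩ ⟨hb1, hb2⟩
    refine ⟨dvd_add ha1 hb1, ?_⟩
    have : (a + b).1 - (a + b).2 = (a.1 - a.2) + (b.1 - b.2) := by
      rw [Prod.fst_add, Prod.snd_add]; ring
    rw [this]
    exact dvd_add ha2 hb2
  zero_mem' := ⟨dvd_zero _, by simp⟩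
  smul_mem' := by
    rintro a w ⟨hw1, hw2⟩
    change (X : PowerSeries k) ^ p ∣ (a : PowerSeries k × PowerSeries k).2 * w.2 ∧
      (X : PowerSeries k) ^ q ∣ (a : PowerSeries k × PowerSeries k).1 * w.1 -
        (a : PowerSeries k × PowerSeries k).2 * w.2
    refine ⟨Dvd.dvd.mul_left hw1 _, ?_⟩
    have : (a : PowerSeries k × PowerSeries k).1 * w.1 -
        (a : PowerSeries k × PowerSeries k).2 * w.2 =
        (a : PowerSeries k × PowerSeries k).1 * (w.1 - w.2) +
          ((a : PowerSeries k × PowerSeries k).1 - (a : PowerSeries k × PowerSeries k).2) * w.2 := by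
      ring
    rw [this]
    apply dvd_add (Dvd.dvd.mul_left hw2 _)
    refine dvd_trans (pow_dvd_pow X (show q ≤ δ + p by omega)) ?_
    rw [pow_add]
    exact mul_dvd_mul ((hO a).mp a.2) hw1

theorem mem_NN (p q : ℕ) (hpq : q ≤ p + δ) (w : PowerSeries k × PowerSeries k) :
    w ∈ NN δ O hO p q hpq ↔
      (X : PowerSeries k) ^ p ∣ w.2 ∧ (X : PowerSeries k) ^ q ∣ w.1 - w.2 := Iff.rfl

include hO in
theorem diag_mem (b : PowerSeries k) : ((b, b) : PowerSeries k × PowerSeries k) ∈ O := by
  rw [hO]
  simp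

/-- the diagonal element `(b, b)` of `O` -/
def diag (b : PowerSeries k) : ↥O := ⟨(b, b), diag_mem δ O hO b⟩

theorem span_pair (j : ℕ) (hj : j ≤ δ) :
    Submodule.span ↥O ({((X : PowerSeries k) ^ j, (X : PowerSeries k) ^ j),
      ((X : PowerSeries k) ^ δ, 0)} : Set (PowerSeries k × PowerSeries k)) =
      NN δ O hO j δ (by omega) := by
  apply le_antisymm
  · rw [Submodule.span_le]
    intro w hw
    rcases hw with rfl | hw
    · exact ⟨dvd_refl _, by simp⟩
    · rw [Set.mem_singleton_iff] at hw
      subst hw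
      exact ⟨dvd_zero _, by simp⟩
  · intro w hw
    obtain ⟨⟨b, hb⟩, ⟨c, hc⟩⟩ := hw
    rw [Submodule.mem_span_pair]
    refine ⟨diag δ O hO b, diag δ O hO c, ?_⟩
    change ((b, b) : PowerSeries k × PowerSeries k) * ((X : PowerSeries k) ^ j, (X : PowerSeries k) ^ j)
      + ((c, c) : PowerSeries k × PowerSeries k) * ((X : PowerSeries k) ^ δ, 0) = w
    apply Prod.ext
    · change b * (X : PowerSeries k) ^ j + c * (X : PowerSeries k) ^ δ = w.1
      have : w.1 = w.2 + (w.1 - w.2) := by ring
      rw [this, hc, hb]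
      ring
    · change b * (X : PowerSeries k) ^ j + c * 0 = w.2
      rw [hb]
      ring

end NNdef

section Len

variable (δ : ℕ) (hδ : 1 ≤ δ) (O : Subalgebra k (PowerSeries k × PowerSeries k))
  (hO : ∀ f : PowerSeries k × PowerSeries k, f ∈ O ↔ (X : PowerSeries k) ^ δ ∣ f.1 - f.2)

/-- shortcut instance -/
noncomputable local instance shortcutRingB : Ring ↥O := O.toRing

/-- shortcut instance -/
noncomputable local instance shortcutACGB (N : Submodule ↥O (PowerSeries k × PowerSeries k)) :
    AddCommGroup ↥N := Submodule.addCommGroup N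

/-- the coefficient map on `N(p, q)` -/
noncomputable def coeffMap (p q p' q' : ℕ) (hpq : q ≤ p + δ) :
    ↥(NN δ O hO p q hpq) →ₗ[k] (Fin (p' - p) → k) × (Fin (q' - q) → k) where
  toFun w := (fun a => coeff (p + (a : ℕ)) (w : PowerSeries k × PowerSeries k).2,
    fun b => coeff (q + (b : ℕ)) ((w : PowerSeries k × PowerSeries k).1 -
      (w : PowerSeries k × PowerSeries k).2))
  map_add' w w' := by
    apply Prod.ext
    · funext a
      change coeff (p + (a : ℕ)) ((w : PowerSeries k × PowerSeries k).2 +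
        (w' : PowerSeries k × PowerSeries k).2) = _
      rw [map_add]
      rfl
    · funext b
      change coeff (q + (b : ℕ)) (((w : PowerSeries k × PowerSeries k).1 +
        (w' : PowerSeries k × PowerSeries k).1) - ((w : PowerSeries k × PowerSeries k).2 +
        (w' : PowerSeries k × PowerSeries k).2)) = _
      rw [add_sub_add_comm, map_add]
      rfl
  map_smul' c w := by
    apply Prod.ext
    · funext a
      change coeff (p + (a : ℕ)) (c • (w : PowerSeries k × PowerSeries k).2) = _
      rw [map_smul]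
      rfl
    · funext b
      change coeff (q + (b : ℕ)) (c • (w : PowerSeries k × PowerSeries k).1 -
        c • (w : PowerSeries k × PowerSeries k).2) = _
      rw [← smul_sub, map_smul]
      rfl

theorem coeffMap_surjective (p q p' q' : ℕ) (hpq : q ≤ p + δ) :
    Function.Surjective (coeffMap δ O hO p q p' q' hpq) := by
  rintro ⟨α, β⟩
  set w2 : PowerSeries k := ∑ a : Fin (p' - p), C (α a) * (X : PowerSeries k) ^ (p + (a : ℕ))
    with hw2
  set d : PowerSeries k := ∑ b : Fin (q' - q), C (β b) * (X : PowerSeries k) ^ (q + (b : ℕ))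
    with hd
  have h2 : (X : PowerSeries k) ^ p ∣ w2 := by
    apply Finset.dvd_sum
    intro a _
    exact Dvd.dvd.mul_left (pow_dvd_pow X (Nat.le_add_right _ _)) _
  have hdd : (X : PowerSeries k) ^ q ∣ d := by
    apply Finset.dvd_sum
    intro b _
    exact Dvd.dvd.mul_left (pow_dvd_pow X (Nat.le_add_right _ _)) _
  have hmem : ((w2 + d, w2) : PowerSeries k × PowerSeries k) ∈ NN δ O hO p q hpq := by
    refine ⟨h2, ?_⟩
    change (X : PowerSeries k) ^ q ∣ w2 + d - w2
    rw [add_sub_cancel_left]
    exact hdd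
  refine ⟨⟨_, hmem⟩, ?_⟩
  apply Prod.ext
  · funext a
    change coeff (p + (a : ℕ)) w2 = α a
    rw [hw2, map_sum, Finset.sum_eq_single a]
    · rw [coeff_C_mul, coeff_X_pow, if_pos rfl, mul_one]
    · intro a' _ ha'
      rw [coeff_C_mul, coeff_X_pow, if_neg, mul_zero]
      intro h
      apply ha'
      apply Fin.ext
      omega
    · intro h
      exact absurd (Finset.mem_univ a) h
  · funext b
    change coeff (q + (b : ℕ)) (w2 + d - w2) = β b
    rw [add_sub_cancel_left, hd, map_sum, Finset.sum_eq_single b]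
    · rw [coeff_C_mul, coeff_X_pow, if_pos rfl, mul_one]
    · intro b' _ hb'
      rw [coeff_C_mul, coeff_X_pow, if_neg, mul_zero]
      intro h
      apply hb'
      apply Fin.ext
      omega
    · intro h
      exact absurd (Finset.mem_univ b) h

theorem coeffMap_ker (p q p' q' : ℕ) (hpq : q ≤ p + δ) (hpq' : q' ≤ p' + δ) (hp : p ≤ p')
    (hq : q ≤ q') :
    LinearMap.ker (coeffMap δ O hO p q p' q' hpq) =
      (Submodule.comap (NN δ O hO p q hpq).subtype (NN δ O hO p' q' hpq')).restrictScalars k := by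
  ext w
  rw [LinearMap.mem_ker, Submodule.restrictScalars_mem, Submodule.mem_comap, Submodule.subtype_apply,
    mem_NN]
  obtain ⟨hw1, hw2⟩ := w.2
  constructor
  · intro h
    have ha := congrArg Prod.fst h
    have hb := congrArg Prod.snd h
    constructor
    · rw [X_pow_dvd_iff]
      intro m hm
      by_cases hmp : m < p
      · exact (X_pow_dvd_iff.mp hw1) m hmp
      · have := congrFun ha ⟨m - p, by omega⟩
        change coeff (p + (m - p)) (w : PowerSeries k × PowerSeries k).2 = 0 at this
        rwa [show p + (m - p) = m by omega] at this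
    · rw [X_pow_dvd_iff]
      intro m hm
      by_cases hmq : m < q
      · exact (X_pow_dvd_iff.mp hw2) m hmq
      · have := congrFun hb ⟨m - q, by omega⟩
        change coeff (q + (m - q)) ((w : PowerSeries k × PowerSeries k).1 -
          (w : PowerSeries k × PowerSeries k).2) = 0 at this
        rwa [show q + (m - q) = m by omega] at this
  · rintro ⟨h1, h2⟩
    apply Prod.ext
    · funext a
      change coeff (p + (a : ℕ)) (w : PowerSeries k × PowerSeries k).2 = 0
      exact (X_pow_dvd_iff.mp h1) _ (by have := a.2; omega)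
    · funext b
      change coeff (q + (b : ℕ)) ((w : PowerSeries k × PowerSeries k).1 -
          (w : PowerSeries k × PowerSeries k).2) = 0
      exact (X_pow_dvd_iff.mp h2) _ (by have := b.2; omega)

include hδ in
theorem length_subQ_NN [IsLocalRing ↥O] (p q p' q' : ℕ) (hpq : q ≤ p + δ) (hpq' : q' ≤ p' + δ)
    (hp : p ≤ p') (hq : q ≤ q') :
    Module.length ↥O (LenFin.SubQ (NN δ O hO p q hpq) (NN δ O hO p' q' hpq')) =
      ((p' - p + (q' - q) : ℕ) : ℕ∞) := by
  have e1 := Submodule.Quotient.restrictScalarsEquiv k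
    (Submodule.comap (NN δ O hO p q hpq).subtype (NN δ O hO p' q' hpq'))
  have e2 := Submodule.quotEquivOfEq _ _ (coeffMap_ker δ O hO p q p' q' hpq hpq' hp hq)
  have e3 := (coeffMap δ O hO p q p' q' hpq).quotKerEquivOfSurjective
    (coeffMap_surjective δ O hO p q p' q' hpq)
  have hk : Module.length k (LenFin.SubQ (NN δ O hO p q hpq) (NN δ O hO p' q' hpq')) =
      ((p' - p + (q' - q) : ℕ) : ℕ∞) := by
    rw [← e1.length_eq, ← e2.length_eq, e3.length_eq, Module.length_eq_finrank]
    simp
  rw [LenFin.length_eq_length k ↥O (hres δ hδ O hO) _ (by rw [hk]; exact ENat.coe_ne_top _), hk]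

end Len

end Groth.Agent.H75.TwoBr
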