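import Mathlib
import Groth.Agent.H75.TwoBrRing
import Groth.Agent.H75.ExtLen

/-! `Ext¹` between the rank-one modules of the two-branch ring
`O = {(f, g) ∈ k⟦X⟧² : X^δ ∣ f - g}`. -/

set_option autoImplicit false
set_option synthInstance.maxHeartbeats 200000
set_option maxHeartbeats 1000000
universe u

namespace Groth.Agent.H75.TwoBr

open PowerSeries CategoryTheory Abelian
open Groth.Agent.H75.TwoGen (sh coeff_sh X_pow_mul_sh)

variable {k : Type u} [Field k]

theorem le_order_iff_dvd (n : ℕ) (f : PowerSeries k) :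
    (n : ℕ∞) ≤ PowerSeries.order f ↔ (X : PowerSeries k) ^ n ∣ f := by
  rw [X_pow_dvd_iff]
  constructor
  · intro h m hm
    exact coeff_of_lt_order m (lt_of_lt_of_le (by exact_mod_cast hm) h)
  · intro h
    exact nat_le_order f n h

theorem sh_dvd {t n : ℕ} {f : PowerSeries k} (h : (X : PowerSeries k) ^ (t + n) ∣ f) :
    (X : PowerSeries k) ^ n ∣ sh t f := by
  obtain ⟨g, rfl⟩ := h
  refine ⟨g, ?_⟩
  apply mul_left_cancel₀ (pow_ne_zero t (X_ne_zero (R := k)))
  rw [X_pow_mul_sh _ _ ⟨(X : PowerSeries k) ^ n * g, by rw [pow_add, mul_assoc]⟩, pow_add, mul_assoc]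

theorem sh_sub (t : ℕ) (f g : PowerSeries k) : sh t (f - g) = sh t f - sh t g := by
  ext e
  rw [map_sub, coeff_sh, coeff_sh, coeff_sh, map_sub]

section Pres

variable (δ : ℕ) (O : Subalgebra k (PowerSeries k × PowerSeries k))
  (hO : ∀ f : PowerSeries k × PowerSeries k, f ∈ O ↔ (X : PowerSeries k) ^ δ ∣ f.1 - f.2)
  (i : ℕ) (hi : i ≤ δ)

/-- shortcut instance -/
noncomputable local instance shortcutRingC : Ring ↥O := O.toRing

/-- shortcut instance -/
noncomputable local instance shortcutACGC (N : Submodule ↥O (PowerSeries k × PowerSeries k)) :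
    AddCommGroup ↥N := Submodule.addCommGroup N

/-- the ideal `{c ∈ O : X^i ∣ c₁}` -/
def JJ : Submodule ↥O ↥O where
  carrier := {c | (X : PowerSeries k) ^ i ∣ (c : PowerSeries k × PowerSeries k).1}
  add_mem' {a b} ha hb := by
    change (X : PowerSeries k) ^ i ∣ (a : PowerSeries k × PowerSeries k).1 +
      (b : PowerSeries k × PowerSeries k).1
    exact dvd_add ha hb
  zero_mem' := by
    change (X : PowerSeries k) ^ i ∣ (0 : PowerSeries k)
    exact dvd_zero _
  smul_mem' a b hb := by
    change (X : PowerSeries k) ^ i ∣ (a : PowerSeries k × PowerSeries k).1 *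
      (b : PowerSeries k × PowerSeries k).1
    exact Dvd.dvd.mul_left hb _

theorem mem_JJ (c : ↥O) :
    c ∈ JJ O i ↔ (X : PowerSeries k) ^ i ∣ (c : PowerSeries k × PowerSeries k).1 := Iff.rfl

include hO hi in
theorem dvd_snd_of_mem_JJ (c : ↥O) (hc : c ∈ JJ O i) :
    (X : PowerSeries k) ^ i ∣ (c : PowerSeries k × PowerSeries k).2 := by
  have h1 : (X : PowerSeries k) ^ i ∣ (c : PowerSeries k × PowerSeries k).1 -
      (c : PowerSeries k × PowerSeries k).2 :=
    dvd_trans (pow_dvd_pow X hi) ((hO c).mp c.2)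
  have : (c : PowerSeries k × PowerSeries k).2 = (c : PowerSeries k × PowerSeries k).1 -
      ((c : PowerSeries k × PowerSeries k).1 - (c : PowerSeries k × PowerSeries k).2) := by ring
  rw [this]
  exact dvd_sub hc h1

include hO hi in
theorem syz_mem (c : ↥O) (hc : c ∈ JJ O i) :
    ((-((X : PowerSeries k) ^ (δ - i) * (c : PowerSeries k × PowerSeries k).1), 0) :
      PowerSeries k × PowerSeries k) ∈ O := by
  rw [hO]
  change (X : PowerSeries k) ^ δ ∣
    -((X : PowerSeries k) ^ (δ - i) * (c : PowerSeries k × PowerSeries k).1) - 0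
  rw [sub_zero, dvd_neg]
  obtain ⟨g, hg⟩ := hc
  rw [hg, ← mul_assoc, ← pow_add, show δ - i + i = δ by omega]
  exact dvd_mul_right _ _

/-- the syzygy map -/
noncomputable def syz : ↥(JJ O i) →ₗ[↥O] (↥O × ↥O) where
  toFun c := (⟨_, syz_mem δ O hO i hi c c.2⟩, (c : ↥O))
  map_add' b b' := by
    apply Prod.ext
    · apply Subtype.ext
      apply Prod.ext
      · change -((X : PowerSeries k) ^ (δ - i) * (((b : ↥O) : PowerSeries k × PowerSeries k).1 +
          ((b' : ↥O) : PowerSeries k × PowerSeries k).1)) =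
          -((X : PowerSeries k) ^ (δ - i) * ((b : ↥O) : PowerSeries k × PowerSeries k).1) +
          -((X : PowerSeries k) ^ (δ - i) * ((b' : ↥O) : PowerSeries k × PowerSeries k).1)
        ring
      · change (0 : PowerSeries k) = 0 + 0
        rw [add_zero]
    · rfl
  map_smul' a b := by
    apply Prod.ext
    · apply Subtype.ext
      apply Prod.ext
      · change -((X : PowerSeries k) ^ (δ - i) * ((a : PowerSeries k × PowerSeries k).1 *
          ((b : ↥O) : PowerSeries k × PowerSeries k).1)) =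
          (a : PowerSeries k × PowerSeries k).1 *
          -((X : PowerSeries k) ^ (δ - i) * ((b : ↥O) : PowerSeries k × PowerSeries k).1)
        ring
      · change (0 : PowerSeries k) = (a : PowerSeries k × PowerSeries k).2 * 0
        rw [mul_zero]
    · rfl

theorem syz_injective : Function.Injective (syz δ O hO i hi) := by
  intro b b' h
  apply Subtype.ext
  exact congrArg Prod.snd h

theorem u_mem : (((X : PowerSeries k) ^ i, (X : PowerSeries k) ^ i) :
    PowerSeries k × PowerSeries k) ∈ NN δ O hO i δ (by omega) :=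
  ⟨dvd_refl _, by simp⟩

theorem v_mem : (((X : PowerSeries k) ^ δ, 0) :
    PowerSeries k × PowerSeries k) ∈ NN δ O hO i δ (by omega) :=
  ⟨dvd_zero _, by simp⟩

/-- the presentation map -/
noncomputable def pres : (↥O × ↥O) →ₗ[↥O] ↥(NN δ O hO i δ (by omega)) :=
  (LinearMap.toSpanSingleton ↥O ↥(NN δ O hO i δ (by omega)) ⟨_, u_mem δ O hO i⟩).coprod
    (LinearMap.toSpanSingleton ↥O ↥(NN δ O hO i δ (by omega)) ⟨_, v_mem δ O hO i⟩)

theorem pres_apply (x : ↥O × ↥O) :
    ((pres δ O hO i x : ↥(NN δ O hO i δ (by omega))) : PowerSeries k × PowerSeries k) =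
      (x.1 : PowerSeries k × PowerSeries k) * ((X : PowerSeries k) ^ i, (X : PowerSeries k) ^ i) +
      (x.2 : PowerSeries k × PowerSeries k) * ((X : PowerSeries k) ^ δ, 0) := rfl

include hi in
theorem pres_surjective : Function.Surjective (pres δ O hO i) := by
  intro y
  have hy : (y : PowerSeries k × PowerSeries k) ∈ Submodule.span ↥O
      ({((X : PowerSeries k) ^ i, (X : PowerSeries k) ^ i),
      ((X : PowerSeries k) ^ δ, 0)} : Set (PowerSeries k × PowerSeries k)) := by
    rw [span_pair δ O hO i hi]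
    exact y.2
  rw [Submodule.mem_span_pair] at hy
  obtain ⟨a, c, hac⟩ := hy
  refine ⟨(a, c), ?_⟩
  apply Subtype.ext
  rw [pres_apply]
  exact hac

include hi in
theorem exact_syz_pres : Function.Exact (syz δ O hO i hi) (pres δ O hO i) := by
  intro x
  constructor
  · intro hx
    have h0 : (x.1 : PowerSeries k × PowerSeries k) *
        ((X : PowerSeries k) ^ i, (X : PowerSeries k) ^ i) +
        (x.2 : PowerSeries k × PowerSeries k) * ((X : PowerSeries k) ^ δ, 0) = 0 := by
      rw [← pres_apply δ O hO i x, hx]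
      rfl
    have h1 : (x.1 : PowerSeries k × PowerSeries k).1 * (X : PowerSeries k) ^ i +
        (x.2 : PowerSeries k × PowerSeries k).1 * (X : PowerSeries k) ^ δ = 0 :=
      congrArg Prod.fst h0
    have h2 : (x.1 : PowerSeries k × PowerSeries k).2 * (X : PowerSeries k) ^ i +
        (x.2 : PowerSeries k × PowerSeries k).2 * 0 = 0 :=
      congrArg Prod.snd h0
    rw [mul_zero, add_zero] at h2
    have ha2 : (x.1 : PowerSeries k × PowerSeries k).2 = 0 := by
      rcases mul_eq_zero.mp h2 with h | h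
      · exact h
      · exact absurd h (pow_ne_zero i X_ne_zero)
    have ha1 : (x.1 : PowerSeries k × PowerSeries k).1 =
        -((X : PowerSeries k) ^ (δ - i) * (x.2 : PowerSeries k × PowerSeries k).1) := by
      apply mul_right_cancel₀ (pow_ne_zero i (X_ne_zero (R := k)))
      have hpow : (X : PowerSeries k) ^ δ = (X : PowerSeries k) ^ (δ - i) * X ^ i := by
        rw [← pow_add, show δ - i + i = δ by omega]
      rw [hpow] at h1
      have : (x.1 : PowerSeries k × PowerSeries k).1 * (X : PowerSeries k) ^ i =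
          -((x.2 : PowerSeries k × PowerSeries k).1 * ((X : PowerSeries k) ^ (δ - i) * X ^ i)) :=
        eq_neg_of_add_eq_zero_left h1
      rw [this]
      ring
    have hJ : x.2 ∈ JJ O i := by
      rw [mem_JJ]
      have h3 := (hO x.1).mp x.1.2
      rw [ha2, sub_zero, ha1, dvd_neg] at h3
      have hpow : (X : PowerSeries k) ^ δ = (X : PowerSeries k) ^ (δ - i) * X ^ i := by
        rw [← pow_add, show δ - i + i = δ by omega]
      rw [hpow] at h3
      exact (mul_dvd_mul_iff_left (pow_ne_zero (δ - i) (X_ne_zero (R := k)))).mp h3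
    refine ⟨⟨x.2, hJ⟩, ?_⟩
    apply Prod.ext
    · apply Subtype.ext
      apply Prod.ext
      · exact ha1.symm
      · exact ha2.symm
    · rfl
  · rintro ⟨b, rfl⟩
    apply Subtype.ext
    rw [pres_apply]
    apply Prod.ext
    · change -((X : PowerSeries k) ^ (δ - i) * ((b : ↥O) : PowerSeries k × PowerSeries k).1) *
        (X : PowerSeries k) ^ i + ((b : ↥O) : PowerSeries k × PowerSeries k).1 *
        (X : PowerSeries k) ^ δ = 0
      have hpow : (X : PowerSeries k) ^ δ = (X : PowerSeries k) ^ (δ - i) * X ^ i := by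
        rw [← pow_add, show δ - i + i = δ by omega]
      rw [hpow]
      ring
    · change (0 : PowerSeries k) * (X : PowerSeries k) ^ i +
        ((b : ↥O) : PowerSeries k × PowerSeries k).2 * 0 = 0
      ring

end Pres

section PsiSec

variable (δ : ℕ) (O : Subalgebra k (PowerSeries k × PowerSeries k))
  (hO : ∀ f : PowerSeries k × PowerSeries k, f ∈ O ↔ (X : PowerSeries k) ^ δ ∣ f.1 - f.2)
  (i : ℕ) (hi : i ≤ δ)

/-- shortcut instance -/
noncomputable local instance shortcutRingD : Ring ↥O := O.toRing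

/-- shortcut instance -/
noncomputable local instance shortcutACGD (N : Submodule ↥O (PowerSeries k × PowerSeries k)) :
    AddCommGroup ↥N := Submodule.addCommGroup N

theorem cancel_pow {a b : ℕ} (hab : a ≤ b) {f g : PowerSeries k}
    (h : (X : PowerSeries k) ^ a * f = (X : PowerSeries k) ^ b * g) :
    f = (X : PowerSeries k) ^ (b - a) * g := by
  apply mul_left_cancel₀ (pow_ne_zero a (X_ne_zero (R := k)))
  rw [h, ← mul_assoc, ← pow_add, show a + (b - a) = b by omega]

theorem tau_cancel {w w' : PowerSeries k × PowerSeries k}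
    (h : (((X : PowerSeries k) ^ δ, (X : PowerSeries k) ^ δ) : PowerSeries k × PowerSeries k) * w =
      (((X : PowerSeries k) ^ δ, (X : PowerSeries k) ^ δ) : PowerSeries k × PowerSeries k) * w') :
    w = w' := by
  apply Prod.ext
  · exact mul_left_cancel₀ (pow_ne_zero δ (X_ne_zero (R := k))) (congrArg Prod.fst h)
  · exact mul_left_cancel₀ (pow_ne_zero δ (X_ne_zero (R := k))) (congrArg Prod.snd h)

/-- componentwise division by `X^δ` -/
noncomputable def shP (w : PowerSeries k × PowerSeries k) : PowerSeries k × PowerSeries k :=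
  (sh δ w.1, sh δ w.2)

theorem dvd_fst_of_mem {p q : ℕ} (hpq : δ + q ≤ δ + p + δ) {w : PowerSeries k × PowerSeries k}
    (hw : w ∈ NN δ O hO (δ + p) (δ + q) hpq) : (X : PowerSeries k) ^ δ ∣ w.1 := by
  have : w.1 = w.2 + (w.1 - w.2) := by ring
  rw [this]
  exact dvd_add (dvd_trans (pow_dvd_pow X (Nat.le_add_right _ _)) hw.1)
    (dvd_trans (pow_dvd_pow X (Nat.le_add_right _ _)) hw.2)

theorem tau_mul_shP {p q : ℕ} (hpq : δ + q ≤ δ + p + δ) {w : PowerSeries k × PowerSeries k}
    (hw : w ∈ NN δ O hO (δ + p) (δ + q) hpq) :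
    (((X : PowerSeries k) ^ δ, (X : PowerSeries k) ^ δ) : PowerSeries k × PowerSeries k) *
      shP δ w = w := by
  apply Prod.ext
  · exact X_pow_mul_sh _ _ (dvd_fst_of_mem δ O hO hpq hw)
  · exact X_pow_mul_sh _ _ (dvd_trans (pow_dvd_pow X (Nat.le_add_right _ _)) hw.1)

theorem shP_mem {p q : ℕ} (hpq : δ + q ≤ δ + p + δ) (hpq' : q ≤ p + δ)
    {w : PowerSeries k × PowerSeries k}
    (hw : w ∈ NN δ O hO (δ + p) (δ + q) hpq) :
    shP δ w ∈ NN δ O hO p q hpq' := by
  refine ⟨sh_dvd hw.1, ?_⟩
  change (X : PowerSeries k) ^ q ∣ sh δ w.1 - sh δ w.2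
  rw [← sh_sub]
  exact sh_dvd hw.2

include hi in
theorem tau_mem_JJ : diag δ O hO ((X : PowerSeries k) ^ δ) ∈ JJ O i := by
  change (X : PowerSeries k) ^ i ∣ (X : PowerSeries k) ^ δ
  exact pow_dvd_pow X hi

/-- `(X^δ, X^δ)` as an element of the ideal -/
noncomputable def tauI : ↥(JJ O i) := ⟨diag δ O hO ((X : PowerSeries k) ^ δ), tau_mem_JJ δ O hO i hi⟩

variable (Y : Submodule ↥O (PowerSeries k × PowerSeries k))

/-- evaluation at `(X^δ, X^δ)` -/
noncomputable def Psi : (↥(JJ O i) →ₗ[↥O] ↥Y) →ₗ[↥O] (PowerSeries k × PowerSeries k) :=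
  Y.subtype ∘ₗ LinearMap.applyₗ (tauI δ O hO i hi)

theorem Psi_apply (φ : ↥(JJ O i) →ₗ[↥O] ↥Y) :
    Psi δ O hO i hi Y φ = ((φ (tauI δ O hO i hi) : ↥Y) : PowerSeries k × PowerSeries k) := rfl

theorem Psi_rel (φ : ↥(JJ O i) →ₗ[↥O] ↥Y) (b : ↥(JJ O i)) :
    (((X : PowerSeries k) ^ δ, (X : PowerSeries k) ^ δ) : PowerSeries k × PowerSeries k) *
      ((φ b : ↥Y) : PowerSeries k × PowerSeries k) =
      ((b : ↥O) : PowerSeries k × PowerSeries k) * Psi δ O hO i hi Y φ := by
  have h1 : ((tauI δ O hO i hi : ↥(JJ O i)) : ↥O) • b = (b : ↥O) • tauI δ O hO i hi := by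
    apply Subtype.ext
    change ((tauI δ O hO i hi : ↥(JJ O i)) : ↥O) * (b : ↥O) =
      (b : ↥O) * ((tauI δ O hO i hi : ↥(JJ O i)) : ↥O)
    exact mul_comm _ _
  have h2 := congrArg φ h1
  rw [map_smul, map_smul] at h2
  exact congrArg (fun z : ↥Y => (z : PowerSeries k × PowerSeries k)) h2

theorem Psi_injective : Function.Injective (Psi δ O hO i hi Y) := by
  intro φ φ' hφ
  apply LinearMap.ext
  intro b
  have h := Psi_rel δ O hO i hi Y φ b
  have h' := Psi_rel δ O hO i hi Y φ' b
  rw [hφ, ← h'] at h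
  apply Subtype.ext
  exact tau_cancel δ h

end PsiSec

section RangeSec

variable (δ : ℕ) (O : Subalgebra k (PowerSeries k × PowerSeries k))
  (hO : ∀ f : PowerSeries k × PowerSeries k, f ∈ O ↔ (X : PowerSeries k) ^ δ ∣ f.1 - f.2)
  (i : ℕ) (hi : i ≤ δ) (j : ℕ) (hj : j ≤ δ)

/-- shortcut instance -/
noncomputable local instance shortcutRingE : Ring ↥O := O.toRing

/-- shortcut instance -/
noncomputable local instance shortcutACGE (N : Submodule ↥O (PowerSeries k × PowerSeries k)) :
    AddCommGroup ↥N := Submodule.addCommGroup N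

include hi in
/-- products of elements of `J_i` with elements of `W` land in `τ Y` -/
theorem mul_mem_tauY (b : ↥O) (hb : b ∈ JJ O i) (z : PowerSeries k × PowerSeries k)
    (hz : z ∈ NN δ O hO (δ + (j - i)) (2 * δ - i) (by omega)) :
    (b : PowerSeries k × PowerSeries k) * z ∈ NN δ O hO (δ + j) (δ + δ) (by omega) := by
  obtain ⟨hz1, hz2⟩ := hz
  have hb1 : (X : PowerSeries k) ^ i ∣ (b : PowerSeries k × PowerSeries k).1 := hb
  have hb2 := dvd_snd_of_mem_JJ δ O hO i hi b hb
  have hbO := (hO b).mp b.2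
  constructor
  · change (X : PowerSeries k) ^ (δ + j) ∣ (b : PowerSeries k × PowerSeries k).2 * z.2
    refine dvd_trans (pow_dvd_pow X (show δ + j ≤ i + (δ + (j - i)) by omega)) ?_
    rw [pow_add]
    exact mul_dvd_mul hb2 hz1
  · change (X : PowerSeries k) ^ (δ + δ) ∣ (b : PowerSeries k × PowerSeries k).1 * z.1 -
      (b : PowerSeries k × PowerSeries k).2 * z.2
    have : (b : PowerSeries k × PowerSeries k).1 * z.1 -
        (b : PowerSeries k × PowerSeries k).2 * z.2 =
        (b : PowerSeries k × PowerSeries k).1 * (z.1 - z.2) +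
        ((b : PowerSeries k × PowerSeries k).1 - (b : PowerSeries k × PowerSeries k).2) * z.2 := by
      ring
    rw [this]
    apply dvd_add
    · refine dvd_trans (pow_dvd_pow X (show δ + δ ≤ i + (2 * δ - i) by omega)) ?_
      rw [pow_add]
      exact mul_dvd_mul hb1 hz2
    · refine dvd_trans (pow_dvd_pow X (show δ + δ ≤ δ + (δ + (j - i)) by omega)) ?_
      rw [pow_add]
      exact mul_dvd_mul hbO hz1

theorem range_Psi :
    LinearMap.range (Psi δ O hO i hi (NN δ O hO j δ (by omega))) =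
      NN δ O hO (δ + (j - i)) (2 * δ - i) (by omega) := by
  ext z
  constructor
  · rintro ⟨φ, rfl⟩
    -- first generator `(X^i, X^i)`
    have hb1 : diag δ O hO ((X : PowerSeries k) ^ i) ∈ JJ O i := by
      change (X : PowerSeries k) ^ i ∣ (X : PowerSeries k) ^ i
      exact dvd_refl _
    have r1 := Psi_rel δ O hO i hi _ φ ⟨_, hb1⟩
    obtain ⟨⟨g1, hg1⟩, ⟨g2, hg2⟩⟩ := (φ ⟨_, hb1⟩).2
    set z := Psi δ O hO i hi (NN δ O hO j δ (by omega)) φ with hzdef
    have r1a : (X : PowerSeries k) ^ δ *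
        ((φ ⟨_, hb1⟩ : ↥(NN δ O hO j δ (by omega))) : PowerSeries k × PowerSeries k).1 =
        (X : PowerSeries k) ^ i * z.1 := congrArg Prod.fst r1
    have r1b : (X : PowerSeries k) ^ δ *
        ((φ ⟨_, hb1⟩ : ↥(NN δ O hO j δ (by omega))) : PowerSeries k × PowerSeries k).2 =
        (X : PowerSeries k) ^ i * z.2 := congrArg Prod.snd r1
    have hA : (X : PowerSeries k) ^ (δ + j - i) ∣ z.2 := by
      rw [hg1, ← mul_assoc, ← pow_add] at r1b
      exact ⟨g1, cancel_pow (by omega) r1b.symm⟩
    have hB : (X : PowerSeries k) ^ (2 * δ - i) ∣ z.1 - z.2 := by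
      have : (X : PowerSeries k) ^ i * (z.1 - z.2) = (X : PowerSeries k) ^ (δ + δ) * g2 := by
        rw [mul_sub, ← r1a, ← r1b, ← mul_sub, hg2, ← mul_assoc, ← pow_add]
      have := cancel_pow (show i ≤ δ + δ by omega) this
      rw [show δ + δ - i = 2 * δ - i by omega] at this
      exact ⟨g2, this⟩
    -- second generator `(X^δ, 0)`
    have hb2O : (((X : PowerSeries k) ^ δ, 0) : PowerSeries k × PowerSeries k) ∈ O := by
      rw [hO]
      simp
    have hb2 : (⟨_, hb2O⟩ : ↥O) ∈ JJ O i := by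
      change (X : PowerSeries k) ^ i ∣ (X : PowerSeries k) ^ δ
      exact pow_dvd_pow X hi
    have r2 := Psi_rel δ O hO i hi _ φ ⟨_, hb2⟩
    obtain ⟨-, ⟨g3, hg3⟩⟩ := (φ ⟨_, hb2⟩).2
    have r2a : (X : PowerSeries k) ^ δ *
        ((φ ⟨_, hb2⟩ : ↥(NN δ O hO j δ (by omega))) : PowerSeries k × PowerSeries k).1 =
        (X : PowerSeries k) ^ δ * z.1 := congrArg Prod.fst r2
    have r2b : (X : PowerSeries k) ^ δ *
        ((φ ⟨_, hb2⟩ : ↥(NN δ O hO j δ (by omega))) : PowerSeries k × PowerSeries k).2 =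
        0 * z.2 := congrArg Prod.snd r2
    have e1 := mul_left_cancel₀ (pow_ne_zero δ (X_ne_zero (R := k))) r2a
    have e2 : ((φ ⟨_, hb2⟩ : ↥(NN δ O hO j δ (by omega))) :
        PowerSeries k × PowerSeries k).2 = 0 := by
      rw [zero_mul] at r2b
      rcases mul_eq_zero.mp r2b with h | h
      · exact absurd h (pow_ne_zero δ X_ne_zero)
      · exact h
    have hC : (X : PowerSeries k) ^ δ ∣ z.1 := by
      rw [e1, e2, sub_zero] at hg3
      exact ⟨g3, hg3⟩
    have hD : (X : PowerSeries k) ^ δ ∣ z.2 := by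
      have : z.2 = z.1 - (z.1 - z.2) := by ring
      rw [this]
      exact dvd_sub hC (dvd_trans (pow_dvd_pow X (by omega)) hB)
    refine ⟨?_, hB⟩
    rcases le_total i j with hij | hij
    · rw [show δ + (j - i) = δ + j - i by omega]
      exact hA
    · rw [show δ + (j - i) = δ by omega]
      exact hD
  · intro hz
    have hzb : ∀ b : ↥(JJ O i), ((b : ↥O) : PowerSeries k × PowerSeries k) * z ∈
        NN δ O hO (δ + j) (δ + δ) (by omega) :=
      fun b => mul_mem_tauY δ O hO i hi j b b.2 z hz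
    let φ : ↥(JJ O i) →ₗ[↥O] ↥(NN δ O hO j δ (by omega)) :=
      { toFun := fun b => ⟨shP δ (((b : ↥O) : PowerSeries k × PowerSeries k) * z),
          shP_mem δ O hO (by omega) (by omega) (hzb b)⟩
        map_add' := fun b b' => by
          apply Subtype.ext
          apply tau_cancel δ
          change (((X : PowerSeries k) ^ δ, (X : PowerSeries k) ^ δ) :
              PowerSeries k × PowerSeries k) *
              shP δ ((((b + b' : ↥(JJ O i)) : ↥O) : PowerSeries k × PowerSeries k) * z) =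
            (((X : PowerSeries k) ^ δ, (X : PowerSeries k) ^ δ) :
              PowerSeries k × PowerSeries k) *
              (shP δ (((b : ↥O) : PowerSeries k × PowerSeries k) * z) +
                shP δ (((b' : ↥O) : PowerSeries k × PowerSeries k) * z))
          rw [mul_add, tau_mul_shP δ O hO (by omega) (hzb b),
            tau_mul_shP δ O hO (by omega) (hzb b'), tau_mul_shP δ O hO (by omega) (hzb (b + b'))]
          change (((b : ↥O) : PowerSeries k × PowerSeries k) +
            ((b' : ↥O) : PowerSeries k × PowerSeries k)) * z = _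
          ring
        map_smul' := fun a b => by
          apply Subtype.ext
          apply tau_cancel δ
          change (((X : PowerSeries k) ^ δ, (X : PowerSeries k) ^ δ) :
              PowerSeries k × PowerSeries k) *
              shP δ ((((a • b : ↥(JJ O i)) : ↥O) : PowerSeries k × PowerSeries k) * z) =
            (((X : PowerSeries k) ^ δ, (X : PowerSeries k) ^ δ) :
              PowerSeries k × PowerSeries k) *
              ((a : PowerSeries k × PowerSeries k) *
                shP δ (((b : ↥O) : PowerSeries k × PowerSeries k) * z))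
          rw [mul_left_comm, tau_mul_shP δ O hO (by omega) (hzb b),
            tau_mul_shP δ O hO (by omega) (hzb (a • b))]
          change ((a : PowerSeries k × PowerSeries k) *
            ((b : ↥O) : PowerSeries k × PowerSeries k)) * z = _
          ring }
    refine ⟨φ, ?_⟩
    rw [Psi_apply]
    apply tau_cancel δ
    change (((X : PowerSeries k) ^ δ, (X : PowerSeries k) ^ δ) : PowerSeries k × PowerSeries k) *
      shP δ ((((tauI δ O hO i hi : ↥(JJ O i)) : ↥O) : PowerSeries k × PowerSeries k) * z) = _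
    rw [tau_mul_shP δ O hO (by omega) (hzb (tauI δ O hO i hi))]
    rfl

end RangeSec

section ImgSec

variable (δ : ℕ) (hδ : 1 ≤ δ) (O : Subalgebra k (PowerSeries k × PowerSeries k))
  (hO : ∀ f : PowerSeries k × PowerSeries k, f ∈ O ↔ (X : PowerSeries k) ^ δ ∣ f.1 - f.2)
  (i : ℕ) (hi : i ≤ δ) (j : ℕ) (hj : j ≤ δ)

/-- shortcut instance -/
noncomputable local instance shortcutRingF : Ring ↥O := O.toRing

/-- shortcut instance -/
noncomputable local instance shortcutACGF (N : Submodule ↥O (PowerSeries k × PowerSeries k)) :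
    AddCommGroup ↥N := Submodule.addCommGroup N

include hj in
theorem map_Psi :
    Submodule.map (Psi δ O hO i hi (NN δ O hO j δ (Nat.le_add_left δ j)))
        (LinearMap.range (LinearMap.lcomp ↥O ↥(NN δ O hO j δ (Nat.le_add_left δ j)) (syz δ O hO i hi))) =
      NN δ O hO (δ + j) (2 * δ - (i - j)) (by omega) := by
  classical
  ext f
  simp only [Submodule.mem_map, LinearMap.mem_range, exists_exists_eq_and]
  constructor
  · rintro ⟨G, rfl⟩
    set y₁ : ↥(NN δ O hO j δ (Nat.le_add_left δ j)) := G (1, 0) with hy₁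
    set y₂ : ↥(NN δ O hO j δ (Nat.le_add_left δ j)) := G (0, 1) with hy₂
    have hG : ∀ x : ↥O × ↥O, G x = x.1 • y₁ + x.2 • y₂ := by
      intro x
      have : x = x.1 • ((1, 0) : ↥O × ↥O) + x.2 • ((0, 1) : ↥O × ↥O) := by
        apply Prod.ext <;> simp
      conv_lhs => rw [this]
      rw [map_add, map_smul, map_smul]
    have h1 : Psi δ O hO i hi (NN δ O hO j δ (Nat.le_add_left δ j))
        (LinearMap.lcomp ↥O ↥(NN δ O hO j δ (Nat.le_add_left δ j)) (syz δ O hO i hi) G) =
        ((-((X : PowerSeries k) ^ (δ - i) * (X : PowerSeries k) ^ δ), 0) :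
          PowerSeries k × PowerSeries k) * (y₁ : PowerSeries k × PowerSeries k) +
        (((X : PowerSeries k) ^ δ, (X : PowerSeries k) ^ δ) : PowerSeries k × PowerSeries k) *
          (y₂ : PowerSeries k × PowerSeries k) := by
      rw [Psi_apply]
      change ((G (syz δ O hO i hi (tauI δ O hO i hi)) : ↥(NN δ O hO j δ (Nat.le_add_left δ j))) :
        PowerSeries k × PowerSeries k) = _
      rw [hG]
      rfl
    rw [h1]
    obtain ⟨⟨a1, ha1⟩, ⟨a2, ha2⟩⟩ := y₁.2
    obtain ⟨⟨b1, hb1⟩, ⟨b2, hb2⟩⟩ := y₂.2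
    have hy11 : (X : PowerSeries k) ^ j ∣ (y₁ : PowerSeries k × PowerSeries k).1 := by
      have : (y₁ : PowerSeries k × PowerSeries k).1 = (y₁ : PowerSeries k × PowerSeries k).2 +
          ((y₁ : PowerSeries k × PowerSeries k).1 - (y₁ : PowerSeries k × PowerSeries k).2) := by
        ring
      rw [this]
      exact dvd_add ⟨a1, ha1⟩ (dvd_trans (pow_dvd_pow X hj) ⟨a2, ha2⟩)
    constructor
    · change (X : PowerSeries k) ^ (δ + j) ∣ 0 * (y₁ : PowerSeries k × PowerSeries k).2 +
        (X : PowerSeries k) ^ δ * (y₂ : PowerSeries k × PowerSeries k).2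
      rw [zero_mul, zero_add, hb1, pow_add]
      exact mul_dvd_mul_left _ (dvd_mul_right _ _)
    · change (X : PowerSeries k) ^ (2 * δ - (i - j)) ∣
        (-((X : PowerSeries k) ^ (δ - i) * (X : PowerSeries k) ^ δ) *
          (y₁ : PowerSeries k × PowerSeries k).1 +
          (X : PowerSeries k) ^ δ * (y₂ : PowerSeries k × PowerSeries k).1) -
        (0 * (y₁ : PowerSeries k × PowerSeries k).2 +
          (X : PowerSeries k) ^ δ * (y₂ : PowerSeries k × PowerSeries k).2)
      have : (-((X : PowerSeries k) ^ (δ - i) * (X : PowerSeries k) ^ δ) *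
          (y₁ : PowerSeries k × PowerSeries k).1 +
          (X : PowerSeries k) ^ δ * (y₂ : PowerSeries k × PowerSeries k).1) -
        (0 * (y₁ : PowerSeries k × PowerSeries k).2 +
          (X : PowerSeries k) ^ δ * (y₂ : PowerSeries k × PowerSeries k).2) =
        -((X : PowerSeries k) ^ (δ - i) * (X : PowerSeries k) ^ δ *
          (y₁ : PowerSeries k × PowerSeries k).1) +
        (X : PowerSeries k) ^ δ * ((y₂ : PowerSeries k × PowerSeries k).1 -
          (y₂ : PowerSeries k × PowerSeries k).2) := by ring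
      rw [this]
      apply dvd_add
      · rw [dvd_neg, ← pow_add]
        refine dvd_trans (pow_dvd_pow X (show 2 * δ - (i - j) ≤ (δ - i + δ) + j by omega)) ?_
        rw [pow_add]
        exact mul_dvd_mul_left _ hy11
      · rw [hb2, ← mul_assoc, ← pow_add]
        exact dvd_trans (pow_dvd_pow X (show 2 * δ - (i - j) ≤ δ + δ by omega)) (dvd_mul_right _ _)
  · rintro ⟨hf1, hf2⟩
    rcases le_or_gt i j with hij | hij
    · -- `f ∈ τ Y`
      have hf2' : (X : PowerSeries k) ^ (δ + δ) ∣ f.1 - f.2 := by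
        rw [show 2 * δ - (i - j) = δ + δ by omega] at hf2
        exact hf2
      have hfm : f ∈ NN δ O hO (δ + j) (δ + δ) (by omega) := ⟨hf1, hf2'⟩
      let y₂ : ↥(NN δ O hO j δ (Nat.le_add_left δ j)) :=
        ⟨shP δ f, shP_mem δ O hO (by omega) (by omega) hfm⟩
      refine ⟨(0 : ↥O →ₗ[↥O] ↥(NN δ O hO j δ (Nat.le_add_left δ j))).coprod
        (LinearMap.toSpanSingleton ↥O ↥(NN δ O hO j δ (Nat.le_add_left δ j)) y₂), ?_⟩
      rw [Psi_apply]
      change (0 : PowerSeries k × PowerSeries k) +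
        (((X : PowerSeries k) ^ δ, (X : PowerSeries k) ^ δ) : PowerSeries k × PowerSeries k) *
          shP δ f = f
      rw [zero_add, tau_mul_shP δ O hO (by omega) hfm]
    · -- general case
      have hr : (X : PowerSeries k) ^ ((2 * δ - i) + j) ∣ f.1 - f.2 := by
        rw [show 2 * δ - (i - j) = (2 * δ - i) + j by omega] at hf2
        exact hf2
      have hm1 : ((sh (2 * δ - i) (f.1 - f.2), sh (2 * δ - i) (f.1 - f.2)) :
          PowerSeries k × PowerSeries k) ∈ NN δ O hO j δ (Nat.le_add_left δ j) :=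
        ⟨sh_dvd hr, by simp⟩
      have hm2 : ((sh δ f.2, sh δ f.2) : PowerSeries k × PowerSeries k) ∈
          NN δ O hO j δ (Nat.le_add_left δ j) :=
        ⟨sh_dvd hf1, by simp⟩
      let y₁ : ↥(NN δ O hO j δ (Nat.le_add_left δ j)) := ⟨_, hm1⟩
      let y₂ : ↥(NN δ O hO j δ (Nat.le_add_left δ j)) := ⟨_, hm2⟩
      refine ⟨(LinearMap.toSpanSingleton ↥O ↥(NN δ O hO j δ (Nat.le_add_left δ j)) (-y₁)).coprod
        (LinearMap.toSpanSingleton ↥O ↥(NN δ O hO j δ (Nat.le_add_left δ j)) y₂), ?_⟩
      rw [Psi_apply]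
      change ((-((X : PowerSeries k) ^ (δ - i) * (X : PowerSeries k) ^ δ), 0) :
          PowerSeries k × PowerSeries k) *
          -((sh (2 * δ - i) (f.1 - f.2), sh (2 * δ - i) (f.1 - f.2)) :
            PowerSeries k × PowerSeries k) +
        (((X : PowerSeries k) ^ δ, (X : PowerSeries k) ^ δ) : PowerSeries k × PowerSeries k) *
          ((sh δ f.2, sh δ f.2) : PowerSeries k × PowerSeries k) = f
      have hd1 : (X : PowerSeries k) ^ (2 * δ - i) ∣ f.1 - f.2 :=
        dvd_trans (pow_dvd_pow X (Nat.le_add_right _ _)) hr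
      have hd2 : (X : PowerSeries k) ^ δ ∣ f.2 :=
        dvd_trans (pow_dvd_pow X (Nat.le_add_right _ _)) hf1
      apply Prod.ext
      · change -((X : PowerSeries k) ^ (δ - i) * (X : PowerSeries k) ^ δ) *
          -(sh (2 * δ - i) (f.1 - f.2)) + (X : PowerSeries k) ^ δ * sh δ f.2 = f.1
        rw [neg_mul_neg, ← pow_add, show δ - i + δ = 2 * δ - i by omega,
          X_pow_mul_sh _ _ hd1, X_pow_mul_sh _ _ hd2]
        ring
      · change (0 : PowerSeries k) * -(sh (2 * δ - i) (f.1 - f.2)) +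
          (X : PowerSeries k) ^ δ * sh δ f.2 = f.2
        rw [zero_mul, zero_add, X_pow_mul_sh _ _ hd2]

include hδ hi hj in
theorem main :
    Module.length ↥O (Ext (ModuleCat.of ↥O ↥(NN δ O hO i δ (Nat.le_add_left δ i)))
      (ModuleCat.of ↥O ↥(NN δ O hO j δ (Nat.le_add_left δ j))) 1) = ((2 * min i j : ℕ) : ℕ∞) := by
  haveI := isLocalRing δ hδ O hO
  have E := ExtLen.length_ext_one_of_projective (R := ↥O) (M₁ := ↥(JJ O i)) (M₂ := ↥O × ↥O)
    (M₃ := ↥(NN δ O hO i δ (Nat.le_add_left δ i))) (Y := ↥(NN δ O hO j δ (Nat.le_add_left δ j)))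
    (syz δ O hO i hi) (pres δ O hO i) (syz_injective δ O hO i hi)
    (pres_surjective δ O hO i hi) (exact_syz_pres δ O hO i hi)
  have hR := range_Psi δ O hO i hi j
  have hM := map_Psi δ O hO i hi j hj
  have F := CubExt.length_quot_eq_subQ (R := ↥O)
    (M := ↥(JJ O i) →ₗ[↥O] ↥(NN δ O hO j δ (Nat.le_add_left δ j)))
    (B := PowerSeries k × PowerSeries k)
    (Psi δ O hO i hi (NN δ O hO j δ (Nat.le_add_left δ j)))
    (Psi_injective δ O hO i hi (NN δ O hO j δ (Nat.le_add_left δ j)))
    (LinearMap.range (LinearMap.lcomp ↥O ↥(NN δ O hO j δ (Nat.le_add_left δ j)) (syz δ O hO i hi)))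
    (NN δ O hO (δ + (j - i)) (2 * δ - i) (by omega))
    (NN δ O hO (δ + j) (2 * δ - (i - j)) (by omega)) hR hM
  have L := length_subQ_NN δ hδ O hO (δ + (j - i)) (2 * δ - i) (δ + j) (2 * δ - (i - j))
    (by omega) (by omega) (by omega) (by omega)
  rw [E, F, L]
  congr 1
  omega

end ImgSec

end Groth.Agent.H75.TwoBr
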