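import Mathlib

/-!
# Witt vector addition polynomials modulo degree `p`, and products in `R/λ` (helper75)
-/

set_option autoImplicit false
universe u

namespace Groth.Agent.H75.WittFrobKilled

section Helpers

open MvPolynomial

variable (p : ℕ) [hp : Fact p.Prime]

/-- `wittAdd p n - X (0,n) - X (1,n)` has no monomials of degree `< p`. -/
lemma order_wittAdd_sub (n : ℕ) :
    (p : ℕ∞) ≤ ((WittVector.wittAdd p n - X (0, n) - X (1, n) : MvPolynomial (Fin 2 × ℕ) ℤ) :
      MvPowerSeries (Fin 2 × ℕ) ℤ).order := by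
  have hprop := wittStructureInt_prop p (X 0 + X 1 : MvPolynomial (Fin 2) ℤ) n
  rw [wittPolynomial_eq_sum_C_mul_X_pow] at hprop
  simp only [map_sum, map_mul, map_pow, bind₁_X_right, algHom_C, map_add, rename_X,
    algebraMap_eq] at hprop
  rw [Finset.sum_range_succ, Finset.sum_range_succ, Finset.sum_range_succ] at hprop
  simp only [Nat.sub_self, pow_zero, pow_one] at hprop
  -- the key identity
  have key : C ((p : ℤ) ^ n) * (WittVector.wittAdd p n - X (0, n) - X (1, n)) =
      ∑ i ∈ Finset.range n, C ((p : ℤ) ^ i) *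
        (X (0, i) ^ p ^ (n - i) + X (1, i) ^ p ^ (n - i) -
          wittStructureInt p (X 0 + X 1) i ^ p ^ (n - i)) := by
    have : ∀ i, C ((p : ℤ) ^ i) * ((X (0, i) : MvPolynomial (Fin 2 × ℕ) ℤ) ^ p ^ (n - i) +
        X (1, i) ^ p ^ (n - i) - wittStructureInt p (X 0 + X 1) i ^ p ^ (n - i)) =
        C ((p : ℤ) ^ i) * X (0, i) ^ p ^ (n - i) + C ((p : ℤ) ^ i) * X (1, i) ^ p ^ (n - i) -
        C ((p : ℤ) ^ i) * wittStructureInt p (X 0 + X 1) i ^ p ^ (n - i) := by
      intro i; ring
    simp only [this, Finset.sum_sub_distrib, Finset.sum_add_distrib]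
    unfold WittVector.wittAdd
    simp only [map_pow, map_natCast] at hprop ⊢
    linear_combination hprop
  -- order estimate on the right-hand side
  have hord : (p : ℕ∞) ≤ ((∑ i ∈ Finset.range n, C ((p : ℤ) ^ i) *
        (X (0, i) ^ p ^ (n - i) + X (1, i) ^ p ^ (n - i) -
          wittStructureInt p (X 0 + X 1) i ^ p ^ (n - i)) :
        MvPolynomial (Fin 2 × ℕ) ℤ) : MvPowerSeries (Fin 2 × ℕ) ℤ).order := by
    apply MvPowerSeries.le_order
    intro d hd
    rw [MvPolynomial.coeff_coe, coeff_sum]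
    apply Finset.sum_eq_zero
    intro i hi
    rw [coeff_C_mul]
    have hni : 1 ≤ n - i := by have := Finset.mem_range.1 hi; omega
    have hpp : p ≤ p ^ (n - i) := by
      calc p = p ^ 1 := (pow_one p).symm
        _ ≤ p ^ (n - i) := Nat.pow_le_pow_right hp.1.pos hni
    have hdlt : d.degree < p ^ (n - i) := by
      have : ((d.degree : ℕ) : ℕ∞) < (p : ℕ∞) := hd
      exact lt_of_lt_of_le (by exact_mod_cast this) hpp
    have h1 : ∀ v : Fin 2 × ℕ, coeff d ((X v : MvPolynomial (Fin 2 × ℕ) ℤ) ^ p ^ (n - i)) = 0 := by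
      intro v
      rw [X_pow_eq_monomial, coeff_monomial, if_neg]
      rintro rfl
      simp at hdlt
    have h2 : coeff d (wittStructureInt p (X 0 + X 1 : MvPolynomial (Fin 2) ℤ) i ^
        p ^ (n - i)) = 0 := by
      have hc : constantCoeff
          (wittStructureInt p (X 0 + X 1 : MvPolynomial (Fin 2) ℤ) i) = 0 :=
        constantCoeff_wittStructureInt p _ (by simp) i
      have hc' : MvPowerSeries.constantCoeff
          ((wittStructureInt p (X 0 + X 1 : MvPolynomial (Fin 2) ℤ) i :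
            MvPolynomial (Fin 2 × ℕ) ℤ) : MvPowerSeries (Fin 2 × ℕ) ℤ) = 0 := by
        rw [← MvPowerSeries.coeff_zero_eq_constantCoeff_apply, MvPolynomial.coeff_coe]
        exact hc
      have h3 := MvPowerSeries.le_order_pow_of_constantCoeff_eq_zero (p ^ (n - i)) hc'
      rw [← MvPolynomial.coeff_coe, MvPolynomial.coe_pow]
      apply MvPowerSeries.coeff_of_lt_order
      refine lt_of_lt_of_le ?_ h3
      exact_mod_cast hdlt
    rw [coeff_sub, coeff_add, h1, h1, h2]
    simp
  rw [← key] at hord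
  apply MvPowerSeries.le_order
  intro d hd
  have h4 := MvPowerSeries.coeff_of_lt_order (f := ((C ((p : ℤ) ^ n) *
      (WittVector.wittAdd p n - X (0, n) - X (1, n)) : MvPolynomial (Fin 2 × ℕ) ℤ) :
      MvPowerSeries (Fin 2 × ℕ) ℤ)) (d := d) (lt_of_lt_of_le hd hord)
  rw [MvPolynomial.coeff_coe, coeff_C_mul] at h4
  rw [MvPolynomial.coeff_coe]
  rcases mul_eq_zero.1 h4 with h5 | h5
  · exact absurd h5 (pow_ne_zero n (by exact_mod_cast hp.1.ne_zero))
  · exact h5

end Helpers

section DVR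

variable {R : Type u} [CommRing R] [IsDomain R] [IsDiscreteValuationRing R]

/-- In `R/λ` (`R` a DVR), a monomial of degree `≥ p` in elements killed by the `p`-th power
vanishes. -/
lemma prod_eq_zero_of_pow_eq_zero {σ : Type*} (p : ℕ) (lam : R)
    (g : σ → R ⧸ Ideal.span {lam}) (hg : ∀ v, g v ^ p = 0) (d : σ →₀ ℕ) (hd : p ≤ d.degree)
    (hp : 0 < p) : d.prod (fun v k => g v ^ k) = 0 := by
  classical
  have hsurj : ∀ v, ∃ r : R, Ideal.Quotient.mk (Ideal.span {lam}) r = g v :=
    fun v => Ideal.Quotient.mk_surjective (g v)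
  choose r hr using hsurj
  have hne : d.support.Nonempty := by
    rw [Finsupp.support_nonempty_iff]
    rintro rfl
    simp at hd
    omega
  obtain ⟨v₀, hv₀, hmin⟩ := Finset.exists_min_image d.support
    (fun v => IsDiscreteValuationRing.addVal R (r v)) hne
  have hdvd : ∀ v ∈ d.support, r v₀ ∣ r v := fun v hv =>
    (IsDiscreteValuationRing.addVal_le_iff_dvd).1 (hmin v hv)
  have h1 : lam ∣ r v₀ ^ p := by
    have := hg v₀
    rw [← hr v₀, ← map_pow, Ideal.Quotient.eq_zero_iff_mem, Ideal.mem_span_singleton] at this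
    exact this
  have h2 : r v₀ ^ p ∣ ∏ v ∈ d.support, r v ^ d v := by
    calc r v₀ ^ p ∣ r v₀ ^ d.degree := pow_dvd_pow _ hd
      _ = ∏ v ∈ d.support, r v₀ ^ d v := by
        rw [Finset.prod_pow_eq_pow_sum, Finsupp.degree_apply]
      _ ∣ ∏ v ∈ d.support, r v ^ d v :=
        Finset.prod_dvd_prod_of_dvd _ _ fun v hv => pow_dvd_pow_of_dvd (hdvd v hv) _
  have h3 : d.prod (fun v k => g v ^ k) =
      Ideal.Quotient.mk (Ideal.span {lam}) (∏ v ∈ d.support, r v ^ d v) := by
    rw [Finsupp.prod, map_prod]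
    refine Finset.prod_congr rfl fun v _ => ?_
    rw [map_pow, hr]
  rw [h3, Ideal.Quotient.eq_zero_iff_mem, Ideal.mem_span_singleton]
  exact h1.trans h2

end DVR

end Groth.Agent.H75.WittFrobKilled
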